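import Groth.Agent.Lib.Helper84.LocalFlat
import Mathlib.RingTheory.Flat.Tensor
import Mathlib.Algebra.Exact.Basic

/-!
Local flatness criterion along powers of an ideal (helper98):
if `A/I ⊗ M` is flat over `A/I` and `I ⊗ M → M` is injective then `A/I^n ⊗ M` is flat over
`A/I^n` for all `n ≥ 1`.  In particular, if `I` is nilpotent then ... (take `I^n = 0`).

The proof avoids `Tor`: two diagram chases and the ideal criterion for flatness.
-/

set_option autoImplicit false
universe u v
open TensorProduct Function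

namespace Groth.Agent.Lib.Helper98

section chase

variable {R : Type*} [Ring R]

/-- Chase A:
```
X₁ → X₂ → X₃
      ↓β    ↓γ
      Y₂ → Y₃
```
top row exact, `γ` injective, `β ∘ a` injective; then `β` is injective. -/
theorem injective_of_chaseA {X₁ X₂ X₃ Y₂ Y₃ : Type*}
    [AddCommGroup X₁] [Module R X₁] [AddCommGroup X₂] [Module R X₂] [AddCommGroup X₃] [Module R X₃]
    [AddCommGroup Y₂] [Module R Y₂] [AddCommGroup Y₃] [Module R Y₃]
    (a : X₁ →ₗ[R] X₂) (b : X₂ →ₗ[R] X₃) (β : X₂ →ₗ[R] Y₂) (d : Y₂ →ₗ[R] Y₃) (γ : X₃ →ₗ[R] Y₃)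
    (hex : Function.Exact a b) (hcomm : γ ∘ₗ b = d ∘ₗ β) (hγ : Injective γ)
    (hβa : Injective (β ∘ₗ a)) : Injective β := by
  rw [injective_iff_map_eq_zero]
  intro z hz
  have h1 : b z = 0 := by
    apply hγ
    have := LinearMap.congr_fun hcomm z
    simp only [LinearMap.comp_apply] at this
    rw [this, hz, map_zero, map_zero]
  obtain ⟨w, rfl⟩ := (hex z).1 h1
  have h2 : w = 0 := by
    apply hβa
    rw [LinearMap.comp_apply, hz, map_zero]
  rw [h2, map_zero]

/-- Chase B:
```
L → F' → N' → 0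
‖    ↓φ    ↓ψ
L → F  → N
```
`p'` surjective, `p' ∘ l' = 0`, bottom row exact, `φ` injective; then `ψ` is injective. -/
theorem injective_of_chaseB {L F' F N' N : Type*}
    [AddCommGroup L] [Module R L] [AddCommGroup F'] [Module R F'] [AddCommGroup F] [Module R F]
    [AddCommGroup N'] [Module R N'] [AddCommGroup N] [Module R N]
    (l' : L →ₗ[R] F') (p' : F' →ₗ[R] N') (l : L →ₗ[R] F) (p : F →ₗ[R] N)
    (φ : F' →ₗ[R] F) (ψ : N' →ₗ[R] N)
    (hp' : Surjective p') (hzero : p' ∘ₗ l' = 0) (hex : Function.Exact l p)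
    (hc1 : φ ∘ₗ l' = l) (hc2 : ψ ∘ₗ p' = p ∘ₗ φ) (hφ : Injective φ) : Injective ψ := by
  rw [injective_iff_map_eq_zero]
  intro z hz
  obtain ⟨y, rfl⟩ := hp' z
  have h1 : p (φ y) = 0 := by
    have := LinearMap.congr_fun hc2 y
    simp only [LinearMap.comp_apply] at this
    rw [← this, hz]
  obtain ⟨x, hx⟩ := (hex (φ y)).1 h1
  have h2 : l' x = y := by
    apply hφ
    have := LinearMap.congr_fun hc1 x
    simp only [LinearMap.comp_apply] at this
    rw [this, hx]
  rw [← h2]
  have := LinearMap.congr_fun hzero x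
  simpa using this

end chase

section

variable {A : Type u} [CommRing A] (I : Ideal A) (M : Type v) [AddCommGroup M] [Module A M]

/-- the image of the ideal `I` in `A/I'`, as an `A`-submodule. -/
abbrev imgIdeal (I' : Ideal A) : Submodule A (A ⧸ I') := Submodule.map (Submodule.mkQ I') I

/-- If `I ⊗ M → A ⊗ M` is injective and `I' ≤ I`, then `(I/I') ⊗ M → (A/I') ⊗ M` is
injective. -/
theorem rTensor_imgIdeal_injective (hb : Injective (I.subtype.rTensor M)) (I' : Ideal A)
    (hI' : I' ≤ I) : Injective ((imgIdeal I I').subtype.rTensor M) := by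
  let incl : I' →ₗ[A] I := Submodule.inclusion hI'
  let r : I →ₗ[A] imgIdeal I I' := (Submodule.mkQ I').submoduleMap I
  have hr : Surjective r := LinearMap.submoduleMap_surjective _ _
  refine injective_of_chaseB (R := A) (L := I' ⊗[A] M) (F' := I ⊗[A] M) (F := A ⊗[A] M)
    (N' := imgIdeal I I' ⊗[A] M) (N := (A ⧸ I') ⊗[A] M)
    (l' := incl.rTensor M) (p' := r.rTensor M)
    (l := I'.subtype.rTensor M) (p := (Submodule.mkQ I').rTensor M) (φ := I.subtype.rTensor M)
    (ψ := (imgIdeal I I').subtype.rTensor M)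
    (LinearMap.rTensor_surjective M hr) ?_
    (rTensor_exact M (LinearMap.exact_subtype_mkQ I') (Submodule.mkQ_surjective I')) ?_ ?_ hb
  · rw [← LinearMap.rTensor_comp]
    have : r ∘ₗ incl = 0 := by
      ext x
      change Submodule.Quotient.mk (p := I') (x : A) = 0
      rw [Submodule.Quotient.mk_eq_zero]
      exact x.2
    rw [this, LinearMap.rTensor_zero]
  · rw [← LinearMap.rTensor_comp]
    rfl
  · rw [← LinearMap.rTensor_comp, ← LinearMap.rTensor_comp]
    rfl

/-- The inductive step: injectivity of `𝔍 ⊗ M → (A/I^(n+1)) ⊗ M` for all submodules `𝔍`. -/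
theorem rTensor_subtype_injective_step (hb : Injective (I.subtype.rTensor M)) (I₀ I' : Ideal A)
    (hle : I' ≤ I) (hmul : I₀ * I ≤ I')
    [Module.Flat (A ⧸ I) ((A ⧸ I) ⊗[A] M)]
    [Module.Flat (A ⧸ I₀) ((A ⧸ I₀) ⊗[A] M)]
    (J : Submodule A (A ⧸ I')) : Injective (J.subtype.rTensor M) := by
  let Ibar : Submodule A (A ⧸ I') := imgIdeal I I'
  let K : Submodule A (A ⧸ I') := J ⊓ Ibar
  let ιKJ : K →ₗ[A] J := Submodule.inclusion inf_le_left
  let ιKI : K →ₗ[A] Ibar := Submodule.inclusion inf_le_right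
  let π : (A ⧸ I') →ₗ[A] (A ⧸ I') ⧸ Ibar := Submodule.mkQ Ibar
  let q : J →ₗ[A] (A ⧸ I') ⧸ Ibar := π ∘ₗ J.subtype
  let Q : Submodule A ((A ⧸ I') ⧸ Ibar) := LinearMap.range q
  let q' : J →ₗ[A] Q := q.rangeRestrict
  have hexact : Function.Exact ιKJ q' := by
    intro j
    constructor
    · intro hj
      have hj' : q j = 0 := congrArg Subtype.val hj
      have hjI : (j : A ⧸ I') ∈ Ibar := by
        have : Submodule.Quotient.mk (p := Ibar) (j : A ⧸ I') = 0 := hj'
        rwa [Submodule.Quotient.mk_eq_zero] at this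
      exact ⟨⟨j, ⟨j.2, hjI⟩⟩, rfl⟩
    · rintro ⟨k, rfl⟩
      apply Subtype.ext
      change Submodule.Quotient.mk (p := Ibar) (k : A ⧸ I') = 0
      rw [Submodule.Quotient.mk_eq_zero]
      exact k.2.2
  have hq' : Surjective q' := LinearMap.surjective_rangeRestrict q
  -- torsion properties
  have hIbar : Module.IsTorsionBySet A Ibar (I₀ : Set A) := by
    intro x c
    apply Subtype.ext
    obtain ⟨i, hi, hx⟩ := x.2
    change (c : A) • (x : A ⧸ I') = 0
    rw [← hx]
    change (c : A) • Submodule.Quotient.mk (p := I') i = 0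
    rw [← Submodule.Quotient.mk_smul, Submodule.Quotient.mk_eq_zero, smul_eq_mul]
    exact hmul (Ideal.mul_mem_mul c.2 hi)
  have hK : Module.IsTorsionBySet A K (I₀ : Set A) := by
    intro x c
    apply Subtype.ext
    have := hIbar (x := ⟨x, x.2.2⟩) (a := c)
    exact (congrArg Subtype.val this :)
  have hAI : Module.IsTorsionBySet A ((A ⧸ I') ⧸ Ibar) (I : Set A) := by
    intro x c
    obtain ⟨y, rfl⟩ := Submodule.Quotient.mk_surjective _ x
    obtain ⟨z, rfl⟩ := Submodule.Quotient.mk_surjective _ y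
    rw [← Submodule.Quotient.mk_smul, Submodule.Quotient.mk_eq_zero,
      ← Submodule.Quotient.mk_smul]
    exact ⟨(c : A) • z, I.mul_mem_right _ c.2, rfl⟩
  have hQ : Module.IsTorsionBySet A Q (I : Set A) := by
    intro x c
    apply Subtype.ext
    exact hAI (x := (x : (A ⧸ I') ⧸ Ibar)) (a := c)
  have h1 : Injective (ιKI.rTensor M) :=
    Groth.Agent.Lib.Helper84.rTensor_injective_of_flat_quotient_of_torsion I₀ M hK hIbar ιKI
      (Submodule.inclusion_injective _)
  have h2 : Injective (Q.subtype.rTensor M) :=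
    Groth.Agent.Lib.Helper84.rTensor_injective_of_flat_quotient_of_torsion I M hQ hAI Q.subtype
      Subtype.val_injective
  have h3 : Injective (Ibar.subtype.rTensor M) := rTensor_imgIdeal_injective I M hb I' hle
  refine injective_of_chaseA (R := A) (X₁ := K ⊗[A] M) (X₂ := J ⊗[A] M) (X₃ := Q ⊗[A] M)
    (Y₂ := (A ⧸ I') ⊗[A] M) (Y₃ := ((A ⧸ I') ⧸ Ibar) ⊗[A] M)
    (a := ιKJ.rTensor M) (b := q'.rTensor M)
    (β := J.subtype.rTensor M) (d := π.rTensor M) (γ := Q.subtype.rTensor M)
    (rTensor_exact M hexact hq') ?_ h2 ?_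
  · rw [← LinearMap.rTensor_comp, ← LinearMap.rTensor_comp]
    rfl
  · have : J.subtype.rTensor M ∘ₗ ιKJ.rTensor M = Ibar.subtype.rTensor M ∘ₗ ιKI.rTensor M := by
      rw [← LinearMap.rTensor_comp, ← LinearMap.rTensor_comp]
      rfl
    rw [this, LinearMap.coe_comp]
    exact h3.comp h1

/-- Converse of helper84's lemma: if `- ⊗_A M` preserves the injections `𝔍 → A/I'` for all ideals
`𝔍` of `A/I'`, then `A/I' ⊗ M` is flat over `A/I'`. -/
theorem flat_quotient_of_rTensor_injective (I' : Ideal A)
    (h : ∀ J : Submodule A (A ⧸ I'), Injective (J.subtype.rTensor M)) :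
    Module.Flat (A ⧸ I') ((A ⧸ I') ⊗[A] M) := by
  rw [Module.Flat.iff_rTensor_injective']
  intro J
  let JA : Submodule A (A ⧸ I') := J.restrictScalars A
  let e' := TensorProduct.AlgebraTensorModule.cancelBaseChange A (A ⧸ I') (A ⧸ I') J M
  let e := TensorProduct.AlgebraTensorModule.cancelBaseChange A (A ⧸ I') (A ⧸ I') (A ⧸ I') M
  have comm : ∀ x, e (J.subtype.rTensor ((A ⧸ I') ⊗[A] M) x) =
      (J.subtype.restrictScalars A).rTensor M (e' x) := by
    intro x
    induction x using TensorProduct.induction_on with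
    | zero => simp
    | tmul n y =>
      induction y using TensorProduct.induction_on with
      | zero => simp
      | tmul a m =>
        simp only [e, e', LinearMap.rTensor_tmul,
          TensorProduct.AlgebraTensorModule.cancelBaseChange_tmul]
        rfl
      | add x y hx hy => simp only [TensorProduct.tmul_add, map_add, hx, hy]
    | add x y hx hy => simp only [map_add, hx, hy]
  intro x y hxy
  have := congrArg e hxy
  rw [comm, comm] at this
  exact e'.injective (h JA this)

/-- **Local flatness criterion along powers of an ideal.** -/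
theorem flat_quotient_pow (hb : Injective (I.subtype.rTensor M))
    [Module.Flat (A ⧸ I) ((A ⧸ I) ⊗[A] M)] (n : ℕ) (hn : 1 ≤ n) :
    Module.Flat (A ⧸ I ^ n) ((A ⧸ I ^ n) ⊗[A] M) := by
  induction n, hn using Nat.le_induction with
  | base =>
    rw [pow_one]
    infer_instance
  | succ n hn ih =>
    exact flat_quotient_of_rTensor_injective M (I ^ (n + 1))
      (fun J => rTensor_subtype_injective_step I M hb (I ^ n) (I ^ (n + 1))
        (Ideal.pow_le_self (Nat.succ_ne_zero n)) (by rw [pow_succ]) J)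

end

end Groth.Agent.Lib.Helper98

namespace Groth.Agent.Lib.Helper98

open TensorProduct Function

section

variable {A : Type u} [CommRing A] (I : Ideal A) (M : Type v) [AddCommGroup M] [Module A M]

/-- **Local flatness criterion for a nilpotent ideal.** -/
theorem flat_of_nilpotent (hb : Injective (I.subtype.rTensor M))
    [Module.Flat (A ⧸ I) ((A ⧸ I) ⊗[A] M)] (n : ℕ) (hn : 1 ≤ n) (hnil : I ^ n = ⊥) :
    Module.Flat A M := by
  have hflat := flat_quotient_pow I M hb n hn
  rw [Module.Flat.iff_rTensor_injective']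
  intro J
  have htors : ∀ (N : Type u) [AddCommGroup N] [Module A N],
      Module.IsTorsionBySet A N ((I ^ n : Ideal A) : Set A) := by
    intro N _ _ x c
    have hc : ∀ y : A, y ∈ (I ^ n : Ideal A) → y = 0 := by
      intro y hy
      rw [hnil, Ideal.mem_bot] at hy
      exact hy
    rw [hc _ c.2, zero_smul]
  exact Groth.Agent.Lib.Helper84.rTensor_injective_of_flat_quotient_of_torsion (I ^ n) M
    (htors J) (htors A) J.subtype Subtype.val_injective

/-- For `a` regular on `M`, the map `(a) ⊗ M → A ⊗ M` is injective. -/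
theorem rTensor_span_singleton_injective (a : A)
    (hM : IsSMulRegular M a) : Injective ((Ideal.span {a}).subtype.rTensor M) := by
  let g : A →ₗ[A] (Ideal.span {a} : Ideal A) :=
    (LinearMap.toSpanSingleton A A a).codRestrict (Ideal.span {a}) (fun x => by
      rw [LinearMap.toSpanSingleton_apply, smul_eq_mul]
      exact Ideal.mul_mem_left _ _ (Ideal.mem_span_singleton_self a))
  have hg : Surjective g := by
    rintro ⟨y, hy⟩
    obtain ⟨x, rfl⟩ := Ideal.mem_span_singleton'.1 hy
    exact ⟨x, Subtype.ext (by simp [g])⟩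
  have hgM : Surjective (g.rTensor M) := LinearMap.rTensor_surjective M hg
  have hcomp : Injective (((Ideal.span {a}).subtype.rTensor M) ∘ₗ (g.rTensor M)) := by
    rw [← LinearMap.rTensor_comp]
    have h1 : (Ideal.span {a}).subtype ∘ₗ g = a • (LinearMap.id : A →ₗ[A] A) := by
      ext
      simp [g, mul_comm]
    rw [h1, LinearMap.rTensor_smul, LinearMap.rTensor_id]
    intro x y hxy
    have h2 := congrArg (TensorProduct.lid A M) hxy
    simp only [LinearMap.smul_apply, LinearMap.id_apply, map_smul] at h2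
    exact (TensorProduct.lid A M).injective (hM h2)
  intro x y hxy
  obtain ⟨x', rfl⟩ := hgM x
  obtain ⟨y', rfl⟩ := hgM y
  have h3 : (((Ideal.span {a}).subtype.rTensor M) ∘ₗ (g.rTensor M)) x' =
      (((Ideal.span {a}).subtype.rTensor M) ∘ₗ (g.rTensor M)) y' := hxy
  rw [hcomp h3]

end

end Groth.Agent.Lib.Helper98
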