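import Groth.Agent.H46.CatenaryMax

/-!
Helper lemmas (helper98) for: universally catenary is local at maximal ideals (S0553).
-/

set_option autoImplicit false
universe u

namespace Groth.Agent.Lib.Helper98

open Groth.Agent.H46

/-- A finite type algebra `S` over a localization `Rₘ` of `R` at a submonoid `M` is a
localization of a finite type `R`-algebra; consequently it is catenary when all finite type
`R`-algebras are. -/
theorem isCatenary_of_finiteType_over_localization {R : Type u} [CommRing R] (M : Submonoid R)
    (Rm : Type u) [CommRing Rm] [Algebra R Rm] [IsLocalization M Rm]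
    (hcat : ∀ (S : Type u) [CommRing S] [Algebra R S], Algebra.FiniteType R S → CAlg.IsCatenary S)
    (S : Type u) [CommRing S] [Algebra Rm S] [Algebra R S] [IsScalarTower R Rm S]
    (hft : Algebra.FiniteType Rm S) : CAlg.IsCatenary S := by
  obtain ⟨s, hs⟩ := hft.out
  set S' : Subalgebra R S := Algebra.adjoin R (↑s : Set S) with hS'
  have hS'ft : Algebra.FiniteType R S' :=
    (Subalgebra.fg_iff_finiteType S').mp (Subalgebra.fg_adjoin_finset s)
  have hS'cat : CAlg.IsCatenary S' := hcat S' hS'ft
  -- key: every element of S becomes an element of S' after multiplication by some r ∈ M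
  have key : ∀ z : S, ∃ r ∈ M, algebraMap R S r * z ∈ S' := by
    intro z
    have hz : z ∈ Algebra.adjoin Rm (↑s : Set S) := by rw [hs]; exact Algebra.mem_top
    induction hz using Algebra.adjoin_induction with
    | mem x hx =>
      exact ⟨1, M.one_mem, by rw [map_one, one_mul]; exact Algebra.subset_adjoin hx⟩
    | algebraMap a =>
      obtain ⟨⟨a', t⟩, hat⟩ := IsLocalization.surj M a
      refine ⟨t, t.2, ?_⟩
      have : algebraMap R S t * algebraMap Rm S a = algebraMap R S a' := by
        rw [IsScalarTower.algebraMap_apply R Rm S, IsScalarTower.algebraMap_apply R Rm S,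
          ← map_mul, mul_comm]
        exact congrArg _ hat
      rw [this]
      exact Subalgebra.algebraMap_mem S' a'
    | add x y _ _ hx hy =>
      obtain ⟨r1, hr1, h1⟩ := hx
      obtain ⟨r2, hr2, h2⟩ := hy
      refine ⟨r1 * r2, M.mul_mem hr1 hr2, ?_⟩
      have : algebraMap R S (r1 * r2) * (x + y) =
          algebraMap R S r2 * (algebraMap R S r1 * x) +
            algebraMap R S r1 * (algebraMap R S r2 * y) := by
        rw [map_mul]; ring
      rw [this]
      exact S'.add_mem (S'.mul_mem (Subalgebra.algebraMap_mem S' r2) h1)
        (S'.mul_mem (Subalgebra.algebraMap_mem S' r1) h2)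
    | mul x y _ _ hx hy =>
      obtain ⟨r1, hr1, h1⟩ := hx
      obtain ⟨r2, hr2, h2⟩ := hy
      refine ⟨r1 * r2, M.mul_mem hr1 hr2, ?_⟩
      have : algebraMap R S (r1 * r2) * (x * y) =
          (algebraMap R S r1 * x) * (algebraMap R S r2 * y) := by
        rw [map_mul]; ring
      rw [this]
      exact S'.mul_mem h1 h2
  have hloc : IsLocalization (Algebra.algebraMapSubmonoid S' M) S := by
    refine ⟨?_, ?_, ?_⟩
    · rintro ⟨y, r, hr, rfl⟩
      have h1 : algebraMap S' S (algebraMap R S' r) = algebraMap Rm S (algebraMap R Rm r) := by
        rw [← IsScalarTower.algebraMap_apply R S' S, IsScalarTower.algebraMap_apply R Rm S]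
      show IsUnit (algebraMap S' S (algebraMap R S' r))
      rw [h1]
      exact (IsLocalization.map_units Rm ⟨r, hr⟩).map _
    · intro z
      obtain ⟨r, hr, hrz⟩ := key z
      refine ⟨(⟨_, hrz⟩, ⟨algebraMap R S' r, r, hr, rfl⟩), ?_⟩
      show z * algebraMap S' S (algebraMap R S' r) = algebraMap R S r * z
      rw [← IsScalarTower.algebraMap_apply R S' S, mul_comm]
    · intro x y hxy
      have : x = y := Subtype.ext hxy
      exact ⟨1, by rw [this]⟩
  exact isCatenary_of_isLocalization S (Algebra.algebraMapSubmonoid S' M) hS'cat

/-- If all localizations `Rₘ` at maximal ideals have all their finite type algebras catenary, then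
every finite type `R`-algebra is catenary. -/
theorem isCatenary_of_finiteType_of_forall_maximal {R : Type u} [CommRing R]
    (h : ∀ (m : Ideal R) [m.IsMaximal] (T : Type u) [CommRing T] [Algebra (Localization.AtPrime m) T],
      Algebra.FiniteType (Localization.AtPrime m) T → CAlg.IsCatenary T)
    (S : Type u) [CommRing S] [Algebra R S] (hft : Algebra.FiniteType R S) : CAlg.IsCatenary S := by
  refine isCatenary_of_forall_maximal (fun n hn => ?_)
  obtain ⟨m, hm, hpm⟩ := Ideal.exists_le_maximal (n.comap (algebraMap R S))
    (Ideal.comap_ne_top _ hn.ne_top)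
  set M := m.primeCompl with hM
  set M' : Submonoid S := M.map (algebraMap R S) with hM'
  -- T = S localized at the image of R \ m
  let T := Localization M'
  let φ : Localization.AtPrime m →+* T :=
    IsLocalization.map T (algebraMap R S) (M.le_comap_map : M ≤ Submonoid.comap _ (M.map _))
  let algT : Algebra (Localization.AtPrime m) T := φ.toAlgebra
  have hφft : φ.FiniteType :=
    RingHom.finiteType_localizationPreserves (algebraMap R S) M (Localization.AtPrime m) T
      (RingHom.finiteType_algebraMap.mpr hft)
  have hTft : Algebra.FiniteType (Localization.AtPrime m) T := hφft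
  have hTcat : CAlg.IsCatenary T := h m T hTft
  -- S_n is a localization of T
  have hle : M' ≤ n.primeCompl := by
    rintro _ ⟨r, hr, rfl⟩ hmem
    exact hr (hpm (Ideal.mem_comap.mpr hmem))
  let algTn : Algebra T (Localization.AtPrime n) :=
    IsLocalization.localizationAlgebraOfSubmonoidLe T (Localization.AtPrime n) M' n.primeCompl hle
  have : IsScalarTower S T (Localization.AtPrime n) :=
    IsLocalization.localization_isScalarTower_of_submonoid_le T (Localization.AtPrime n) M'
      n.primeCompl hle
  have : IsLocalization (n.primeCompl.map (algebraMap S T)) (Localization.AtPrime n) :=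
    IsLocalization.isLocalization_of_submonoid_le T (Localization.AtPrime n) M' n.primeCompl hle
  exact isCatenary_of_isLocalization (Localization.AtPrime n) (n.primeCompl.map (algebraMap S T)) hTcat

end Groth.Agent.Lib.Helper98
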