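import Groth.Agent.Lib.Helper74.LatticeDet

/-!
# The key lemma of Krull–Akizuki (helper98)

For a one-dimensional Noetherian domain `R` with fraction field `K`, any `R`-submodule `M` of a
finite-dimensional `K`-vector space and `x ≠ 0`, `M / xM` has finite length (bounded by
`dim V * ord x`).
-/

set_option autoImplicit false
universe u v

namespace Groth.Agent.Lib.Helper98

open Groth.Agent.Lib.Helper74

section general

variable {R : Type u} [CommRing R] {Q : Type v} [AddCommGroup Q] [Module R Q]

/-- If all finitely generated submodules have length at most `N`, so has the module. -/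
theorem length_le_of_forall_fg (N : ℕ)
    (h : ∀ Q' : Submodule R Q, Q'.FG → Module.length R Q' ≤ N) : Module.length R Q ≤ N := by
  classical
  let P : ℕ → Prop := fun n => ∃ Q' : Submodule R Q, Q'.FG ∧ Module.length R Q' = n
  have hP0 : P 0 := ⟨⊥, Submodule.fg_bot, by simp⟩
  have hspec : P (Nat.findGreatest P N) := Nat.findGreatest_spec (Nat.zero_le N) hP0
  obtain ⟨Q₀, hQ₀fg, hQ₀len⟩ := hspec
  have htop : Q₀ = ⊤ := by
    rw [eq_top_iff]
    intro q _
    set Q₁ := Q₀ ⊔ Submodule.span R {q} with hQ₁
    have hQ₁fg : Q₁.FG := hQ₀fg.sup (Submodule.fg_span_singleton q)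
    have hQ₁le := h Q₁ hQ₁fg
    have hQ₁ne : Module.length R Q₁ ≠ ⊤ := ne_top_of_le_ne_top (ENat.natCast_ne_top N) hQ₁le
    obtain ⟨n₁, hn₁⟩ := ENat.ne_top_iff_exists.1 hQ₁ne
    have hn₁N : n₁ ≤ N := by
      rw [← hn₁] at hQ₁le; exact_mod_cast hQ₁le
    have hn₁le : n₁ ≤ Nat.findGreatest P N := Nat.le_findGreatest hn₁N ⟨Q₁, hQ₁fg, hn₁.symm⟩
    have hle01 : Q₀ ≤ Q₁ := le_sup_left
    have hlen_le : Module.length R Q₁ ≤ Module.length R Q₀ := by
      rw [hQ₀len, ← hn₁]; exact_mod_cast hn₁le
    rw [Module.length_ne_top_iff, isFiniteLength_iff_isNoetherian_isArtinian] at hQ₁ne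
    obtain ⟨hN, hA⟩ := hQ₁ne
    have hsub : Q₀.submoduleOf Q₁ = ⊤ := by
      by_contra hne
      have hlt := Submodule.length_lt (R := R) (M := Q₁) hne
      have heq : Module.length R (Q₀.submoduleOf Q₁) = Module.length R Q₀ :=
        (Submodule.submoduleOfEquivOfLe hle01).length_eq
      rw [heq] at hlt
      exact absurd hlen_le (not_le.2 hlt)
    have hq : q ∈ Q₁ := Submodule.mem_sup_right (Submodule.mem_span_singleton_self q)
    have : (⟨q, hq⟩ : Q₁) ∈ Q₀.submoduleOf Q₁ := by rw [hsub]; trivial
    exact this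
  have : Module.length R Q = Module.length R Q₀ := by
    rw [htop, Module.length_top]
  rw [this]
  exact h Q₀ hQ₀fg

end general

section lattice

variable {R : Type u} [CommRing R]
  {V : Type v} [AddCommGroup V] [Module R V]

theorem smul_top_eq_submoduleOf_map (P : Submodule R V) (x : R) (φ : V →ₗ[R] V)
    (hφ : ∀ v, φ v = x • v) :
    Ideal.span {x} • (⊤ : Submodule R P) = (P.map φ).submoduleOf P := by
  rw [Submodule.ideal_span_singleton_smul]
  ext p
  rw [Submodule.mem_smul_pointwise_iff_exists]
  simp only [Submodule.submoduleOf, Submodule.mem_comap, Submodule.subtype_apply,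
    Submodule.mem_map, Submodule.mem_top, true_and]
  constructor
  · rintro ⟨p', rfl⟩
    exact ⟨p'.1, p'.2, by rw [hφ]; rfl⟩
  · rintro ⟨v, hv, hvp⟩
    refine ⟨⟨v, hv⟩, ?_⟩
    apply Subtype.ext
    rw [← hvp, hφ]
    rfl

variable [IsDomain R] [IsNoetherianRing R] [Ring.KrullDimLE 1 R]
  (K : Type u) [Field K] [Algebra R K] [IsFractionRing R K]
  [Module K V] [IsScalarTower R K V] [FiniteDimensional K V]

theorem length_quotient_smul_top_of_isLat {M : Submodule R V} (hM : IsLat K M) (x : R)
    (hx : x ≠ 0) :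
    Module.length R (M ⧸ (Ideal.span {x} • (⊤ : Submodule R M))) =
      Module.finrank K V • Ring.ord R x := by
  have hx' : algebraMap R K x ≠ 0 := by
    rwa [Ne, IsFractionRing.to_map_eq_zero_iff]
  let φ : V ≃ₗ[K] V := LinearEquiv.smulOfNeZero K V (algebraMap R K x) hx'
  let φR : V →ₗ[R] V := (φ.restrictScalars R).toLinearMap
  have hφ : ∀ v, φR v = x • v := fun v => by
    change algebraMap R K x • v = x • v
    rw [algebraMap_smul]
  have hdet : LinearMap.det φ.toLinearMap = algebraMap R K (x ^ Module.finrank K V) := by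
    have : φ.toLinearMap = algebraMap R K x • LinearMap.id := by
      ext v; rfl
    rw [this, LinearMap.det_smul, LinearMap.det_id, mul_one, map_pow]
  have hxn : x ^ Module.finrank K V ≠ 0 := pow_ne_zero _ hx
  have h := latDist_map_eq_ordFrac_det K hM φ
  rw [hdet, ordFracInt_algebraMap R K hxn] at h
  have hle : M.map φR ≤ M := by
    rintro _ ⟨m, hm, rfl⟩
    rw [hφ]
    exact M.smul_mem x hm
  rw [latDist_of_le hle] at h
  have hfin1 : Module.length R (↥M ⧸ (M.map φR).submoduleOf M) < ⊤ :=
    length_quotient_submoduleOf_lt_top K _ M hM.1 (hM.map K φ).2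
  have hnzd : x ∈ nonZeroDivisors R := mem_nonZeroDivisors_of_ne_zero hx
  have hfin2 : Ring.ord R (x ^ Module.finrank K V) ≠ ⊤ :=
    Ring.ord_ne_top (mem_nonZeroDivisors_of_ne_zero hxn)
  rw [smul_top_eq_submoduleOf_map M x φR hφ, ← Ring.ord_pow hnzd]
  have h' : (Module.length R (↥M ⧸ (M.map φR).submoduleOf M)).toNat =
      (Ring.ord R (x ^ Module.finrank K V)).toNat := by
    exact_mod_cast h
  rw [← ENat.natCast_toNat hfin1.ne, ← ENat.natCast_toNat hfin2, h']

/-- The bound for finitely generated, not necessarily spanning, submodules. -/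
theorem length_quotient_smul_top_le_of_fg (M' : Submodule R V) (hfg : M'.FG) (x : R)
    (hx : x ≠ 0) :
    Module.length R (M' ⧸ (Ideal.span {x} • (⊤ : Submodule R M'))) ≤
      Module.finrank K V • Ring.ord R x := by
  classical
  set W : Submodule K V := Submodule.span K (M' : Set V) with hW
  obtain ⟨W', hWW'⟩ := Submodule.exists_isCompl W
  let bW' := Module.finBasis K W'
  set L' : Submodule R V := Submodule.span R (Set.range fun i => (bW' i : V)) with hL'
  set M'' : Submodule R V := M' ⊔ L' with hM''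
  have hM'W : ∀ m ∈ M', m ∈ W := fun m hm => Submodule.subset_span hm
  have hL'W' : ∀ l ∈ L', l ∈ W' := by
    have : L' ≤ W'.restrictScalars R := by
      rw [hL', Submodule.span_le]
      rintro _ ⟨i, rfl⟩
      exact (bW' i).2
    exact fun l hl => this hl
  have hlat : IsLat K M'' := by
    refine ⟨hfg.sup (Submodule.fg_span (Set.finite_range _)), ?_⟩
    rw [eq_top_iff, ← hWW'.sup_eq_top, sup_le_iff]
    constructor
    · exact Submodule.span_mono (show (M' : Set V) ⊆ M'' from fun m hm => Submodule.mem_sup_left hm)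
    · intro w hw
      have h1 : w = ∑ i, (bW'.repr ⟨w, hw⟩ i) • (bW' i : V) := by
        have := congrArg (Subtype.val) (bW'.sum_repr ⟨w, hw⟩)
        rw [Submodule.coe_sum] at this
        simpa using this.symm
      rw [h1]
      refine Submodule.sum_mem _ fun i _ => Submodule.smul_mem _ _ (Submodule.subset_span ?_)
      exact Submodule.mem_sup_right (Submodule.subset_span ⟨i, rfl⟩)
  rw [← length_quotient_smul_top_of_isLat K hlat x hx]
  let g : ↥M' →ₗ[R] ↥M'' := Submodule.inclusion le_sup_left
  let gbar := Submodule.mapQ (Ideal.span {x} • (⊤ : Submodule R M'))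
    (Ideal.span {x} • (⊤ : Submodule R M'')) g (Submodule.smul_top_le_comap_smul_top _ g)
  apply Module.length_le_of_injective gbar
  rw [← LinearMap.ker_eq_bot, LinearMap.ker_eq_bot']
  intro a ha
  obtain ⟨m', rfl⟩ := Submodule.Quotient.mk_surjective _ a
  rw [Submodule.mapQ_apply, Submodule.Quotient.mk_eq_zero, Submodule.ideal_span_singleton_smul,
    Submodule.mem_smul_pointwise_iff_exists] at ha
  obtain ⟨⟨m'', hm''⟩, -, hxm⟩ := ha
  obtain ⟨a₁, ha₁, l₁, hl₁, rfl⟩ := Submodule.mem_sup.1 hm''
  have hV : (m' : V) = x • (a₁ + l₁) := (congrArg Subtype.val hxm).symm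
  have hmem : (m' : V) - x • a₁ ∈ W ⊓ W' := by
    constructor
    · have h1 : (m' : V) ∈ W := hM'W _ m'.2
      have h2 : x • a₁ ∈ W := by
        rw [← algebraMap_smul K x a₁]; exact W.smul_mem _ (hM'W _ ha₁)
      exact W.sub_mem h1 h2
    · rw [hV, smul_add, add_sub_cancel_left, ← algebraMap_smul K x l₁]
      exact W'.smul_mem _ (hL'W' _ hl₁)
  rw [hWW'.inf_eq_bot, Submodule.mem_bot, sub_eq_zero] at hmem
  rw [Submodule.Quotient.mk_eq_zero, Submodule.ideal_span_singleton_smul,
    Submodule.mem_smul_pointwise_iff_exists]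
  exact ⟨⟨a₁, ha₁⟩, trivial, Subtype.ext hmem.symm⟩

include K in
/-- **Key lemma of Krull–Akizuki.** -/
theorem length_quotient_smul_top_ne_top (M : Submodule R V) (x : R) (hx : x ≠ 0) :
    Module.length R (M ⧸ (Ideal.span {x} • (⊤ : Submodule R M))) ≠ ⊤ := by
  classical
  have hnzd : x ∈ nonZeroDivisors R := mem_nonZeroDivisors_of_ne_zero hx
  obtain ⟨n, hn⟩ := ENat.ne_top_iff_exists.1 (Ring.ord_ne_top hnzd)
  suffices h : Module.length R (M ⧸ (Ideal.span {x} • (⊤ : Submodule R M))) ≤
      ((Module.finrank K V * n : ℕ) : ℕ∞) from ne_top_of_le_ne_top (ENat.natCast_ne_top _) h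
  apply length_le_of_forall_fg
  intro Q' hQ'
  obtain ⟨S, rfl⟩ := hQ'
  choose lift hlift using Submodule.Quotient.mk_surjective (Ideal.span {x} • (⊤ : Submodule R M))
  set M' : Submodule R V := Submodule.span R ((fun q => (lift q : V)) '' (S : Set _)) with hM'
  have hM'fg : M'.FG := Submodule.fg_span ((Finset.finite_toSet S).image _)
  have hle : M' ≤ M := by
    rw [hM', Submodule.span_le]
    rintro _ ⟨q, -, rfl⟩
    exact (lift q).2
  let g : ↥M' →ₗ[R] ↥M := Submodule.inclusion hle
  let gbar := Submodule.mapQ (Ideal.span {x} • (⊤ : Submodule R M'))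
    (Ideal.span {x} • (⊤ : Submodule R M)) g (Submodule.smul_top_le_comap_smul_top _ g)
  have hrange : Submodule.span R (S : Set _) ≤ LinearMap.range gbar := by
    rw [Submodule.span_le]
    intro q hq
    refine ⟨Submodule.Quotient.mk ⟨(lift q : V), Submodule.subset_span ⟨q, hq, rfl⟩⟩, ?_⟩
    rw [Submodule.mapQ_apply]
    exact hlift q
  have s1 : Module.length R
      (Submodule.span R (S : Set (↥M ⧸ Ideal.span {x} • (⊤ : Submodule R M)))) ≤
      Module.length R (LinearMap.range gbar) :=
    Module.length_le_of_injective (Submodule.inclusion hrange)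
      (Submodule.inclusion_injective hrange)
  have s2 : Module.length R (LinearMap.range gbar) ≤
      Module.length R (M' ⧸ (Ideal.span {x} • (⊤ : Submodule R M'))) :=
    Module.length_le_of_surjective gbar.rangeRestrict gbar.surjective_rangeRestrict
  have s3 : Module.length R (M' ⧸ (Ideal.span {x} • (⊤ : Submodule R M'))) ≤
      Module.finrank K V • Ring.ord R x := length_quotient_smul_top_le_of_fg K M' hM'fg x hx
  have s4 : Module.finrank K V • Ring.ord R x = ((Module.finrank K V * n : ℕ) : ℕ∞) := by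
    rw [← hn]; simp
  exact (s1.trans (s2.trans s3)).trans s4.le

include K in
/-- **Key lemma of Krull–Akizuki**, with the bound. -/
theorem length_quotient_smul_top_le (M : Submodule R V) (x : R) (hx : x ≠ 0) :
    Module.length R (M ⧸ (Ideal.span {x} • (⊤ : Submodule R M))) ≤
      Module.finrank K V • Ring.ord R x := by
  classical
  have hnzd : x ∈ nonZeroDivisors R := mem_nonZeroDivisors_of_ne_zero hx
  obtain ⟨n, hn⟩ := ENat.ne_top_iff_exists.1 (Ring.ord_ne_top hnzd)
  have s4 : Module.finrank K V • Ring.ord R x = ((Module.finrank K V * n : ℕ) : ℕ∞) := by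
    rw [← hn]; simp
  rw [s4]
  apply length_le_of_forall_fg
  intro Q' hQ'
  obtain ⟨S, rfl⟩ := hQ'
  choose lift hlift using Submodule.Quotient.mk_surjective (Ideal.span {x} • (⊤ : Submodule R M))
  set M' : Submodule R V := Submodule.span R ((fun q => (lift q : V)) '' (S : Set _)) with hM'
  have hM'fg : M'.FG := Submodule.fg_span ((Finset.finite_toSet S).image _)
  have hle : M' ≤ M := by
    rw [hM', Submodule.span_le]
    rintro _ ⟨q, -, rfl⟩
    exact (lift q).2
  let g : ↥M' →ₗ[R] ↥M := Submodule.inclusion hle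
  let gbar := Submodule.mapQ (Ideal.span {x} • (⊤ : Submodule R M'))
    (Ideal.span {x} • (⊤ : Submodule R M)) g (Submodule.smul_top_le_comap_smul_top _ g)
  have hrange : Submodule.span R (S : Set _) ≤ LinearMap.range gbar := by
    rw [Submodule.span_le]
    intro q hq
    refine ⟨Submodule.Quotient.mk ⟨(lift q : V), Submodule.subset_span ⟨q, hq, rfl⟩⟩, ?_⟩
    rw [Submodule.mapQ_apply]
    exact hlift q
  have s1 : Module.length R
      (Submodule.span R (S : Set (↥M ⧸ Ideal.span {x} • (⊤ : Submodule R M)))) ≤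
      Module.length R (LinearMap.range gbar) :=
    Module.length_le_of_injective (Submodule.inclusion hrange)
      (Submodule.inclusion_injective hrange)
  have s2 : Module.length R (LinearMap.range gbar) ≤
      Module.length R (M' ⧸ (Ideal.span {x} • (⊤ : Submodule R M'))) :=
    Module.length_le_of_surjective gbar.rangeRestrict gbar.surjective_rangeRestrict
  have s3 : Module.length R (M' ⧸ (Ideal.span {x} • (⊤ : Submodule R M'))) ≤
      Module.finrank K V • Ring.ord R x := length_quotient_smul_top_le_of_fg K M' hM'fg x hx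
  exact (s1.trans (s2.trans s3)).trans s4.le

end lattice

end Groth.Agent.Lib.Helper98
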