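import Mathlib
import Groth.Agent.S0564
import Groth.Agent.S9247
import Groth.Agent.S12080
import Groth.Agent.Lib.Helper85.RegularLocal

/-!
# Regular local rings are factorial (Auslander–Buchsbaum), helper98

Assembled from: Serre's theorem (`S0564`: localizations of regular local rings are regular),
`S9247` (finite projective modules over a localization of a regular local ring are stably free),
`S12080` (locally free of rank one ⇒ invertible), Mathlib's Nagata criterion and
`Module.free_of_isStablyFree_of_invertible`.
-/

set_option autoImplicit false
universe u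

namespace Groth.Agent.Lib.Helper98

open IsLocalRing

section invertible

variable {B : Type u} [CommRing B] [IsDomain B] [IsNoetherianRing B]

theorem exists_away_equiv_of_principal (Q : Ideal B) (hQ : Q ≠ ⊥) (M : Ideal B) [M.IsPrime]
    (h : (Q.map (algebraMap B (Localization.AtPrime M))).IsPrincipal) :
    ∃ r : B, r ∉ M ∧
      Nonempty (LocalizedModule.Away r Q ≃ₗ[Localization.Away r] Localization.Away r) := by
  have hinj : Function.Injective (algebraMap B (Localization.AtPrime M)) :=
    IsLocalization.injective _ M.primeCompl_le_nonZeroDivisors
  have hQ' : Q.map (algebraMap B (Localization.AtPrime M)) ≠ ⊥ := by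
    rw [Ne, Ideal.map_eq_bot_iff_of_injective hinj]
    exact hQ
  obtain ⟨g, hg⟩ := h
  have hg0 : g ≠ 0 := by
    rintro rfl
    apply hQ'
    rw [hg]
    simp
  have e1 : Localization.AtPrime M ≃ₗ[Localization.AtPrime M]
      (Q.map (algebraMap B (Localization.AtPrime M))) :=
    (LinearEquiv.toSpanNonzeroSingleton (Localization.AtPrime M) (Localization.AtPrime M) g hg0).trans
      (LinearEquiv.ofEq _ _ hg.symm)
  haveI : Module.Free (Localization.AtPrime M) (Q.map (algebraMap B (Localization.AtPrime M))) :=
    Module.Free.of_equiv e1
  have hrk : Module.finrank (Localization.AtPrime M)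
      (Q.map (algebraMap B (Localization.AtPrime M))) = 1 := by
    rw [← LinearEquiv.finrank_eq e1, Module.finrank_self]
  haveI : Module.FinitePresentation B Q := Module.finitePresentation_of_finite B Q
  obtain ⟨r, hr, hfree, hfin⟩ := Module.FinitePresentation.exists_free_localizedModule_powers
    M.primeCompl (Algebra.idealMap (Localization.AtPrime M) Q) (Localization.AtPrime M)
  refine ⟨r, hr, ?_⟩
  rw [hrk] at hfin
  have hr0 : r ≠ 0 := by
    rintro rfl
    exact hr (Ideal.zero_mem _)
  haveI : IsDomain (Localization (Submonoid.powers r)) :=
    IsLocalization.Away.isDomain (x := r) _ hr0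
  haveI := hfree
  obtain ⟨e⟩ := Module.nonempty_linearEquiv_of_finrank_eq_one hfin
  exact ⟨e.symm⟩

theorem invertible_of_locally_principal (Q : Ideal B) (hQ : Q ≠ ⊥)
    (h : ∀ (M : Ideal B) [M.IsMaximal],
      (Q.map (algebraMap B (Localization.AtPrime M))).IsPrincipal) :
    Module.Invertible B Q := by
  classical
  have key : ∀ (M : Ideal B), M.IsMaximal → ∃ r : B, r ∉ M ∧
      Nonempty (LocalizedModule.Away r Q ≃ₗ[Localization.Away r] Localization.Away r) := by
    intro M hM
    exact exists_away_equiv_of_principal Q hQ M (h M)
  choose! r hr using key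
  refine Groth.Agent.S12080.result B Q {x | ∃ M : Ideal B, M.IsMaximal ∧ x = r M} ?_ ?_
  · by_contra hne
    obtain ⟨M, hM, hle⟩ := Ideal.exists_le_maximal _ hne
    exact (hr M hM).1 (hle (Ideal.subset_span ⟨M, hM, rfl⟩))
  · rintro f ⟨M, hM, rfl⟩
    exact (hr M hM).2

end invertible

section main

theorem ufm_of_isRegularLocalRing_aux : ∀ (d : ℕ) (R : Type u) [CommRing R] [IsRegularLocalRing R]
    [IsDomain R], ringKrullDim R = d → UniqueFactorizationMonoid R := by
  intro d
  induction d using Nat.strong_induction_on with
  | _ d ih =>
  intro R _ _ _ hd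
  by_cases hm : maximalIdeal R = ⊥
  · -- field case
    refine UniqueFactorizationMonoid.of_forall_isPrincipal_of_height_eq_one (fun p hp hph => ?_)
    have : p = ⊥ := by
      rw [← le_bot_iff, ← hm]
      exact IsLocalRing.le_maximalIdeal hp.ne_top
    subst this
    exact bot_isPrincipal
  · have hsf : (maximalIdeal R).spanFinrank ≠ 0 := by
      rw [Ne, Submodule.spanFinrank_eq_zero_iff_eq_bot (IsNoetherian.noetherian _)]
      exact hm
    obtain ⟨x, hx, hx2, -⟩ :=
      Groth.Agent.Lib.Helper85.exists_mem_notMem_sq_notMem_minimalPrimes (R := R) hsf
    have hx0 : x ≠ 0 := by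
      rintro rfl
      exact hx2 (Ideal.zero_mem _)
    obtain ⟨hreg, -⟩ := Groth.Agent.Lib.Helper85.isRegularLocalRing_quotient_span_singleton x hx hx2
    have hdomq : IsDomain (R ⧸ Ideal.span ({x} : Set R)) :=
      Groth.Agent.Lib.Helper85.isDomain_of_isRegularLocalRing _
    have hxprime : Prime x := by
      rw [← Ideal.span_singleton_prime hx0]
      exact (Ideal.Quotient.isDomain_iff_prime _).mp hdomq
    rw [UniqueFactorizationMonoid.iff_of_isLocalizationAway_of_prime hxprime (Localization.Away x)]
    haveI : IsDomain (Localization.Away x) := IsLocalization.Away.isDomain _ hx0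
    refine UniqueFactorizationMonoid.of_forall_isPrincipal_of_height_eq_one (fun Q hQp hQh => ?_)
    have hQ0 : Q ≠ ⊥ := Q.ne_bot_of_height_eq_one hQh
    -- local principality
    have hloc : ∀ (M : Ideal (Localization.Away x)) [M.IsMaximal],
        (Q.map (algebraMap (Localization.Away x) (Localization.AtPrime M))).IsPrincipal := by
      intro M hM
      by_cases hQM : Q ≤ M
      · set p : Ideal R := M.comap (algebraMap R (Localization.Away x)) with hp
        haveI hpp : p.IsPrime := Ideal.comap_isPrime _ _
        haveI hloc : IsLocalization.AtPrime (Localization.AtPrime M) p :=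
          IsLocalization.isLocalization_isLocalization_atPrime_isLocalization
            (Submonoid.powers x) (Localization.AtPrime M) M
        let e : Localization.AtPrime p ≃ₐ[R] Localization.AtPrime M :=
          IsLocalization.algEquiv p.primeCompl _ _
        haveI : IsRegularLocalRing (Localization.AtPrime p) := Groth.Agent.S0564.result R p
        have hxp : x ∉ p := by
          intro hxp
          have h1 : algebraMap R (Localization.Away x) x ∈ M := hxp
          exact hM.ne_top (Ideal.eq_top_of_isUnit_mem _ h1
            (IsLocalization.Away.algebraMap_isUnit x))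
        have hplt : p < maximalIdeal R :=
          lt_of_le_of_ne (IsLocalRing.le_maximalIdeal hpp.ne_top) (fun h => hxp (h ▸ hx))
        have hht : p.height < (maximalIdeal R).height :=
          Ideal.height_strict_mono_of_isPrime hplt
        have hdimp : ringKrullDim (Localization.AtPrime p) = p.height :=
          IsLocalization.AtPrime.ringKrullDim_eq_height p _
        have hmh : ((maximalIdeal R).height : WithBot ℕ∞) = d := by
          rw [IsLocalRing.maximalIdeal_height_eq_ringKrullDim, hd]
        have hmh' : (maximalIdeal R).height = d := by exact_mod_cast hmh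
        rw [hmh'] at hht
        obtain ⟨k, hk⟩ := ENat.ne_top_iff_exists.mp (ne_top_of_lt hht)
        have hkd : k < d := by
          rw [← hk] at hht
          exact_mod_cast hht
        have hufp : UniqueFactorizationMonoid (Localization.AtPrime p) :=
          ih k hkd (Localization.AtPrime p) (by rw [hdimp, ← hk]; rfl)
        haveI hufM : UniqueFactorizationMonoid (Localization.AtPrime M) :=
          e.toMulEquiv.uniqueFactorizationMonoid hufp
        have hdisj : Disjoint (M.primeCompl : Set (Localization.Away x)) (Q : Set _) := by
          rw [Set.disjoint_left]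
          intro y hy hyQ
          exact hy (hQM hyQ)
        haveI : (Q.map (algebraMap (Localization.Away x) (Localization.AtPrime M))).IsPrime :=
          IsLocalization.isPrime_of_isPrime_disjoint M.primeCompl _ Q hQp hdisj
        have hh : (Q.map (algebraMap (Localization.Away x) (Localization.AtPrime M))).height = 1 := by
          rw [IsLocalization.height_map_of_disjoint M.primeCompl Q hdisj, hQh]
        exact UniqueFactorizationMonoid.isPrincipal_of_height_eq_one hh
      · have : Q.map (algebraMap (Localization.Away x) (Localization.AtPrime M)) = ⊤ := by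
          obtain ⟨y, hyQ, hyM⟩ := Set.not_subset.mp hQM
          refine Ideal.eq_top_of_isUnit_mem _ (Ideal.mem_map_of_mem _ hyQ) ?_
          exact IsLocalization.map_units (Localization.AtPrime M) (⟨y, hyM⟩ : M.primeCompl)
        rw [this]
        exact top_isPrincipal
    haveI hinv : Module.Invertible (Localization.Away x) Q :=
      invertible_of_locally_principal Q hQ0 (fun M _ => hloc M)
    haveI hsfree : Module.IsStablyFree (Localization.Away x) Q :=
      Groth.Agent.S9247.isStablyFree_localization (Submonoid.powers x) (Localization.Away x) Q
    have hfree : Module.Free (Localization.Away x) Q :=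
      Module.free_of_isStablyFree_of_invertible (Localization.Away x) Q
    obtain ⟨e⟩ := Module.Invertible.free_iff_linearEquiv.mp hfree
    refine ⟨⟨((e.symm 1 : Q) : Localization.Away x), ?_⟩⟩
    apply le_antisymm
    · intro q hq
      have h1 : (⟨q, hq⟩ : Q) = e ⟨q, hq⟩ • e.symm 1 := by
        rw [← map_smul, smul_eq_mul, mul_one, LinearEquiv.symm_apply_apply]
      have h2 : q = e ⟨q, hq⟩ * ((e.symm 1 : Q) : Localization.Away x) := by
        conv_lhs => rw [show q = ((⟨q, hq⟩ : Q) : Localization.Away x) from rfl, h1]
        rfl
      rw [h2]
      exact Ideal.mul_mem_left _ _ (Ideal.subset_span rfl)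
    · rw [Ideal.submodule_span_eq, Ideal.span_singleton_le_iff_mem]
      exact (e.symm 1).2

/-- **Auslander–Buchsbaum**: a regular local ring is a unique factorization domain. -/
theorem ufm_of_isRegularLocalRing (R : Type u) [CommRing R] [IsRegularLocalRing R] [IsDomain R] :
    UniqueFactorizationMonoid R :=
  ufm_of_isRegularLocalRing_aux _ R (IsRegularLocalRing.spanFinrank_maximalIdeal (R := R)).symm

end main

end Groth.Agent.Lib.Helper98
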