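import Mathlib

namespace Groth.Agent.Lib.Helper98.DeltaBaseChange

open TensorProduct IsLocalRing

universe u

set_option linter.style.haveILetI false

section Length

variable {A B : Type u} [CommRing A] [CommRing B] [IsLocalRing A] [IsLocalRing B] [Algebra A B]

theorem length_tensor_simple (hmax : (maximalIdeal A).map (algebraMap A B) = maximalIdeal B)
    (N : Type u) [AddCommGroup N] [Module A N] [IsSimpleModule A N] :
    Module.length B (B ⊗[A] N) = 1 := by
  obtain ⟨I, hI, ⟨e⟩⟩ := isSimpleModule_iff_quot_maximal.mp ‹IsSimpleModule A N›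
  have hIm : I = maximalIdeal A := IsLocalRing.eq_maximalIdeal hI
  subst hIm
  have e1 : B ⊗[A] N ≃ₗ[B] B ⊗[A] (A ⧸ maximalIdeal A) := LinearEquiv.baseChange A B _ _ e
  have e2 := (Algebra.TensorProduct.quotIdealMapEquivTensorQuot B (maximalIdeal A)).toLinearEquiv
  rw [e1.length_eq, ← e2.length_eq, hmax, Module.length_eq_one_iff, isSimpleModule_iff_isCoatom,
    ← Ideal.isMaximal_def]
  infer_instance

variable [Module.Flat A B]

theorem length_tensor_of_isFiniteLength
    (hmax : (maximalIdeal A).map (algebraMap A B) = maximalIdeal B)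
    (N : Type u) [AddCommGroup N] [Module A N] (hN : IsFiniteLength A N) :
    Module.length B (B ⊗[A] N) = Module.length A N := by
  induction hN with
  | of_subsingleton =>
    rw [Module.length_eq_zero, Module.length_eq_zero]
  | @of_simple_quotient M _ _ P _ hP ih =>
    have h1 : Module.length A M = Module.length A P + Module.length A (M ⧸ P) :=
      Module.length_eq_add_of_exact P.subtype P.mkQ P.injective_subtype P.mkQ_surjective
        (LinearMap.exact_subtype_mkQ P)
    have h2 : Module.length B (B ⊗[A] M) =
        Module.length B (B ⊗[A] P) + Module.length B (B ⊗[A] (M ⧸ P)) := by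
      refine Module.length_eq_add_of_exact (P.subtype.baseChange B) (P.mkQ.baseChange B) ?_ ?_ ?_
      · rw [LinearMap.baseChange_eq_ltensor]
        exact Module.Flat.lTensor_preserves_injective_linearMap _ P.injective_subtype
      · rw [LinearMap.baseChange_eq_ltensor]
        exact LinearMap.lTensor_surjective _ P.mkQ_surjective
      · have := lTensor_exact B (LinearMap.exact_subtype_mkQ P) P.mkQ_surjective
        intro x
        simpa [LinearMap.baseChange_eq_ltensor] using this x
    rw [h1, h2, ih, length_tensor_simple hmax, Module.length_eq_one (R := A) (M := M ⧸ P)]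

end Length

/-- In a reduced ring of Krull dimension `0`, every element of a prime `q` is killed by an element
outside `q`. -/
theorem exists_notMem_mul_eq_zero {C : Type*} [CommRing C] [IsReduced C] [Ring.KrullDimLE 0 C]
    (q : Ideal C) [q.IsPrime] {x : C} (hx : x ∈ q) : ∃ s, s ∉ q ∧ s * x = 0 := by
  have hq : q ∈ minimalPrimes C := by
    rw [minimalPrimes, Ring.KrullDimLE.mem_minimalPrimes_iff]
    exact ⟨inferInstance, bot_le⟩
  haveI : Ring.KrullDimLE 0 (Localization.AtPrime q) :=
    Ring.KrullDimLE.of_isLocalization q hq _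
  have hF : IsField (Localization.AtPrime q) := Ring.KrullDimLE.isField_of_isReduced
  have h1 : algebraMap C (Localization.AtPrime q) x ∈ maximalIdeal (Localization.AtPrime q) := by
    rw [← IsLocalization.AtPrime.map_eq_maximalIdeal q]
    exact Ideal.mem_map_of_mem _ hx
  have h2 : maximalIdeal (Localization.AtPrime q) = ⊥ :=
    IsLocalRing.isField_iff_maximalIdeal_eq.mp hF
  rw [h2, Ideal.mem_bot, IsLocalization.map_eq_zero_iff q.primeCompl] at h1
  obtain ⟨s, hs⟩ := h1
  exact ⟨s, s.2, hs⟩


/-- A ring all of whose localizations at maximal ideals are integrally closed domains is integrally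
closed in any localization at a submonoid of non-zero-divisors (adapted from helper13's
`mem_range_of_isIntegral_of_isNormalRing`, which asks for all primes). -/
theorem mem_range_of_isIntegral_of_normal_at_maximal {B : Type u} {K : Type*} [CommRing B] [CommRing K]
    [Algebra B K] (T : Submonoid B) (hT : T ≤ nonZeroDivisors B) [IsLocalization T K]
    (hB : ∀ (q : Ideal B) [q.IsMaximal],
      IsDomain (Localization.AtPrime q) ∧ IsIntegrallyClosed (Localization.AtPrime q)) (x : K) (hx : IsIntegral B x) :
    x ∈ (algebraMap B K).range := by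
  classical
  -- the ideal of denominators
  let I : Ideal B :=
    { carrier := {b | algebraMap B K b * x ∈ (algebraMap B K).range}
      add_mem' := by
        intro a b ha hb
        simp only [Set.mem_setOf_eq, map_add, add_mul] at *
        exact add_mem ha hb
      zero_mem' := by simp only [Set.mem_setOf_eq, map_zero, zero_mul]; exact zero_mem _
      smul_mem' := by
        intro c a ha
        simp only [Set.mem_setOf_eq, smul_eq_mul, map_mul, mul_assoc] at *
        exact mul_mem (RingHom.mem_range_self _ _) ha }
  by_contra hx'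
  have hI : I ≠ ⊤ := by
    intro h
    have : (1 : B) ∈ I := h ▸ Submodule.mem_top
    apply hx'
    simpa [I] using this
  obtain ⟨q, hq, hIq⟩ := Ideal.exists_le_maximal I hI
  have : q.IsPrime := hq.isPrime
  obtain ⟨hdom, hic⟩ := @hB q hq
  let Bq := Localization.AtPrime q
  let L := FractionRing Bq
  let φ : B →+* L := (algebraMap Bq L).comp (algebraMap B Bq)
  have hφT : ∀ t : T, IsUnit (φ t) := by
    intro t
    have h1 : algebraMap B Bq t ∈ nonZeroDivisors Bq :=
      IsLocalization.map_nonZeroDivisors_le q.primeCompl Bq ⟨t, hT t.2, rfl⟩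
    have h2 : algebraMap B Bq t ≠ 0 := nonZeroDivisors.ne_zero h1
    have h3 : φ t ≠ 0 := by
      simp only [φ, RingHom.comp_apply]
      rw [Ne, IsFractionRing.to_map_eq_zero_iff]
      exact h2
    exact h3.isUnit
  let ψ : K →+* L := IsLocalization.lift (M := T) (g := φ) hφT
  have hψ : ∀ b : B, ψ (algebraMap B K b) = φ b := fun b => IsLocalization.lift_eq hφT b
  -- ψ x is integral over Bq
  have hint : IsIntegral Bq (ψ x) := by
    obtain ⟨p, hp, hpx⟩ := hx
    refine ⟨p.map (algebraMap B Bq), hp.map _, ?_⟩
    rw [Polynomial.eval₂_map]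
    have := congrArg ψ hpx
    rw [Polynomial.hom_eval₂, map_zero] at this
    have hcomp : ψ.comp (algebraMap B K) = (algebraMap Bq L).comp (algebraMap B Bq) := by
      ext b
      exact hψ b
    rw [hcomp] at this
    exact this
  obtain ⟨y, hy⟩ := (isIntegrallyClosed_iff L).mp hic hint
  obtain ⟨β, s, rfl⟩ := IsLocalization.exists_mk'_eq q.primeCompl y
  obtain ⟨b, t, rfl⟩ := IsLocalization.exists_mk'_eq T x
  have hψx : ψ (IsLocalization.mk' K b t) * φ t = φ b := by
    rw [← hψ, ← map_mul, IsLocalization.mk'_spec, hψ]
  have hy' : algebraMap Bq L (IsLocalization.mk' Bq β s) * φ s = φ β := by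
    simp only [φ, RingHom.comp_apply]
    rw [← map_mul, IsLocalization.mk'_spec]
  have hkey : φ (b * s) = φ (β * t) := by
    rw [map_mul, map_mul, ← hψx, ← hy', hy]
    ring
  have hkey' : algebraMap B Bq (b * s) = algebraMap B Bq (β * t) :=
    IsFractionRing.injective Bq L hkey
  obtain ⟨s', hs'⟩ := (IsLocalization.eq_iff_exists q.primeCompl Bq).mp hkey'
  have hmem : (s' : B) * s ∈ I := by
    change algebraMap B K (s' * s) * IsLocalization.mk' K b t ∈ (algebraMap B K).range
    refine ⟨s' * β, ?_⟩
    have hu : IsUnit (algebraMap B K t) := IsLocalization.map_units K t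
    apply hu.mul_right_cancel
    rw [mul_assoc, IsLocalization.mk'_spec, ← map_mul, ← map_mul]
    congr 1
    calc (s' : B) * β * t = s' * (β * t) := by ring
      _ = s' * (b * s) := hs'.symm
      _ = s' * s * b := by ring
  have : (s' : B) * s ∈ q := hIq hmem
  rcases hq.isPrime.mem_or_mem this with h | h
  · exact s'.2 h
  · exact s.2 h



end Groth.Agent.Lib.Helper98.DeltaBaseChange
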