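import Mathlib

namespace Groth.Agent.Lib.Helper98.DeltaBaseChange

open TensorProduct IsLocalRing

universe u

set_option linter.style.haveILetI false

/-- A Noetherian local ring whose maximal ideal is generated by a non-zero-divisor is a domain. -/
theorem isDomain_of_maximalIdeal_eq_span {L : Type*} [CommRing L] [IsLocalRing L]
    [IsNoetherianRing L] (q : L) (hq : q ∈ nonZeroDivisors L)
    (hm : maximalIdeal L = Ideal.span {q}) : IsDomain L := by
  have hpow : ∀ k : ℕ, maximalIdeal L ^ k = Ideal.span {q ^ k} := by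
    intro k
    rw [hm, Ideal.span_singleton_pow]
  -- every nonzero element is a unit times a power of q
  have hrep : ∀ x : L, x ≠ 0 → ∃ (k : ℕ) (u : L), IsUnit u ∧ x = q ^ k * u := by
    intro x hx
    have hbot : ⨅ k : ℕ, maximalIdeal L ^ k = ⊥ :=
      Ideal.iInf_pow_eq_bot_of_isLocalRing _ (Ideal.IsPrime.ne_top inferInstance)
    have hex : ∃ k : ℕ, x ∉ maximalIdeal L ^ k := by
      by_contra hcon
      push Not at hcon
      apply hx
      have : x ∈ ⨅ k : ℕ, maximalIdeal L ^ k := by
        rw [Ideal.mem_iInf]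
        exact hcon
      rw [hbot] at this
      exact this
    classical
    let k := Nat.find hex
    have hk : x ∉ maximalIdeal L ^ k := Nat.find_spec hex
    have hk0 : k ≠ 0 := by
      intro h0
      apply hk
      rw [h0, pow_zero, Ideal.one_eq_top]
      exact Submodule.mem_top
    obtain ⟨j, hj⟩ := Nat.exists_eq_succ_of_ne_zero hk0
    have hj' : x ∈ maximalIdeal L ^ j := by
      by_contra hcon
      have := Nat.find_min' hex hcon
      omega
    rw [hpow, Ideal.mem_span_singleton'] at hj'
    obtain ⟨u, hu⟩ := hj'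
    refine ⟨j, u, ?_, by rw [← hu, mul_comm]⟩
    by_contra hnu
    have hum : u ∈ maximalIdeal L := by rwa [mem_maximalIdeal, mem_nonunits_iff]
    apply hk
    rw [hj, pow_succ, ← hu, mul_comm u]
    exact Ideal.mul_mem_mul (by rw [hpow]; exact Ideal.mem_span_singleton_self _) hum
  have hnz : NoZeroDivisors L := by
    refine ⟨?_⟩
    intro x y hxy
    by_contra hcon
    push Not at hcon
    obtain ⟨k, u, hu, rfl⟩ := hrep x hcon.1
    obtain ⟨l, v, hv, rfl⟩ := hrep y hcon.2
    have h1 : q ^ (k + l) * (u * v) = 0 := by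
      rw [← hxy, pow_add]; ring
    have h2 : q ^ (k + l) ∈ nonZeroDivisors L := pow_mem hq _
    have h3 : u * v = 0 := by
      rw [mul_comm] at h1
      exact (mem_nonZeroDivisors_iff_right.mp h2) _ h1
    have h4 : IsUnit (u * v) := hu.mul hv
    rw [h3] at h4
    exact not_isUnit_zero h4
  exact NoZeroDivisors.to_isDomain L

/-- Generators of the maximal ideal of a localization at a prime which is a DVR. -/
theorem exists_generator_of_dvr {A' : Type*} [CommRing A'] (m' : Ideal A') [m'.IsPrime]
    [IsDomain (Localization.AtPrime m')] [IsDiscreteValuationRing (Localization.AtPrime m')] :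
    ∃ p ∈ m', ∀ x ∈ m', ∃ s, s ∉ m' ∧ ∃ a, s * x = a * p := by
  let R := Localization.AtPrime m'
  obtain ⟨π, hπ⟩ := IsDiscreteValuationRing.exists_irreducible R
  have hmax : maximalIdeal R = Ideal.span {π} := hπ.maximalIdeal_eq
  obtain ⟨p0, s0, hp0⟩ := IsLocalization.exists_mk'_eq m'.primeCompl π
  have hp0' : algebraMap A' R p0 = π * algebraMap A' R s0 := by
    rw [← hp0, IsLocalization.mk'_spec]
  refine ⟨p0, ?_, ?_⟩
  · rw [← IsLocalization.AtPrime.to_map_mem_maximal_iff R m', hp0', hmax]
    exact Ideal.mul_mem_right _ _ (Ideal.mem_span_singleton_self π)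
  · intro x hx
    have h1 : algebraMap A' R x ∈ maximalIdeal R :=
      (IsLocalization.AtPrime.to_map_mem_maximal_iff R m' x).mpr hx
    rw [hmax, Ideal.mem_span_singleton'] at h1
    obtain ⟨r, hr⟩ := h1
    obtain ⟨a, s1, ha⟩ := IsLocalization.exists_mk'_eq m'.primeCompl r
    have h2 : algebraMap A' R (x * (s1 * s0)) = algebraMap A' R (a * p0) := by
      rw [map_mul, map_mul, map_mul, ← hr, hp0', ← ha]
      have := IsLocalization.mk'_spec R a s1
      calc IsLocalization.mk' R a s1 * π * (algebraMap A' R s1 * algebraMap A' R s0)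
          = (IsLocalization.mk' R a s1 * algebraMap A' R s1) * (π * algebraMap A' R s0) := by ring
        _ = algebraMap A' R a * (π * algebraMap A' R s0) := by rw [this]
    obtain ⟨c, hc⟩ := (IsLocalization.eq_iff_exists m'.primeCompl R).mp h2
    refine ⟨c * (s1 * s0), ?_, c * a, ?_⟩
    · exact (c * (s1 * s0)).2
    · calc (c : A') * (s1 * s0) * x = c * (x * (s1 * s0)) := by ring
        _ = c * (a * p0) := hc
        _ = c * a * p0 := by ring

/-- Going up from a DVR: if `A'_{m'}` is a DVR, `B'` is a Noetherian `A'`-algebra, `n` a prime of `B'`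
over `m'` such that `n B'_n = m' B'_n`, and some `t ∈ m'` is a non-zero-divisor on `B'`, then `B'_n` is a
DVR, in particular an integrally closed domain. -/
theorem normal_localization_of_dvr_base {A' B' : Type*} [CommRing A'] [CommRing B']
    [Algebra A' B'] [IsNoetherianRing B'] (n : Ideal B') [n.IsPrime] (m' : Ideal A') [m'.IsPrime]
    (hm' : m' = n.comap (algebraMap A' B'))
    [IsDomain (Localization.AtPrime m')] [IsDiscreteValuationRing (Localization.AtPrime m')]
    (t : A') (ht : t ∈ m') (htnzd : algebraMap A' B' t ∈ nonZeroDivisors B')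
    (hstar : ∀ x ∈ n, ∃ s, s ∉ n ∧ s * x ∈ m'.map (algebraMap A' B')) :
    IsDomain (Localization.AtPrime n) ∧ IsIntegrallyClosed (Localization.AtPrime n) := by
  let L := Localization.AtPrime n
  obtain ⟨p, hp, hgen⟩ := exists_generator_of_dvr m'
  let q : L := algebraMap B' L (algebraMap A' B' p)
  have hunit : ∀ s : B', s ∉ n → IsUnit (algebraMap B' L s) := fun s hs =>
    IsLocalization.map_units L (⟨s, hs⟩ : n.primeCompl)
  have hunit' : ∀ s : A', s ∉ m' → IsUnit (algebraMap B' L (algebraMap A' B' s)) := by
    intro s hs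
    apply hunit
    rw [hm'] at hs
    exact hs
  -- images of elements of `m'` are multiples of `q`
  have hmul : ∀ y ∈ m', algebraMap B' L (algebraMap A' B' y) ∈ Ideal.span {q} := by
    intro y hy
    obtain ⟨s, hs, a, ha⟩ := hgen y hy
    have h1 : algebraMap B' L (algebraMap A' B' s) * algebraMap B' L (algebraMap A' B' y) =
        algebraMap B' L (algebraMap A' B' a) * q := by
      rw [← map_mul, ← map_mul, ha, map_mul, map_mul]
    obtain ⟨u, hu⟩ := hunit' s hs
    rw [Ideal.mem_span_singleton']
    refine ⟨↑u⁻¹ * algebraMap B' L (algebraMap A' B' a), ?_⟩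
    rw [mul_assoc, ← h1, ← hu, ← mul_assoc, Units.inv_mul, one_mul]
  have hmaxL : maximalIdeal L = Ideal.span {q} := by
    apply le_antisymm
    · rw [← IsLocalization.AtPrime.map_eq_maximalIdeal n L, Ideal.map_le_iff_le_comap]
      intro x hx
      rw [Ideal.mem_comap]
      obtain ⟨s, hs, hsx⟩ := hstar x hx
      have h1 : algebraMap B' L (s * x) ∈ Ideal.span {q} := by
        have h2 : (m'.map (algebraMap A' B')).map (algebraMap B' L) ≤ Ideal.span {q} := by
          rw [Ideal.map_le_iff_le_comap, Ideal.map_le_iff_le_comap]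
          intro y hy
          exact hmul y hy
        exact h2 (Ideal.mem_map_of_mem _ hsx)
      obtain ⟨u, hu⟩ := hunit s hs
      have h3 : algebraMap B' L x = ↑u⁻¹ * algebraMap B' L (s * x) := by
        rw [map_mul, ← hu, ← mul_assoc, Units.inv_mul, one_mul]
      rw [h3]
      exact Ideal.mul_mem_left _ _ h1
    · rw [Ideal.span_le]
      intro z hz
      rw [Set.mem_singleton_iff] at hz
      rw [hz]
      show q ∈ maximalIdeal L
      rw [IsLocalization.AtPrime.to_map_mem_maximal_iff L n]
      have : p ∈ n.comap (algebraMap A' B') := hm' ▸ hp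
      exact this
  have hqnzd : q ∈ nonZeroDivisors L := by
    obtain ⟨s, hs, a, ha⟩ := hgen t ht
    have h1 : algebraMap B' L (algebraMap A' B' t) ∈ nonZeroDivisors L :=
      IsLocalization.map_nonZeroDivisors_le n.primeCompl L ⟨_, htnzd, rfl⟩
    have h2 : algebraMap B' L (algebraMap A' B' s) ∈ nonZeroDivisors L :=
      (hunit' s hs).mem_nonZeroDivisors
    have h3 : algebraMap B' L (algebraMap A' B' a) * q ∈ nonZeroDivisors L := by
      have : algebraMap B' L (algebraMap A' B' a) * q =
          algebraMap B' L (algebraMap A' B' s) * algebraMap B' L (algebraMap A' B' t) := by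
        rw [← map_mul, ← map_mul, ← map_mul, ← map_mul, ha]
      rw [this]
      exact mul_mem h2 h1
    exact (mul_mem_nonZeroDivisors.mp h3).2
  haveI hdom : IsDomain L := isDomain_of_maximalIdeal_eq_span q hqnzd hmaxL
  have hnf : ¬ IsField L := by
    intro hF
    have h0 : maximalIdeal L = ⊥ := IsLocalRing.isField_iff_maximalIdeal_eq.mp hF
    have hq0 : q = 0 := by
      have : q ∈ maximalIdeal L := by rw [hmaxL]; exact Ideal.mem_span_singleton_self q
      rw [h0] at this
      exact this
    exact nonZeroDivisors.ne_zero hqnzd hq0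
  haveI : IsDiscreteValuationRing L := by
    refine ((IsDiscreteValuationRing.TFAE L hnf).out 0 4).mpr ?_
    rw [hmaxL]
    exact ⟨⟨q, rfl⟩⟩
  exact ⟨hdom, inferInstance⟩

end Groth.Agent.Lib.Helper98.DeltaBaseChange
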