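import Mathlib
import Groth.Agent.Lib.Helper38.Delta2
import Groth.Agent.Lib.Helper98.DeltaBaseChangeA
import Groth.Agent.Lib.Helper98.DeltaBaseChangeB

namespace Groth.Agent.Lib.Helper98.DeltaBaseChange

open TensorProduct IsLocalRing

universe u

set_option linter.style.haveILetI false
set_option linter.unusedSectionVars false

/-- The normalization of `A` in its total ring of fractions, as a type. -/
abbrev IC (A : Type u) [CommRing A] : Type u := ↥(integralClosure A (FractionRing A))

section Base

variable (A : Type u) [CommRing A] [IsLocalRing A] [IsReduced A] [IsNoetherianRing A]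

/-- A reduced Noetherian local ring of dimension one has a non-zero-divisor in its maximal ideal. -/
theorem exists_nonZeroDivisor_mem_maximalIdeal (hdim : ringKrullDim A = 1) :
    ∃ t ∈ maximalIdeal A, t ∈ nonZeroDivisors A := by
  classical
  by_contra hcon
  push Not at hcon
  have hfin : (minimalPrimes A).Finite := minimalPrimes.finite_of_isNoetherianRing A
  have hsub : ((maximalIdeal A : Ideal A) : Set A) ⊆ ⋃ p ∈ hfin.toFinset, (p : Set A) := by
    intro x hx
    have hx' := hcon x hx
    by_contra hnot
    apply hx'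
    apply Groth.Agent.Lib.Helper13.mem_nonZeroDivisors_of_forall_notMem_minimalPrimes
    intro p hp hxp
    apply hnot
    simp only [Set.mem_iUnion]
    exact ⟨p, hfin.mem_toFinset.mpr hp, hxp⟩
  obtain ⟨p, hp, hle⟩ := (Ideal.subset_union_prime (s := hfin.toFinset) (f := fun p => p)
    (maximalIdeal A) (maximalIdeal A) (fun p hp _ _ => (hfin.mem_toFinset.mp hp).1.1)).mp hsub
  have hpmin : p ∈ minimalPrimes A := hfin.mem_toFinset.mp hp
  have hK : Ring.KrullDimLE 0 A := by
    rw [Ring.krullDimLE_zero_iff]
    intro q hq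
    have h1 : q ≤ maximalIdeal A := IsLocalRing.le_maximalIdeal hq.ne_top
    have h2 : p ≤ q := hpmin.2 ⟨hq, bot_le⟩ (h1.trans hle)
    have h3 : q = maximalIdeal A := le_antisymm h1 (hle.trans h2)
    rw [h3]
    infer_instance
  have := (Ring.krullDimLE_iff).mp hK
  rw [hdim] at this
  exact absurd this (by decide)

/-- Non-zero-divisors of `A` act regularly on the integral closure in the total fraction ring. -/
theorem isSMulRegular_integralClosure {t : A} (ht : t ∈ nonZeroDivisors A) :
    IsSMulRegular (integralClosure A (FractionRing A)) t := by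
  intro x y hxy
  have hu : IsUnit (algebraMap A (FractionRing A) t) :=
    IsLocalization.map_units (FractionRing A) (⟨t, ht⟩ : nonZeroDivisors A)
  apply Subtype.ext
  have h1 : algebraMap A (FractionRing A) t * (x : FractionRing A) =
      algebraMap A (FractionRing A) t * (y : FractionRing A) := by
    have := congrArg (fun z : integralClosure A (FractionRing A) => (z : FractionRing A)) hxy
    simpa [Algebra.smul_def] using this
  exact hu.mul_left_cancel h1

theorem comap_eq_maximalIdeal_of_isMaximal
    (m' : Ideal (integralClosure A (FractionRing A))) [hm' : m'.IsMaximal] :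
    m'.comap (algebraMap A (integralClosure A (FractionRing A))) = maximalIdeal A := by
  exact IsLocalRing.eq_maximalIdeal (Ideal.isMaximal_comap_of_isIntegral_of_isMaximal m')

/-- The localizations of the normalization of a reduced Noetherian local ring of dimension one at
its maximal ideals are discrete valuation rings. -/
theorem isDiscreteValuationRing_localization_integralClosure (hdim : ringKrullDim A = 1)
    (hfin : Module.Finite A (integralClosure A (FractionRing A)))
    (m' : Ideal (integralClosure A (FractionRing A))) [hm' : m'.IsMaximal] :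
    ∃ (_ : IsDomain (Localization.AtPrime m')),
      IsDiscreteValuationRing (Localization.AtPrime m') := by
  let A' := integralClosure A (FractionRing A)
  let R := Localization.AtPrime m'
  obtain ⟨hdom, hic⟩ := Groth.Agent.Lib.Helper38.isNormalRing_integralClosure A hfin m'
  haveI hdomR : IsDomain R := hdom
  haveI : IsNoetherianRing A' := IsNoetherianRing.of_finite A A'
  haveI : IsNoetherianRing R := IsLocalization.isNoetherianRing m'.primeCompl R inferInstance
  have hcomap := comap_eq_maximalIdeal_of_isMaximal A m'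
  obtain ⟨t0, ht0m, ht0⟩ := exists_nonZeroDivisor_mem_maximalIdeal A hdim
  let t : A' := algebraMap A A' t0
  have htm : t ∈ m' := by
    have : t0 ∈ m'.comap (algebraMap A A') := by rw [hcomap]; exact ht0m
    exact this
  have htR : algebraMap A' R t ≠ 0 := by
    intro h0
    rw [IsLocalization.map_eq_zero_iff m'.primeCompl] at h0
    obtain ⟨s, hs⟩ := h0
    have h1 : t0 • (s : A') = t0 • (0 : A') := by
      rw [smul_zero, Algebra.smul_def, mul_comm]
      exact hs
    have h2 : (s : A') = 0 := isSMulRegular_integralClosure A ht0 h1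
    exact s.2 (h2 ▸ m'.zero_mem)
  have hnf : ¬ IsField R := by
    intro hF
    have h0 : maximalIdeal R = ⊥ := IsLocalRing.isField_iff_maximalIdeal_eq.mp hF
    have : algebraMap A' R t ∈ maximalIdeal R :=
      (IsLocalization.AtPrime.to_map_mem_maximal_iff R m' t).mpr htm
    rw [h0] at this
    exact htR this
  have hm : maximalIdeal R ≠ ⊥ := isField_iff_maximalIdeal_eq.not.mp hnf
  have hK : Ring.KrullDimLE 1 A := (Ring.krullDimLE_iff).mpr hdim.le
  have key : IsIntegrallyClosed R ∧ ∃! P : Ideal R, P ≠ ⊥ ∧ P.IsPrime := by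
    refine ⟨hic, maximalIdeal R, ⟨hm, inferInstance⟩, ?_⟩
    rintro P ⟨hP0, hP⟩
    -- contract to `A'`
    let P0 : Ideal A' := P.comap (algebraMap A' R)
    let p0 : Ideal A' := (⊥ : Ideal R).comap (algebraMap A' R)
    haveI : P0.IsPrime := Ideal.comap_isPrime _ _
    haveI : (⊥ : Ideal R).IsPrime := @Ideal.isPrime_bot R _ hdomR.toNontrivial hdomR.to_noZeroDivisors
    haveI : p0.IsPrime := Ideal.comap_isPrime _ _
    have hP0m : P0 ≤ m' := by
      intro x hx
      by_contra hxm
      have hu : IsUnit (algebraMap A' R x) :=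
        IsLocalization.map_units R (⟨x, hxm⟩ : m'.primeCompl)
      exact hP.ne_top (Ideal.eq_top_of_isUnit_mem _ hx hu)
    have hlt : p0 < P0 := by
      refine lt_of_le_of_ne (Ideal.comap_mono bot_le) ?_
      intro heq
      apply hP0
      have h1 : Ideal.map (algebraMap A' R) P0 = P := IsLocalization.map_under m'.primeCompl R P
      have h2 : Ideal.map (algebraMap A' R) p0 = ⊥ := IsLocalization.map_under m'.primeCompl R ⊥
      rw [← h1, ← heq, h2]
    have hlt' : p0.comap (algebraMap A A') < P0.comap (algebraMap A A') :=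
      Ideal.IsIntegral.comap_lt_comap hlt
    have hmaxA : (P0.comap (algebraMap A A')).IsMaximal := by
      rcases Ring.krullDimLE_one_iff.mp hK (P0.comap (algebraMap A A')) (Ideal.comap_isPrime _ _)
        with hmin | hmax
      · exfalso
        have := hmin.2 ⟨Ideal.comap_isPrime (algebraMap A A') p0, bot_le⟩ hlt'.le
        exact absurd hlt' (not_lt_of_ge this)
      · exact hmax
    have hP0max : P0.IsMaximal := Ideal.isMaximal_of_isIntegral_of_isMaximal_comap P0 hmaxA
    have hP0eq : P0 = m' := hP0max.eq_of_le hm'.ne_top hP0m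
    have h1 : Ideal.map (algebraMap A' R) P0 = P := IsLocalization.map_under m'.primeCompl R P
    rw [← h1, hP0eq, IsLocalization.AtPrime.map_eq_maximalIdeal m' R]
  exact ⟨hdom, ((IsDiscreteValuationRing.TFAE R hnf).out 0 3).mpr key⟩

end Base

/-- The fibre computation: if `B ⊗[A] (A'/m')` is reduced (and `A'` is finite over the local ring
`A`, `m_A B = m_B`), then locally at a prime `n` of `B ⊗[A] A'` over `m'`, `n` is generated by `m'`. -/
theorem exists_notMem_mul_mem_map {A B A' : Type u} [CommRing A] [CommRing B] [CommRing A']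
    [Algebra A B] [Algebra A A'] [IsLocalRing A] [IsLocalRing B] [Module.Finite A A']
    (hmax : (maximalIdeal A).map (algebraMap A B) = maximalIdeal B)
    (n : Ideal (B ⊗[A] A')) [n.IsPrime] (m' : Ideal A')
    (hm'n : m'.map (Algebra.TensorProduct.includeRight : A' →ₐ[A] B ⊗[A] A') ≤ n)
    (hm'A : maximalIdeal A ≤ m'.comap (algebraMap A A'))
    (hred : IsReduced (B ⊗[A] (A' ⧸ m'))) :
    ∀ x ∈ n, ∃ s, s ∉ n ∧
      s * x ∈ m'.map (Algebra.TensorProduct.includeRight : A' →ₐ[A] B ⊗[A] A') := by
  let θ : B ⊗[A] A' →ₐ[A] B ⊗[A] (A' ⧸ m') :=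
    Algebra.TensorProduct.map (AlgHom.id A B) (Ideal.Quotient.mkₐ A m')
  have hθsurj : Function.Surjective θ :=
    Algebra.TensorProduct.map_surjective (f := AlgHom.id A B) (g := Ideal.Quotient.mkₐ A m')
      Function.surjective_id (Ideal.Quotient.mkₐ_surjective A m')
  have hθker : RingHom.ker θ =
      m'.map (Algebra.TensorProduct.includeRight : A' →ₐ[A] B ⊗[A] A') := by
    have := Algebra.TensorProduct.lTensor_ker (A := B) (Ideal.Quotient.mkₐ A m')
      (Ideal.Quotient.mkₐ_surjective A m')
    have hk : RingHom.ker (Ideal.Quotient.mkₐ A m') = m' := by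
      ext x
      rw [RingHom.mem_ker, Ideal.Quotient.mkₐ_eq_mk, Ideal.Quotient.eq_zero_iff_mem]
    rw [hk] at this
    exact this
  haveI : Module.Finite A (A' ⧸ m') := Module.Finite.quotient A m'
  haveI : Module.Finite B (B ⊗[A] (A' ⧸ m')) := inferInstance
  haveI : Algebra.IsIntegral B (B ⊗[A] (A' ⧸ m')) := Algebra.IsIntegral.of_finite B _
  haveI hK0 : Ring.KrullDimLE 0 (B ⊗[A] (A' ⧸ m')) := by
    rw [Ring.krullDimLE_zero_iff]
    intro Q hQ
    have h1 : maximalIdeal B ≤ Q.comap (algebraMap B (B ⊗[A] (A' ⧸ m'))) := by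
      rw [← hmax, Ideal.map_le_iff_le_comap]
      intro a ha
      rw [Ideal.mem_comap, Ideal.mem_comap]
      have h0 : a • (1 : A' ⧸ m') = 0 := by
        have : a • (1 : A' ⧸ m') = Ideal.Quotient.mk m' (algebraMap A A' a) := by
          rw [Algebra.algebraMap_eq_smul_one]
          rfl
        rw [this, Ideal.Quotient.eq_zero_iff_mem]
        exact hm'A ha
      have hz : algebraMap B (B ⊗[A] (A' ⧸ m')) (algebraMap A B a) = 0 := by
        rw [← IsScalarTower.algebraMap_apply A B, Algebra.algebraMap_eq_smul_one,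
          Algebra.TensorProduct.one_def, ← TensorProduct.tmul_smul, h0, TensorProduct.tmul_zero]
      rw [hz]
      exact Q.zero_mem
    have h2 : Q.comap (algebraMap B (B ⊗[A] (A' ⧸ m'))) = maximalIdeal B :=
      ((IsLocalRing.maximalIdeal.isMaximal B).eq_of_le
        (Ideal.comap_isPrime (algebraMap B (B ⊗[A] (A' ⧸ m'))) Q).ne_top h1).symm
    apply Ideal.isMaximal_of_isIntegral_of_isMaximal_comap (R := B) Q
    rw [h2]
    infer_instance
  have hkerle : RingHom.ker θ ≤ n := by
    rw [hθker]
    exact hm'n
  intro x hx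
  haveI : (n.map θ).IsPrime := Ideal.map_isPrime_of_surjective hθsurj hkerle
  obtain ⟨sbar, hsbar, hs0⟩ := exists_notMem_mul_eq_zero (n.map θ) (Ideal.mem_map_of_mem θ hx)
  obtain ⟨s, rfl⟩ := hθsurj sbar
  refine ⟨s, fun hs => hsbar (Ideal.mem_map_of_mem θ hs), ?_⟩
  rw [← hθker, RingHom.mem_ker, map_mul]
  exact hs0


section Core

variable (A : Type u) [CommRing A] [IsLocalRing A] [IsReduced A] [IsNoetherianRing A]
  (B : Type u) [CommRing B] [IsLocalRing B] [Algebra A B] [Module.Flat A B] [IsNoetherianRing B]

theorem tmul_algebraMap_eq (a : A) :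
    (1 : B) ⊗ₜ[A] (algebraMap A (IC A) a) = (algebraMap A B a) ⊗ₜ[A] (1 : IC A) := by
  rw [Algebra.algebraMap_eq_smul_one, Algebra.algebraMap_eq_smul_one, TensorProduct.smul_tmul]

theorem normal_tensor (hdim : ringKrullDim A = 1) (hfin : Module.Finite A (IC A))
    (hmax : (maximalIdeal A).map (algebraMap A B) = maximalIdeal B)
    (hfib : ∀ m' : Ideal (IC A), m'.IsMaximal → IsReduced (B ⊗[A] (IC A ⧸ m')))
    (n : Ideal (B ⊗[A] IC A)) [hn : n.IsMaximal] :
    IsDomain (Localization.AtPrime n) ∧ IsIntegrallyClosed (Localization.AtPrime n) := by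
  letI algR : Algebra (IC A) (B ⊗[A] IC A) :=
    Algebra.TensorProduct.rightAlgebra (R := A) (A := B) (B := IC A)
  have halg : ∀ x : IC A, algebraMap (IC A) (B ⊗[A] IC A) x = (1 : B) ⊗ₜ[A] x := fun _ => rfl
  haveI := hfin
  haveI : Module.Finite B (B ⊗[A] IC A) := inferInstance
  haveI : Algebra.IsIntegral B (B ⊗[A] IC A) := Algebra.IsIntegral.of_finite B _
  haveI : IsNoetherianRing (B ⊗[A] IC A) := IsNoetherianRing.of_finite B _
  -- the contraction to `B` is the maximal ideal
  have hnB : n.comap (algebraMap B (B ⊗[A] IC A)) = maximalIdeal B :=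
    IsLocalRing.eq_maximalIdeal (Ideal.isMaximal_comap_of_isIntegral_of_isMaximal n)
  have hloc : ∀ a : A, algebraMap A B a ∈ maximalIdeal B ↔ a ∈ maximalIdeal A := by
    intro a
    constructor
    · intro h
      by_contra hcon
      rw [mem_maximalIdeal, mem_nonunits_iff, not_not] at hcon
      exact ((mem_maximalIdeal _).mp h) (hcon.map _)
    · intro h
      rw [← hmax]
      exact Ideal.mem_map_of_mem _ h
  -- the contraction to the normalization
  let m' : Ideal (IC A) := n.comap (algebraMap (IC A) (B ⊗[A] IC A))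
  haveI hm'prime : m'.IsPrime := Ideal.comap_isPrime _ _
  have hm'A : m'.comap (algebraMap A (IC A)) = maximalIdeal A := by
    ext a
    rw [Ideal.mem_comap, Ideal.mem_comap, halg, tmul_algebraMap_eq, ← hloc, ← hnB, Ideal.mem_comap,
      Algebra.TensorProduct.algebraMap_apply]
    rfl
  haveI hm'max : m'.IsMaximal := by
    apply Ideal.isMaximal_of_isIntegral_of_isMaximal_comap (R := A) m'
    rw [hm'A]
    infer_instance
  obtain ⟨hdomR, hdvrR⟩ := isDiscreteValuationRing_localization_integralClosure A hdim hfin m'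
  -- a non-zero-divisor in the maximal ideal
  obtain ⟨t0, ht0m, ht0⟩ := exists_nonZeroDivisor_mem_maximalIdeal A hdim
  have htm : algebraMap A (IC A) t0 ∈ m' := by
    have : t0 ∈ m'.comap (algebraMap A (IC A)) := by rw [hm'A]; exact ht0m
    exact this
  have hreg : IsSMulRegular (B ⊗[A] IC A) t0 :=
    IsSMulRegular.lTensor B (isSMulRegular_integralClosure A ht0)
  have htnzd : algebraMap (IC A) (B ⊗[A] IC A) (algebraMap A (IC A) t0) ∈
      nonZeroDivisors (B ⊗[A] IC A) := by
    rw [mem_nonZeroDivisors_iff_right]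
    intro z hz
    apply hreg
    show t0 • z = t0 • 0
    rw [halg, tmul_algebraMap_eq, ← Algebra.TensorProduct.algebraMap_apply, mul_comm,
      ← Algebra.smul_def] at hz
    rw [smul_zero, hz]
  -- the fibre
  have hstar : ∀ x ∈ n, ∃ s, s ∉ n ∧ s * x ∈ m'.map (algebraMap (IC A) (B ⊗[A] IC A)) :=
    exists_notMem_mul_mem_map hmax n m' Ideal.map_comap_le hm'A.ge (hfib m' hm'max)
  exact normal_localization_of_dvr_base n m' rfl (algebraMap A (IC A) t0) htm htnzd hstar


theorem algebraMap_mem_nonZeroDivisors {s : A} (hs : s ∈ nonZeroDivisors A) :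
    algebraMap A B s ∈ nonZeroDivisors B := by
  have h := Module.Flat.isSMulRegular_of_nonZeroDivisors (M := B) hs
  rw [mem_nonZeroDivisors_iff_right]
  intro x hx
  apply h
  show s • x = s • 0
  rw [smul_zero, Algebra.smul_def, mul_comm]
  exact hx

/-- The map of total rings of fractions induced by a flat ring map. -/
noncomputable def fracMap : FractionRing A →ₐ[A] FractionRing B :=
  IsLocalization.liftAlgHom (M := nonZeroDivisors A) (f := Algebra.ofId A (FractionRing B)) (by
    intro s
    have h1 := algebraMap_mem_nonZeroDivisors A B s.2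
    have h2 : (Algebra.ofId A (FractionRing B)) (s : A) =
        algebraMap B (FractionRing B) (algebraMap A B s) := by
      rw [Algebra.ofId_apply, IsScalarTower.algebraMap_apply A B (FractionRing B)]
    rw [h2]
    exact IsLocalization.map_units (FractionRing B) (⟨_, h1⟩ : nonZeroDivisors B))

/-- The canonical map from `B ⊗[A] A'` (`A'` the normalization of `A`) to the total ring of
fractions of `B`. -/
noncomputable def toFrac : B ⊗[A] IC A →ₐ[B] FractionRing B :=
  Algebra.TensorProduct.lift (Algebra.ofId B (FractionRing B))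
    ((fracMap A B).comp (integralClosure A (FractionRing A)).val) (fun _ _ => Commute.all _ _)

theorem toFrac_tmul (b : B) (x : IC A) :
    toFrac A B (b ⊗ₜ[A] x) =
      algebraMap B (FractionRing B) b * fracMap A B (x : FractionRing A) := by
  rw [toFrac, Algebra.TensorProduct.lift_tmul]
  rfl

theorem exists_conductor (hfin : Module.Finite A (IC A)) :
    ∃ c ∈ nonZeroDivisors A, ∀ z : B ⊗[A] IC A,
      ∃ b : B, c • z = algebraMap B (B ⊗[A] IC A) b := by
  haveI := hfin
  obtain ⟨c, hc, h⟩ := Groth.Agent.Lib.Helper38.exists_nonZeroDivisor_smul_mem_range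
    (A := A) (K := FractionRing A) (integralClosure A (FractionRing A))
  refine ⟨c, hc, ?_⟩
  intro z
  induction z using TensorProduct.induction_on with
  | zero => exact ⟨0, by rw [smul_zero, map_zero]⟩
  | tmul b x =>
    obtain ⟨a, ha⟩ := h x
    refine ⟨a • b, ?_⟩
    rw [Algebra.TensorProduct.algebraMap_apply, Algebra.algebraMap_self_apply,
      TensorProduct.smul_tmul, ← TensorProduct.tmul_smul, ← ha]
    congr 1
    rw [Algebra.linearMap_apply, Algebra.algebraMap_eq_smul_one]
  | add z w hz hw =>
    obtain ⟨b1, hb1⟩ := hz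
    obtain ⟨b2, hb2⟩ := hw
    exact ⟨b1 + b2, by rw [smul_add, hb1, hb2, map_add]⟩

theorem toFrac_injective (hfin : Module.Finite A (IC A)) : Function.Injective (toFrac A B) := by
  rw [injective_iff_map_eq_zero]
  intro z hz
  obtain ⟨c, hc, h⟩ := exists_conductor A B hfin
  obtain ⟨b, hb⟩ := h z
  have h1 : toFrac A B (c • z) = 0 := by
    rw [← algebraMap_smul B c z, map_smul, hz, smul_zero]
  rw [hb, AlgHom.commutes] at h1
  have hb0 : b = 0 := by
    apply IsFractionRing.injective B (FractionRing B)
    rw [h1, map_zero]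
  rw [hb0, map_zero] at hb
  have hreg : IsSMulRegular (B ⊗[A] IC A) c :=
    IsSMulRegular.lTensor B (isSMulRegular_integralClosure A hc)
  apply hreg
  show c • z = c • 0
  rw [hb, smul_zero]

theorem toFrac_mem_integralClosure (hfin : Module.Finite A (IC A)) (z : B ⊗[A] IC A) :
    toFrac A B z ∈ integralClosure B (FractionRing B) := by
  haveI := hfin
  haveI : Module.Finite B (B ⊗[A] IC A) := inferInstance
  haveI : Algebra.IsIntegral B (B ⊗[A] IC A) := Algebra.IsIntegral.of_finite B _
  exact (Algebra.IsIntegral.isIntegral (R := B) z).map (toFrac A B)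


theorem exists_toFrac_eq (hdim : ringKrullDim A = 1) (hfin : Module.Finite A (IC A))
    (hmax : (maximalIdeal A).map (algebraMap A B) = maximalIdeal B)
    (hfib : ∀ m' : Ideal (IC A), m'.IsMaximal → IsReduced (B ⊗[A] (IC A ⧸ m')))
    (y : FractionRing B) (hy : IsIntegral B y) : ∃ z, toFrac A B z = y := by
  letI algK : Algebra (B ⊗[A] IC A) (FractionRing B) := (toFrac A B).toRingHom.toAlgebra
  have halgK : ∀ z, algebraMap (B ⊗[A] IC A) (FractionRing B) z = toFrac A B z := fun _ => rfl
  haveI : IsScalarTower B (B ⊗[A] IC A) (FractionRing B) :=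
    IsScalarTower.of_algebraMap_eq (fun b => ((toFrac A B).commutes b).symm)
  have hinj := toFrac_injective A B hfin
  let T : Submonoid (B ⊗[A] IC A) :=
    (nonZeroDivisors B).map (algebraMap B (B ⊗[A] IC A))
  have hTunit : ∀ t ∈ T, IsUnit (toFrac A B t) := by
    rintro t ⟨s, hs, rfl⟩
    rw [AlgHom.commutes]
    exact IsLocalization.map_units (FractionRing B) (⟨s, hs⟩ : nonZeroDivisors B)
  have hT : T ≤ nonZeroDivisors (B ⊗[A] IC A) := by
    intro t ht
    rw [mem_nonZeroDivisors_iff_right]
    intro z hz
    apply hinj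
    have h1 : toFrac A B z * toFrac A B t = 0 := by rw [← map_mul, hz, map_zero]
    rw [map_zero]
    exact (hTunit t ht).mul_left_eq_zero.mp h1
  haveI : IsLocalization T (FractionRing B) := by
    rw [isLocalization_iff]
    refine ⟨?_, ?_, ?_⟩
    · intro t
      exact hTunit t t.2
    · intro w
      obtain ⟨⟨b, s⟩, hbs⟩ := IsLocalization.surj (nonZeroDivisors B) w
      refine ⟨⟨algebraMap B (B ⊗[A] IC A) b,
        ⟨algebraMap B (B ⊗[A] IC A) s, ⟨s, s.2, rfl⟩⟩⟩, ?_⟩
      show w * toFrac A B (algebraMap B (B ⊗[A] IC A) s) =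
        toFrac A B (algebraMap B (B ⊗[A] IC A) b)
      rw [AlgHom.commutes, AlgHom.commutes]
      exact hbs
    · intro z w hzw
      exact ⟨1, by rw [hinj hzw]⟩
  have hy' : IsIntegral (B ⊗[A] IC A) y := hy.tower_top
  obtain ⟨z, hz⟩ := mem_range_of_isIntegral_of_normal_at_maximal T hT
    (fun q _ => normal_tensor A B hdim hfin hmax hfib q) y hy'
  exact ⟨z, hz⟩


/-- `B ⊗[A] A'` is the normalization of `B`. -/
noncomputable def tensorEquiv (hdim : ringKrullDim A = 1) (hfin : Module.Finite A (IC A))
    (hmax : (maximalIdeal A).map (algebraMap A B) = maximalIdeal B)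
    (hfib : ∀ m' : Ideal (IC A), m'.IsMaximal → IsReduced (B ⊗[A] (IC A ⧸ m'))) :
    (B ⊗[A] IC A) ≃ₐ[B] ↥(integralClosure B (FractionRing B)) :=
  AlgEquiv.ofBijective
    ((toFrac A B).codRestrict (integralClosure B (FractionRing B))
      (toFrac_mem_integralClosure A B hfin))
    ⟨fun z w h => toFrac_injective A B hfin (congrArg Subtype.val h),
      fun y => by
        obtain ⟨z, hz⟩ := exists_toFrac_eq A B hdim hfin hmax hfib y.1 y.2
        exact ⟨z, Subtype.ext hz⟩⟩

theorem ker_baseChange_mkQ :
    LinearMap.ker ((LinearMap.range (Algebra.linearMap A (IC A))).mkQ.baseChange B) =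
      LinearMap.range (Algebra.linearMap B (B ⊗[A] IC A)) := by
  ext z
  rw [LinearMap.mem_ker, LinearMap.mem_range]
  have hex := lTensor_exact B (LinearMap.exact_map_mkQ_range (Algebra.linearMap A (IC A)))
    (LinearMap.range (Algebra.linearMap A (IC A))).mkQ_surjective
  have h1 : ((LinearMap.range (Algebra.linearMap A (IC A))).mkQ.baseChange B) z =
      ((LinearMap.range (Algebra.linearMap A (IC A))).mkQ.lTensor B) z := rfl
  rw [h1, hex z]
  constructor
  · rintro ⟨w, rfl⟩
    refine ⟨TensorProduct.rid A B w, ?_⟩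
    have hw : w = (TensorProduct.rid A B w) ⊗ₜ[A] (1 : A) := by
      conv_lhs => rw [← (TensorProduct.rid A B).symm_apply_apply w]
      rfl
    conv_rhs => rw [hw]
    rw [LinearMap.lTensor_tmul, Algebra.linearMap_apply, Algebra.linearMap_apply, map_one,
      Algebra.TensorProduct.algebraMap_apply, Algebra.algebraMap_self_apply]
  · rintro ⟨b, rfl⟩
    refine ⟨b ⊗ₜ[A] (1 : A), ?_⟩
    rw [LinearMap.lTensor_tmul, Algebra.linearMap_apply, Algebra.linearMap_apply, map_one,
      Algebra.TensorProduct.algebraMap_apply, Algebra.algebraMap_self_apply]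

/-- The δ-invariant is unchanged under a flat local base change `A → B` with `m_A B = m_B`, `B`
Noetherian and reduced fibres over the closed points of the normalization. -/
theorem length_eq (hdim : ringKrullDim A = 1) (hfin : Module.Finite A (IC A))
    (hmax : (maximalIdeal A).map (algebraMap A B) = maximalIdeal B)
    (hfib : ∀ m' : Ideal (IC A), m'.IsMaximal → IsReduced (B ⊗[A] (IC A ⧸ m'))) :
    Module.length B (↥(integralClosure B (FractionRing B)) ⧸
        LinearMap.range (Algebra.linearMap B ↥(integralClosure B (FractionRing B)))) =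
      Module.length A (IC A ⧸ LinearMap.range (Algebra.linearMap A (IC A))) := by
  haveI := hfin
  let e := tensorEquiv A B hdim hfin hmax hfib
  -- transport along `e`
  have hmap : (LinearMap.range (Algebra.linearMap B (B ⊗[A] IC A))).map
      (e.toLinearEquiv : (B ⊗[A] IC A) →ₗ[B] ↥(integralClosure B (FractionRing B))) =
      LinearMap.range (Algebra.linearMap B ↥(integralClosure B (FractionRing B))) := by
    ext y
    rw [Submodule.mem_map, LinearMap.mem_range]
    constructor
    · rintro ⟨z, ⟨b, rfl⟩, rfl⟩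
      exact ⟨b, (e.commutes b).symm⟩
    · rintro ⟨b, rfl⟩
      exact ⟨algebraMap B _ b, ⟨b, rfl⟩, e.commutes b⟩
  have e1 := Submodule.Quotient.equiv _ _ e.toLinearEquiv hmap
  rw [← e1.length_eq]
  -- the cokernel of `B → B ⊗ A'` is the base change of the cokernel of `A → A'`
  let P := LinearMap.range (Algebra.linearMap A (IC A))
  have hsurj : Function.Surjective (P.mkQ.baseChange B) := by
    have : Function.Surjective (P.mkQ.lTensor B) :=
      LinearMap.lTensor_surjective B P.mkQ_surjective
    exact this
  have e2 := (Submodule.quotEquivOfEq _ _ (ker_baseChange_mkQ A B).symm).trans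
    (LinearMap.quotKerEquivOfSurjective (P.mkQ.baseChange B) hsurj)
  rw [e2.length_eq]
  have hfl : IsFiniteLength A (IC A ⧸ P) :=
    Groth.Agent.Lib.Helper38.isFiniteLength_quotient_range hdim.le
      (integralClosure A (FractionRing A))
  exact length_tensor_of_isFiniteLength hmax _ hfl

end Core

end Groth.Agent.Lib.Helper98.DeltaBaseChange
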