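import Mathlib

/-!
# Torsion-free modules embed into free modules (helper98)

A finitely generated torsion-free module `M` over a domain `O` with fraction field `K` and
`dim_K (K ⊗ M) = n` admits an injective `O`-linear map to `O^n`.
-/

set_option autoImplicit false
universe u

namespace Groth.Agent.Lib.Helper98

open TensorProduct

section

variable (O : Type u) [CommRing O] [IsDomain O]
  (K : Type u) [Field K] [Algebra O K] [IsFractionRing O K]

/-- A torsion-free module embeds into its localization at the generic point (no Noetherian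
hypothesis). -/
theorem mk_one_injective (M : Type u) [AddCommGroup M] [Module O M]
    [NoZeroSMulDivisors O M] : Function.Injective (TensorProduct.mk O K M 1) := by
  haveI : IsLocalizedModule (nonZeroDivisors O) (TensorProduct.mk O K M 1) :=
    (isLocalizedModule_iff_isBaseChange (nonZeroDivisors O) K _).mpr
      (TensorProduct.isBaseChange O M K)
  rw [← LinearMap.ker_eq_bot, LinearMap.ker_eq_bot']
  intro v hv
  obtain ⟨c, hc⟩ := (IsLocalizedModule.eq_zero_iff (nonZeroDivisors O) _).mp hv
  rcases smul_eq_zero.mp hc with h | h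
  · exact absurd h (nonZeroDivisors.coe_ne_zero c)
  · exact h

/-- The inclusion `O^n → K^n`. -/
noncomputable def piIncl (n : ℕ) : (Fin n → O) →ₗ[O] (Fin n → K) :=
  LinearMap.pi fun i => (Algebra.linearMap O K).comp (LinearMap.proj i)

theorem piIncl_apply (n : ℕ) (v : Fin n → O) (i : Fin n) :
    piIncl O K n v i = algebraMap O K (v i) := rfl

theorem piIncl_injective (n : ℕ) : Function.Injective (piIncl O K n) := by
  intro v w h
  funext i
  have := congrFun h i
  rw [piIncl_apply, piIncl_apply] at this
  exact IsFractionRing.injective O K this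

/-- A finitely generated submodule of `K^n` can be scaled into `O^n`. -/
theorem exists_smul_le_range_piIncl (n : ℕ) (N : Submodule O (Fin n → K)) (hN : N.FG) :
    ∃ d : O, d ≠ 0 ∧ ∀ v ∈ N, d • v ∈ LinearMap.range (piIncl O K n) := by
  classical
  obtain ⟨S, rfl⟩ := hN
  obtain ⟨d, hd⟩ := IsLocalization.exist_integer_multiples_of_finset (nonZeroDivisors O)
    (S.biUnion fun v => Finset.univ.image fun i => v i)
  refine ⟨d, nonZeroDivisors.coe_ne_zero d, ?_⟩
  intro v hv
  induction hv using Submodule.span_induction with
  | mem s hs =>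
    have : ∀ i, ∃ a : O, algebraMap O K a = (d : O) • s i := fun i =>
      hd (s i) (Finset.mem_biUnion.mpr ⟨s, hs, Finset.mem_image.mpr ⟨i, Finset.mem_univ _, rfl⟩⟩)
    choose a ha using this
    refine ⟨a, ?_⟩
    funext i
    rw [piIncl_apply, ha]
    rfl
  | zero => rw [smul_zero]; exact Submodule.zero_mem _
  | add x y _ _ hx hy => rw [smul_add]; exact Submodule.add_mem _ hx hy
  | smul b x _ hx => rw [smul_comm]; exact Submodule.smul_mem _ _ hx

/-- **Embedding into a free module.** -/
theorem exists_injective_to_pi (M : Type u) [AddCommGroup M] [Module O M] [Module.Finite O M]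
    [NoZeroSMulDivisors O M] (n : ℕ) (hn : Module.finrank K (K ⊗[O] M) = n) :
    ∃ f : M →ₗ[O] (Fin n → O), Function.Injective f := by
  classical
  let b : Module.Basis (Fin n) K (K ⊗[O] M) := Module.finBasisOfFinrankEq K _ hn
  let ψ : M →ₗ[O] (Fin n → K) :=
    (b.equivFun.restrictScalars O).toLinearMap.comp (TensorProduct.mk O K M 1)
  have hψ : Function.Injective ψ :=
    (b.equivFun.restrictScalars O).injective.comp (mk_one_injective O K M)
  obtain ⟨d, hd0, hd⟩ := exists_smul_le_range_piIncl O K n (LinearMap.range ψ)
    (by rw [LinearMap.range_eq_map]; exact (Module.Finite.fg_top).map ψ)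
  let e := LinearEquiv.ofInjective (piIncl O K n) (piIncl_injective O K n)
  let φ : M →ₗ[O] LinearMap.range (piIncl O K n) :=
    LinearMap.codRestrict _ (d • ψ) fun m => hd _ ⟨m, rfl⟩
  refine ⟨e.symm.toLinearMap.comp φ, e.symm.injective.comp ?_⟩
  intro m m' h
  have h' : d • ψ m = d • ψ m' := congrArg Subtype.val h
  have h2 : ψ m = ψ m' := by
    have hdK : algebraMap O K d ≠ 0 := by
      rwa [Ne, IsFractionRing.to_map_eq_zero_iff]
    rw [← algebraMap_smul K d (ψ m), ← algebraMap_smul K d (ψ m')] at h'
    exact smul_right_injective _ hdK h'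
  exact hψ h2

end

end Groth.Agent.Lib.Helper98
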