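import Groth.Agent.Lib.Helper98.NormalizationPID

/-!
# Normal form of torsion-free modules over a one-dimensional local domain (helper98)

`O` a one-dimensional Noetherian local domain with infinite residue field and finite
normalization `Õ`: every finitely generated torsion-free module of rank `n` is isomorphic to a
submodule `M'` of `K^n` with `O^n ⊆ M' ⊆ Õ^n`.
-/

set_option autoImplicit false
universe u

namespace Groth.Agent.Lib.Helper98

open IsLocalRing TensorProduct

section

variable (O : Type u) [CommRing O] [IsDomain O]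
  (K : Type u) [Field K] [Algebra O K] [IsFractionRing O K]

theorem span_range_mk_one (M : Type u) [AddCommGroup M] [Module O M] :
    Submodule.span K (Set.range (TensorProduct.mk O K M 1)) = ⊤ := by
  rw [eq_top_iff]
  rintro t -
  induction t using TensorProduct.induction_on with
  | zero => exact Submodule.zero_mem _
  | tmul k m =>
    have : k ⊗ₜ[O] m = k • ((1 : K) ⊗ₜ[O] m) := by
      rw [TensorProduct.smul_tmul', smul_eq_mul, mul_one]
    rw [this]
    exact Submodule.smul_mem _ _ (Submodule.subset_span ⟨m, rfl⟩)
  | add x y hx hy => exact Submodule.add_mem _ hx hy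

/-- A torsion-free module of rank `n` embeds into `K^n` as a spanning submodule. -/
theorem exists_injective_to_pi_field (M : Type u) [AddCommGroup M] [Module O M]
    [Module.Finite O M] [NoZeroSMulDivisors O M] (n : ℕ)
    (hn : Module.finrank K (K ⊗[O] M) = n) :
    ∃ ψ : M →ₗ[O] (Fin n → K), Function.Injective ψ ∧
      Submodule.span K (Set.range ψ) = ⊤ := by
  classical
  let b : Module.Basis (Fin n) K (K ⊗[O] M) := Module.finBasisOfFinrankEq K _ hn
  refine ⟨(b.equivFun.restrictScalars O).toLinearMap.comp (TensorProduct.mk O K M 1),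
    (b.equivFun.restrictScalars O).injective.comp (mk_one_injective O K M), ?_⟩
  have h1 : Set.range ((b.equivFun.restrictScalars O).toLinearMap.comp
      (TensorProduct.mk O K M 1)) = b.equivFun.toLinearMap '' Set.range (TensorProduct.mk O K M 1) := by
    ext v
    constructor
    · rintro ⟨m, rfl⟩
      exact ⟨_, ⟨m, rfl⟩, rfl⟩
    · rintro ⟨_, ⟨m, rfl⟩, rfl⟩
      exact ⟨m, rfl⟩
  rw [h1, ← Submodule.map_span, span_range_mk_one, Submodule.map_top, LinearMap.range_eq_top]
  exact b.equivFun.surjective

end

section main

variable (O : Type u) [CommRing O] [IsDomain O] [IsNoetherianRing O] [IsLocalRing O]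
  (K : Type u) [Field K] [Algebra O K] [IsFractionRing O K]

set_option maxHeartbeats 800000 in
/-- **Normal form of torsion-free modules.** -/
theorem exists_submodule_between [Infinite (ResidueField O)] (hdim : ringKrullDim O = 1)
    [Module.Finite O (integralClosure O K)]
    (M : Type u) [AddCommGroup M] [Module O M] [Module.Finite O M] [NoZeroSMulDivisors O M]
    (n : ℕ) (hn : Module.finrank K (K ⊗[O] M) = n) :
    ∃ M' : Submodule O (Fin n → K),
      Submodule.pi Set.univ (fun _ : Fin n => (1 : Submodule O K)) ≤ M' ∧
      M' ≤ Submodule.pi Set.univ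
        (fun _ : Fin n => (Subalgebra.toSubmodule (integralClosure O K))) ∧
      Nonempty (M ≃ₗ[O] ↥M') := by
  classical
  haveI : Ring.KrullDimLE 1 O := by rw [Ring.krullDimLE_iff, hdim]; rfl
  haveI := isDedekindDomain_integralClosure O K
  haveI := isPrincipalIdealRing_integralClosure O K hdim
  haveI := finite_maximalSpectrum_integralClosure O K hdim
  haveI : IsFractionRing (integralClosure O K) K :=
    integralClosure.isFractionRing_of_finite_extension K K
  obtain ⟨ψ, hψ, hψspan⟩ := exists_injective_to_pi_field O K M n hn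
  -- the `Õ`-lattice generated by `M`
  obtain ⟨Mt, hMt⟩ : ∃ Mt : Submodule (integralClosure O K) (Fin n → K),
      Mt = Submodule.span (integralClosure O K) (Set.range ψ) := ⟨_, rfl⟩
  have hψMt : ∀ m, ψ m ∈ Mt := fun m => hMt ▸ Submodule.subset_span ⟨m, rfl⟩
  haveI hlat : Submodule.IsLattice K Mt := by
    refine ⟨?_, ?_⟩
    · obtain ⟨G, hG⟩ := (Module.Finite.fg_top : (⊤ : Submodule O M).FG)
      refine ⟨G.image ψ, ?_⟩
      rw [hMt]
      apply le_antisymm
      · exact Submodule.span_mono (by
          intro v hv
          obtain ⟨g, -, rfl⟩ := Finset.mem_image.mp hv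
          exact ⟨g, rfl⟩)
      · rw [Submodule.span_le]
        rintro _ ⟨m, rfl⟩
        have hm : m ∈ Submodule.span O (G : Set M) := by rw [hG]; trivial
        have h1 : ψ m ∈ Submodule.span O (ψ '' (G : Set M)) := by
          rw [← Submodule.map_span]
          exact Submodule.mem_map_of_mem hm
        have h2 := Submodule.span_le_restrictScalars O (integralClosure O K)
          (ψ '' (G : Set M)) h1
        rw [Finset.coe_image]
        exact h2
    · rw [eq_top_iff, ← hψspan]
      exact Submodule.span_mono (by rintro _ ⟨m, rfl⟩; exact hψMt m)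
  haveI : Module.Free (integralClosure O K) Mt := inferInstance
  haveI : Module.Finite (integralClosure O K) Mt := inferInstance
  have hfr : Module.finrank (integralClosure O K) Mt = n := by
    rw [Submodule.IsLattice.finrank_of_pi K Mt, Fintype.card_fin]
  -- the image of `M` inside `Mt`
  let φ : M →ₗ[O] Mt := LinearMap.codRestrict (Mt.restrictScalars O) ψ hψMt
  have hφ : ∀ m, (φ m : Fin n → K) = ψ m := fun m => rfl
  have hN : Submodule.span (integralClosure O K) ((LinearMap.range φ : Submodule O Mt) : Set Mt)
      = ⊤ := by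
    apply Submodule.map_injective_of_injective Mt.injective_subtype
    rw [Submodule.map_span, Submodule.map_top, Submodule.range_subtype]
    have : (Mt.subtype '' ((LinearMap.range φ : Submodule O Mt) : Set Mt)) = Set.range ψ := by
      ext v
      constructor
      · rintro ⟨_, ⟨m, rfl⟩, rfl⟩
        exact ⟨m, rfl⟩
      · rintro ⟨m, rfl⟩
        exact ⟨φ m, ⟨m, rfl⟩, rfl⟩
    rw [this, hMt]
  obtain ⟨β₀, hβ₀⟩ := exists_basis_mem_of_span_eq_top (B := O) (A := integralClosure O K)
    (LinearMap.range φ) hN
  let β : Module.Basis (Fin n) (integralClosure O K) Mt := β₀.reindex (finCongr hfr)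
  have hβ : ∀ i, ∃ m : M, φ m = β i := by
    intro i
    have := hβ₀ ((finCongr hfr).symm i)
    rw [Module.Basis.reindex_apply]
    exact this
  choose m hm using hβ
  let βK : Module.Basis (Fin n) K (Fin n → K) := β.extendOfIsLattice K
  have hβK : ∀ i, βK i = ψ (m i) := by
    intro i
    rw [Module.Basis.extendOfIsLattice_apply, ← hm i, hφ]
  let χ : (Fin n → K) ≃ₗ[K] (Fin n → K) := βK.equivFun
  have hχ : ∀ i, χ (ψ (m i)) = Pi.single i 1 := by
    intro i
    rw [← hβK i]
    funext j
    rw [Pi.single_apply]
    have := βK.equivFun_self i j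
    rw [show χ (βK i) j = βK.equivFun (βK i) j from rfl, this]
    by_cases hij : i = j
    · rw [if_pos hij, if_pos hij.symm]
    · rw [if_neg hij, if_neg (Ne.symm hij)]
  let Ψ : M →ₗ[O] (Fin n → K) := (χ.restrictScalars O).toLinearMap.comp ψ
  have hΨ : ∀ x, Ψ x = χ (ψ x) := fun x => rfl
  have hΨinj : Function.Injective Ψ := (χ.restrictScalars O).injective.comp hψ
  refine ⟨LinearMap.range Ψ, ?_, ?_, ⟨LinearEquiv.ofInjective Ψ hΨinj⟩⟩
  · -- `O^n ⊆ M'`
    intro v hv
    have hv' : ∀ i, ∃ a : O, algebraMap O K a = v i := by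
      intro i
      have := hv i (Set.mem_univ i)
      exact Submodule.mem_one.mp this
    choose a ha using hv'
    refine ⟨∑ i, a i • m i, ?_⟩
    rw [map_sum]
    have hterm : ∀ i, Ψ (a i • m i) = a i • (Pi.single i 1 : Fin n → K) := by
      intro i
      rw [map_smul, hΨ, hχ]
    simp only [hterm]
    funext j
    rw [Finset.sum_apply]
    simp only [Pi.smul_apply]
    rw [Finset.sum_eq_single j]
    · rw [Pi.single_eq_same, Algebra.smul_def, mul_one, ha]
    · intro i _ hij
      rw [Pi.single_eq_of_ne' hij, smul_zero]
    · intro h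
      exact absurd (Finset.mem_univ j) h
  · -- `M' ⊆ Õ^n`
    rintro _ ⟨x, rfl⟩ j -
    have h1 : φ x = ∑ i, β.repr (φ x) i • β i := (β.sum_repr (φ x)).symm
    have h2 : ψ x = ∑ i, β.repr (φ x) i • ψ (m i) := by
      rw [← hφ x, h1]
      simp only [Submodule.coe_sum, Submodule.coe_smul]
      refine Finset.sum_congr rfl fun i _ => ?_
      rw [← hm i, hφ]
      congr 1
      rw [← h1]
    have h3 : χ (ψ x) = ∑ i, β.repr (φ x) i • (Pi.single i 1 : Fin n → K) := by
      rw [h2, map_sum]
      refine Finset.sum_congr rfl fun i _ => ?_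
      rw [← hχ i]
      exact LinearMap.map_smul_of_tower χ.toLinearMap _ _
    rw [hΨ, h3, Finset.sum_apply, Finset.sum_eq_single j]
    · rw [Pi.smul_apply, Pi.single_eq_same]
      show _ ∈ integralClosure O K
      have : (β.repr (φ x) j • (1 : K)) = ((β.repr (φ x) j : integralClosure O K) : K) := by
        rw [Algebra.smul_def, mul_one]
        rfl
      rw [this]
      exact (β.repr (φ x) j).2
    · intro i _ hij
      rw [Pi.smul_apply, Pi.single_eq_of_ne' hij, smul_zero]
    · intro h
      exact absurd (Finset.mem_univ j) h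

end main

end Groth.Agent.Lib.Helper98
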