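import Mathlib.Algebra.Azumaya.Basic
import Mathlib.Algebra.Azumaya.Matrix
import Mathlib.RingTheory.Finiteness.Projective
import Mathlib.LinearAlgebra.Matrix.ToLin
import Mathlib.LinearAlgebra.Pi

/-!
`End_R(P)` is Azumaya for `P` finitely generated projective and faithful: retract of the matrix case.
-/

set_option autoImplicit false
universe u v w

namespace Groth.Agent.Lib.Helper98

open TensorProduct MulOpposite Function

/-- A retract of a bijection (in the arrow category) is a bijection. -/
theorem bijective_of_retract {X Y X' Y' : Type*} (f : X → Y) (f' : X' → Y')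
    (U : X → X') (V : X' → X) (U' : Y → Y') (V' : Y' → Y)
    (hVU : ∀ x, V (U x) = x) (hVU' : ∀ y, V' (U' y) = y)
    (h1 : ∀ x, f' (U x) = U' (f x)) (h2 : ∀ x', f (V x') = V' (f' x'))
    (hf' : Bijective f') : Bijective f := by
  constructor
  · intro a b hab
    have : f' (U a) = f' (U b) := by rw [h1, h1, hab]
    have := hf'.1 this
    rw [← hVU a, ← hVU b, this]
  · intro y
    obtain ⟨c, hc⟩ := hf'.2 (U' y)
    exact ⟨V c, by rw [h2, hc, hVU']⟩

section

variable {R : Type u} [CommRing R] {P : Type v} [AddCommGroup P] [Module R P]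
  {F : Type w} [AddCommGroup F] [Module R F]
  (i : P →ₗ[R] F) (s : F →ₗ[R] P)

/-- `φ ↦ i φ s`. -/
def endUp : Module.End R P →ₗ[R] Module.End R F where
  toFun φ := i ∘ₗ φ ∘ₗ s
  map_add' φ ψ := by ext; simp
  map_smul' c φ := by ext; simp

/-- `ψ ↦ s ψ i`. -/
def endDown : Module.End R F →ₗ[R] Module.End R P where
  toFun ψ := s ∘ₗ ψ ∘ₗ i
  map_add' φ ψ := by ext; simp
  map_smul' c φ := by ext; simp

@[simp] theorem endUp_apply (φ : Module.End R P) (x : F) : endUp i s φ x = i (φ (s x)) := rfl
@[simp] theorem endDown_apply (ψ : Module.End R F) (x : P) : endDown i s ψ x = s (ψ (i x)) := rfl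

variable {i s}

theorem endDown_endUp (h : s ∘ₗ i = LinearMap.id) (φ : Module.End R P) :
    endDown i s (endUp i s φ) = φ := by
  ext x
  have h' : ∀ y, s (i y) = y := fun y => LinearMap.congr_fun h y
  simp [h']

variable (i s)

/-- `op`-version of a linear map. -/
def opMap {M N : Type*} [AddCommGroup M] [Module R M] [AddCommGroup N] [Module R N]
    (f : M →ₗ[R] N) : Mᵐᵒᵖ →ₗ[R] Nᵐᵒᵖ :=
  (opLinearEquiv R).toLinearMap ∘ₗ f ∘ₗ (opLinearEquiv R).symm.toLinearMap

@[simp] theorem opMap_apply {M N : Type*} [AddCommGroup M] [Module R M] [AddCommGroup N]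
    [Module R N] (f : M →ₗ[R] N) (x : Mᵐᵒᵖ) : opMap f x = op (f x.unop) := rfl

theorem isAzumaya_end_of_retract [Module.Free R F] [Module.Finite R F]
    [IsAzumaya R (Module.End R F)] [FaithfulSMul R P]
    (h : s ∘ₗ i = LinearMap.id) : IsAzumaya R (Module.End R P) := by
  have h' : ∀ y, s (i y) = y := fun y => LinearMap.congr_fun h y
  have hdu : (endDown i s) ∘ₗ (endUp i s) = LinearMap.id :=
    LinearMap.ext fun φ => endDown_endUp h φ
  have hproj : Module.Projective R (Module.End R P) :=
    Module.Projective.of_split (endUp i s) (endDown i s) hdu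
  have hfin : Module.Finite R (Module.End R P) :=
    Module.Finite.of_surjective (endDown i s) (fun φ => ⟨endUp i s φ, endDown_endUp h φ⟩)
  have hfaith : FaithfulSMul R (Module.End R P) := by
    refine ⟨fun {r₁ r₂} hr => ?_⟩
    apply eq_of_smul_eq_smul (α := P)
    intro p
    have := LinearMap.congr_fun (hr 1) p
    simpa using this
  refine { hproj, hfaith, hfin with bij := ?_ }
  let EP := Module.End R P
  let EF := Module.End R F
  let U : EP ⊗[R] EPᵐᵒᵖ →ₗ[R] EF ⊗[R] EFᵐᵒᵖ :=
    TensorProduct.map (endUp i s) (opMap (endUp i s))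
  let V : EF ⊗[R] EFᵐᵒᵖ →ₗ[R] EP ⊗[R] EPᵐᵒᵖ :=
    TensorProduct.map (endDown i s) (opMap (endDown i s))
  let U' : Module.End R EP →ₗ[R] Module.End R EF := endUp (endUp i s) (endDown i s)
  let V' : Module.End R EF →ₗ[R] Module.End R EP := endDown (endUp i s) (endDown i s)
  have hVU : ∀ x, V (U x) = x := by
    intro x
    have : V ∘ₗ U = LinearMap.id := by
      apply TensorProduct.ext'
      intro a b
      simp only [U, V, LinearMap.comp_apply, TensorProduct.map_tmul, opMap_apply, unop_op,
        LinearMap.id_apply]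
      rw [endDown_endUp h, endDown_endUp h, op_unop]
    exact LinearMap.congr_fun this x
  have hVU' : ∀ y, V' (U' y) = y := fun y => endDown_endUp hdu y
  have h1 : ∀ x, AlgHom.mulLeftRight R EF (U x) = U' (AlgHom.mulLeftRight R EP x) := by
    intro x
    have : (AlgHom.mulLeftRight R EF).toLinearMap ∘ₗ U =
        U' ∘ₗ (AlgHom.mulLeftRight R EP).toLinearMap := by
      apply TensorProduct.ext'
      intro a b
      ext y z
      simp only [U, U', LinearMap.comp_apply, TensorProduct.map_tmul, opMap_apply,
        AlgHom.toLinearMap_apply, AlgHom.mulLeftRight_apply, unop_op, endUp_apply,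
        endDown_apply, Module.End.mul_apply]
      rfl
    exact LinearMap.congr_fun this x
  have h2 : ∀ x, AlgHom.mulLeftRight R EP (V x) = V' (AlgHom.mulLeftRight R EF x) := by
    intro x
    have : (AlgHom.mulLeftRight R EP).toLinearMap ∘ₗ V =
        V' ∘ₗ (AlgHom.mulLeftRight R EF).toLinearMap := by
      apply TensorProduct.ext'
      intro a b
      ext y z
      simp only [V, V', LinearMap.comp_apply, TensorProduct.map_tmul, opMap_apply,
        AlgHom.toLinearMap_apply, AlgHom.mulLeftRight_apply, unop_op, endUp_apply,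
        endDown_apply, Module.End.mul_apply]
      rfl
    exact LinearMap.congr_fun this x
  exact bijective_of_retract (AlgHom.mulLeftRight R EP) (AlgHom.mulLeftRight R EF) U V U' V'
    hVU hVU' h1 h2 (IsAzumaya.bij)

end

/-- `End_R(P)` is Azumaya for `P` finitely generated projective and faithful. -/
theorem isAzumaya_end (R : Type u) [CommRing R] (P : Type v) [AddCommGroup P] [Module R P]
    [Module.Finite R P] [Module.Projective R P] [FaithfulSMul R P] :
    IsAzumaya R (Module.End R P) := by
  classical
  obtain ⟨n, f, g, -, -, hfg⟩ := Module.Finite.exists_comp_eq_id_of_projective R P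
  -- enlarge to a nonempty index type
  let ι := Fin n ⊕ Unit
  let s : (ι → R) →ₗ[R] P := f ∘ₗ LinearMap.funLeft R R (Sum.inl : Fin n → ι)
  let i : P →ₗ[R] (ι → R) := Function.ExtendByZero.linearMap R (Sum.inl : Fin n → ι) ∘ₗ g
  have hsi : s ∘ₗ i = LinearMap.id := by
    ext p
    have : LinearMap.funLeft R R (Sum.inl : Fin n → ι)
        (Function.ExtendByZero.linearMap R (Sum.inl : Fin n → ι) (g p)) = g p := by
      ext j
      simp [LinearMap.funLeft_apply, Function.ExtendByZero.linearMap_apply,
        Sum.inl_injective.extend_apply]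
    simp only [s, i, LinearMap.comp_apply, this]
    exact LinearMap.congr_fun hfg p
  have : IsAzumaya R (Matrix ι ι R) := IsAzumaya.matrix R ι
  have : IsAzumaya R (Module.End R (ι → R)) :=
    IsAzumaya.of_AlgEquiv R _ _ (LinearMap.toMatrixAlgEquiv' (R := R) (n := ι)).symm
  exact isAzumaya_end_of_retract i s hsi

end Groth.Agent.Lib.Helper98
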