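import Mathlib

/-!
# Simultaneous bases of a finite projective module near finitely many primes (helper98)

`A` a commutative ring, `M` a finite projective `A`-module, `P` a finite set of primes at which
`M` has rank `n`.  Then there are `n` elements of `M` which form a basis of `M_q` for all `q` in
an open neighbourhood of `P`.
-/

set_option autoImplicit false
universe u v w

namespace Groth.Agent.Lib.Helper98.BasisNearPrimes

open TensorProduct

section transfer

variable {A : Type u} [CommRing A] {N : Type w} {M : Type v} [AddCommGroup N] [Module A N]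
  [AddCommGroup M] [Module A M]

/-- Elementwise form of bijectivity of a localized map. -/
def LocBij (S : Submonoid A) (φ : N →ₗ[A] M) : Prop :=
  (∀ x, φ x = 0 → ∃ u ∈ S, u • x = 0) ∧ (∀ m, ∃ u ∈ S, u • m ∈ LinearMap.range φ)

theorem LocBij.mono {S T : Submonoid A} (h : S ≤ T) {φ : N →ₗ[A] M} (hφ : LocBij S φ) :
    LocBij T φ :=
  ⟨fun x hx => let ⟨u, hu, h1⟩ := hφ.1 x hx; ⟨u, h hu, h1⟩,
   fun m => let ⟨u, hu, h1⟩ := hφ.2 m; ⟨u, h hu, h1⟩⟩

theorem locBij_of_bijective (S : Submonoid A) (φ : N →ₗ[A] M)
    (h : Function.Bijective (LocalizedModule.map S φ)) : LocBij S φ := by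
  refine ⟨fun x hx => ?_, fun m => ?_⟩
  · have h1 : LocalizedModule.map S φ (LocalizedModule.mk x 1) = LocalizedModule.map S φ 0 := by
      rw [LocalizedModule.map_mk, hx, map_zero, LocalizedModule.zero_mk]
    have h2 := h.1 h1
    rw [← LocalizedModule.zero_mk (1 : S), LocalizedModule.mk_eq] at h2
    obtain ⟨u, hu⟩ := h2
    refine ⟨u, u.2, ?_⟩
    simpa [Submonoid.smul_def] using hu
  · obtain ⟨y, hy⟩ := h.2 (LocalizedModule.mk m 1)
    induction y using LocalizedModule.induction_on with
    | h x t =>
      rw [LocalizedModule.map_mk, LocalizedModule.mk_eq] at hy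
      obtain ⟨u, hu⟩ := hy
      refine ⟨u * t, (u * t).2, (u : A) • x, ?_⟩
      rw [map_smul]
      simp only [one_smul, Submonoid.smul_def] at hu
      rw [mul_smul]
      exact hu

theorem bijective_of_locBij (S : Submonoid A) (φ : N →ₗ[A] M) (h : LocBij S φ) :
    Function.Bijective (LocalizedModule.map S φ) := by
  refine ⟨?_, ?_⟩
  · rw [injective_iff_map_eq_zero]
    intro y hy
    induction y using LocalizedModule.induction_on with
    | h x t =>
      rw [LocalizedModule.map_mk, ← LocalizedModule.zero_mk (1 : S), LocalizedModule.mk_eq] at hy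
      obtain ⟨u, hu⟩ := hy
      simp only [one_smul, smul_zero] at hu
      have h1 : φ ((u : A) • x) = 0 := by rw [map_smul]; exact hu
      obtain ⟨v, hv, h2⟩ := h.1 _ h1
      rw [← LocalizedModule.zero_mk (1 : S), LocalizedModule.mk_eq]
      refine ⟨⟨v, hv⟩ * u, ?_⟩
      simp only [one_smul, smul_zero]
      rw [Submonoid.smul_def, Submonoid.coe_mul, mul_smul]
      exact h2
  · intro y
    induction y using LocalizedModule.induction_on with
    | h m t =>
      obtain ⟨u, hu, x, hx⟩ := h.2 m
      refine ⟨LocalizedModule.mk x (⟨u, hu⟩ * t), ?_⟩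
      rw [LocalizedModule.map_mk, hx, LocalizedModule.mk_eq]
      refine ⟨1, ?_⟩
      simp only [one_smul]
      rw [Submonoid.smul_def, Submonoid.smul_def, Submonoid.coe_mul, mul_smul, smul_comm]

end transfer

section basis

variable {A : Type u} [CommRing A] {M : Type v} [AddCommGroup M] [Module A M] {n : ℕ}

/-- If the localization of `A^n → M` given by `s` is bijective, then `s` is a basis of the
localized module. -/
theorem isBasis_of_bijective (S : Submonoid A) (s : Fin n → M)
    (h : Function.Bijective (LocalizedModule.map S (Fintype.linearCombination A s))) :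
    LinearIndependent (Localization S) (fun j => LocalizedModule.mkLinearMap S M (s j)) ∧
      Submodule.span (Localization S)
        (Set.range fun j => LocalizedModule.mkLinearMap S M (s j)) = ⊤ := by
  obtain ⟨φ, hφ⟩ : ∃ φ, φ = Fintype.linearCombination A s := ⟨_, rfl⟩
  rw [← hφ] at h
  let b := (Pi.basisFun A (Fin n)).ofIsLocalizedModule (Localization S) S
    (LocalizedModule.mkLinearMap S (Fin n → A))
  have hb : (fun j => LocalizedModule.mkLinearMap S M (s j)) = (LocalizedModule.map S φ) ∘ b := by
    funext j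
    simp only [Function.comp_apply, b]
    rw [Module.Basis.ofIsLocalizedModule_apply, LocalizedModule.mkLinearMap_apply,
      LocalizedModule.mkLinearMap_apply, LocalizedModule.map_mk, hφ]
    simp [Fintype.linearCombination_apply_single]
  rw [hb]
  refine ⟨b.linearIndependent.map' _ (LinearMap.ker_eq_bot.mpr h.1), ?_⟩
  rw [Set.range_comp, ← Submodule.map_span, b.span_eq, Submodule.map_top,
    LinearMap.range_eq_top.mpr h.2]

end basis

section rank

variable {A : Type u} [CommRing A] {M : Type v} [AddCommGroup M] [Module A M]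
  [Module.Finite A M] [Module.Projective A M] {n : ℕ}

theorem rankAtStalk_eq_of_basis_away (p : PrimeSpectrum A) (g : A) (hg : g ∉ p.asIdeal)
    (b : Module.Basis (Fin n) (Localization.Away g) (LocalizedModule (Submonoid.powers g) M)) :
    Module.rankAtStalk M p = n := by
  have hp : p ∈ (PrimeSpectrum.basicOpen g : Set (PrimeSpectrum A)) := hg
  rw [← PrimeSpectrum.localization_away_comap_range (Localization.Away g) g] at hp
  obtain ⟨p', rfl⟩ := hp
  have hbc : IsBaseChange (Localization.Away g)
      (LocalizedModule.mkLinearMap (Submonoid.powers g) M) :=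
    IsLocalizedModule.isBaseChange (Submonoid.powers g) _ _
  rw [← Module.rankAtStalk_isBaseChange hbc p']
  haveI : Nontrivial (Localization.Away g) := PrimeSpectrum.nonempty_iff_nontrivial.mp ⟨p'⟩
  haveI : Module.Free (Localization.Away g) (LocalizedModule (Submonoid.powers g) M) :=
    Module.Free.of_basis b
  rw [Module.rankAtStalk_eq_finrank_of_free]
  simp [Module.finrank_eq_card_basis b]

theorem bijective_of_surjective_of_rank (p : PrimeSpectrum A)
    (hr : Module.rankAtStalk M p = n) (s : Fin n → M)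
    (hs : Function.Surjective
      (LocalizedModule.map p.asIdeal.primeCompl (Fintype.linearCombination A s))) :
    Function.Bijective
      (LocalizedModule.map p.asIdeal.primeCompl (Fintype.linearCombination A s)) := by
  obtain ⟨S, hS⟩ : ∃ S, S = p.asIdeal.primeCompl := ⟨_, rfl⟩
  haveI : Module.Free (Localization.AtPrime p.asIdeal)
      (LocalizedModule p.asIdeal.primeCompl M) := Module.free_of_flat_of_isLocalRing
  let b := (Pi.basisFun A (Fin n)).ofIsLocalizedModule (Localization.AtPrime p.asIdeal)
    p.asIdeal.primeCompl (LocalizedModule.mkLinearMap p.asIdeal.primeCompl (Fin n → A))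
  have h1 : Module.finrank (Localization.AtPrime p.asIdeal)
      (LocalizedModule p.asIdeal.primeCompl (Fin n → A)) = n := by
    simp [Module.finrank_eq_card_basis b]
  have h2 : Module.finrank (Localization.AtPrime p.asIdeal)
      (LocalizedModule p.asIdeal.primeCompl M) = n := hr
  haveI : Module.Free (Localization.AtPrime p.asIdeal)
      (LocalizedModule p.asIdeal.primeCompl (Fin n → A)) := Module.Free.of_basis b
  haveI : Module.Finite (Localization.AtPrime p.asIdeal)
      (LocalizedModule p.asIdeal.primeCompl (Fin n → A)) := Module.Finite.of_basis b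
  obtain ⟨e⟩ : Nonempty (LocalizedModule p.asIdeal.primeCompl M ≃ₗ[Localization.AtPrime p.asIdeal]
      LocalizedModule p.asIdeal.primeCompl (Fin n → A)) :=
    FiniteDimensional.nonempty_linearEquiv_of_finrank_eq (h2.trans h1.symm)
  refine ⟨?_, hs⟩
  have h3 : Function.Surjective (e.toLinearMap ∘ₗ
      LocalizedModule.map p.asIdeal.primeCompl (Fintype.linearCombination A s)) :=
    e.surjective.comp hs
  have h4 := OrzechProperty.injective_of_surjective_endomorphism _ h3
  exact Function.Injective.of_comp (f := e) h4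

theorem exists_span_eq_top (p : PrimeSpectrum A) (hr : Module.rankAtStalk M p = n) :
    ∃ m : Fin n → M, Submodule.span (Localization.AtPrime p.asIdeal)
      (Set.range fun j => LocalizedModule.mkLinearMap p.asIdeal.primeCompl M (m j)) = ⊤ := by
  haveI : Module.Free (Localization.AtPrime p.asIdeal)
      (LocalizedModule p.asIdeal.primeCompl M) := Module.free_of_flat_of_isLocalRing
  let β : Module.Basis (Fin n) (Localization.AtPrime p.asIdeal)
      (LocalizedModule p.asIdeal.primeCompl M) := Module.finBasisOfFinrankEq _ _ hr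
  have h1 : ∀ j, ∃ (m : M) (t : p.asIdeal.primeCompl), β j = LocalizedModule.mk m t := fun j => by
    generalize β j = y
    induction y using LocalizedModule.induction_on with
    | h m t => exact ⟨m, t, rfl⟩
  choose m t hmt using h1
  refine ⟨m, ?_⟩
  rw [eq_top_iff, ← β.span_eq, Submodule.span_le]
  rintro _ ⟨j, rfl⟩
  rw [hmt j]
  have h2 : LocalizedModule.mk (m j) (t j) = (Localization.mk 1 (t j) :
      Localization.AtPrime p.asIdeal) • LocalizedModule.mkLinearMap p.asIdeal.primeCompl M (m j) := by
    rw [LocalizedModule.mkLinearMap_apply, LocalizedModule.mk_smul_mk, one_smul, mul_one]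
  rw [h2]
  exact Submodule.smul_mem _ _ (Submodule.subset_span ⟨j, rfl⟩)

theorem exists_avoid (Q : Finset (PrimeSpectrum A))
    (hQ : ∀ p ∈ Q, ∀ p' ∈ Q, p' ≤ p → p' = p) (p : PrimeSpectrum A) (hp : p ∈ Q) :
    ∃ a : A, a ∉ p.asIdeal ∧ ∀ p' ∈ Q, p' ≠ p → a ∈ p'.asIdeal := by
  classical
  have h1 : ∀ p' ∈ Q.erase p, ∃ c : A, c ∈ p'.asIdeal ∧ c ∉ p.asIdeal := by
    intro p' hp'
    rw [Finset.mem_erase] at hp'
    have h2 : ¬ p'.asIdeal ≤ p.asIdeal := fun hle => hp'.1 (hQ p hp p' hp'.2 hle)
    exact SetLike.not_le_iff_exists.mp h2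
  choose! c hc using h1
  refine ⟨∏ p' ∈ Q.erase p, c p', ?_, ?_⟩
  · rw [Ideal.IsPrime.prod_mem_iff]
    rintro ⟨p', hp', h3⟩
    exact (hc p' hp').2 h3
  · intro p' hp' hne
    have h4 : p' ∈ Q.erase p := Finset.mem_erase.mpr ⟨hne, hp'⟩
    exact Ideal.mem_of_dvd _ (Finset.dvd_prod_of_mem c h4) (hc p' h4).1

theorem exists_surjective_of_antichain (Q : Finset (PrimeSpectrum A))
    (hQ : ∀ p ∈ Q, ∀ p' ∈ Q, p' ≤ p → p' = p)
    (hr : ∀ p ∈ Q, Module.rankAtStalk M p = n) :
    ∃ s : Fin n → M, ∀ p ∈ Q, Function.Surjective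
      (LocalizedModule.map p.asIdeal.primeCompl (Fintype.linearCombination A s)) := by
  classical
  have h1 : ∀ p ∈ Q, ∃ m : Fin n → M, Submodule.span (Localization.AtPrime p.asIdeal)
      (Set.range fun j => LocalizedModule.mkLinearMap p.asIdeal.primeCompl M (m j)) = ⊤ :=
    fun p hp => exists_span_eq_top p (hr p hp)
  choose! m hm using h1
  have h2 : ∀ p ∈ Q, ∃ a : A, a ∉ p.asIdeal ∧ ∀ p' ∈ Q, p' ≠ p → a ∈ p'.asIdeal :=
    fun p hp => exists_avoid Q hQ p hp
  choose! a ha using h2
  refine ⟨fun j => ∑ p ∈ Q, a p • m p j, fun p hp => ?_⟩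
  obtain ⟨φ, hφ⟩ : ∃ φ, φ = Fintype.linearCombination A (fun j => ∑ p ∈ Q, a p • m p j) :=
    ⟨_, rfl⟩
  rw [← hφ, ← LinearMap.range_eq_top, eq_top_iff]
  apply Submodule.le_of_le_smul_of_le_jacobson_bot
    (I := IsLocalRing.maximalIdeal (Localization.AtPrime p.asIdeal)) Module.Finite.fg_top
    (IsLocalRing.maximalIdeal_le_jacobson _)
  refine le_trans (hm p hp).ge (Submodule.span_le.mpr ?_)
  rintro _ ⟨j, rfl⟩
  have e1 : LocalizedModule.mkLinearMap p.asIdeal.primeCompl M (∑ p ∈ Q, a p • m p j) ∈
      LinearMap.range (LocalizedModule.map p.asIdeal.primeCompl φ) := by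
    refine ⟨LocalizedModule.mk (Pi.single j 1) 1, ?_⟩
    rw [LocalizedModule.map_mk, hφ, LocalizedModule.mkLinearMap_apply]
    simp [Fintype.linearCombination_apply_single]
  have e2 : LocalizedModule.mkLinearMap p.asIdeal.primeCompl M (∑ p ∈ Q, a p • m p j) =
      LocalizedModule.mkLinearMap p.asIdeal.primeCompl M (a p • m p j) +
        ∑ p' ∈ Q.erase p, LocalizedModule.mkLinearMap p.asIdeal.primeCompl M (a p' • m p' j) := by
    rw [← map_sum, ← map_add, Finset.add_sum_erase Q (fun p' => a p' • m p' j) hp]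
  have e3 : ∀ p' ∈ Q.erase p,
      LocalizedModule.mkLinearMap p.asIdeal.primeCompl M (a p' • m p' j) ∈
        IsLocalRing.maximalIdeal (Localization.AtPrime p.asIdeal) •
          (⊤ : Submodule (Localization.AtPrime p.asIdeal)
            (LocalizedModule p.asIdeal.primeCompl M)) := by
    intro p' hp'
    rw [map_smul, ← algebraMap_smul (Localization.AtPrime p.asIdeal) (a p')]
    refine Submodule.smul_mem_smul ?_ Submodule.mem_top
    rw [IsLocalization.AtPrime.to_map_mem_maximal_iff (Localization.AtPrime p.asIdeal) p.asIdeal]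
    exact (ha p' (Finset.mem_of_mem_erase hp')).2 p hp (Finset.ne_of_mem_erase hp').symm
  have e4 : LocalizedModule.mkLinearMap p.asIdeal.primeCompl M (a p • m p j) ∈
      LinearMap.range (LocalizedModule.map p.asIdeal.primeCompl φ) ⊔
        IsLocalRing.maximalIdeal (Localization.AtPrime p.asIdeal) •
          (⊤ : Submodule (Localization.AtPrime p.asIdeal)
            (LocalizedModule p.asIdeal.primeCompl M)) := by
    rw [eq_sub_of_add_eq e2.symm]
    exact Submodule.sub_mem _ (Submodule.mem_sup_left e1)
      (Submodule.mem_sup_right (Submodule.sum_mem _ e3))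
  have hu : IsUnit (algebraMap A (Localization.AtPrime p.asIdeal) (a p)) :=
    IsLocalization.map_units _ (⟨a p, (ha p hp).1⟩ : p.asIdeal.primeCompl)
  rw [map_smul, ← algebraMap_smul (Localization.AtPrime p.asIdeal) (a p)] at e4
  have e5 := Submodule.smul_mem _ (↑hu.unit⁻¹ : Localization.AtPrime p.asIdeal) e4
  rwa [smul_smul, IsUnit.val_inv_mul, one_smul] at e5

theorem exists_basicOpen_bijective (s : Fin n → M) (q : PrimeSpectrum A)
    (hq : Function.Bijective
      (LocalizedModule.map q.asIdeal.primeCompl (Fintype.linearCombination A s))) :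
    ∃ r : A, r ∉ q.asIdeal ∧ ∀ q' : PrimeSpectrum A, r ∉ q'.asIdeal →
      Function.Bijective
        (LocalizedModule.map q'.asIdeal.primeCompl (Fintype.linearCombination A s)) := by
  haveI : Module.FinitePresentation A M := Module.finitePresentation_of_projective A M
  obtain ⟨r, hr, h⟩ := exists_bijective_map_powers q.asIdeal.primeCompl
    (LocalizedModule.mkLinearMap q.asIdeal.primeCompl (Fin n → A))
    (LocalizedModule.mkLinearMap q.asIdeal.primeCompl M) (Fintype.linearCombination A s) hq
  refine ⟨r, hr, fun q' hq' => ?_⟩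
  have h1 := locBij_of_bijective _ _ (h r dvd_rfl)
  have h2 : Submonoid.powers r ≤ q'.asIdeal.primeCompl := by
    rw [Submonoid.powers_le]
    exact hq'
  exact bijective_of_locBij _ _ (h1.mono h2)

theorem exists_bijective_near (P : Finset (PrimeSpectrum A))
    (hP : ∀ p ∈ P, Module.rankAtStalk M p = n) :
    ∃ (s : Fin n → M) (U : Set (PrimeSpectrum A)), IsOpen U ∧ (∀ p ∈ P, p ∈ U) ∧
      ∀ q ∈ U, Function.Bijective
        (LocalizedModule.map q.asIdeal.primeCompl (Fintype.linearCombination A s)) := by
  classical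
  obtain ⟨Q, hQdef⟩ : ∃ Q : Finset (PrimeSpectrum A), Q = P.filter (fun p => Maximal (· ∈ P) p) :=
    ⟨_, rfl⟩
  have hQP : ∀ p ∈ Q, p ∈ P := fun p hp => by
    rw [hQdef] at hp
    exact (Finset.mem_filter.mp hp).1
  have hQmax : ∀ p ∈ Q, Maximal (· ∈ P) p := fun p hp => by
    rw [hQdef] at hp
    exact (Finset.mem_filter.mp hp).2
  have hQ : ∀ p ∈ Q, ∀ p' ∈ Q, p' ≤ p → p' = p := fun p hp p' hp' hle =>
    le_antisymm hle ((hQmax p' hp').2 (hQP p hp) hle)
  obtain ⟨s, hs⟩ := exists_surjective_of_antichain (M := M) (n := n) Q hQ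
    (fun p hp => hP p (hQP p hp))
  refine ⟨s, {q | Function.Bijective
      (LocalizedModule.map q.asIdeal.primeCompl (Fintype.linearCombination A s))}, ?_, ?_,
    fun q hq => hq⟩
  · rw [isOpen_iff_forall_mem_open]
    intro q hq
    obtain ⟨r, hr, h⟩ := exists_basicOpen_bijective s q hq
    exact ⟨PrimeSpectrum.basicOpen r, fun q' hq' => h q' hq', (PrimeSpectrum.basicOpen r).2, hr⟩
  · intro p hp
    obtain ⟨p', hle, hmax⟩ := Finset.exists_le_maximal P hp
    have hp'Q : p' ∈ Q := by
      rw [hQdef]
      exact Finset.mem_filter.mpr ⟨hmax.1, hmax⟩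
    have h1 := bijective_of_surjective_of_rank p' (hP p' hmax.1) s (hs p' hp'Q)
    obtain ⟨r, hr, h⟩ := exists_basicOpen_bijective s p' h1
    exact h p (fun hrp => hr (hle hrp))

end rank

end Groth.Agent.Lib.Helper98.BasisNearPrimes
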