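import Mathlib
import Groth.Agent.S0506
import Groth.Agent.S9237
import Groth.Agent.Lib.Helper9.Hens.NoetherianHens

set_option autoImplicit false
set_option linter.style.haveILetI false
universe u

namespace Groth.Agent.Lib.Helper98.NormalizationSemilocal

open Groth.Agent.Lib.Helper9

theorem finite_maximalSpectrum_normRed (E : Type u) [CommRing E] [IsLocalRing E]
    [IsNoetherianRing E] : Finite (MaximalSpectrum (CAlg2.normRed E)) := by
  obtain ⟨S, _, _, _, _, hS⟩ := Groth.Agent.S0506.result E
  have hSN : IsNoetherianRing S := (isNoetherianRing_iff_of_isHenselization E S).mp inferInstance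
  have hfinS : (minimalPrimes S).Finite := minimalPrimes.finite_of_isNoetherianRing S
  have h1 := Groth.Agent.S9237.result E S
  have hfinE : (minimalPrimes E).Finite := minimalPrimes.finite_of_isNoetherianRing E
  unfold Brnch.numBranches at h1
  rw [if_pos hfinE] at h1
  have h2 : ENat.card (minimalPrimes S) < ⊤ := by
    have := hfinS.to_subtype
    exact ENat.card_lt_top.mpr inferInstance
  rw [h1] at h2
  exact ENat.card_lt_top.mp h2

theorem finite_maximalSpectrum_of_ringEquiv {X Y : Type*} [CommRing X] [CommRing Y] (e : X ≃+* Y)
    [Finite (MaximalSpectrum Y)] : Finite (MaximalSpectrum X) := by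
  refine Finite.of_injective (fun m : MaximalSpectrum X =>
    (⟨m.asIdeal.comap (e.symm : Y →+* X),
      Ideal.comap_isMaximal_of_surjective _ e.symm.surjective⟩ : MaximalSpectrum Y)) ?_
  intro m m' h
  have h' : m.asIdeal.comap (e.symm : Y →+* X) = m'.asIdeal.comap (e.symm : Y →+* X) :=
    congrArg MaximalSpectrum.asIdeal h
  ext x
  have := congrArg (fun I : Ideal Y => e x ∈ I) h'
  simpa using this

/-- Transport of integral closures along compatible ring isomorphisms. -/
noncomputable def integralClosureEquiv {R R' K K' : Type*} [CommRing R] [CommRing R'] [CommRing K]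
    [CommRing K'] [Algebra R K] [Algebra R' K'] (f : R ≃+* R') (g : K ≃+* K')
    (h : ∀ r, g (algebraMap R K r) = algebraMap R' K' (f r)) :
    integralClosure R K ≃+* integralClosure R' K' where
  toFun x := ⟨g x, by
    have hx : IsIntegral R (x : K) := x.2
    exact hx.map_of_comp_eq (f : R →+* R') (g : K →+* K') (RingHom.ext fun r => (h r).symm)⟩
  invFun y := ⟨g.symm y, by
    have hy : IsIntegral R' (y : K') := y.2
    refine hy.map_of_comp_eq (f.symm : R' →+* R) (g.symm : K' →+* K) (RingHom.ext fun r => ?_)
    change algebraMap R K (f.symm r) = g.symm (algebraMap R' K' r)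
    rw [RingEquiv.eq_symm_apply, h, f.apply_symm_apply]⟩
  left_inv x := Subtype.ext (g.symm_apply_apply _)
  right_inv y := Subtype.ext (g.apply_symm_apply _)
  map_mul' x y := Subtype.ext (map_mul g _ _)
  map_add' x y := Subtype.ext (map_add g _ _)

theorem finite_maximalSpectrum_integralClosure (E : Type u) [CommRing E] [IsLocalRing E]
    [IsNoetherianRing E] [IsReduced E] :
    Finite (MaximalSpectrum (integralClosure E (FractionRing E))) := by
  have := finite_maximalSpectrum_normRed E
  have hbij : Function.Bijective (Ideal.Quotient.mk (nilradical E)) := by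
    refine ⟨?_, Ideal.Quotient.mk_surjective⟩
    rw [injective_iff_map_eq_zero]
    intro x hx
    rw [Ideal.Quotient.eq_zero_iff_mem, nilradical_eq_zero, Ideal.zero_eq_bot, Ideal.mem_bot] at hx
    exact hx
  let f : E ≃+* CAlg2.red E := RingEquiv.ofBijective _ hbij
  let g : FractionRing E ≃+* FractionRing (CAlg2.red E) := IsFractionRing.ringEquivOfRingEquiv f
  have hfg : ∀ r, g (algebraMap E (FractionRing E) r) =
      algebraMap (CAlg2.red E) (FractionRing (CAlg2.red E)) (f r) := fun r =>
    IsFractionRing.ringEquivOfRingEquiv_algebraMap f r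
  exact finite_maximalSpectrum_of_ringEquiv (integralClosureEquiv f g hfg)

end Groth.Agent.Lib.Helper98.NormalizationSemilocal
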