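import Mathlib
import Groth.Prelude.Def_Brnch
import Groth.Agent.Lib.Helper38.BrnchEmb

/-! Length bookkeeping for a finite algebra `B` over a local ring `A`: comparison of
`length (B / A)` with `length (B / rad B)`, the Chinese remainder theorem for lengths, and
uniqueness of `Brnch.Emb` over a separably closed residue field (helper98). -/

set_option autoImplicit false
set_option linter.style.haveILetI false
universe u

namespace Groth.Agent.Lib.Helper98.WedgeDVR

open IsLocalRing

section Length

variable {A : Type*} [CommRing A] {M : Type*} [AddCommGroup M] [Module A M]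

theorem length_quotient_eq_add (S T : Submodule A M) (h : S ≤ T) :
    Module.length A (M ⧸ S) = Module.length A (T.map S.mkQ) + Module.length A (M ⧸ T) := by
  rw [Module.length_eq_add_of_exact (T.map S.mkQ).subtype (T.map S.mkQ).mkQ
    (Submodule.subtype_injective _) (Submodule.mkQ_surjective _) (LinearMap.exact_subtype_mkQ _)]
  congr 1
  exact (Submodule.quotientQuotientEquivQuotient S T h).length_eq

end Length

section Local

variable {A : Type*} [CommRing A] [IsLocalRing A] {B : Type*} [CommRing B] [Algebra A B]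

theorem length_quotient_maximalIdeal : Module.length A (A ⧸ maximalIdeal A) = 1 := by
  rw [Module.length_eq_one_iff]
  exact isSimpleModule_iff_quot_maximal.mpr ⟨maximalIdeal A, inferInstance, ⟨LinearEquiv.refl _ _⟩⟩

theorem length_map_range_le_one (J : Ideal B)
    (hJ : (maximalIdeal A).map (algebraMap A B) ≤ J) :
    Module.length A ((LinearMap.range (Algebra.linearMap A B) ⊔ J.restrictScalars A).map
      (J.restrictScalars A).mkQ) ≤ 1 := by
  set Js : Submodule A B := J.restrictScalars A with hJs
  let f : A →ₗ[A] (B ⧸ Js) := Js.mkQ ∘ₗ Algebra.linearMap A B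
  have hker : (maximalIdeal A : Submodule A A) ≤ LinearMap.ker f := by
    intro a ha
    rw [LinearMap.mem_ker]
    show Js.mkQ (algebraMap A B a) = 0
    rw [Submodule.mkQ_apply, Submodule.Quotient.mk_eq_zero]
    exact hJ (Ideal.mem_map_of_mem _ ha)
  let g : (A ⧸ (maximalIdeal A : Submodule A A)) →ₗ[A] (B ⧸ Js) :=
    Submodule.liftQ (maximalIdeal A : Submodule A A) f hker
  have hrange : (LinearMap.range (Algebra.linearMap A B) ⊔ Js).map Js.mkQ = LinearMap.range g := by
    rw [Submodule.map_sup, Submodule.mkQ_map_self, sup_bot_eq, Submodule.range_liftQ,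
      LinearMap.range_comp]
  rw [hrange]
  calc Module.length A (LinearMap.range g)
      ≤ Module.length A (A ⧸ (maximalIdeal A : Submodule A A)) :=
        Module.length_le_of_surjective g.rangeRestrict g.surjective_rangeRestrict
    _ = 1 := length_quotient_maximalIdeal

/-- If `length (B/J) ≥ length (B/A) + 1` for an ideal `J ⊇ m_A B`, with `length (B/A)` finite,
then `J` is contained in the image of `A`. -/
theorem le_range_of_length_le (J : Ideal B)
    (hJ : (maximalIdeal A).map (algebraMap A B) ≤ J)
    (hfin : Module.length A (B ⧸ LinearMap.range (Algebra.linearMap A B)) ≠ ⊤)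
    (hle : Module.length A (B ⧸ LinearMap.range (Algebra.linearMap A B)) + 1 ≤
      Module.length A (B ⧸ J.restrictScalars A)) :
    J.restrictScalars A ≤ LinearMap.range (Algebra.linearMap A B) := by
  set P : Submodule A B := LinearMap.range (Algebra.linearMap A B) with hP
  set Js : Submodule A B := J.restrictScalars A with hJs
  have h1 := length_quotient_eq_add Js (P ⊔ Js) le_sup_right
  have h2 := length_quotient_eq_add P (P ⊔ Js) le_sup_left
  have h3 := length_map_range_le_one J hJ
  rw [← hJs, ← hP] at h3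
  have hq : Module.length A (B ⧸ (P ⊔ Js)) ≠ ⊤ := by
    intro h
    rw [h, add_top] at h2
    exact hfin h2
  have hn' : Module.length A ((P ⊔ Js).map P.mkQ) ≠ ⊤ := by
    intro h
    rw [h, top_add] at h2
    exact hfin h2
  obtain ⟨q, hq'⟩ := ENat.ne_top_iff_exists.mp hq
  obtain ⟨n', hn''⟩ := ENat.ne_top_iff_exists.mp hn'
  have hzero : Module.length A ((P ⊔ Js).map P.mkQ) = 0 := by
    have h4 : Module.length A (B ⧸ P) + 1 ≤ 1 + Module.length A (B ⧸ (P ⊔ Js)) := by
      calc Module.length A (B ⧸ P) + 1 ≤ Module.length A (B ⧸ Js) := hle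
        _ = _ := h1
        _ ≤ _ := by gcongr
    rw [h2, ← hq', ← hn''] at h4
    rw [← hn'']
    have h5 : n' + q + 1 ≤ 1 + q := by exact_mod_cast h4
    have : n' = 0 := by omega
    rw [this]; rfl
  rw [Module.length_eq_zero_iff] at hzero
  have hbot : (P ⊔ Js).map P.mkQ = ⊥ := by
    rw [eq_bot_iff]
    intro x hx
    have := hzero.elim ⟨x, hx⟩ 0
    rw [Submodule.mem_bot]
    exact congrArg Subtype.val this
  rw [← LinearMap.le_ker_iff_map, Submodule.ker_mkQ] at hbot
  exact le_trans le_sup_right hbot

theorem length_quotient_le (J : Ideal B)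
    (hJ : (maximalIdeal A).map (algebraMap A B) ≤ J) :
    Module.length A (B ⧸ J.restrictScalars A) ≤
      Module.length A (B ⧸ LinearMap.range (Algebra.linearMap A B)) + 1 := by
  set P : Submodule A B := LinearMap.range (Algebra.linearMap A B) with hP
  set Js : Submodule A B := J.restrictScalars A with hJs
  have h1 := length_quotient_eq_add Js (P ⊔ Js) le_sup_right
  have h2 := length_quotient_eq_add P (P ⊔ Js) le_sup_left
  have h3 := length_map_range_le_one J hJ
  rw [← hJs, ← hP] at h3
  rw [h1, h2, add_comm _ 1]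
  calc _ ≤ 1 + Module.length A (B ⧸ (P ⊔ Js)) := by gcongr
    _ ≤ _ := by gcongr; exact le_add_self

end Local

section CRT

variable {A : Type*} [CommRing A] {B : Type*} [CommRing B] [Algebra A B]

theorem pairwise_isCoprime_maximalSpectrum :
    Pairwise (Function.onFun IsCoprime fun m' : MaximalSpectrum B => m'.asIdeal) := by
  intro m1 m2 h
  show IsCoprime m1.asIdeal m2.asIdeal
  rw [Ideal.isCoprime_iff_sup_eq]
  exact Ideal.IsMaximal.coprime_of_ne m1.isMaximal m2.isMaximal
    (fun h' => h (MaximalSpectrum.ext h'))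

/-- The Chinese remainder theorem as an `A`-linear equivalence. -/
noncomputable def crtLinearEquiv [Fintype (MaximalSpectrum B)] :
    (B ⧸ (⨅ m' : MaximalSpectrum B, m'.asIdeal)) ≃ₗ[A]
      ((m' : MaximalSpectrum B) → B ⧸ m'.asIdeal) :=
  { (Ideal.quotientInfRingEquivPiQuotient (fun m' : MaximalSpectrum B => m'.asIdeal)
      pairwise_isCoprime_maximalSpectrum) with
    map_smul' := by
      intro a x
      obtain ⟨b, rfl⟩ := Ideal.Quotient.mk_surjective x
      funext m'
      show Ideal.quotientInfToPiQuotient (fun m' : MaximalSpectrum B => m'.asIdeal)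
          (Ideal.Quotient.mk _ (a • b)) m' =
        a • Ideal.quotientInfToPiQuotient (fun m' : MaximalSpectrum B => m'.asIdeal)
          (Ideal.Quotient.mk _ b) m'
      rw [Ideal.quotientInfToPiQuotient_mk', Ideal.quotientInfToPiQuotient_mk']
      rfl }

theorem length_quotient_iInf [Fintype (MaximalSpectrum B)] :
    Module.length A (B ⧸ (⨅ m' : MaximalSpectrum B, m'.asIdeal).restrictScalars A) =
      ∑ m' : MaximalSpectrum B, Module.length A (B ⧸ m'.asIdeal) := by
  rw [(Submodule.Quotient.restrictScalarsEquiv A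
    (⨅ m' : MaximalSpectrum B, m'.asIdeal)).length_eq, (crtLinearEquiv (A := A) (B := B)).length_eq,
    Module.length_pi_of_fintype]

theorem surjective_of_length_eq_one (m' : Ideal B) [m'.IsMaximal]
    (h : Module.length A (B ⧸ m') = 1) :
    Function.Surjective ((Ideal.Quotient.mk m').comp (algebraMap A B)) := by
  rw [Module.length_eq_one_iff] at h
  have h1 := eq_bot_or_eq_top (LinearMap.range (Algebra.linearMap A (B ⧸ m')))
  rcases h1 with h1 | h1
  · exfalso
    have h2 : (1 : B ⧸ m') ∈ LinearMap.range (Algebra.linearMap A (B ⧸ m')) := ⟨1, by simp⟩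
    rw [h1, Submodule.mem_bot] at h2
    exact one_ne_zero h2
  · intro y
    have h2 : y ∈ LinearMap.range (Algebra.linearMap A (B ⧸ m')) := by rw [h1]; trivial
    obtain ⟨a, ha⟩ := h2
    exact ⟨a, ha⟩

theorem forall_eq_one_of_sum_le {ι : Type*} [Fintype ι] (x : ι → ℕ∞) (h1 : ∀ i, 1 ≤ x i)
    (hsum : ∑ i, x i ≤ Fintype.card ι) : ∀ i, x i = 1 := by
  classical
  have hfin : ∀ i, x i ≠ ⊤ := by
    intro i h
    have h2 : x i ≤ ∑ j, x j := Finset.single_le_sum (fun _ _ => by simp) (Finset.mem_univ i)
    rw [h, top_le_iff] at h2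
    rw [h2, top_le_iff] at hsum
    exact ENat.natCast_ne_top _ hsum
  choose y hy using fun i => ENat.ne_top_iff_exists.mp (hfin i)
  have hy1 : ∀ i, 1 ≤ y i := by
    intro i
    have := h1 i
    rw [← hy i] at this
    exact_mod_cast this
  have hsum' : ∑ i, y i ≤ Fintype.card ι := by
    have h2 : ∑ i, x i = ((∑ i, y i : ℕ) : ℕ∞) := by
      rw [Nat.cast_sum]
      exact Finset.sum_congr rfl fun i _ => (hy i).symm
    rw [h2] at hsum
    exact_mod_cast hsum
  have hz : ∑ i, (y i - 1) = 0 := by
    have h3 : ∑ i, y i = ∑ i, (y i - 1) + Fintype.card ι := by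
      rw [Fintype.card, Finset.card_eq_sum_ones, ← Finset.sum_add_distrib]
      exact Finset.sum_congr rfl fun i _ => (Nat.sub_add_cancel (hy1 i)).symm
    omega
  intro i
  have h4 := (Finset.sum_eq_zero_iff.mp hz) i (Finset.mem_univ i)
  have h5 : y i = 1 := by have := hy1 i; omega
  rw [← hy i, h5]
  rfl

end CRT

section Emb

variable (R : Type u) [CommRing R] [IsLocalRing R]

theorem toResidue_eq_zero (m' : MaximalSpectrum (CAlg2.normRed R)) (a : R)
    (ha : a ∈ maximalIdeal R) : Brnch.toResidue R m' a = 0 := by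
  haveI := m'.isMaximal
  have h1 : (m'.asIdeal.comap (algebraMap (CAlg2.red R) (CAlg2.normRed R))).IsMaximal :=
    Ideal.isMaximal_comap_of_isIntegral_of_isMaximal m'.asIdeal
  have h2 : ((m'.asIdeal.comap (algebraMap (CAlg2.red R) (CAlg2.normRed R))).comap
      (Ideal.Quotient.mk (nilradical R))).IsMaximal :=
    Ideal.comap_isMaximal_of_surjective _ Ideal.Quotient.mk_surjective
  have h3 := IsLocalRing.eq_maximalIdeal h2
  rw [← h3] at ha
  rw [Ideal.mem_comap, Ideal.mem_comap] at ha
  show Ideal.Quotient.mk m'.asIdeal _ = 0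
  rw [Ideal.Quotient.eq_zero_iff_mem]
  exact ha

theorem isLocalHom_toResidue (m' : MaximalSpectrum (CAlg2.normRed R)) :
    IsLocalHom (Brnch.toResidue R m') := by
  haveI := m'.isMaximal
  haveI : Nontrivial (CAlg2.normRed R ⧸ m'.asIdeal) :=
    Ideal.Quotient.nontrivial_iff.mpr m'.isMaximal.ne_top
  refine ⟨fun a ha => ?_⟩
  by_contra hna
  have h0 := toResidue_eq_zero R m' a ((IsLocalRing.mem_maximalIdeal a).mpr hna)
  rw [h0] at ha
  exact not_isUnit_zero ha

theorem subsingleton_emb [IsSepClosed (IsLocalRing.ResidueField R)]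
    (m' : MaximalSpectrum (CAlg2.normRed R)) : Subsingleton (Brnch.Emb R m') := by
  haveI := m'.isMaximal
  letI : Field (CAlg2.normRed R ⧸ m'.asIdeal) := Ideal.Quotient.field m'.asIdeal
  haveI := isLocalHom_toResidue R m'
  letI : Algebra (IsLocalRing.ResidueField R) (CAlg2.normRed R ⧸ m'.asIdeal) :=
    (IsLocalRing.ResidueField.lift (Brnch.toResidue R m')).toAlgebra
  have hΦ : ∀ r : R, (RingEquiv.refl (CAlg2.normRed R ⧸ m'.asIdeal)) (Brnch.toResidue R m' r) =
      algebraMap (IsLocalRing.ResidueField R) (CAlg2.normRed R ⧸ m'.asIdeal)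
        (IsLocalRing.residue R r) := by
    intro r
    exact (IsLocalRing.ResidueField.lift_residue_apply (Brnch.toResidue R m') r).symm
  haveI := Groth.Agent.Lib.Helper38.BrnchEmb.isAlgebraic m' (RingEquiv.refl _) hΦ
  exact (Groth.Agent.Lib.Helper38.BrnchEmb.embEquiv m' (RingEquiv.refl _) hΦ).subsingleton

end Emb

end Groth.Agent.Lib.Helper98.WedgeDVR
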