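import Mathlib
import Groth.Prelude.Def_Brnch
import Groth.Agent.Lib.Helper38.BrnchEmb
import Groth.Agent.Lib.Helper98.WedgeDVR
import Groth.Agent.Lib.Helper98.NormalizationSemilocalA

/-! Counting branches versus geometric branches: `numGeomBranches A = numBranches A` iff every
residue field of the normalization is purely inseparable over the residue field of `A`
(helper98). -/

set_option autoImplicit false
set_option linter.style.haveILetI false
universe u

namespace Groth.Agent.Lib.Helper98.BranchCount

open IsLocalRing Groth.Agent.Lib.Helper38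

theorem nonempty_algHom_closure (κ L : Type*) [Field κ] [Field L] [Algebra κ L]
    [Algebra.IsAlgebraic κ L] : Nonempty (L →ₐ[κ] AlgebraicClosure κ) := ⟨IsAlgClosed.lift⟩

section Emb

variable (R : Type u) [CommRing R] [IsLocalRing R]

/-- `Brnch.Emb` is never empty. -/
theorem nonempty_emb (m' : MaximalSpectrum (CAlg2.normRed R)) : Nonempty (Brnch.Emb R m') := by
  haveI := m'.isMaximal
  letI : Field (CAlg2.normRed R ⧸ m'.asIdeal) := Ideal.Quotient.field m'.asIdeal
  haveI := WedgeDVR.isLocalHom_toResidue R m'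
  letI : Algebra (IsLocalRing.ResidueField R) (CAlg2.normRed R ⧸ m'.asIdeal) :=
    (IsLocalRing.ResidueField.lift (Brnch.toResidue R m')).toAlgebra
  have hΦ : ∀ r : R, (RingEquiv.refl (CAlg2.normRed R ⧸ m'.asIdeal)) (Brnch.toResidue R m' r) =
      algebraMap (IsLocalRing.ResidueField R) (CAlg2.normRed R ⧸ m'.asIdeal)
        (IsLocalRing.residue R r) := by
    intro r
    exact (IsLocalRing.ResidueField.lift_residue_apply (Brnch.toResidue R m') r).symm
  haveI := BrnchEmb.isAlgebraic m' (RingEquiv.refl _) hΦ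
  obtain ⟨σ⟩ := nonempty_algHom_closure (IsLocalRing.ResidueField R)
    (CAlg2.normRed R ⧸ m'.asIdeal)
  exact ⟨(BrnchEmb.embEquiv m' (RingEquiv.refl _) hΦ).symm σ⟩

/-- The count of embeddings is one iff the residue field extension is purely inseparable, for any
model `L` of the residue field. -/
theorem card_emb_eq_one_iff (m' : MaximalSpectrum (CAlg2.normRed R))
    {L : Type u} [Field L] [Algebra (IsLocalRing.ResidueField R) L]
    (Φ : (CAlg2.normRed R ⧸ m'.asIdeal) ≃+* L)
    (hΦ : ∀ r : R, Φ (Brnch.toResidue R m' r) =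
      algebraMap (IsLocalRing.ResidueField R) L (IsLocalRing.residue R r)) :
    ENat.card (Brnch.Emb R m') = 1 ↔ IsPurelyInseparable (IsLocalRing.ResidueField R) L := by
  haveI := BrnchEmb.isAlgebraic m' Φ hΦ
  rw [BrnchEmb.card_emb_eq m' Φ hΦ, ENat.card_eq_one_iff_unique,
    unique_iff_subsingleton_and_nonempty, isPurelyInseparable_iff_subsingleton_emb]
  exact and_iff_left inferInstance

end Emb

section Count

variable (A : Type u) [CommRing A] [IsLocalRing A] [IsNoetherianRing A]

theorem numGeomBranches_eq_numBranches_iff :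
    Brnch.numGeomBranches A = Brnch.numBranches A ↔
      ∀ m' : MaximalSpectrum (CAlg2.normRed A), ENat.card (Brnch.Emb A m') = 1 := by
  classical
  have hfinmin : (minimalPrimes A).Finite := minimalPrimes.finite_of_isNoetherianRing A
  haveI : Finite (MaximalSpectrum (CAlg2.normRed A)) :=
    NormalizationSemilocal.finite_maximalSpectrum_normRed A
  haveI : Fintype (MaximalSpectrum (CAlg2.normRed A)) := Fintype.ofFinite _
  unfold Brnch.numGeomBranches Brnch.numBranches
  rw [if_pos hfinmin, if_pos hfinmin, ENat_card_sigma, tsum_fintype, ENat.card_eq_coe_fintype_card]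
  constructor
  · intro h
    refine WedgeDVR.forall_eq_one_of_sum_le _ (fun m' => ?_) h.le
    exact (ENat.one_le_card_iff_nonempty _).mpr (nonempty_emb A m')
  · intro h
    rw [Finset.sum_congr rfl (fun m' _ => h m')]
    simp only [Finset.sum_const, Finset.card_univ, nsmul_eq_mul, mul_one]

end Count

section Transfer

variable (A : Type u) [CommRing A] [IsLocalRing A]

/-- Elementwise pure inseparability of `B/M` over the image of `A` versus the count of
`Brnch.Emb`, for a ring `B` identified with `CAlg2.normRed A`. -/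
theorem pow_mem_range_iff_card_emb {B : Type u} [CommRing B] (ι : A →+* B)
    (e : B ≃+* CAlg2.normRed A)
    (he : ∀ a, e (ι a) = algebraMap (CAlg2.red A) (CAlg2.normRed A)
      (Ideal.Quotient.mk (nilradical A) a))
    (M : Ideal B) [hM : M.IsMaximal]
    (hM' : (M.map (e : B →+* CAlg2.normRed A)).IsMaximal) :
    (∀ x : B ⧸ M, ∃ n : ℕ, x ^ (ringExpChar (B ⧸ M)) ^ n ∈
      ((Ideal.Quotient.mk M).comp ι).range) ↔
    ENat.card (Brnch.Emb A ⟨M.map (e : B →+* CAlg2.normRed A), hM'⟩) = 1 := by
  letI : Field (B ⧸ M) := Ideal.Quotient.field M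
  set m' : MaximalSpectrum (CAlg2.normRed A) := ⟨M.map (e : B →+* CAlg2.normRed A), hM'⟩ with hm'
  let Ψ : (B ⧸ M) ≃+* (CAlg2.normRed A ⧸ m'.asIdeal) := Ideal.quotientEquiv M m'.asIdeal e rfl
  have hΨ : ∀ a : A, Ψ ((Ideal.Quotient.mk M) (ι a)) = Brnch.toResidue A m' a := by
    intro a
    show Ideal.Quotient.mk m'.asIdeal (e (ι a)) = _
    rw [he]
    rfl
  have hφ : ∀ a : A, ((Ideal.Quotient.mk M).comp ι) a = Ψ.symm (Brnch.toResidue A m' a) := by
    intro a
    rw [← hΨ a, RingEquiv.symm_apply_apply]
    rfl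
  haveI : IsLocalHom ((Ideal.Quotient.mk M).comp ι) := by
    refine ⟨fun a ha => ?_⟩
    by_contra hna
    have h0 := WedgeDVR.toResidue_eq_zero A m' a ((IsLocalRing.mem_maximalIdeal a).mpr hna)
    rw [hφ a, h0, map_zero] at ha
    exact not_isUnit_zero ha
  letI : Algebra (IsLocalRing.ResidueField A) (B ⧸ M) :=
    (IsLocalRing.ResidueField.lift ((Ideal.Quotient.mk M).comp ι)).toAlgebra
  have halg : ∀ a : A, algebraMap (IsLocalRing.ResidueField A) (B ⧸ M) (IsLocalRing.residue A a) =
      ((Ideal.Quotient.mk M).comp ι) a := fun a =>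
    IsLocalRing.ResidueField.lift_residue_apply _ a
  have hrange : ((Ideal.Quotient.mk M).comp ι).range =
      (algebraMap (IsLocalRing.ResidueField A) (B ⧸ M)).range := by
    ext y
    constructor
    · rintro ⟨a, rfl⟩
      exact ⟨IsLocalRing.residue A a, halg a⟩
    · rintro ⟨z, rfl⟩
      obtain ⟨a, rfl⟩ := IsLocalRing.residue_surjective z
      exact ⟨a, (halg a).symm⟩
  haveI : ExpChar (B ⧸ M) (ringExpChar (B ⧸ M)) := ringExpChar.expChar _
  haveI : ExpChar (IsLocalRing.ResidueField A) (ringExpChar (B ⧸ M)) :=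
    RingHom.expChar (algebraMap (IsLocalRing.ResidueField A) (B ⧸ M))
      (algebraMap (IsLocalRing.ResidueField A) (B ⧸ M)).injective _
  rw [hrange, ← isPurelyInseparable_iff_pow_mem (IsLocalRing.ResidueField A) (ringExpChar (B ⧸ M))]
  have hΦ : ∀ r : A, Ψ.symm (Brnch.toResidue A m' r) =
      algebraMap (IsLocalRing.ResidueField A) (B ⧸ M) (IsLocalRing.residue A r) := by
    intro r
    rw [halg, hφ]
  exact (card_emb_eq_one_iff A m' Ψ.symm hΦ).symm

end Transfer

end Groth.Agent.Lib.Helper98.BranchCount
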