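import Mathlib

/-!
# Lengths of cokernels (helper98)

* `length_coker_comp`: for injective `φ`, `ψ`: `ℓ(coker (ψ ∘ φ)) = ℓ(coker ψ) + ℓ(coker φ)`.
* `length_coker_prodMap_id`: `ℓ(coker (id × φ)) = ℓ(coker φ)`.
* `length_coker_equiv_comp`: composing with a linear equivalence does not change the cokernel length.
* `crt_pair_injective`, `length_coker_crt_pair`: the map `R/(ab) → R/a × R/b`.
-/

set_option autoImplicit false
universe u

namespace Groth.Agent.Lib.Helper98

section general

variable {R : Type*} [CommRing R] {M N P X : Type*} [AddCommGroup M] [AddCommGroup N]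
  [AddCommGroup P] [AddCommGroup X] [Module R M] [Module R N] [Module R P] [Module R X]

theorem length_coker_comp (φ : M →ₗ[R] N) (ψ : N →ₗ[R] P) (hψ : Function.Injective ψ) :
    Module.length R (P ⧸ LinearMap.range (ψ ∘ₗ φ)) =
      Module.length R (P ⧸ LinearMap.range ψ) + Module.length R (N ⧸ LinearMap.range φ) := by
  -- N/range φ → P/range(ψφ) → P/range ψ
  have h1 : LinearMap.range φ ≤ (LinearMap.range (ψ ∘ₗ φ)).comap ψ := by
    rintro _ ⟨m, rfl⟩
    exact ⟨m, rfl⟩
  let α : (N ⧸ LinearMap.range φ) →ₗ[R] (P ⧸ LinearMap.range (ψ ∘ₗ φ)) :=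
    Submodule.mapQ _ _ ψ h1
  have h2 : LinearMap.range (ψ ∘ₗ φ) ≤ (LinearMap.range ψ).comap LinearMap.id := by
    rintro _ ⟨m, rfl⟩
    exact ⟨φ m, rfl⟩
  let β : (P ⧸ LinearMap.range (ψ ∘ₗ φ)) →ₗ[R] (P ⧸ LinearMap.range ψ) :=
    Submodule.mapQ _ _ LinearMap.id h2
  have hα : Function.Injective α := by
    rw [← LinearMap.ker_eq_bot, LinearMap.ker_eq_bot']
    intro x hx
    obtain ⟨x, rfl⟩ := Submodule.Quotient.mk_surjective _ x
    have : α (Submodule.Quotient.mk x) = Submodule.Quotient.mk (ψ x) := rfl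
    rw [this, Submodule.Quotient.mk_eq_zero] at hx
    obtain ⟨m, hm⟩ := hx
    rw [Submodule.Quotient.mk_eq_zero]
    exact ⟨m, hψ hm⟩
  have hβ : Function.Surjective β := by
    intro y
    obtain ⟨y, rfl⟩ := Submodule.Quotient.mk_surjective _ y
    exact ⟨Submodule.Quotient.mk y, rfl⟩
  have hex : Function.Exact α β := by
    intro y
    constructor
    · intro hy
      obtain ⟨y, rfl⟩ := Submodule.Quotient.mk_surjective _ y
      have : β (Submodule.Quotient.mk y) = Submodule.Quotient.mk y := rfl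
      rw [this, Submodule.Quotient.mk_eq_zero] at hy
      obtain ⟨n, rfl⟩ := hy
      exact ⟨Submodule.Quotient.mk n, rfl⟩
    · rintro ⟨x, rfl⟩
      obtain ⟨x, rfl⟩ := Submodule.Quotient.mk_surjective _ x
      have : β (α (Submodule.Quotient.mk x)) = Submodule.Quotient.mk (ψ x) := rfl
      rw [this, Submodule.Quotient.mk_eq_zero]
      exact ⟨x, rfl⟩
  rw [Module.length_eq_add_of_exact α β hα hβ hex, add_comm]

theorem length_coker_equiv_comp (φ : M →ₗ[R] N) (e : N ≃ₗ[R] P) :
    Module.length R (P ⧸ LinearMap.range (e.toLinearMap ∘ₗ φ)) =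
      Module.length R (N ⧸ LinearMap.range φ) := by
  rw [length_coker_comp φ e.toLinearMap e.injective]
  have : Subsingleton (P ⧸ LinearMap.range e.toLinearMap) := by
    rw [Submodule.Quotient.subsingleton_iff, LinearMap.range_eq_top]
    exact e.surjective
  rw [Module.length_eq_zero, zero_add]

theorem length_coker_prodMap_id (φ : M →ₗ[R] N) :
    Module.length R ((X × N) ⧸ LinearMap.range (LinearMap.prodMap (LinearMap.id : X →ₗ[R] X) φ)) =
      Module.length R (N ⧸ LinearMap.range φ) := by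
  let δ : (X × N) →ₗ[R] (N ⧸ LinearMap.range φ) :=
    (Submodule.mkQ _) ∘ₗ (LinearMap.snd R X N)
  have hδ : Function.Surjective δ := by
    intro y
    obtain ⟨y, rfl⟩ := Submodule.Quotient.mk_surjective _ y
    exact ⟨(0, y), rfl⟩
  have hker : LinearMap.ker δ = LinearMap.range (LinearMap.prodMap (LinearMap.id : X →ₗ[R] X) φ) := by
    ext ⟨x, y⟩
    simp only [LinearMap.mem_ker, LinearMap.mem_range, δ, LinearMap.comp_apply,
      LinearMap.snd_apply, Submodule.mkQ_apply, Submodule.Quotient.mk_eq_zero, Prod.exists,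
      LinearMap.prodMap_apply, LinearMap.id_apply, Prod.mk.injEq]
    constructor
    · rintro ⟨m, rfl⟩
      exact ⟨x, m, rfl, rfl⟩
    · rintro ⟨_, m, -, rfl⟩
      exact ⟨m, rfl⟩
  rw [← hker]
  exact (LinearMap.quotKerEquivOfSurjective δ hδ).length_eq

end general

section crt

variable {R : Type u} [CommRing R] [IsDomain R]

/-- The map `R/(ab) → R/a × R/b`. -/
noncomputable def crtPair (a b : R) :
    (R ⧸ Ideal.span ({a * b} : Set R)) →ₗ[R]
      (R ⧸ Ideal.span ({a} : Set R)) × (R ⧸ Ideal.span ({b} : Set R)) :=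
  LinearMap.prod
    (Submodule.mapQ _ _ LinearMap.id
      (Ideal.span_singleton_le_span_singleton.mpr (dvd_mul_right a b)))
    (Submodule.mapQ _ _ LinearMap.id
      (Ideal.span_singleton_le_span_singleton.mpr (dvd_mul_left b a)))

theorem crtPair_mk (a b x : R) :
    crtPair a b (Submodule.Quotient.mk x) = (Submodule.Quotient.mk x, Submodule.Quotient.mk x) :=
  rfl

theorem crtPair_injective (a b : R) (ha : a ≠ 0) (hab : ∀ c, a ∣ c * b → a ∣ c) :
    Function.Injective (crtPair a b) := by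
  rw [← LinearMap.ker_eq_bot, LinearMap.ker_eq_bot']
  intro x hx
  obtain ⟨x, rfl⟩ := Submodule.Quotient.mk_surjective _ x
  rw [crtPair_mk, Prod.mk_eq_zero, Submodule.Quotient.mk_eq_zero, Submodule.Quotient.mk_eq_zero,
    Ideal.mem_span_singleton, Ideal.mem_span_singleton] at hx
  obtain ⟨⟨c, rfl⟩, ⟨d, hd⟩⟩ := hx
  -- a * c = b * d  ⇒ a ∣ d * b ⇒ a ∣ d
  have h1 : a ∣ d * b := ⟨c, by rw [mul_comm d b, ← hd]⟩
  obtain ⟨d', rfl⟩ := hab d h1
  rw [Submodule.Quotient.mk_eq_zero, Ideal.mem_span_singleton]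
  have : c = b * d' := by
    apply mul_left_cancel₀ ha
    rw [hd]; ring
  exact ⟨d', by rw [this]; ring⟩

theorem length_coker_crtPair (a b : R) :
    Module.length R (((R ⧸ Ideal.span ({a} : Set R)) × (R ⧸ Ideal.span ({b} : Set R))) ⧸
        LinearMap.range (crtPair a b)) =
      Module.length R (R ⧸ Ideal.span ({a, b} : Set R)) := by
  have ha : Ideal.span ({a} : Set R) ≤ Ideal.span ({a, b} : Set R) :=
    Ideal.span_mono (by simp)
  have hb : Ideal.span ({b} : Set R) ≤ Ideal.span ({a, b} : Set R) :=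
    Ideal.span_mono (by simp)
  let δ : ((R ⧸ Ideal.span ({a} : Set R)) × (R ⧸ Ideal.span ({b} : Set R))) →ₗ[R]
      (R ⧸ Ideal.span ({a, b} : Set R)) :=
    LinearMap.coprod (Submodule.mapQ _ _ LinearMap.id ha) (-(Submodule.mapQ _ _ LinearMap.id hb))
  have hδmk : ∀ x y : R, δ (Submodule.Quotient.mk x, Submodule.Quotient.mk y) =
      Submodule.Quotient.mk (x - y) := by
    intro x y
    simp only [δ, LinearMap.coprod_apply, LinearMap.neg_apply, Submodule.mapQ_apply,
      LinearMap.id_apply, sub_eq_add_neg]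
    rfl
  have hδ : Function.Surjective δ := by
    intro y
    obtain ⟨y, rfl⟩ := Submodule.Quotient.mk_surjective _ y
    exact ⟨(Submodule.Quotient.mk y, Submodule.Quotient.mk 0), by rw [hδmk, sub_zero]⟩
  have hker : LinearMap.ker δ = LinearMap.range (crtPair a b) := by
    ext ⟨x, y⟩
    obtain ⟨x, rfl⟩ := Submodule.Quotient.mk_surjective _ x
    obtain ⟨y, rfl⟩ := Submodule.Quotient.mk_surjective _ y
    rw [LinearMap.mem_ker, hδmk, Submodule.Quotient.mk_eq_zero, Ideal.mem_span_pair,
      LinearMap.mem_range]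
    constructor
    · rintro ⟨u, v, huv⟩
      refine ⟨Submodule.Quotient.mk (x - u * a), ?_⟩
      rw [crtPair_mk, Prod.mk.injEq, Submodule.Quotient.eq, Submodule.Quotient.eq,
        Ideal.mem_span_singleton, Ideal.mem_span_singleton]
      refine ⟨⟨-u, by ring⟩, ⟨v, ?_⟩⟩
      have : x - u * a - y = v * b := by linear_combination -huv
      rw [this]; ring
    · rintro ⟨z, hz⟩
      obtain ⟨z, rfl⟩ := Submodule.Quotient.mk_surjective _ z
      rw [crtPair_mk, Prod.mk.injEq, Submodule.Quotient.eq, Submodule.Quotient.eq,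
        Ideal.mem_span_singleton, Ideal.mem_span_singleton] at hz
      obtain ⟨⟨u, hu⟩, ⟨v, hv⟩⟩ := hz
      refine ⟨-u, v, ?_⟩
      have : x - y = (z - y) - (z - x) := by ring
      rw [this, hu, hv]; ring
  rw [← hker]
  exact (LinearMap.quotKerEquivOfSurjective δ hδ).length_eq

end crt

end Groth.Agent.Lib.Helper98
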