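import Mathlib
import Groth.Agent.Lib.Helper85.RegularLocal

/-!
# Embedding dimension of a quotient of a local ring (helper98)

For a Noetherian local ring `A` and `x₁,…,x_r ∈ 𝔪`, `J = (x)`:
`embdim A = embdim (A/J) + dim_k span(x̄ᵢ)` where `x̄ᵢ ∈ 𝔪/𝔪²`.
-/

set_option autoImplicit false
universe u

namespace Groth.Agent.Lib.Helper98

open IsLocalRing

section

variable {A : Type u} [CommRing A] [IsLocalRing A] [IsNoetherianRing A]

theorem length_cotangentSpace_eq_spanFinrank :
    Module.length A (CotangentSpace A) = ((maximalIdeal A).spanFinrank : ℕ∞) := by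
  rw [Module.length_eq_of_surjective (S := A) (R := ResidueField A) (M := CotangentSpace A)
    IsLocalRing.residue_surjective, Module.length_eq_finrank,
    spanFinrank_maximalIdeal_eq_finrank_cotangentSpace]

variable {r : ℕ} (x : Fin r → maximalIdeal A)

theorem span_range_le_maximalIdeal :
    Ideal.span (Set.range fun i => (x i : A)) ≤ maximalIdeal A := by
  rw [Ideal.span_le]
  rintro _ ⟨i, rfl⟩
  exact (x i).2

theorem span_range_ne_top : Ideal.span (Set.range fun i => (x i : A)) ≠ ⊤ := by
  intro h
  have := span_range_le_maximalIdeal x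
  rw [h, top_le_iff] at this
  exact Ideal.IsPrime.ne_top' this

theorem spanFinrank_eq_add_finrank_span (J : Ideal A)
    (hJ : J = Ideal.span (Set.range fun i => (x i : A))) [IsLocalRing (A ⧸ J)] :
    (maximalIdeal A).spanFinrank =
      (maximalIdeal (A ⧸ J)).spanFinrank +
        (Set.range fun i => (maximalIdeal A).toCotangent (x i)).finrank (ResidueField A) := by
  have hJm : J ≤ maximalIdeal A := hJ ▸ span_range_le_maximalIdeal x
  have hsurj : Function.Surjective (algebraMap A (A ⧸ J)) := Ideal.Quotient.mk_surjective
  have hker : RingHom.ker (algebraMap A (A ⧸ J)) = J := by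
    rw [Ideal.Quotient.algebraMap_eq, Ideal.mk_ker]
  have hcomap : (maximalIdeal (A ⧸ J)).comap (algebraMap A (A ⧸ J)) =
      RingHom.ker (algebraMap A (A ⧸ J)) ⊔ maximalIdeal A := by
    rw [hker, sup_eq_right.mpr hJm]
    have hloc : IsLocalHom (algebraMap A (A ⧸ J)) :=
      IsLocalHom.of_surjective _ hsurj
    exact ((IsLocalRing.local_hom_TFAE (algebraMap A (A ⧸ J))).out 0 4).mp hloc
  set φ := Ideal.mapCotangent (maximalIdeal A) (maximalIdeal (A ⧸ J)) (Algebra.ofId A (A ⧸ J))
    (le_of_le_of_eq le_sup_right hcomap.symm) with hφ
  have hφsurj : Function.Surjective φ := Ideal.mapCotangent_surjective_of_comap_eq hsurj hcomap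
  have hφker : LinearMap.ker φ = (Submodule.comap (maximalIdeal A).subtype
      ((RingHom.ker (algebraMap A (A ⧸ J))) ⊓ maximalIdeal A)).map (maximalIdeal A).toCotangent :=
    Ideal.mapCotangent_ker_of_surjective hsurj hcomap
  -- the kernel is the span of the classes
  have hkerspan : LinearMap.ker φ =
      Submodule.span A (Set.range fun i => (maximalIdeal A).toCotangent (x i)) := by
    rw [hφker, hker, inf_eq_left.mpr hJm]
    have h1 : Submodule.comap (maximalIdeal A).subtype J = Submodule.span A (Set.range x) := by
      apply Submodule.map_injective_of_injective (maximalIdeal A).injective_subtype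
      rw [Submodule.map_comap_eq, Submodule.map_span, ← Set.range_comp]
      rw [Submodule.range_subtype, inf_eq_right.mpr hJm, hJ]
      rfl
    rw [h1, Submodule.map_span, ← Set.range_comp]
    rfl
  have hlen := Module.length_eq_add_of_exact (LinearMap.ker φ).subtype φ
    (Submodule.injective_subtype _) hφsurj (LinearMap.exact_subtype_ker_map φ)
  rw [length_cotangentSpace_eq_spanFinrank] at hlen
  have hlenQ : Module.length A (maximalIdeal (A ⧸ J)).Cotangent =
      ((maximalIdeal (A ⧸ J)).spanFinrank : ℕ∞) := by
    haveI : IsNoetherianRing (A ⧸ J) := inferInstance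
    rw [Module.length_eq_of_surjective (S := A) (R := A ⧸ J) hsurj]
    exact length_cotangentSpace_eq_spanFinrank
  have hlenK : Module.length A (LinearMap.ker φ) =
      ((Set.range fun i => (maximalIdeal A).toCotangent (x i)).finrank (ResidueField A) : ℕ∞) := by
    rw [hkerspan]
    have h2 : Submodule.span A (Set.range fun i => (maximalIdeal A).toCotangent (x i)) =
        (Submodule.span (ResidueField A)
          (Set.range fun i => (maximalIdeal A).toCotangent (x i))).restrictScalars A :=
      (Submodule.restrictScalars_span A (ResidueField A) IsLocalRing.residue_surjective _).symm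
    rw [h2]
    change Module.length A ↥(Submodule.span (ResidueField A)
      (Set.range fun i => (maximalIdeal A).toCotangent (x i))) = _
    rw [Module.length_eq_of_surjective (S := A) (R := ResidueField A)
        IsLocalRing.residue_surjective, Module.length_eq_finrank]
    rfl
  rw [hlenQ, hlenK] at hlen
  have : ((maximalIdeal A).spanFinrank : ℕ∞) =
      (((Set.range fun i => (maximalIdeal A).toCotangent (x i)).finrank (ResidueField A) +
        (maximalIdeal (A ⧸ J)).spanFinrank : ℕ) : ℕ∞) := by
    rw [hlen]; push_cast; rfl
  have h3 := ENat.coe_inj.mp this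
  omega

end

end Groth.Agent.Lib.Helper98

namespace Groth.Agent.Lib.Helper98

open IsLocalRing

section main

variable {A : Type u} [CommRing A] [IsLocalRing A] [IsNoetherianRing A]

theorem ringKrullDim_le_quotient_span_range_add {r : ℕ} (x : Fin r → maximalIdeal A) :
    ringKrullDim A ≤ ringKrullDim (A ⧸ Ideal.span (Set.range fun i => (x i : A))) + r := by
  classical
  have h1 := ringKrullDim_le_ringKrullDim_quotient_add_card
    (Finset.univ.image fun i => (x i : A)) (by
      intro y hy
      simp only [Finset.coe_image, Finset.coe_univ, Set.image_univ, Set.mem_range] at hy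
      obtain ⟨i, rfl⟩ := hy
      rw [IsLocalRing.ringJacobson_eq_maximalIdeal]
      exact (x i).2)
  have h2 : ((Finset.univ.image fun i => (x i : A) : Finset A) : Set A) =
      Set.range fun i => (x i : A) := by simp
  rw [h2] at h1
  refine h1.trans ?_
  gcongr
  have : (Finset.univ.image fun i => (x i : A)).card ≤ r := by
    simpa using Finset.card_image_le (s := (Finset.univ : Finset (Fin r))) (f := fun i => (x i : A))
  exact_mod_cast this

theorem regular_quotient_iff {r : ℕ} (x : Fin r → maximalIdeal A) :
    ((IsRegularLocalRing A ∧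
        LinearIndependent (ResidueField A) (fun i => (maximalIdeal A).toCotangent (x i))) ↔
      (ringKrullDim (A ⧸ Ideal.span (Set.range fun i => (x i : A))) + r = ringKrullDim A ∧
        IsRegularLocalRing (A ⧸ Ideal.span (Set.range fun i => (x i : A))))) := by
  haveI hlocQ : IsLocalRing (A ⧸ Ideal.span (Set.range fun i => (x i : A))) :=
    Groth.Agent.Lib.Helper85.isLocalRing_quotient _ (span_range_ne_top x)
  have key := spanFinrank_eq_add_finrank_span x _ rfl
  have hrk : (Set.range fun i => (maximalIdeal A).toCotangent (x i)).finrank (ResidueField A) ≤ r := by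
    simpa using finrank_range_le_card (R := ResidueField A)
      (fun i => (maximalIdeal A).toCotangent (x i))
  have hli : LinearIndependent (ResidueField A) (fun i => (maximalIdeal A).toCotangent (x i)) ↔
      r = (Set.range fun i => (maximalIdeal A).toCotangent (x i)).finrank (ResidueField A) := by
    rw [linearIndependent_iff_card_eq_finrank_span, Fintype.card_fin]
  have hdimA := ringKrullDim_le_spanFinrank_maximalIdeal A
  have hdimQ := ringKrullDim_le_spanFinrank_maximalIdeal
    (A ⧸ Ideal.span (Set.range fun i => (x i : A)))
  have hK := ringKrullDim_le_quotient_span_range_add x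
  obtain ⟨a, ha⟩ := Groth.Agent.Lib.Helper85.exists_nat_eq_of_le
    (ringKrullDim_nonneg_of_nontrivial (R := A)) hdimA
  obtain ⟨q, hq⟩ := Groth.Agent.Lib.Helper85.exists_nat_eq_of_le
    (ringKrullDim_nonneg_of_nontrivial
      (R := A ⧸ Ideal.span (Set.range fun i => (x i : A)))) hdimQ
  rw [isRegularLocalRing_iff, isRegularLocalRing_iff, hli, ha, hq]
  rw [ha] at hdimA hK
  rw [hq] at hdimQ hK
  have h1 : a ≤ (maximalIdeal A).spanFinrank := by exact_mod_cast hdimA
  have h2 : q ≤ (maximalIdeal (A ⧸ Ideal.span (Set.range fun i => (x i : A)))).spanFinrank := by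
    exact_mod_cast hdimQ
  have h3 : a ≤ q + r := by exact_mod_cast hK
  constructor
  · rintro ⟨h4, h5⟩
    have h4' : (maximalIdeal A).spanFinrank = a := by exact_mod_cast h4
    constructor
    · have : q + r = a := by omega
      exact_mod_cast this
    · have : (maximalIdeal (A ⧸ Ideal.span (Set.range fun i => (x i : A)))).spanFinrank = q := by
        omega
      exact_mod_cast this
  · rintro ⟨h4, h5⟩
    have h4' : q + r = a := by exact_mod_cast h4
    have h5' : (maximalIdeal (A ⧸ Ideal.span (Set.range fun i => (x i : A)))).spanFinrank = q := by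
      exact_mod_cast h5
    constructor
    · have : (maximalIdeal A).spanFinrank = a := by omega
      exact_mod_cast this
    · omega

end main

end Groth.Agent.Lib.Helper98
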