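import Mathlib
import Groth.Agent.Lib.Helper98.DeltaBaseChangeC
import Groth.Agent.Lib.Helper9.Hens.FibreRing
import Groth.Agent.Lib.Helper9.Hens.NoetherianHens

/-! Closed-fibre computations for the δ-invariant under henselization, strict henselization and
completion (helper98). -/

namespace Groth.Agent.Lib.Helper98.DeltaBaseChange

open TensorProduct IsLocalRing

universe u

set_option linter.style.haveILetI false
set_option linter.unusedSectionVars false

section Generic

variable (A : Type u) [CommRing A] [IsLocalRing A]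
  (B : Type u) [CommRing B] [Algebra A B]

/-- If `A/m → B/mB` is surjective and `F` is a field killed by `m`, then `B ⊗[A] F` is a quotient
of `F`, hence reduced. -/
theorem isReduced_tensor_of_residue_surj
    (hsurj : ∀ s : B, ∃ r : A, s - algebraMap A B r ∈ (maximalIdeal A).map (algebraMap A B))
    (F : Type u) [Field F] [Algebra A F] (hF : ∀ a ∈ maximalIdeal A, ∀ f : F, a • f = 0) :
    IsReduced (B ⊗[A] F) := by
  -- elements of `m B` kill everything
  have hkill : ∀ y ∈ (maximalIdeal A).map (algebraMap A B), ∀ f : F, y ⊗ₜ[A] f = 0 := by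
    intro y hy f
    induction hy using Submodule.span_induction with
    | mem z hz =>
      obtain ⟨a, ha, rfl⟩ := hz
      rw [Algebra.algebraMap_eq_smul_one, TensorProduct.smul_tmul, hF a ha, TensorProduct.tmul_zero]
    | zero => rw [TensorProduct.zero_tmul]
    | add z w _ _ hz hw => rw [TensorProduct.add_tmul, hz, hw, add_zero]
    | smul r z _ hz =>
      rw [smul_eq_mul, ← smul_eq_mul, ← TensorProduct.smul_tmul', hz, smul_zero]
  have hsur : Function.Surjective
      (Algebra.TensorProduct.includeRight : F →ₐ[A] B ⊗[A] F) := by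
    intro z
    induction z using TensorProduct.induction_on with
    | zero => exact ⟨0, map_zero _⟩
    | tmul b f =>
      obtain ⟨r, hr⟩ := hsurj b
      refine ⟨r • f, ?_⟩
      rw [Algebra.TensorProduct.includeRight_apply]
      have h1 : b ⊗ₜ[A] f = (b - algebraMap A B r) ⊗ₜ[A] f + (algebraMap A B r) ⊗ₜ[A] f := by
        rw [← TensorProduct.add_tmul, sub_add_cancel]
      rw [h1, hkill _ hr, zero_add, Algebra.algebraMap_eq_smul_one, TensorProduct.smul_tmul]
    | add z w hz hw =>
      obtain ⟨f1, hf1⟩ := hz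
      obtain ⟨f2, hf2⟩ := hw
      exact ⟨f1 + f2, by rw [map_add, hf1, hf2]⟩
  refine ⟨?_⟩
  intro x hx
  obtain ⟨f, rfl⟩ := hsur x
  rcases subsingleton_or_nontrivial (B ⊗[A] F) with hss | hnt
  · exact Subsingleton.elim _ _
  · obtain ⟨k, hk⟩ := hx
    have hinj : Function.Injective
        (Algebra.TensorProduct.includeRight : F →ₐ[A] B ⊗[A] F) :=
      (Algebra.TensorProduct.includeRight : F →ₐ[A] B ⊗[A] F).toRingHom.injective
    rw [← map_pow] at hk
    have h0 : f ^ k = 0 := hinj (by rw [hk, map_zero])
    have hf0 : f = 0 := pow_eq_zero_iff (n := k) (by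
      rintro rfl
      rw [pow_zero] at h0
      exact one_ne_zero h0) |>.mp h0
    rw [hf0, map_zero]

end Generic


section Special

variable (A : Type u) [CommRing A] [IsLocalRing A] [IsReduced A] [IsNoetherianRing A]
  (B : Type u) [CommRing B] [Algebra A B]

theorem fib_quotient
    (hsurj : ∀ s : B, ∃ r : A, s - algebraMap A B r ∈ (maximalIdeal A).map (algebraMap A B))
    (m' : Ideal (IC A)) (hm' : m'.IsMaximal) : IsReduced (B ⊗[A] (IC A ⧸ m')) := by
  letI : Field (IC A ⧸ m') := Ideal.Quotient.field m'
  apply isReduced_tensor_of_residue_surj A B hsurj (IC A ⧸ m')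
  intro a ha f
  obtain ⟨x, rfl⟩ := Ideal.Quotient.mk_surjective f
  have h1 : a • (Ideal.Quotient.mk m' x) = Ideal.Quotient.mk m' (algebraMap A (IC A) a * x) := by
    rw [← Algebra.smul_def]
    rfl
  rw [h1, Ideal.Quotient.eq_zero_iff_mem]
  apply Ideal.mul_mem_right
  have h := comap_eq_maximalIdeal_of_isMaximal A m'
  have : a ∈ m'.comap (algebraMap A (IC A)) := by rw [h]; exact ha
  exact this

theorem fib_quotient_etale (hcov : Groth.Agent.Lib.Helper9.IsEtaleCoveredFin A B)
    (m' : Ideal (IC A)) (hm' : m'.IsMaximal) : IsReduced (B ⊗[A] (IC A ⧸ m')) := by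
  letI : Field (IC A ⧸ m') := Ideal.Quotient.field m'
  have h1 : Groth.Agent.Lib.Helper9.IsEtaleCovered (IC A ⧸ m') ((IC A ⧸ m') ⊗[A] B) :=
    hcov.isEtaleCovered_baseChange (IC A ⧸ m')
  have h2 : IsReduced ((IC A ⧸ m') ⊗[A] B) := h1.isReduced_of_field
  exact isReduced_of_injective
    (Algebra.TensorProduct.comm A B (IC A ⧸ m')).toRingEquiv.toRingHom
    (Algebra.TensorProduct.comm A B (IC A ⧸ m')).injective

end Special

theorem exists_sub_mem_map_completion (A : Type u) [CommRing A] [IsLocalRing A]
    [IsNoetherianRing A] (s : AdicCompletion (maximalIdeal A) A) :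
    ∃ r : A, s - algebraMap A (AdicCompletion (maximalIdeal A) A) r ∈
      (maximalIdeal A).map (algebraMap A (AdicCompletion (maximalIdeal A) A)) := by
  obtain ⟨x, hx⟩ := (AdicCompletion.residueField_map_bijective A).2
    (residue (AdicCompletion (maximalIdeal A) A) s)
  obtain ⟨r, rfl⟩ := residue_surjective x
  refine ⟨r, ?_⟩
  rw [← AdicCompletion.maximalIdeal_eq_map]
  rw [ResidueField.map_residue] at hx
  have h0 : residue (AdicCompletion (maximalIdeal A) A)
      (s - algebraMap A (AdicCompletion (maximalIdeal A) A) r) = 0 := by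
    rw [map_sub, hx, sub_self]
  exact (residue_eq_zero_iff _).mp h0

end Groth.Agent.Lib.Helper98.DeltaBaseChange
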