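import Groth.Agent.Lib.Helper73.LeftDerivedLES

/-!
# `L₁F(X₂) ≅ L₁F(X₃)` for a short exact sequence with projective kernel (helper98)

For a right exact additive functor `F` and a short exact sequence `0 → X₁ → X₂ → X₃ → 0` with
`X₁` projective and `F(X₁) → F(X₂)` a monomorphism, `L₁F(X₂) → L₁F(X₃)` is an isomorphism.
Also: `L₁F(X₃)` is then identified with the kernel of `F(X₁) → F(X₂)` in general
(`exists_leftDerived_one_mono`).
-/

set_option autoImplicit false
universe v v' u u'

namespace Groth.Agent.Lib.Helper98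

open CategoryTheory Limits Groth.Agent.Lib.Helper73

variable {C : Type u} [Category.{v} C] [Abelian C] [HasProjectiveResolutions C]
  {D : Type u'} [Category.{v'} D] [Abelian D] (F : C ⥤ D) [F.Additive]
  [PreservesFiniteColimits F]

/-- `L₀F(f)` is a monomorphism when `F(f)` is. -/
theorem mono_leftDerived_zero_map {X Y : C} (f : X ⟶ Y) [Mono (F.map f)] :
    Mono ((F.leftDerived 0).map f) := by
  let e := F.leftDerivedZeroIsoSelf
  have hnat := e.hom.naturality f
  have h : (F.leftDerived 0).map f = e.hom.app X ≫ F.map f ≫ e.inv.app Y := by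
    rw [← Category.assoc, ← hnat, Category.assoc, Iso.hom_inv_id_app, Category.comp_id]
  rw [h]
  infer_instance

theorem isIso_leftDerived_one_map_g {S : ShortComplex C} (hS : S.ShortExact)
    [Projective S.X₁] [Mono (F.map S.f)] : IsIso ((F.leftDerived 1).map S.g) := by
  obtain ⟨⟨w₀, hex₀⟩, -⟩ := leftDerived_les F hS 1
  obtain ⟨-, δ, w₁, w₂, hex₁, -⟩ := leftDerived_les F hS 0
  haveI := mono_leftDerived_zero_map F S.f
  have hδ : δ = 0 := by
    rw [← cancel_mono ((F.leftDerived 0).map S.f), w₂, zero_comp]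
  have hzero : IsZero ((F.leftDerived (0 + 1)).obj S.X₁) :=
    F.isZero_leftDerived_obj_projective_succ 0 S.X₁
  haveI : Mono ((F.leftDerived 1).map S.g) :=
    hex₀.mono_g (hzero.eq_of_src _ _)
  haveI : Epi ((F.leftDerived 1).map S.g) := hex₁.epi_f hδ
  exact isIso_of_mono_of_epi _

/-- If `X₂` is projective, `L₁F(X₃)` is the kernel of `L₀F(X₁) → L₀F(X₂)`: there is a
monomorphism `δ` from it which is exact with `L₀F(f)`. -/
theorem exists_mono_leftDerived_one {S : ShortComplex C} (hS : S.ShortExact)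
    [Projective S.X₂] :
    ∃ (δ : (F.leftDerived 1).obj S.X₃ ⟶ (F.leftDerived 0).obj S.X₁)
      (w : δ ≫ (F.leftDerived 0).map S.f = 0), Mono δ ∧ (ShortComplex.mk δ _ w).Exact := by
  obtain ⟨-, δ, w₁, w₂, hex₁, hex₂⟩ := leftDerived_les F hS 0
  have hzero : IsZero ((F.leftDerived (0 + 1)).obj S.X₂) :=
    F.isZero_leftDerived_obj_projective_succ 0 S.X₂
  exact ⟨δ, w₂, hex₁.mono_g (hzero.eq_of_src _ _), hex₂⟩

/-- If `X₂` is projective, `L₁F(X₃)` is the kernel of `F(X₁) → F(X₂)`. -/
theorem exists_mono_leftDerived_one_to_obj {S : ShortComplex C} (hS : S.ShortExact)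
    [Projective S.X₂] :
    ∃ (δ : (F.leftDerived 1).obj S.X₃ ⟶ F.obj S.X₁)
      (w : δ ≫ F.map S.f = 0), Mono δ ∧ (ShortComplex.mk δ _ w).Exact := by
  obtain ⟨δ, w, hmono, hex⟩ := exists_mono_leftDerived_one F hS
  let e := F.leftDerivedZeroIsoSelf
  have hnat := e.hom.naturality S.f
  have w' : (δ ≫ e.hom.app S.X₁) ≫ F.map S.f = 0 := by
    rw [Category.assoc, ← hnat, ← Category.assoc, w, zero_comp]
  refine ⟨δ ≫ e.hom.app S.X₁, w', ?_, ?_⟩
  · haveI := hmono
    infer_instance
  · have iso : ShortComplex.mk δ ((F.leftDerived 0).map S.f) w ≅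
        ShortComplex.mk (δ ≫ e.hom.app S.X₁) (F.map S.f) w' :=
      ShortComplex.isoMk (Iso.refl _) (e.app S.X₁) (e.app S.X₂) (by simp)
        (by simpa using hnat.symm)
    exact ShortComplex.exact_of_iso iso hex

end Groth.Agent.Lib.Helper98
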