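import Groth.Agent.Lib.Helper74.LatticeDet

/-!
Length of the cokernel of a square matrix over a one-dimensional Noetherian domain equals the order
of its determinant (helper98; built on helper74's lattice-distance theorem).
-/

set_option autoImplicit false
universe u v

namespace Groth.Agent.Lib.Helper98

open Groth.Agent.Lib.Helper74

section transport

variable {A : Type u} [CommRing A] {V : Type v} [AddCommGroup V] [Module A V]
  {P : Type*} [AddCommGroup P] [Module A P]

/-- transport of a cokernel into a quotient of sublattices. -/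
theorem length_quotient_range_eq (M : Submodule A V) (e : P ≃ₗ[A] M) (f : P →ₗ[A] P)
    (φ : V →ₗ[A] V) (h : ∀ v, φ (e v : V) = (e (f v) : V)) :
    Module.length A (P ⧸ LinearMap.range f) =
      Module.length A (↥M ⧸ (M.map φ).submoduleOf M) := by
  refine LinearEquiv.length_eq (Submodule.Quotient.equiv _ _ e ?_)
  ext x
  simp only [Submodule.mem_map, LinearMap.mem_range, Submodule.submoduleOf, Submodule.mem_comap,
    Submodule.subtype_apply]
  constructor
  · rintro ⟨_, ⟨v, rfl⟩, rfl⟩
    exact ⟨(e v : V), (e v).2, by rw [h]; rfl⟩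
  · rintro ⟨m, hm, hmx⟩
    refine ⟨f (e.symm ⟨m, hm⟩), ⟨_, rfl⟩, ?_⟩
    apply Subtype.ext
    have := h (e.symm ⟨m, hm⟩)
    rw [LinearEquiv.apply_symm_apply] at this
    change (e (f (e.symm ⟨m, hm⟩)) : V) = x
    rw [← this]
    exact hmx

end transport

variable {A : Type u} [CommRing A] [IsDomain A] [IsNoetherianRing A] [Ring.KrullDimLE 1 A]

theorem length_quotient_range_toLin' {r : ℕ} (N : Matrix (Fin r) (Fin r) A) (hN : N.det ≠ 0) :
    Module.length A ((Fin r → A) ⧸ LinearMap.range (Matrix.toLin' N)) = Ring.ord A N.det := by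
  classical
  let K := FractionRing A
  let V := Fin r → K
  let b : Module.Basis (Fin r) K V := Pi.basisFun K (Fin r)
  let M : Submodule A V := Submodule.span A (Set.range b)
  have hM : IsLat K M := by
    have := basisLat_isLat K b (1 : Fin r → A) (fun _ => one_ne_zero)
    rwa [basisLat_one] at this
  let NK : Matrix (Fin r) (Fin r) K := N.map (algebraMap A K)
  have hdetNK : NK.det = algebraMap A K N.det := (RingHom.map_det _ _).symm
  have hunit : IsUnit NK.det := by
    rw [hdetNK, isUnit_iff_ne_zero, Ne, map_eq_zero_iff _ (IsFractionRing.injective A K)]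
    exact hN
  let φ : V ≃ₗ[K] V := Matrix.toLinearEquiv b NK hunit
  have hφb : ∀ j, φ (b j) = ∑ i, N i j • b i := by
    intro j
    change Matrix.toLin b b NK (b j) = _
    rw [Matrix.toLin_self]
    refine Finset.sum_congr rfl fun i _ => ?_
    rw [← algebraMap_smul K (N i j) (b i)]
    rfl
  have hdetφ : LinearMap.det φ.toLinearMap = algebraMap A K N.det := by
    rw [← hdetNK]
    exact LinearMap.det_toLin b NK
  have h := latDist_map_eq_ordFrac_det K hM φ
  rw [hdetφ, ordFracInt_algebraMap A K hN] at h
  let φA : V →ₗ[A] V := (φ.restrictScalars A).toLinearMap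
  have hle : M.map φA ≤ M := by
    rw [Submodule.map_span, Submodule.span_le]
    rintro _ ⟨_, ⟨j, rfl⟩, rfl⟩
    change φ (b j) ∈ M
    rw [hφb]
    exact Submodule.sum_mem _ fun i _ =>
      Submodule.smul_mem _ _ (Submodule.subset_span ⟨i, rfl⟩)
  rw [latDist_of_le hle] at h
  have hfin1 : Module.length A (↥M ⧸ (M.map φA).submoduleOf M) < ⊤ := by
    refine length_quotient_submoduleOf_lt_top K _ M hM.1 ?_
    exact (hM.map K φ).2
  have hfin2 : Ring.ord A N.det ≠ ⊤ := Ring.ord_ne_top (mem_nonZeroDivisors_of_ne_zero hN)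
  have hlen : Module.length A (↥M ⧸ (M.map φA).submoduleOf M) = Ring.ord A N.det := by
    have h' : (Module.length A (↥M ⧸ (M.map φA).submoduleOf M)).toNat = (Ring.ord A N.det).toNat := by
      exact_mod_cast h
    rw [← ENat.natCast_toNat hfin1.ne, ← ENat.natCast_toNat hfin2, h']
  rw [← hlen]
  let b' : Module.Basis (Fin r) A M := b.restrictScalars A
  refine length_quotient_range_eq M b'.equivFun.symm (Matrix.toLin' N) φA ?_
  intro v
  have hcoe : ∀ w : Fin r → A, ((b'.equivFun.symm w : M) : V) = ∑ i, w i • b i := by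
    intro w
    rw [Module.Basis.equivFun_symm_apply]
    simp only [Submodule.coe_sum, Submodule.coe_smul]
    refine Finset.sum_congr rfl fun i _ => ?_
    rw [Module.Basis.restrictScalars_apply]
  rw [hcoe, hcoe, map_sum]
  simp only [map_smul]
  change ∑ j, v j • φ (b j) = _
  simp only [hφb, Finset.smul_sum, Matrix.toLin'_apply, Matrix.mulVec, dotProduct,
    Finset.sum_smul]
  rw [Finset.sum_comm]
  refine Finset.sum_congr rfl fun i _ => Finset.sum_congr rfl fun j _ => ?_
  rw [smul_smul, mul_comm]

end Groth.Agent.Lib.Helper98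

namespace Groth.Agent.Lib.Helper98

section detzero

variable {A : Type u} [CommRing A] [IsDomain A]

theorem length_quotient_range_toLin'_of_det_eq_zero (hA : Module.length A A = ⊤) {r : ℕ}
    (N : Matrix (Fin r) (Fin r) A) (hN : N.det = 0) :
    Module.length A ((Fin r → A) ⧸ LinearMap.range (Matrix.toLin' N)) = ⊤ := by
  classical
  obtain ⟨w, hw0, hw⟩ := Matrix.exists_vecMul_eq_zero_iff.2 hN
  obtain ⟨i₀, hi₀⟩ := Function.ne_iff.1 hw0
  let ℓ : (Fin r → A) →ₗ[A] A :=
    { toFun := fun v => w ⬝ᵥ v
      map_add' := dotProduct_add w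
      map_smul' := fun c v => by simp [dotProduct_smul] }
  have hℓ : LinearMap.range (Matrix.toLin' N) ≤ LinearMap.ker ℓ := by
    rintro _ ⟨u, rfl⟩
    change w ⬝ᵥ (Matrix.toLin' N u) = 0
    rw [Matrix.toLin'_apply, Matrix.dotProduct_mulVec, hw, zero_dotProduct]
  let ℓbar : ((Fin r → A) ⧸ LinearMap.range (Matrix.toLin' N)) →ₗ[A] A :=
    (LinearMap.range (Matrix.toLin' N)).liftQ ℓ hℓ
  let g : A →ₗ[A] ((Fin r → A) ⧸ LinearMap.range (Matrix.toLin' N)) :=
    (LinearMap.range (Matrix.toLin' N)).mkQ ∘ₗ LinearMap.toSpanSingleton A _ (Pi.single i₀ 1)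
  have hg : Function.Injective g := by
    have : Function.Injective (ℓbar ∘ₗ g) := by
      rw [injective_iff_map_eq_zero]
      intro a ha
      have h1 : (ℓbar ∘ₗ g) a = a * w i₀ := by
        simp only [ℓbar, g, ℓ, LinearMap.comp_apply, LinearMap.toSpanSingleton_apply,
          Submodule.mkQ_apply, Submodule.liftQ_apply, LinearMap.coe_mk, AddHom.coe_mk,
          dotProduct_smul, dotProduct_single, mul_one, smul_eq_mul]
      rw [h1] at ha
      exact (mul_eq_zero.1 ha).resolve_right hi₀
    rw [LinearMap.coe_comp] at this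
    exact Function.Injective.of_comp this
  have := Module.length_le_of_injective g hg
  rw [hA, top_le_iff] at this
  exact this

end detzero

section dvr

variable {B : Type u} [CommRing B] [IsDomain B] [IsDiscreteValuationRing B]

theorem dvr_length_self : Module.length B B = ⊤ := by
  rw [← Ring.ord_zero, Ring.ord_eq_addVal]
  exact AddValuation.map_zero _

theorem dvr_length_quotient_range_toLin' {r : ℕ} (N : Matrix (Fin r) (Fin r) B) :
    Module.length B ((Fin r → B) ⧸ LinearMap.range (Matrix.toLin' N)) =
      IsDiscreteValuationRing.addVal B N.det := by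
  by_cases hN : N.det = 0
  · rw [length_quotient_range_toLin'_of_det_eq_zero dvr_length_self N hN, hN]
    exact (AddValuation.map_zero _).symm
  · rw [length_quotient_range_toLin' N hN, Ring.ord_eq_addVal]

end dvr

end Groth.Agent.Lib.Helper98
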