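import Mathlib
import Groth.Prelude.Def_Hensel
import Groth.Agent.Lib.Helper9.Hens.NoetherianHens
import Groth.Agent.Lib.Helper9.HensK.StrictUnique
import Groth.Agent.Lib.Helper9.Hens.EtaleSectionFlat

/-!
# Essential finite type by faithfully flat descent (helper98)

* `nonempty_algEquiv_strictHenselization_of_map_maximalIdeal`: a Noetherian local `A`-algebra `D`
  with a local map to `S = A^sh` and `𝔪_A D = 𝔪_D` has `S` as strict henselization
  (so `S` is flat over `D`: `flat_of_map_maximalIdeal`).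
* `surjective_algebraMap_of_tensor`: faithfully flat descent of surjectivity.
* `exists_unit_mul_eq_zero_of_flat`: the kernel of `D ⊗[A] B₀ → S` is locally zero at the prime
  below `𝔪_S` (`B₀` étale over `A`, `S` flat over `D`).
* `essFiniteType_of_descent`: a Noetherian local `D` inside the image of a localization of `B₀` is
  essentially of finite type over `A`.
-/

set_option autoImplicit false
set_option linter.style.haveILetI false
set_option linter.unusedSectionVars false
universe u
namespace Groth.Agent.Lib.Helper98.EssFTDescent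
open IsLocalRing TensorProduct Groth.Agent.Lib.Helper9 Groth.Agent.Lib.Helper9.HensK

section FlatSub
variable (A D S : Type u) [CommRing A] [IsLocalRing A] [CommRing S] [IsLocalRing S] [Algebra A S]
  [IsLocalHom (algebraMap A S)] [Hensel.IsStrictHenselization A S]
  [CommRing D] [IsLocalRing D] [Algebra A D] [Algebra D S] [IsScalarTower A D S]
  [IsLocalHom (algebraMap D S)] [IsNoetherianRing D]

/-- If `D` is a Noetherian local `A`-algebra with a local map to the strict henselization `S` of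
`A` and `𝔪_A D = 𝔪_D`, then `S` is (isomorphic to) the strict henselization of `D`. -/
theorem nonempty_algEquiv_strictHenselization_of_map_maximalIdeal
    (hm : Ideal.map (algebraMap A D) (maximalIdeal A) = maximalIdeal D) :
    Nonempty (StrictHenselization D ≃ₐ[D] S) := by
  have hS : Hensel.IsStrictHenselization A S := inferInstance
  let T := StrictHenselization D
  have hT : Hensel.IsStrictHenselization D T := inferInstance
  haveI : IsNoetherianRing T := (isNoetherianRing_iff_of_isStrictHenselization D T).mp inferInstance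
  have hmT : (maximalIdeal D).map (algebraMap D T) = maximalIdeal T :=
    map_maximalIdeal_of_isStrictHenselization D T
  haveI : HenselianLocalRing S := hS.henselian
  haveI : HenselianLocalRing T := hT.henselian
  haveI hAD : IsLocalHom (algebraMap A D) := by
    haveI : IsLocalHom ((algebraMap D S).comp (algebraMap A D)) := by
      rw [← IsScalarTower.algebraMap_eq]; infer_instance
    exact isLocalHom_of_comp (algebraMap A D) (algebraMap D S)
  letI : Algebra A T := ((algebraMap D T).comp (algebraMap A D)).toAlgebra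
  haveI : IsScalarTower A D T := IsScalarTower.of_algebraMap_eq (fun _ => rfl)
  haveI : IsLocalHom (algebraMap A T) := by
    change IsLocalHom ((algebraMap D T).comp (algebraMap A D))
    infer_instance
  haveI : IsSepClosure (ResidueField A) (ResidueField S) := hS.isSepClosure
  haveI : IsSepClosure (ResidueField D) (ResidueField T) := hT.isSepClosure
  haveI : IsSepClosure (ResidueField D) (ResidueField S) :=
    ⟨hS.isSepClosure.sep_closed,
      Algebra.isSeparable_tower_top_of_isSeparable (ResidueField A) (ResidueField D)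
        (ResidueField S)⟩
  let e : ResidueField T ≃ₐ[ResidueField D] ResidueField S :=
    IsSepClosure.equiv (ResidueField D) (ResidueField T) (ResidueField S)
  -- the map φ : T → S
  have hτ : (e : ResidueField T →+* ResidueField S).comp (ResidueField.map (algebraMap D T)) =
      ResidueField.map (algebraMap D S) := by
    ext c
    exact e.commutes c
  obtain ⟨φ, ⟨hφ1, hφ2⟩, -⟩ := hT.universal S (algebraMap D S) (e : ResidueField T →+* ResidueField S) hτ
  -- the map ψ : S → T
  have hτ' : (e.symm : ResidueField S →+* ResidueField T).comp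
      (ResidueField.map (algebraMap A S)) = ResidueField.map (algebraMap A T) := by
    ext c
    obtain ⟨c, rfl⟩ := residue_surjective c
    change e.symm (residue S (algebraMap A S c)) = residue T (algebraMap A T c)
    rw [IsScalarTower.algebraMap_apply A D S, IsScalarTower.algebraMap_apply A D T]
    exact e.symm.commutes (residue D (algebraMap A D c))
  obtain ⟨ψ, ⟨hψ1, hψ2⟩, -⟩ := hS.universal T (algebraMap A T) (e.symm : ResidueField S →+* ResidueField T) hτ'
  -- φ ∘ ψ = id
  have hid : φ.comp ψ = RingHom.id S := by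
    have hτ'' : (RingHom.id (ResidueField S)).comp (ResidueField.map (algebraMap A S)) =
        ResidueField.map (algebraMap A S) := RingHom.id_comp _
    obtain ⟨g, -, hguniq⟩ := hS.universal S (algebraMap A S) (RingHom.id (ResidueField S)) hτ''
    have h1 : φ.comp ψ = g := by
      apply hguniq
      refine ⟨?_, ?_⟩
      · rw [RingHom.comp_assoc, hψ1]
        ext a
        change φ (algebraMap D T (algebraMap A D a)) = _
        rw [← RingHom.comp_apply, hφ1, ← IsScalarTower.algebraMap_apply]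
      · intro x
        change residue S (φ (ψ x)) = residue S x
        rw [hφ2, hψ2]
        exact e.apply_symm_apply _
    have h2 : RingHom.id S = g := by
      apply hguniq
      exact ⟨RingHom.id_comp _, fun x => rfl⟩
    rw [h1, h2]
  have hφψ : ∀ s, φ (ψ s) = s := fun s => DFunLike.congr_fun hid s
  -- the ideal J = 𝔪_S T
  set J : Ideal T := (maximalIdeal S).map ψ with hJ
  have hJle : J ≤ maximalIdeal T := by
    rw [hJ, Ideal.map_le_iff_le_comap]
    intro s hs
    rw [Ideal.mem_comap, ← residue_eq_zero_iff, hψ2, (residue_eq_zero_iff s).mpr hs, map_zero]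
  have hmJ : maximalIdeal T ≤ J := by
    rw [← hmT, ← hm, Ideal.map_map, hJ]
    have h1 : (algebraMap D T).comp (algebraMap A D) = ψ.comp (algebraMap A S) := hψ1.symm
    rw [h1, ← Ideal.map_map]
    apply Ideal.map_mono
    rw [Ideal.map_le_iff_le_comap]
    intro a ha
    rw [Ideal.mem_comap, mem_maximalIdeal, mem_nonunits_iff]
    intro hu
    exact ((mem_maximalIdeal a).mp ha) (isUnit_of_map_unit (algebraMap A S) a hu)
  have hP1 : ∀ t : T, ∃ s : S, t - ψ s ∈ J := by
    intro t
    obtain ⟨s, hs⟩ := residue_surjective (e (residue T t))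
    refine ⟨s, hmJ ?_⟩
    rw [← residue_eq_zero_iff, map_sub, hψ2, hs]
    simp
  have hJpow : ∀ n : ℕ, J ^ n = (maximalIdeal S ^ n).map ψ := fun n => by
    rw [hJ, Ideal.map_pow]
  have hP : ∀ n : ℕ, ∀ t : T, ∃ s : S, t - ψ s ∈ J ^ n := by
    intro n
    induction n with
    | zero => intro t; exact ⟨0, by simp⟩
    | succ n ih =>
      intro t
      obtain ⟨s, hs⟩ := ih t
      have hQ : ∀ y ∈ J ^ n, ∃ s ∈ maximalIdeal S ^ n, y - ψ s ∈ J ^ (n + 1) := by
        intro y hy
        rw [hJpow n, Ideal.map] at hy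
        induction hy using Submodule.span_induction with
        | mem y hy =>
          obtain ⟨c, hc, rfl⟩ := hy
          exact ⟨c, hc, by simp⟩
        | zero => exact ⟨0, zero_mem _, by simp⟩
        | add y₁ y₂ _ _ h₁ h₂ =>
          obtain ⟨s₁, hs₁, h₁⟩ := h₁
          obtain ⟨s₂, hs₂, h₂⟩ := h₂
          refine ⟨s₁ + s₂, add_mem hs₁ hs₂, ?_⟩
          have : y₁ + y₂ - ψ (s₁ + s₂) = (y₁ - ψ s₁) + (y₂ - ψ s₂) := by rw [map_add]; ring
          rw [this]
          exact add_mem h₁ h₂
        | smul t' y _ h =>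
          obtain ⟨s₁, hs₁, h₁⟩ := h
          obtain ⟨s', hs'⟩ := hP1 t'
          refine ⟨s' * s₁, Ideal.mul_mem_left _ _ hs₁, ?_⟩
          have : t' • y - ψ (s' * s₁) = t' * (y - ψ s₁) + (t' - ψ s') * ψ s₁ := by
            rw [map_mul, smul_eq_mul]; ring
          rw [this]
          refine add_mem (Ideal.mul_mem_left _ _ h₁) ?_
          rw [pow_succ']
          refine Ideal.mul_mem_mul hs' ?_
          rw [hJpow n]
          exact Ideal.mem_map_of_mem _ hs₁
      obtain ⟨s'', hs'', h''⟩ := hQ _ hs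
      refine ⟨s + s'', ?_⟩
      have : t - ψ (s + s'') = (t - ψ s) - ψ s'' := by rw [map_add]; ring
      rw [this]
      exact h''
  have hφinj : Function.Injective φ := by
    rw [injective_iff_map_eq_zero]
    intro x hx
    have hx' : ∀ n : ℕ, x ∈ J ^ n := by
      intro n
      obtain ⟨s, hs⟩ := hP n x
      have h1 : φ (x - ψ s) ∈ (J ^ n).map φ := Ideal.mem_map_of_mem _ hs
      rw [hJpow n, Ideal.map_map, hid, Ideal.map_id, map_sub, hx, hφψ, zero_sub] at h1
      have h2 : s ∈ maximalIdeal S ^ n := by simpa using h1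
      have h3 : ψ s ∈ J ^ n := by rw [hJpow n]; exact Ideal.mem_map_of_mem _ h2
      have : x = (x - ψ s) + ψ s := by ring
      rw [this]
      exact add_mem hs h3
    have hJne : J ≠ ⊤ := fun h => (Ideal.IsMaximal.ne_top inferInstance)
      (top_le_iff.mp (h ▸ hJle) : maximalIdeal T = ⊤)
    have hK := Ideal.iInf_pow_eq_bot_of_isLocalRing J hJne
    have : x ∈ ⨅ i : ℕ, J ^ i := by
      rw [Ideal.mem_iInf]; exact hx'
    rw [hK] at this
    exact this
  have hφsurj : Function.Surjective φ := fun s => ⟨ψ s, hφψ s⟩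
  let φa : T →ₐ[D] S := { φ with commutes' := fun d => DFunLike.congr_fun hφ1 d }
  exact ⟨AlgEquiv.ofBijective φa ⟨hφinj, hφsurj⟩⟩

theorem flat_of_map_maximalIdeal
    (hm : Ideal.map (algebraMap A D) (maximalIdeal A) = maximalIdeal D) : Module.Flat D S := by
  obtain ⟨e⟩ := nonempty_algEquiv_strictHenselization_of_map_maximalIdeal A D S hm
  haveI : Module.Flat D (StrictHenselization D) :=
    flat_of_isStrictHenselization D (StrictHenselization D)
  exact Module.Flat.of_linearEquiv e.symm.toLinearEquiv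

end FlatSub

section Descent
variable {A R R' B₀ : Type u} [CommRing A] [CommRing R] [IsLocalRing R] [CommRing R'] [CommRing B₀]
  [Algebra A R] [Algebra A R'] [Algebra R R'] [IsScalarTower A R R'] [Algebra A B₀]
  [Module.Flat A B₀]

theorem surjective_algebraMap_of_tensor (𝔮 : Ideal (R' ⊗[A] B₀)) [𝔮.IsPrime]
    (h𝔮 : ∀ r ∈ maximalIdeal R, (algebraMap R R' r) ⊗ₜ[A] (1 : B₀) ∈ 𝔮)
    (H : ∀ r' : R', ∃ t y : R ⊗[A] B₀,
        Algebra.TensorProduct.map (IsScalarTower.toAlgHom A R R') (AlgHom.id A B₀) t ∉ 𝔮 ∧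
        Algebra.TensorProduct.map (IsScalarTower.toAlgHom A R R') (AlgHom.id A B₀) t *
          (r' ⊗ₜ[A] (1 : B₀)) =
          Algebra.TensorProduct.map (IsScalarTower.toAlgHom A R R') (AlgHom.id A B₀) y) :
    Function.Surjective (algebraMap R R') := by
  let P := R ⊗[A] B₀
  let ι : P →ₐ[A] R' ⊗[A] B₀ :=
    Algebra.TensorProduct.map (IsScalarTower.toAlgHom A R R') (AlgHom.id A B₀)
  let 𝔭 : Ideal P := 𝔮.comap ι
  haveI : 𝔭.IsPrime := Ideal.comap_isPrime _ _
  let N := Localization.AtPrime 𝔭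
  haveI : Module.Flat R P := inferInstance
  haveI : Module.Flat R N := Module.Flat.trans R P N
  haveI : IsLocalHom (algebraMap R N) := by
    constructor
    intro r hr
    by_contra hu
    have h1 : r ∈ maximalIdeal R := (mem_maximalIdeal r).mpr hu
    have h2 : (algebraMap R P r) ∈ 𝔭 := by
      change ι (algebraMap R P r) ∈ 𝔮
      have : ι (algebraMap R P r) = (algebraMap R R' r) ⊗ₜ[A] (1 : B₀) := by
        rw [Algebra.TensorProduct.algebraMap_apply]
        change (Algebra.TensorProduct.map (IsScalarTower.toAlgHom A R R') (AlgHom.id A B₀))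
          (algebraMap R R r ⊗ₜ[A] (1 : B₀)) = _
        rw [Algebra.TensorProduct.map_tmul]
        rfl
      rw [this]
      exact h𝔮 r h1
    rw [IsScalarTower.algebraMap_apply R P N] at hr
    have h3 := (IsLocalization.AtPrime.isUnit_to_map_iff N 𝔭 (algebraMap R P r)).mp hr
    exact h3 h2
  haveI : Module.FaithfullyFlat R N := Module.FaithfullyFlat.of_flat_of_isLocalHom
  let cbc : R' ⊗[R] P ≃ₐ[R] R' ⊗[A] B₀ := Algebra.TensorProduct.cancelBaseChange A R R R' B₀
  have hcbc : ∀ (r' : R') (t : P), cbc (r' ⊗ₜ[R] t) = ι t * (r' ⊗ₜ[A] (1 : B₀)) := by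
    intro r' t
    induction t using TensorProduct.induction_on with
    | zero => simp
    | add x y hx hy => rw [TensorProduct.tmul_add, map_add, hx, hy, map_add, add_mul]
    | tmul r b =>
      change (Algebra.TensorProduct.cancelBaseChange A R R R' B₀) (r' ⊗ₜ[R] (r ⊗ₜ[A] b)) =
        (Algebra.TensorProduct.map (IsScalarTower.toAlgHom A R R') (AlgHom.id A B₀)) (r ⊗ₜ[A] b) *
          r' ⊗ₜ[A] 1
      rw [Algebra.TensorProduct.map_tmul, Algebra.TensorProduct.cancelBaseChange_tmul,
        Algebra.TensorProduct.tmul_mul_tmul]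
      simp [Algebra.smul_def]
  -- the key identity in `R' ⊗[R] N`
  let g : P →ₗ[R] N := (IsScalarTower.toAlgHom R P N).toLinearMap
  have key : ∀ r' : R', ∃ n : N, ∀ n' : N, (r' ⊗ₜ[R] n' : R' ⊗[R] N) = (1 : R') ⊗ₜ[R] (n' * n) := by
    intro r'
    obtain ⟨t, y, ht, hty⟩ := H r'
    have h1 : (r' ⊗ₜ[R] t : R' ⊗[R] P) = (1 : R') ⊗ₜ[R] y := by
      apply cbc.injective
      rw [hcbc, hcbc]
      rw [hty]
      change ι y = ι y * 1
      rw [mul_one]
    have h2 : (r' ⊗ₜ[R] (algebraMap P N t) : R' ⊗[R] N) = (1 : R') ⊗ₜ[R] (algebraMap P N y) := by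
      have := congrArg (LinearMap.lTensor R' g) h1
      simpa [g] using this
    have htu : IsUnit (algebraMap P N t) :=
      (IsLocalization.AtPrime.isUnit_to_map_iff N 𝔭 t).mpr ht
    obtain ⟨u, hu⟩ := htu
    refine ⟨(↑u⁻¹ : N) * algebraMap P N y, fun n' => ?_⟩
    have h3 : (r' ⊗ₜ[R] n' : R' ⊗[R] N) =
        ((1 : R') ⊗ₜ[R] (n' * ↑u⁻¹)) * (r' ⊗ₜ[R] (algebraMap P N t)) := by
      rw [Algebra.TensorProduct.tmul_mul_tmul, one_mul, ← hu, mul_assoc, Units.inv_mul, mul_one]
    rw [h3, h2, Algebra.TensorProduct.tmul_mul_tmul, one_mul, mul_assoc]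
  -- surjectivity of the tensored map
  have hsurj : Function.Surjective ((Algebra.linearMap R R').rTensor N) := by
    intro z
    induction z using TensorProduct.induction_on with
    | zero => exact ⟨0, map_zero _⟩
    | add x y hx hy =>
      obtain ⟨x', rfl⟩ := hx
      obtain ⟨y', rfl⟩ := hy
      exact ⟨x' + y', map_add _ _ _⟩
    | tmul r' n' =>
      obtain ⟨n, hn⟩ := key r'
      refine ⟨(1 : R) ⊗ₜ[R] (n' * n), ?_⟩
      rw [hn n', LinearMap.rTensor_tmul]
      simp
  have hsurj' : Function.Surjective ((Algebra.linearMap R R').lTensor N) := by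
    rw [← LinearMap.comm_comp_rTensor_comp_comm_eq]
    simpa using hsurj
  exact (Module.FaithfullyFlat.lTensor_surjective_iff_surjective R N (Algebra.linearMap R R')).mp hsurj'

end Descent

section Core
variable {A D S B₀ : Type u} [CommRing A] [CommRing D]
  [CommRing S] [IsLocalRing S] [Algebra A D] [Algebra A S] [Algebra D S] [IsScalarTower A D S]
  [CommRing B₀] [Algebra A B₀] (φ : B₀ →ₐ[A] S)

/-- The product map `D ⊗[A] B₀ → S`. -/
noncomputable def mu : D ⊗[A] B₀ →ₐ[A] S :=
  Algebra.TensorProduct.productMap (IsScalarTower.toAlgHom A D S) φ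

omit [IsLocalRing S] in
theorem mu_tmul (d : D) (b : B₀) : mu φ (d ⊗ₜ[A] b) = algebraMap D S d * φ b := by
  simp [mu]

theorem exists_unit_mul_eq_zero_of_flat [Module.Flat D S] [Algebra.Etale A B₀]
    (x : D ⊗[A] B₀) (hx : mu φ x = 0) : ∃ t : D ⊗[A] B₀, IsUnit (mu φ t) ∧ t * x = 0 := by
  let B' := D ⊗[A] B₀
  letI : Algebra B' S := (mu φ).toRingHom.toAlgebra
  haveI : IsScalarTower D B' S := IsScalarTower.of_algebraMap_eq (fun d => by
    change algebraMap D S d = mu φ (algebraMap D B' d)
    rw [Algebra.TensorProduct.algebraMap_apply, mu_tmul, map_one, mul_one]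
    rfl)
  haveI : Module.Flat B' S := Groth.Agent.Lib.Helper9.flat_of_etale_of_flat D B' S
  let 𝔮 : Ideal B' := (maximalIdeal S).comap (algebraMap B' S)
  haveI : 𝔮.IsPrime := Ideal.comap_isPrime _ _
  let C := Localization.AtPrime 𝔮
  have hunit : ∀ y : 𝔮.primeCompl, IsUnit (algebraMap B' S y) := by
    intro y
    by_contra h
    exact y.2 (Ideal.mem_comap.mpr ((mem_maximalIdeal _).mpr h))
  let ιC : C →+* S := IsLocalization.lift hunit
  letI : Algebra C S := ιC.toAlgebra
  haveI : IsScalarTower B' C S :=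
    IsScalarTower.of_algebraMap_eq (fun x => (IsLocalization.lift_eq hunit x).symm)
  haveI : Module.Flat C S := (Module.flat_iff_of_isLocalization C 𝔮.primeCompl S).mpr inferInstance
  haveI : IsLocalHom (algebraMap C S) := by
    constructor
    intro c hc
    obtain ⟨a, s, rfl⟩ := IsLocalization.exists_mk'_eq 𝔮.primeCompl c
    have h1 : algebraMap C S (IsLocalization.mk' C a s) * algebraMap B' S s = algebraMap B' S a := by
      rw [IsScalarTower.algebraMap_apply B' C S, IsScalarTower.algebraMap_apply B' C S, ← map_mul,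
        IsLocalization.mk'_spec]
    have h2 : IsUnit (algebraMap B' S a) := h1 ▸ hc.mul (hunit s)
    have h3 : a ∉ 𝔮 := fun ha => ((mem_maximalIdeal _).mp (Ideal.mem_comap.mp ha)) h2
    exact (IsLocalization.AtPrime.isUnit_mk'_iff C 𝔮 a s).mpr h3
  haveI : Module.FaithfullyFlat C S := Module.FaithfullyFlat.of_flat_of_isLocalHom
  have hinj : Function.Injective (algebraMap C S) := FaithfulSMul.algebraMap_injective C S
  have h0 : algebraMap B' C x = 0 := by
    apply hinj
    rw [← IsScalarTower.algebraMap_apply B' C S, map_zero]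
    exact hx
  obtain ⟨t, ht⟩ := (IsLocalization.map_eq_zero_iff 𝔮.primeCompl C x).mp h0
  exact ⟨t, hunit t, ht⟩

end Core

section Core2
variable {A D S B₀ : Type u} [CommRing A] [CommRing D] [IsLocalRing D] [IsNoetherianRing D]
  [CommRing S] [IsLocalRing S] [Algebra A D] [Algebra A S] [Algebra D S] [IsScalarTower A D S]
  [IsLocalHom (algebraMap D S)] [CommRing B₀] [Algebra A B₀] [Module.Flat A B₀]
  [Algebra.FiniteType A B₀] (φ : B₀ →ₐ[A] S)

omit [IsLocalRing D] [IsLocalRing S] [IsLocalHom (algebraMap D S)] [Module.Flat A B₀] in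
theorem exists_unit_annihilator
    (hH : ∀ x : D ⊗[A] B₀, mu φ x = 0 → ∃ t : D ⊗[A] B₀, IsUnit (mu φ t) ∧ t * x = 0) :
    ∃ t : D ⊗[A] B₀, IsUnit (mu φ t) ∧ ∀ x : D ⊗[A] B₀, mu φ x = 0 → t * x = 0 := by
  classical
  haveI : IsNoetherianRing (D ⊗[A] B₀) := Algebra.FiniteType.isNoetherianRing D (D ⊗[A] B₀)
  have hfin : ∀ F : Finset (D ⊗[A] B₀), (∀ g ∈ F, mu φ g = 0) →
      ∃ t : D ⊗[A] B₀, IsUnit (mu φ t) ∧ ∀ x ∈ Ideal.span (F : Set (D ⊗[A] B₀)), t * x = 0 := by
    intro F
    induction F using Finset.induction_on with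
    | empty =>
      intro _
      refine ⟨1, by simp, fun x hx => ?_⟩
      simp only [Finset.coe_empty, Ideal.span_empty, Ideal.mem_bot] at hx
      rw [hx, mul_zero]
    | insert g F hg ih =>
      intro hF
      obtain ⟨tF, htF, hF'⟩ := ih (fun g' hg' => hF g' (Finset.mem_insert_of_mem hg'))
      obtain ⟨tg, htg, hg'⟩ := hH g (hF g (Finset.mem_insert_self _ _))
      refine ⟨tg * tF, by rw [map_mul]; exact htg.mul htF, fun x hx => ?_⟩
      rw [Finset.coe_insert, Ideal.mem_span_insert] at hx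
      obtain ⟨c, x', hx', rfl⟩ := hx
      have h1 : tg * tF * (c * g + x') = tF * c * (tg * g) + tg * (tF * x') := by ring
      rw [h1, hg', hF' x' hx', mul_zero, mul_zero, add_zero]
  obtain ⟨F, hF⟩ := (isNoetherianRing_iff_ideal_fg (D ⊗[A] B₀)).mp inferInstance
    (RingHom.ker (mu φ).toRingHom)
  have hF0 : ∀ g ∈ F, mu φ g = 0 := by
    intro g hg
    have : g ∈ RingHom.ker (mu φ).toRingHom := hF ▸ Ideal.subset_span hg
    exact this
  obtain ⟨t, ht, htF⟩ := hfin F hF0
  refine ⟨t, ht, fun x hx => htF x ?_⟩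
  rw [hF]
  exact hx

omit [IsLocalRing S] [IsLocalHom (algebraMap D S)] in
theorem essFiniteType_of_descent [IsLocalRing S] [IsLocalHom (algebraMap D S)]
    (ha : ∀ d : D, ∃ b s : B₀, IsUnit (φ s) ∧ φ s * algebraMap D S d = φ b)
    (hH : ∀ x : D ⊗[A] B₀, mu φ x = 0 → ∃ t : D ⊗[A] B₀, IsUnit (mu φ t) ∧ t * x = 0) :
    Algebra.EssFiniteType A D := by
  classical
  obtain ⟨t₀, ht₀, hann⟩ := exists_unit_annihilator φ hH
  obtain ⟨I, hI⟩ := TensorProduct.exists_finset t₀
  let σ : Finset D := I.image Prod.fst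
  let D₀ : Subalgebra A D := Algebra.adjoin A (σ : Set D)
  have hσ : ∀ i ∈ I, i.1 ∈ D₀ := fun i hi =>
    Algebra.subset_adjoin (Finset.mem_coe.mpr (Finset.mem_image_of_mem _ hi))
  let p₀ : Ideal D₀ := (maximalIdeal D).comap (algebraMap D₀ D)
  haveI : p₀.IsPrime := Ideal.comap_isPrime _ _
  let R := Localization.AtPrime p₀
  have hunit : ∀ y : p₀.primeCompl, IsUnit (algebraMap D₀ D y) := by
    intro y
    by_contra h
    exact y.2 (Ideal.mem_comap.mpr ((mem_maximalIdeal _).mpr h))
  let ιR : R →+* D := IsLocalization.lift hunit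
  letI : Algebra R D := ιR.toAlgebra
  haveI : IsScalarTower D₀ R D :=
    IsScalarTower.of_algebraMap_eq (fun x => (IsLocalization.lift_eq hunit x).symm)
  haveI : IsScalarTower A R D := IsScalarTower.of_algebraMap_eq (fun a => by
    rw [IsScalarTower.algebraMap_apply A D₀ R, ← IsScalarTower.algebraMap_apply D₀ R D,
      ← IsScalarTower.algebraMap_apply A D₀ D])
  let 𝔮 : Ideal (D ⊗[A] B₀) := (maximalIdeal S).comap (mu φ).toRingHom
  haveI : 𝔮.IsPrime := Ideal.comap_isPrime _ _
  have h𝔮 : ∀ r ∈ maximalIdeal R, (algebraMap R D r) ⊗ₜ[A] (1 : B₀) ∈ 𝔮 := by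
    intro r hr
    change mu φ (algebraMap R D r ⊗ₜ 1) ∈ maximalIdeal S
    rw [mu_tmul, map_one, mul_one]
    have h1 : algebraMap R D r ∈ maximalIdeal D := by
      obtain ⟨x, s, rfl⟩ := IsLocalization.exists_mk'_eq p₀.primeCompl r
      have hx : x ∈ p₀ := (IsLocalization.AtPrime.mk'_mem_maximal_iff R p₀ x s).mp hr
      change ιR (IsLocalization.mk' R x s) ∈ _
      rw [IsLocalization.lift_mk']
      exact Ideal.mul_mem_right _ _ hx
    exact (mem_maximalIdeal _).mpr (fun hu =>
      (mem_maximalIdeal _).mp h1 (isUnit_of_map_unit (algebraMap D S) _ hu))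
  let ι : R ⊗[A] B₀ →ₐ[A] D ⊗[A] B₀ :=
    Algebra.TensorProduct.map (IsScalarTower.toAlgHom A R D) (AlgHom.id A B₀)
  have hι1 : ∀ b : B₀, ι ((1 : R) ⊗ₜ[A] b) = (1 : D) ⊗ₜ[A] b := by
    intro b
    change (Algebra.TensorProduct.map (IsScalarTower.toAlgHom A R D) (AlgHom.id A B₀))
      ((1 : R) ⊗ₜ[A] b) = _
    rw [Algebra.TensorProduct.map_tmul, map_one]
    rfl
  let t₀' : R ⊗[A] B₀ := ∑ i ∈ I.attach, (algebraMap D₀ R ⟨i.1.1, hσ i.1 i.2⟩) ⊗ₜ[A] i.1.2
  have ht₀' : ι t₀' = t₀ := by
    rw [hI, ← Finset.sum_attach I, map_sum]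
    refine Finset.sum_congr rfl (fun i _ => ?_)
    change (Algebra.TensorProduct.map (IsScalarTower.toAlgHom A R D) (AlgHom.id A B₀))
      ((algebraMap D₀ R ⟨i.1.1, hσ i.1 i.2⟩) ⊗ₜ[A] i.1.2) = _
    rw [Algebra.TensorProduct.map_tmul]
    congr 1
    change algebraMap R D (algebraMap D₀ R _) = _
    rw [← IsScalarTower.algebraMap_apply D₀ R D]
    rfl
  have hsurj : Function.Surjective (algebraMap R D) := by
    apply surjective_algebraMap_of_tensor 𝔮 h𝔮
    intro d
    obtain ⟨b, s, hs, hbs⟩ := ha d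
    have hx : mu φ (d ⊗ₜ[A] s - (1 : D) ⊗ₜ[A] b) = 0 := by
      rw [map_sub, mu_tmul, mu_tmul, map_one, one_mul, mul_comm, hbs, sub_self]
    have h2 := hann _ hx
    refine ⟨t₀' * ((1 : R) ⊗ₜ[A] s), t₀' * ((1 : R) ⊗ₜ[A] b), ?_, ?_⟩
    · change ι (t₀' * ((1 : R) ⊗ₜ[A] s)) ∉ 𝔮
      rw [map_mul, ht₀', hι1]
      change ¬ (mu φ (t₀ * (1 : D) ⊗ₜ[A] s) ∈ maximalIdeal S)
      rw [mem_maximalIdeal, mem_nonunits_iff, not_not, map_mul, mu_tmul, map_one, one_mul]
      exact ht₀.mul hs
    · change ι (t₀' * ((1 : R) ⊗ₜ[A] s)) * _ = ι (t₀' * ((1 : R) ⊗ₜ[A] b))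
      rw [map_mul, map_mul, ht₀', hι1, hι1, mul_assoc, Algebra.TensorProduct.tmul_mul_tmul,
        one_mul, mul_one]
      rw [mul_sub] at h2
      exact sub_eq_zero.mp h2
  rw [Algebra.essFiniteType_iff]
  refine ⟨σ, fun d => ?_⟩
  obtain ⟨r, rfl⟩ := hsurj d
  obtain ⟨x, s, rfl⟩ := IsLocalization.exists_mk'_eq p₀.primeCompl r
  refine ⟨((s : D₀) : D), (s : D₀).2, hunit s, ?_⟩
  have h3 : algebraMap R D (IsLocalization.mk' R x s) * ((s : D₀) : D) = (x : D) := by
    change ιR (IsLocalization.mk' R x s) * algebraMap D₀ D s = algebraMap D₀ D x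
    have h4 : algebraMap D₀ D s = ιR (algebraMap D₀ R s) := (IsLocalization.lift_eq hunit (s : D₀)).symm
    have h5 : algebraMap D₀ D x = ιR (algebraMap D₀ R x) := (IsLocalization.lift_eq hunit (x : D₀)).symm
    rw [h4, h5, ← map_mul, IsLocalization.mk'_spec]
  rw [h3]
  exact x.2

end Core2

end Groth.Agent.Lib.Helper98.EssFTDescent
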