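import Mathlib

/-!
# Essentially finite type local algebras as localizations at maximal ideals (helper98)
-/

set_option autoImplicit false
set_option linter.style.haveILetI false
universe u

namespace Groth.Agent.Lib.Helper98.EssFiniteLocal

open IsLocalRing

theorem exists_field_algebraic_residue (k S : Type u) [Field k] [CommRing S] [IsLocalRing S]
    [Algebra k S] :
    ∃ (K : Type u) (_ : Field K) (_ : Algebra k K) (_ : Algebra K S) (_ : IsScalarTower k K S),
      Algebra.IsAlgebraic K (ResidueField S) := by
  obtain ⟨s, hs⟩ := exists_isTranscendenceBasis k (ResidueField S)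
  have hlift : ∀ b : s, ∃ t : S, residue S t = (b : ResidueField S) :=
    fun b => residue_surjective _
  choose t ht using hlift
  let θ : MvPolynomial s k →ₐ[k] S := MvPolynomial.aeval t
  have hθres : ∀ P : MvPolynomial s k,
      residue S (θ P) = MvPolynomial.aeval ((↑) : s → ResidueField S) P := by
    intro P
    have h1 : ((IsScalarTower.toAlgHom k S (ResidueField S)).comp θ) =
        MvPolynomial.aeval ((↑) : s → ResidueField S) := by
      apply MvPolynomial.algHom_ext
      intro b
      simp [θ, ht]
    exact AlgHom.congr_fun h1 P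
  have hunit : ∀ y : nonZeroDivisors (MvPolynomial s k), IsUnit (θ.toRingHom y) := by
    intro y
    have hy : (y : MvPolynomial s k) ≠ 0 := nonZeroDivisors.ne_zero y.2
    rw [← residue_ne_zero_iff_isUnit]
    change residue S (θ y) ≠ 0
    rw [hθres]
    intro h0
    exact hy (hs.1 (by rw [h0, map_zero]))
  let K := FractionRing (MvPolynomial s k)
  let φ : K →+* S := IsLocalization.lift (M := nonZeroDivisors (MvPolynomial s k)) hunit
  letI : Algebra K S := φ.toAlgebra
  have htower : IsScalarTower k K S := by
    refine IsScalarTower.of_algebraMap_eq (fun c => ?_)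
    change algebraMap k S c = φ (algebraMap k K c)
    rw [IsScalarTower.algebraMap_apply k (MvPolynomial s k) K, IsLocalization.lift_eq]
    simp [θ]
  refine ⟨K, inferInstance, inferInstance, inferInstance, htower, ?_⟩
  letI algMS : Algebra (MvPolynomial s k) S := θ.toRingHom.toAlgebra
  haveI tower2 : IsScalarTower (MvPolynomial s k) K S := by
    refine IsScalarTower.of_algebraMap_eq (fun x => ?_)
    change θ x = φ (algebraMap (MvPolynomial s k) K x)
    rw [IsLocalization.lift_eq]
    rfl
  haveI tower3 : IsScalarTower (MvPolynomial s k) K (ResidueField S) := by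
    refine IsScalarTower.of_algebraMap_eq (fun x => ?_)
    change residue S (algebraMap (MvPolynomial s k) S x) =
      residue S (algebraMap K S (algebraMap (MvPolynomial s k) K x))
    rw [← IsScalarTower.algebraMap_apply (MvPolynomial s k) K S]
  haveI halg0 : Algebra.IsAlgebraic (Algebra.adjoin k (Set.range ((↑) : s → ResidueField S)))
      (ResidueField S) := hs.isAlgebraic
  haveI halg1 : Algebra.IsAlgebraic (MvPolynomial s k) (ResidueField S) := by
    refine Algebra.IsAlgebraic.of_ringHom_of_comp_eq
      (S := Algebra.adjoin k (Set.range ((↑) : s → ResidueField S))) (B := ResidueField S)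
      (hs.1.aevalEquiv : MvPolynomial s k →+* _) (RingHom.id (ResidueField S))
      hs.1.aevalEquiv.surjective Function.injective_id ?_
    refine RingHom.ext fun P => ?_
    change algebraMap _ (ResidueField S) (hs.1.aevalEquiv P) = residue S (θ P)
    rw [hs.1.algebraMap_aevalEquiv, hθres]
  exact Algebra.IsAlgebraic.extendScalars (R := MvPolynomial s k) (S := K)
    (IsFractionRing.injective (MvPolynomial s k) K)

theorem exists_localization_maximal (K S : Type u) [Field K] [CommRing S] [IsDomain S]
    [IsLocalRing S] [Algebra K S] [Algebra.EssFiniteType K S]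
    [Algebra.IsAlgebraic K (ResidueField S)] :
    ∃ (B : Subalgebra K S) (_ : Algebra.FiniteType K B) (p : Ideal B) (_ : p.IsMaximal),
      IsLocalization.AtPrime S p := by
  let B := Algebra.EssFiniteType.subalgebra K S
  let ψ : B →ₐ[K] ResidueField S := (IsScalarTower.toAlgHom K S (ResidueField S)).comp B.val
  have hψ : ∀ x : B, ψ x = residue S (x : S) := fun x => rfl
  have hprime : (RingHom.ker ψ).IsPrime := RingHom.ker_isPrime ψ.toRingHom
  have hmax : (RingHom.ker ψ).IsMaximal := by
    have inj : Function.Injective (Ideal.kerLiftAlg ψ) := Ideal.kerLiftAlg_injective ψ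
    haveI : Algebra.IsAlgebraic K (B ⧸ RingHom.ker ψ) :=
      Algebra.IsAlgebraic.of_injective (Ideal.kerLiftAlg ψ) inj
    haveI : Algebra.IsIntegral K (B ⧸ RingHom.ker ψ) := Algebra.IsAlgebraic.isIntegral
    haveI : IsDomain (B ⧸ RingHom.ker ψ) := Ideal.Quotient.isDomain _
    exact Ideal.Quotient.maximal_of_isField _
      (isField_of_isIntegral_of_isField' (Field.toIsField K))
  refine ⟨B, inferInstance, RingHom.ker ψ, hmax, ?_⟩
  have heq : Algebra.EssFiniteType.submonoid K S = (RingHom.ker ψ).primeCompl := by
    ext x
    change IsUnit (algebraMap B S x) ↔ x ∉ RingHom.ker ψ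
    rw [RingHom.mem_ker, hψ, ← ne_eq, residue_ne_zero_iff_isUnit]
    rfl
  have hloc := Algebra.EssFiniteType.isLocalization (R := K) (S := S)
  rw [heq] at hloc
  exact hloc

end Groth.Agent.Lib.Helper98.EssFiniteLocal
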