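import Mathlib

set_option autoImplicit false
universe u

namespace Groth.Agent.Lib.Helper98.EtaleValuation

open TensorProduct

/-- Over an integrally closed domain `V` with fraction field `K`, every element of
`T ⊗[V] integralClosure V K` maps to a pure tensor `σ ⊗ 1` of `T ⊗[V] K`. -/
theorem exists_tmul_one_of_integralClosure (V : Type*) [CommRing V] [IsDomain V] [IsIntegrallyClosed V]
    (T : Type*) [CommRing T] [Algebra V T]
    (z : T ⊗[V] integralClosure V (FractionRing V)) :
    ∃ σ : T, (Algebra.TensorProduct.map (AlgHom.id T T)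
      (integralClosure V (FractionRing V)).val) z = σ ⊗ₜ[V] (1 : FractionRing V) := by
  induction z with
  | zero => exact ⟨0, by simp⟩
  | add x y hx hy =>
    obtain ⟨σ, hσ⟩ := hx
    obtain ⟨σ', hσ'⟩ := hy
    exact ⟨σ + σ', by rw [map_add, hσ, hσ', TensorProduct.add_tmul]⟩
  | tmul t y =>
    obtain ⟨y, hy⟩ := y
    obtain ⟨v, rfl⟩ := IsIntegrallyClosed.isIntegral_iff.mp hy
    refine ⟨v • t, ?_⟩
    simp only [Algebra.TensorProduct.map_tmul, AlgHom.coe_id, id_eq, Subalgebra.coe_val]
    rw [TensorProduct.smul_tmul, Algebra.smul_def, mul_one]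

/-- Normality of smooth algebras over a normal domain, in divisibility form: if `τ ^ n = f ^ n * ω`
in a smooth algebra `T` over an integrally closed domain `V`, with `f ≠ 0` in `V` and `n ≠ 0`,
then `f` divides `τ` in `T`. -/
theorem dvd_of_pow_eq_pow_mul (V : Type u) [CommRing V] [IsDomain V] [IsIntegrallyClosed V]
    (T : Type u) [CommRing T] [Algebra V T] [Algebra.Smooth V T]
    (τ ω : T) (f : V) (hf : f ≠ 0) (n : ℕ) (hn : n ≠ 0)
    (h : τ ^ n = algebraMap V T f ^ n * ω) : ∃ σ : T, τ = algebraMap V T f * σ := by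
  let K := FractionRing V
  have hfK : algebraMap V K f ≠ 0 := by
    simpa using (IsFractionRing.injective V K).ne hf
  let θ : T ⊗[V] K := τ ⊗ₜ[V] (algebraMap V K f)⁻¹
  have hθn : θ ^ n = ω ⊗ₜ[V] (1 : K) := by
    show (τ ⊗ₜ[V] (algebraMap V K f)⁻¹) ^ n = _
    rw [Algebra.TensorProduct.tmul_pow, h, ← map_pow, ← Algebra.smul_def, TensorProduct.smul_tmul,
      Algebra.smul_def, map_pow, ← mul_pow, mul_inv_cancel₀ hfK, one_pow]
  have hint : IsIntegral T θ := by
    refine ⟨Polynomial.X ^ n - Polynomial.C ω, Polynomial.monic_X_pow_sub_C ω hn, ?_⟩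
    simp only [Polynomial.eval₂_sub, Polynomial.eval₂_pow, Polynomial.eval₂_X, Polynomial.eval₂_C, hθn]
    rw [Algebra.TensorProduct.algebraMap_apply, Algebra.algebraMap_self_apply, sub_self]
  obtain ⟨z, hz⟩ := (TensorProduct.toIntegralClosure_bijective_of_smooth (R := V) (S := T)
    (B := K)).2 ⟨θ, hint⟩
  obtain ⟨σ, hσ⟩ := exists_tmul_one_of_integralClosure V T z
  have hz' : (Algebra.TensorProduct.map (AlgHom.id T T) (integralClosure V K).val) z = θ := by
    have := congrArg Subtype.val hz
    simpa [TensorProduct.toIntegralClosure] using this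
  rw [hz'] at hσ
  refine ⟨σ, ?_⟩
  have hinj : Function.Injective (Algebra.TensorProduct.includeLeft : T →ₐ[V] T ⊗[V] K) :=
    Algebra.TensorProduct.includeLeft_injective (IsFractionRing.injective V K)
  apply hinj
  simp only [Algebra.TensorProduct.includeLeft_apply]
  have h1 : τ ⊗ₜ[V] (1 : K) = ((1 : T) ⊗ₜ[V] (algebraMap V K f)) * θ := by
    simp only [θ, Algebra.TensorProduct.tmul_mul_tmul, one_mul, mul_inv_cancel₀ hfK]
  rw [h1, hσ, Algebra.TensorProduct.tmul_mul_tmul, one_mul, mul_one, ← Algebra.smul_def,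
    Algebra.algebraMap_eq_smul_one, TensorProduct.smul_tmul]

end Groth.Agent.Lib.Helper98.EtaleValuation
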