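import Mathlib

set_option autoImplicit false
universe u

namespace Groth.Agent.Lib.Helper98.EtaleValuation

open TensorProduct

/-- In a valuation ring, a nonempty finite family has a member dividing all the others. -/
theorem exists_dvd_all {W : Type*} [CommRing W] [IsDomain W] [ValuationRing W] {ι : Type*}
    (s : Finset ι) (hs : s.Nonempty) (t : ι → W) : ∃ i ∈ s, ∀ j ∈ s, t i ∣ t j := by
  classical
  induction hs using Finset.Nonempty.cons_induction with
  | singleton a => exact ⟨a, by simp, by simp⟩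
  | cons a s ha hs ih =>
    obtain ⟨i, hi, hdiv⟩ := ih
    rcases ValuationRing.dvd_total (t a) (t i) with h | h
    · refine ⟨a, by simp, ?_⟩
      intro j hj
      rcases Finset.mem_cons.mp hj with rfl | hj
      · exact dvd_rfl
      · exact h.trans (hdiv j hj)
    · refine ⟨i, by simp [hi], ?_⟩
      intro j hj
      rcases Finset.mem_cons.mp hj with rfl | hj
      · exact h
      · exact hdiv j hj

/-- The value group of an algebraic extension of valuation rings is torsion over the base. -/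
theorem exists_pow_eq_unit_mul (V : Type*) [CommRing V] [IsDomain V] [ValuationRing V]
    (W : Type*) [CommRing W] [IsDomain W] [ValuationRing W] [Algebra V W]
    (hinj : Function.Injective (algebraMap V W)) [IsLocalHom (algebraMap V W)]
    (h : W) (hh : h ≠ 0) (halg : IsAlgebraic V h) :
    ∃ n : ℕ, n ≠ 0 ∧ ∃ f : V, f ≠ 0 ∧ ∃ u : Wˣ, h ^ n = u * algebraMap V W f := by
  classical
  obtain ⟨p, hp0, hp⟩ := halg
  let t : ℕ → W := fun i => algebraMap V W (p.coeff i) * h ^ i
  have hsupp : p.support.Nonempty := Polynomial.nonempty_support_iff.mpr hp0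
  have htne : ∀ i ∈ p.support, t i ≠ 0 := by
    intro i hi
    have h1 : p.coeff i ≠ 0 := Polynomial.mem_support_iff.mp hi
    have h2 : algebraMap V W (p.coeff i) ≠ 0 := by
      intro h0; exact h1 (hinj (by rw [h0, map_zero]))
    exact mul_ne_zero h2 (pow_ne_zero _ hh)
  have hsum : ∑ i ∈ p.support, t i = 0 := by
    rw [← hp, Polynomial.aeval_def, Polynomial.eval₂_eq_sum, Polynomial.sum_def]
  obtain ⟨i₀, hi₀, hdiv⟩ := exists_dvd_all p.support hsupp t
  choose! q hq using hdiv
  have hq0 : q i₀ = 1 := by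
    have := hq i₀ hi₀
    exact (mul_right_cancel₀ (htne i₀ hi₀) (by rw [one_mul, mul_comm]; exact this.symm))
  have hsumq : ∑ i ∈ p.support, q i = 0 := by
    have h1 : t i₀ * ∑ i ∈ p.support, q i = 0 := by
      rw [Finset.mul_sum, ← hsum]
      exact Finset.sum_congr rfl (fun i hi => (hq i hi).symm)
    exact (mul_eq_zero.mp h1).resolve_left (htne i₀ hi₀)
  -- some `q i` with `i ≠ i₀` is a unit
  obtain ⟨i, hi, hne, hu⟩ : ∃ i ∈ p.support, i ≠ i₀ ∧ IsUnit (q i) := by
    by_contra hcon
    push Not at hcon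
    have hmem : ∑ i ∈ p.support.erase i₀, q i ∈ IsLocalRing.maximalIdeal W := by
      refine Ideal.sum_mem _ (fun i hi => ?_)
      rw [IsLocalRing.mem_maximalIdeal, mem_nonunits_iff]
      exact hcon i (Finset.mem_of_mem_erase hi) (Finset.ne_of_mem_erase hi)
    rw [← Finset.add_sum_erase _ _ hi₀, hq0] at hsumq
    have h1 : (1 : W) ∈ IsLocalRing.maximalIdeal W := by
      have : (1 : W) = -∑ i ∈ p.support.erase i₀, q i := eq_neg_of_add_eq_zero_left hsumq
      rw [this]
      exact neg_mem hmem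
    exact (Ideal.ne_top_iff_one _).mp (IsLocalRing.maximalIdeal.isMaximal W).ne_top h1
  -- the relation `c i * h ^ i = c i₀ * h ^ i₀ * q i`
  have hrel : algebraMap V W (p.coeff i) * h ^ i = algebraMap V W (p.coeff i₀) * h ^ i₀ * q i :=
    hq i hi
  have hci : p.coeff i ≠ 0 := Polynomial.mem_support_iff.mp hi
  have hci₀ : p.coeff i₀ ≠ 0 := Polynomial.mem_support_iff.mp hi₀
  -- general conclusion from `c * h ^ n = u * c'`
  have key : ∀ (n : ℕ) (c c' : V) (u : Wˣ), n ≠ 0 → c ≠ 0 → c' ≠ 0 →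
      algebraMap V W c * h ^ n = u * algebraMap V W c' →
      ∃ n : ℕ, n ≠ 0 ∧ ∃ f : V, f ≠ 0 ∧ ∃ u : Wˣ, h ^ n = u * algebraMap V W f := by
    intro n c c' u hn hc hc' hE
    have hcW : algebraMap V W c ≠ 0 := fun h0 => hc (hinj (by rw [h0, map_zero]))
    have hc'W : algebraMap V W c' ≠ 0 := fun h0 => hc' (hinj (by rw [h0, map_zero]))
    obtain ⟨f, rfl⟩ : c ∣ c' := by
      rcases ValuationRing.dvd_total c c' with h1 | ⟨d, rfl⟩
      · exact h1
      · -- `c = c' * d`, so `d * h ^ n = u`, hence `d` is a unit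
        have h2 : algebraMap V W d * h ^ n = u := by
          have h3 : algebraMap V W c' * (algebraMap V W d * h ^ n) = algebraMap V W c' * u := by
            rw [← mul_assoc, ← map_mul, hE, mul_comm]
          exact mul_left_cancel₀ hc'W h3
        have h4 : IsUnit (algebraMap V W d) := isUnit_of_mul_isUnit_left (h2 ▸ u.isUnit)
        have h5 : IsUnit d := isUnit_of_map_unit (algebraMap V W) d h4
        obtain ⟨e, rfl⟩ := h5
        exact ⟨(e⁻¹ : Vˣ), by rw [mul_assoc, Units.mul_inv, mul_one]⟩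
    refine ⟨n, hn, f, right_ne_zero_of_mul hc', u, ?_⟩
    rw [map_mul, ← mul_assoc, mul_comm (u : W), mul_assoc] at hE
    exact mul_left_cancel₀ hcW hE
  obtain ⟨uq, huq⟩ := hu
  rcases lt_or_gt_of_ne hne with hlt | hgt
  · -- `i < i₀`
    obtain ⟨n, rfl⟩ : ∃ n, i₀ = i + n := ⟨i₀ - i, by omega⟩
    have hn : n ≠ 0 := by omega
    refine key n (p.coeff (i + n)) (p.coeff i) uq⁻¹ hn hci₀ hci ?_
    have h1 : algebraMap V W (p.coeff i) * h ^ i =
        (algebraMap V W (p.coeff (i + n)) * h ^ n * uq) * h ^ i := by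
      rw [hrel, ← huq, pow_add]; ring
    have h2 := mul_right_cancel₀ (pow_ne_zero i hh) h1
    rw [h2, mul_comm ((uq⁻¹ : Wˣ) : W), mul_assoc, Units.mul_inv, mul_one]
  · -- `i₀ < i`
    obtain ⟨n, rfl⟩ : ∃ n, i = i₀ + n := ⟨i - i₀, by omega⟩
    have hn : n ≠ 0 := by omega
    refine key n (p.coeff (i₀ + n)) (p.coeff i₀) uq hn hci hci₀ ?_
    have h1 : (algebraMap V W (p.coeff (i₀ + n)) * h ^ n) * h ^ i₀ =
        (uq * algebraMap V W (p.coeff i₀)) * h ^ i₀ := by
      rw [huq]
      rw [pow_add] at hrel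
      linear_combination hrel
    exact mul_right_cancel₀ (pow_ne_zero i₀ hh) h1

end Groth.Agent.Lib.Helper98.EtaleValuation
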