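import Mathlib

set_option autoImplicit false
universe u

namespace Groth.Agent.Lib.Helper98.EtaleValuation

open TensorProduct

/-- Elements of `I • ⊤ ⊆ W` over a valuation ring `V` are multiples of a single element of `I`. -/
theorem exists_mem_dvd_of_mem_smul_top (V : Type*) [CommRing V] [IsDomain V] [ValuationRing V]
    (W : Type*) [CommRing W] [Algebra V W] (I : Ideal V) (x : W)
    (hx : x ∈ I • (⊤ : Submodule V W)) : ∃ a ∈ I, algebraMap V W a ∣ x := by
  refine Submodule.smul_induction_on hx ?_ ?_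
  · intro r hr n _
    exact ⟨r, hr, ⟨n, by rw [Algebra.smul_def]⟩⟩
  · rintro x y ⟨a, ha, x', rfl⟩ ⟨a', ha', y', rfl⟩
    rcases ValuationRing.dvd_total a a' with ⟨c, rfl⟩ | ⟨c, rfl⟩
    · exact ⟨a, ha, ⟨x' + algebraMap V W c * y', by rw [map_mul]; ring⟩⟩
    · exact ⟨a', ha', ⟨algebraMap V W c * x' + y', by rw [map_mul]; ring⟩⟩

/-- Flatness extraction: if `1 ⊗ g ∈ (g ⊗ 1)(W ⊗[V] W)` for a flat algebra `W` over a valuation
ring `V`, then `g` is associated (in the sense of mutual divisibility) to an element of `V`. -/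
theorem exists_dvd_dvd_of_one_tmul_eq (V : Type u) [CommRing V] [IsDomain V] [ValuationRing V]
    (W : Type u) [CommRing W] [Algebra V W] [Module.Flat V W]
    (g : W) (σ : W ⊗[V] W) (h : (1 : W) ⊗ₜ[V] g = (g ⊗ₜ[V] (1 : W)) * σ) :
    ∃ a : V, algebraMap V W a ∣ g ∧ g ∣ algebraMap V W a := by
  let J : Ideal W := Ideal.span {g}
  let I : Ideal V := J.comap (algebraMap V W)
  -- the quotient map as a `V`-linear map
  let q : W →ₗ[V] W ⧸ J := (Ideal.Quotient.mkₐ V J).toLinearMap
  let ι : V ⧸ I →ₗ[V] W ⧸ J := Submodule.liftQ I (q ∘ₗ Algebra.linearMap V W) (by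
    intro v hv
    simp only [LinearMap.mem_ker, LinearMap.coe_comp, Function.comp_apply, Algebra.linearMap_apply, q,
      AlgHom.toLinearMap_apply, Ideal.Quotient.mkₐ_eq_mk, Ideal.Quotient.eq_zero_iff_mem]
    exact hv)
  have hι : Function.Injective ι := by
    rw [← LinearMap.ker_eq_bot, Submodule.ker_liftQ_eq_bot']
    apply le_antisymm
    · intro v hv
      simp only [LinearMap.mem_ker, LinearMap.coe_comp, Function.comp_apply, Algebra.linearMap_apply, q,
        AlgHom.toLinearMap_apply, Ideal.Quotient.mkₐ_eq_mk, Ideal.Quotient.eq_zero_iff_mem]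
      exact hv
    · intro v hv
      simp only [LinearMap.mem_ker, LinearMap.coe_comp, Function.comp_apply, Algebra.linearMap_apply, q,
        AlgHom.toLinearMap_apply, Ideal.Quotient.mkₐ_eq_mk, Ideal.Quotient.eq_zero_iff_mem] at hv
      exact hv
  have hι' : Function.Injective (ι.rTensor W) :=
    Module.Flat.rTensor_preserves_injective_linearMap ι hι
  -- `q ⊗ id` kills `(g ⊗ 1) * σ`
  have hkill : ∀ σ : W ⊗[V] W, q.rTensor W ((g ⊗ₜ[V] (1 : W)) * σ) = 0 := by
    intro σ
    induction σ with
    | zero => simp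
    | add x y hx hy => rw [mul_add, map_add, hx, hy, add_zero]
    | tmul x y =>
      rw [Algebra.TensorProduct.tmul_mul_tmul, LinearMap.rTensor_tmul]
      have : q (g * x) = 0 := by
        simp only [q, AlgHom.toLinearMap_apply, Ideal.Quotient.mkₐ_eq_mk, Ideal.Quotient.eq_zero_iff_mem]
        exact Ideal.mul_mem_right _ _ (Ideal.subset_span rfl)
      rw [this, TensorProduct.zero_tmul]
  have hz : (Ideal.Quotient.mk I 1) ⊗ₜ[V] g = (0 : (V ⧸ I) ⊗[V] W) := by
    apply hι'
    rw [LinearMap.rTensor_tmul, map_zero]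
    have h1 : ι (Ideal.Quotient.mk I 1) = q 1 := by
      show ι (Submodule.Quotient.mk 1) = q 1
      simp only [ι, Submodule.liftQ_apply, LinearMap.coe_comp, Function.comp_apply,
        Algebra.linearMap_apply, map_one]
    rw [h1, ← LinearMap.rTensor_tmul, h, hkill]
  have hmem : g ∈ I • (⊤ : Submodule V W) := by
    have := congrArg (TensorProduct.quotTensorEquivQuotSMul W I) hz
    rw [TensorProduct.quotTensorEquivQuotSMul_mk_tmul, map_zero, one_smul,
      Submodule.Quotient.mk_eq_zero] at this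
    exact this
  obtain ⟨a, ha, hag⟩ := exists_mem_dvd_of_mem_smul_top V W I g hmem
  refine ⟨a, hag, ?_⟩
  have : algebraMap V W a ∈ J := ha
  exact Ideal.mem_span_singleton.mp this

end Groth.Agent.Lib.Helper98.EtaleValuation
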