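import Mathlib
import Groth.Agent.Lib.Helper98.EtaleValuationB

set_option autoImplicit false
universe u

namespace Groth.Agent.Lib.Helper98.EtaleValuation

open TensorProduct

/-- Endgame: a tensor relation `h₁ ⊗ g₁ = f • σ` with `h₁ g₁ = u f` forces `h₁` to be a unit
multiple of an element of `V`. -/
theorem exists_eq_unit_mul_of_tensor_relation (V : Type u) [CommRing V] [IsDomain V]
    [ValuationRing V] (W : Type u) [CommRing W] [IsDomain W] [Algebra V W] [Module.Flat V W]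
    (hinj : Function.Injective (algebraMap V W)) [IsLocalHom (algebraMap V W)]
    (h₁ g₁ : W) (u : Wˣ) (f : V) (hf : f ≠ 0) (hhg : h₁ * g₁ = u * algebraMap V W f)
    (σ : W ⊗[V] W) (hσ : h₁ ⊗ₜ[V] g₁ = algebraMap V (W ⊗[V] W) f * σ) :
    ∃ (a : V) (u' : Wˣ), h₁ = u' * algebraMap V W a := by
  have hfW : algebraMap V W f ≠ 0 := fun h0 => hf (hinj (by rw [h0, map_zero]))
  have hprod : h₁ * g₁ ≠ 0 := by rw [hhg]; exact mul_ne_zero u.ne_zero hfW
  have hh₁ : h₁ ≠ 0 := left_ne_zero_of_mul hprod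
  have hg₁ : g₁ ≠ 0 := right_ne_zero_of_mul hprod
  -- cancel `h₁`
  have hreg : IsSMulRegular (W ⊗[V] W) h₁ :=
    Module.Flat.isSMulRegular_of_nonZeroDivisors (mem_nonZeroDivisors_of_ne_zero hh₁)
  let σ' : W ⊗[V] W := (((u⁻¹ : Wˣ) : W) ⊗ₜ[V] (1 : W)) * σ
  have h1 : (1 : W) ⊗ₜ[V] g₁ = (g₁ ⊗ₜ[V] (1 : W)) * σ' := by
    apply hreg
    simp only [Algebra.smul_def, Algebra.TensorProduct.algebraMap_apply, Algebra.algebraMap_self_apply,
      σ', ← mul_assoc, Algebra.TensorProduct.tmul_mul_tmul, mul_one, one_mul]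
    rw [hσ, hhg, Algebra.TensorProduct.algebraMap_apply]
    congr 2
    rw [mul_comm (u : W), mul_assoc, Units.mul_inv, mul_one]
  obtain ⟨a, ⟨x, hx⟩, ⟨y, hy⟩⟩ := exists_dvd_dvd_of_one_tmul_eq V W g₁ σ' h1
  -- `x` is a unit
  have hxy : y * x = 1 := by
    have : g₁ * (y * x) = g₁ * 1 := by rw [mul_one, ← mul_assoc, ← hy, ← hx]
    exact mul_left_cancel₀ hg₁ this
  have haW : algebraMap V W a ≠ 0 := by
    intro h0; rw [h0, zero_mul] at hx; exact hg₁ hx
  -- `a ∣ f` in `V`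
  have hrel : algebraMap V W a * (h₁ * x) = u * algebraMap V W f := by
    rw [← hhg, hx]; ring
  obtain ⟨e, rfl⟩ : a ∣ f := by
    rcases ValuationRing.dvd_total a f with h2 | ⟨d, rfl⟩
    · exact h2
    · have h3 : algebraMap V W d * (h₁ * x) = u := by
        have : algebraMap V W f * (algebraMap V W d * (h₁ * x)) = algebraMap V W f * u := by
          rw [← mul_assoc, ← map_mul, hrel, mul_comm]
        exact mul_left_cancel₀ hfW this
      have h4 : IsUnit (algebraMap V W d) := isUnit_of_mul_isUnit_left (h3 ▸ u.isUnit)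
      obtain ⟨e, rfl⟩ := isUnit_of_map_unit (algebraMap V W) d h4
      exact ⟨(e⁻¹ : Vˣ), by rw [mul_assoc, Units.mul_inv, mul_one]⟩
  have h5 : h₁ * x = u * algebraMap V W e := by
    have : algebraMap V W a * (h₁ * x) = algebraMap V W a * (u * algebraMap V W e) := by
      rw [hrel, map_mul]; ring
    exact mul_left_cancel₀ haW this
  let ux : Wˣ := ⟨x, y, by rw [mul_comm]; exact hxy, hxy⟩
  refine ⟨e, u * ux⁻¹, ?_⟩
  have : h₁ = h₁ * x * y := by rw [mul_assoc, mul_comm x y, hxy, mul_one]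
  rw [this, h5]
  simp only [Units.val_mul, ux, Units.inv_mk]
  ring

end Groth.Agent.Lib.Helper98.EtaleValuation
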