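import Mathlib
import Groth.Agent.Lib.Helper36.OlivierVal
import Groth.Agent.Lib.Helper98.EtaleValuationA
import Groth.Agent.Lib.Helper98.EtaleValuationC
import Groth.Agent.Lib.Helper98.EtaleValuationE

set_option autoImplicit false
universe u

namespace Groth.Agent.Lib.Helper98.EtaleValuation

open TensorProduct

/-- Elements of an étale algebra over a domain are algebraic over the base. -/
theorem isAlgebraic_of_etale (V : Type u) [CommRing V] [IsDomain V]
    (B : Type u) [CommRing B] [Algebra V B] [Algebra.Etale V B] (b : B) : IsAlgebraic V b := by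
  let K := FractionRing V
  have : Module.Finite K (K ⊗[V] B) := Module.Finite.of_quasiFinite
  have h1 : IsAlgebraic K ((1 : K) ⊗ₜ[V] b) :=
    (Algebra.IsIntegral.isIntegral (R := K) ((1 : K) ⊗ₜ[V] b)).isAlgebraic
  have h2 : IsAlgebraic V ((1 : K) ⊗ₜ[V] b) :=
    (IsFractionRing.isAlgebraic_iff V K (K ⊗[V] B)).mpr h1
  have hinj : Function.Injective (Algebra.TensorProduct.includeRight : B →ₐ[V] K ⊗[V] B) :=
    Algebra.TensorProduct.includeRight_injective (IsFractionRing.injective V K)
  exact (isAlgebraic_algHom_iff _ hinj).mp h2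

/-- The local ring of an étale algebra over a local ring at a prime over the maximal ideal
is local over the base. -/
theorem isLocalHom_of_comap_eq (V : Type*) [CommRing V] [IsLocalRing V]
    (B : Type*) [CommRing B] [Algebra V B] (m : Ideal B) [m.IsPrime]
    (hm : m.comap (algebraMap V B) = IsLocalRing.maximalIdeal V) :
    IsLocalHom (algebraMap V (Localization.AtPrime m)) := by
  refine ⟨fun x hx => ?_⟩
  rw [IsScalarTower.algebraMap_apply V B (Localization.AtPrime m),
    IsLocalization.AtPrime.isUnit_to_map_iff (Localization.AtPrime m) m] at hx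
  by_contra hnu
  have : x ∈ IsLocalRing.maximalIdeal V := (IsLocalRing.mem_maximalIdeal x).mpr hnu
  rw [← hm] at this
  exact hx this

/-- **Étale-local extensions of valuation rings are weakly unramified** (Stacks 0ASJ): every
nonzero element of the local ring of an étale `V`-algebra at a prime over the maximal ideal is a
unit multiple of an element of `V`. -/
theorem exists_eq_unit_mul_of_etale (V : Type u) [CommRing V] [IsDomain V] [ValuationRing V]
    (B : Type u) [CommRing B] [Algebra V B] [Algebra.Etale V B] (m : Ideal B) [m.IsPrime]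
    (hm : m.comap (algebraMap V B) = IsLocalRing.maximalIdeal V)
    [IsDomain (Localization.AtPrime m)] [ValuationRing (Localization.AtPrime m)]
    (b : Localization.AtPrime m) (hb : b ≠ 0) :
    ∃ (a : V) (u : (Localization.AtPrime m)ˣ),
      b = u * algebraMap V (Localization.AtPrime m) a := by
  let W := Localization.AtPrime m
  have flatVW : Module.Flat V W := Module.Flat.trans V B W
  have hinj : Function.Injective (algebraMap V W) :=
    Groth.Agent.Lib.Helper36.Olivier.algebraMap_injective_of_flat V W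
  have hloc : IsLocalHom (algebraMap V W) := isLocalHom_of_comap_eq V B m hm
  have hEt : Algebra.Etale V (B ⊗[V] B) := Algebra.Etale.comp V B (B ⊗[V] B)
  -- reduce to elements coming from `B`
  suffices key : ∀ b₀ : B, algebraMap B W b₀ ≠ 0 →
      ∃ (a : V) (u : Wˣ), algebraMap B W b₀ = u * algebraMap V W a by
    obtain ⟨⟨b₀, s⟩, hspec⟩ := IsLocalization.surj m.primeCompl b
    have hs : IsUnit (algebraMap B W s) := IsLocalization.map_units W s
    obtain ⟨us, hus⟩ := hs
    simp only at hspec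
    have hb₀ : algebraMap B W b₀ ≠ 0 := by
      rw [← hspec, ← hus]; exact mul_ne_zero hb us.ne_zero
    obtain ⟨a, u, hu⟩ := key b₀ hb₀
    refine ⟨a, us⁻¹ * u, ?_⟩
    have : b = (us⁻¹ : Wˣ) * algebraMap B W b₀ := by
      rw [← hspec, ← hus, mul_comm, mul_assoc, Units.mul_inv, mul_one]
    rw [this, hu, Units.val_mul, mul_assoc]
  intro b₀ hb₀
  set h : W := algebraMap B W b₀ with hdef
  have halg : IsAlgebraic V h := (isAlgebraic_of_etale V B b₀).algebraMap
  obtain ⟨n, hn, f, hf, w, hw⟩ := exists_pow_eq_unit_mul V W hinj h hb₀ halg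
  -- clear denominators: `t' * b₀ ^ n = c' * f` in `B` with `t', c' ∉ m`
  obtain ⟨t', ht', c', hc', hB⟩ : ∃ t' ∈ m.primeCompl, ∃ c' ∈ m.primeCompl,
      t' * b₀ ^ n = c' * algebraMap V B f := by
    obtain ⟨⟨c, t⟩, hspec⟩ := IsLocalization.surj m.primeCompl (w : W)
    simp only at hspec
    have hcu : IsUnit (algebraMap B W c) := by
      rw [← hspec]; exact w.isUnit.mul (IsLocalization.map_units W t)
    have hcm : c ∈ m.primeCompl :=
      (IsLocalization.AtPrime.isUnit_to_map_iff W m c).mp hcu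
    have heq : algebraMap B W (b₀ ^ n * t) = algebraMap B W (c * algebraMap V B f) := by
      rw [map_mul, map_mul, map_pow, ← hdef, hw, ← hspec,
        ← IsScalarTower.algebraMap_apply V B W]
      ring
    obtain ⟨r, hr⟩ := (IsLocalization.eq_iff_exists m.primeCompl W).mp heq
    refine ⟨r * t, Submonoid.mul_mem _ r.2 t.2, r * c, Submonoid.mul_mem _ r.2 hcm, ?_⟩
    linear_combination hr
  obtain ⟨k, rfl⟩ : ∃ k, n = k + 1 := ⟨n - 1, by omega⟩
  -- the tensor relation in `B ⊗[V] B`
  let τ : B ⊗[V] B := (t' * b₀) ⊗ₜ[V] (t' * b₀ ^ k)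
  let ω : B ⊗[V] B := (c' * t' ^ k) ⊗ₜ[V] (t' * c' ^ k)
  have hτ : τ ^ (k + 1) = algebraMap V (B ⊗[V] B) f ^ (k + 1) * ω := by
    have e1 : (t' * b₀) ^ (k + 1) = f • (c' * t' ^ k) := by
      rw [Algebra.smul_def]
      linear_combination (t' ^ k) * hB
    have e2 : (t' * b₀ ^ k) ^ (k + 1) = (f ^ k) • (t' * c' ^ k) := by
      rw [Algebra.smul_def, map_pow]
      have : (t' * b₀ ^ k) ^ (k + 1) = t' * (t' * b₀ ^ (k + 1)) ^ k := by ring
      rw [this, hB]; ring
    simp only [τ, ω]
    rw [Algebra.TensorProduct.tmul_pow, e1, e2, TensorProduct.smul_tmul_smul, ← map_pow,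
      ← Algebra.smul_def, pow_succ, mul_comm]
  obtain ⟨σ, hσ⟩ := dvd_of_pow_eq_pow_mul V (B ⊗[V] B) τ ω f hf (k + 1) (by omega) hτ
  -- map to `W ⊗[V] W`
  let φ : B →ₐ[V] W := IsScalarTower.toAlgHom V B W
  let Φ : B ⊗[V] B →ₐ[V] W ⊗[V] W := Algebra.TensorProduct.map φ φ
  have hΦ : (φ (t' * b₀)) ⊗ₜ[V] (φ (t' * b₀ ^ k)) = algebraMap V (W ⊗[V] W) f * Φ σ := by
    have := congrArg Φ hσ
    simp only [τ, Φ, Algebra.TensorProduct.map_tmul, map_mul, AlgHom.commutes] at this
    simpa [Φ] using this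
  have hut : IsUnit (algebraMap B W t') :=
    (IsLocalization.AtPrime.isUnit_to_map_iff W m t').mpr ht'
  have huc : IsUnit (algebraMap B W c') :=
    (IsLocalization.AtPrime.isUnit_to_map_iff W m c').mpr hc'
  obtain ⟨ut, hut'⟩ := hut
  obtain ⟨uc, huc'⟩ := huc
  have hhg : φ (t' * b₀) * φ (t' * b₀ ^ k) = (ut * uc : Wˣ) * algebraMap V W f := by
    rw [← map_mul]
    have : t' * b₀ * (t' * b₀ ^ k) = t' * (t' * b₀ ^ (k + 1)) := by ring
    rw [this, hB, map_mul, map_mul, Units.val_mul, hut', huc']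
    simp only [φ, IsScalarTower.coe_toAlgHom', ← IsScalarTower.algebraMap_apply V B W]
    ring
  obtain ⟨a, u', hu'⟩ := exists_eq_unit_mul_of_tensor_relation V W hinj (φ (t' * b₀))
    (φ (t' * b₀ ^ k)) (ut * uc) f hf hhg (Φ σ) hΦ
  refine ⟨a, ut⁻¹ * u', ?_⟩
  have h3 : φ (t' * b₀) = (ut : W) * h := by
    simp only [φ, IsScalarTower.coe_toAlgHom', map_mul, hut', hdef]
  rw [h3] at hu'
  rw [Units.val_mul, mul_assoc, ← hu', ← mul_assoc, Units.inv_mul, one_mul]

end Groth.Agent.Lib.Helper98.EtaleValuation
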