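import Mathlib.RingTheory.Spectrum.Prime.FreeLocus
import Mathlib.RingTheory.Localization.Module
import Mathlib.Algebra.Module.LocalizedModule.Basic

/-!
Two modules related by maps `f`, `g` with `g ∘ f = r`, `f ∘ g = r` become isomorphic after
inverting `r`.
-/

set_option autoImplicit false
universe u v w

namespace Groth.Agent.Lib.Helper98

variable {R : Type u} [CommRing R] (S : Submonoid R)
  {M : Type v} {N : Type w} [AddCommGroup M] [Module R M] [AddCommGroup N] [Module R N]

/-- `M` and `N` become isomorphic after localization if related by `f`, `g` with both composites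
multiplication by an element of `S`. -/
theorem nonempty_localizedModule_equiv (f : M →ₗ[R] N) (g : N →ₗ[R] M) (r : R) (hr : r ∈ S)
    (hgf : g ∘ₗ f = r • LinearMap.id) (hfg : f ∘ₗ g = r • LinearMap.id) :
    Nonempty (LocalizedModule S M ≃ₗ[Localization S] LocalizedModule S N) := by
  let F := IsLocalizedModule.map S (LocalizedModule.mkLinearMap S M)
    (LocalizedModule.mkLinearMap S N) f
  let G := IsLocalizedModule.map S (LocalizedModule.mkLinearMap S N)
    (LocalizedModule.mkLinearMap S M) g
  have hGF : G ∘ₗ F = r • LinearMap.id := by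
    rw [← IsLocalizedModule.map_comp', hgf, map_smul, IsLocalizedModule.map_id]
  have hFG : F ∘ₗ G = r • LinearMap.id := by
    rw [← IsLocalizedModule.map_comp', hfg, map_smul, IsLocalizedModule.map_id]
  have hbijM : Function.Bijective (r • (LinearMap.id : LocalizedModule S M →ₗ[R] LocalizedModule S M)) := by
    have := IsLocalizedModule.map_units (LocalizedModule.mkLinearMap S M) (⟨r, hr⟩ : S)
    rw [Module.End.isUnit_iff] at this
    convert this using 1
    ext x
    simp [Module.algebraMap_end_apply]
  have hbijN : Function.Bijective (r • (LinearMap.id : LocalizedModule S N →ₗ[R] LocalizedModule S N)) := by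
    have := IsLocalizedModule.map_units (LocalizedModule.mkLinearMap S N) (⟨r, hr⟩ : S)
    rw [Module.End.isUnit_iff] at this
    convert this using 1
    ext x
    simp [Module.algebraMap_end_apply]
  have hinj : Function.Injective F := by
    have : Function.Injective (G ∘ F) := by
      rw [← LinearMap.coe_comp, hGF]; exact hbijM.1
    exact this.of_comp
  have hsurj : Function.Surjective F := by
    have : Function.Surjective (F ∘ G) := by
      rw [← LinearMap.coe_comp, hFG]; exact hbijN.2
    exact this.of_comp
  exact ⟨(LinearEquiv.ofBijective F ⟨hinj, hsurj⟩).extendScalarsOfIsLocalization S (Localization S)⟩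

/-- Consequence for the free locus and the rank at a prime. -/
theorem mem_freeLocus_and_rankAtStalk_eq (p : PrimeSpectrum R)
    [Module.Free R N] [Module.Finite R N]
    (f : M →ₗ[R] N) (g : N →ₗ[R] M) (r : R) (hr : r ∉ p.asIdeal)
    (hgf : g ∘ₗ f = r • LinearMap.id) (hfg : f ∘ₗ g = r • LinearMap.id) :
    p ∈ Module.freeLocus R M ∧ Module.rankAtStalk M p = Module.finrank R N := by
  obtain ⟨e⟩ := nonempty_localizedModule_equiv p.asIdeal.primeCompl f g r hr hgf hfg
  have hN : p ∈ Module.freeLocus R N := by
    rw [Module.freeLocus_eq_univ]; trivial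
  rw [Module.mem_freeLocus] at hN
  have : Nontrivial R := ⟨⟨0, 1, fun h => p.isPrime.ne_top ((Ideal.eq_top_iff_one _).2 (h ▸ Ideal.zero_mem _))⟩⟩
  refine ⟨?_, ?_⟩
  · rw [Module.mem_freeLocus]
    exact Module.Free.of_equiv e.symm
  · have h1 : Module.rankAtStalk M p = Module.rankAtStalk N p := by
      simp only [Module.rankAtStalk]
      exact e.finrank_eq
    rw [h1, Module.rankAtStalk_eq_finrank_of_free]
    rfl

end Groth.Agent.Lib.Helper98
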