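import Mathlib.LinearAlgebra.ExteriorPower.Basic
import Mathlib.RingTheory.Spectrum.Prime.FreeLocus
import Mathlib.LinearAlgebra.Quotient.Basic
import Mathlib.RingTheory.Ideal.Span
import Mathlib.LinearAlgebra.Matrix.Determinant.Basic
import Mathlib.LinearAlgebra.Dimension.Free
import Groth.Agent.Lib.Helper98.LocEquiv

/-!
The top exterior power of `R^n / R a`.
-/

set_option autoImplicit false
universe u

namespace Groth.Agent.Lib.Helper98

open Function

variable {R : Type u} [CommRing R] {n : ℕ} (a : Fin n → R)

/-- the quotient `R^n / R a`. -/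
abbrev quotA : Type u := (Fin n → R) ⧸ Submodule.span R {a}

/-- images of the standard basis vectors. -/
noncomputable def ebar (j : Fin n) : quotA a :=
  Submodule.mkQ (Submodule.span R {a}) (Pi.single j 1)

theorem sum_smul_ebar : ∑ j, a j • ebar a j = 0 := by
  simp only [ebar, ← map_smul, ← map_sum]
  have : ∑ j, a j • (Pi.single j (1 : R) : Fin n → R) = a := by
    ext l
    simp [Finset.sum_apply, Pi.single_apply]
  rw [this]
  exact (Submodule.Quotient.mk_eq_zero _).2 (Submodule.mem_span_singleton_self a)

theorem span_range_ebar : Submodule.span R (Set.range (ebar a)) = ⊤ := by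
  rw [eq_top_iff]
  rintro x -
  obtain ⟨v, rfl⟩ := Submodule.mkQ_surjective _ x
  have : v = ∑ j, v j • (Pi.single j (1 : R) : Fin n → R) := by
    ext l
    simp [Finset.sum_apply, Pi.single_apply]
  rw [this, map_sum]
  refine Submodule.sum_mem _ fun j _ => ?_
  rw [map_smul]
  exact Submodule.smul_mem _ _ (Submodule.subset_span ⟨j, rfl⟩)

theorem smul_ιMulti_ebar (i : Fin n) :
    a i • exteriorPower.ιMulti R n (ebar a) = 0 := by
  classical
  have h1 : exteriorPower.ιMulti R n (update (ebar a) i (∑ j, a j • ebar a j)) = 0 := by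
    rw [sum_smul_ebar, AlternatingMap.map_update_zero]
  rw [AlternatingMap.map_update_sum] at h1
  rw [Finset.sum_eq_single i] at h1
  · rw [AlternatingMap.map_update_smul, update_eq_self] at h1
    exact h1
  · intro j _ hji
    rw [AlternatingMap.map_update_smul]
    have : exteriorPower.ιMulti R n (update (ebar a) i (ebar a j)) = 0 := by
      apply AlternatingMap.map_eq_zero_of_eq _ _ (i := i) (j := j) _ (Ne.symm hji)
      rw [update_self, update_of_ne hji]
    rw [this, smul_zero]
  · intro h; exact absurd (Finset.mem_univ i) h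

theorem smul_eq_zero_of_mem_span (r : R) (hr : r ∈ Ideal.span (Set.range a))
    (ω : ⋀[R]^n (quotA a)) : r • ω = 0 := by
  classical
  -- reduce to `r = a i`
  suffices h : ∀ i, ∀ ω : ⋀[R]^n (quotA a), a i • ω = 0 by
    refine Submodule.span_induction (p := fun r _ => r • ω = 0) ?_ ?_ ?_ ?_ hr
    · rintro _ ⟨i, rfl⟩; exact h i ω
    · simp
    · intro x y _ _ hx hy; rw [add_smul, hx, hy, add_zero]
    · intro c x _ hx; rw [smul_eq_mul, mul_smul, hx, smul_zero]
  intro i ω
  have hω : ω ∈ Submodule.span R
      (exteriorPower.ιMulti R n '' {m : Fin n → quotA a | Set.range m ⊆ Set.range (ebar a)}) := by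
    rw [exteriorPower.ιMulti_span_of_span R n (quotA a) (span_range_ebar a)]; trivial
  refine Submodule.span_induction (p := fun ω _ => a i • ω = 0) ?_ ?_ ?_ ?_ hω
  · rintro _ ⟨m, hm, rfl⟩
    have : ∀ l, ∃ j, ebar a j = m l := fun l => hm ⟨l, rfl⟩
    choose τ hτ using this
    have hm' : m = ebar a ∘ τ := by ext l; exact (hτ l).symm
    by_cases hinj : Injective τ
    · let σ : Equiv.Perm (Fin n) := Equiv.ofBijective τ (Finite.injective_iff_bijective.1 hinj)
      have : m = ebar a ∘ σ := hm'
      rw [this, AlternatingMap.map_perm, smul_comm, smul_ιMulti_ebar, smul_zero]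
    · have : exteriorPower.ιMulti R n m = 0 := by
        apply AlternatingMap.map_eq_zero_of_not_injective
        rw [hm']
        intro h
        exact hinj (Injective.of_comp h)
      rw [this, smul_zero]
  · simp
  · intro x y _ _ hx hy; rw [smul_add, hx, hy, add_zero]
  · intro c x _ hx; rw [smul_comm, hx, smul_zero]

/-- the determinant on `(R/J)^n` as an `R`-alternating map. -/
noncomputable def detQuot (J : Ideal R) : (Fin n → R ⧸ J) [⋀^Fin n]→ₗ[R] (R ⧸ J) :=
  { toMultilinearMap :=
      (Matrix.detRowAlternating (R := R ⧸ J) (n := Fin n)).toMultilinearMap.restrictScalars R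
    map_eq_zero_of_eq' := fun v i j h hij =>
      (Matrix.detRowAlternating (R := R ⧸ J) (n := Fin n)).map_eq_zero_of_eq v h hij }

/-- reduction of coordinates modulo `J = (a)`. -/
noncomputable def redMap : quotA a →ₗ[R] (Fin n → R ⧸ Ideal.span (Set.range a)) :=
  (Submodule.span R {a}).liftQ
    (LinearMap.pi fun l => (Submodule.mkQ (Ideal.span (Set.range a))).comp (LinearMap.proj l))
    (by
      rw [Submodule.span_le, Set.singleton_subset_iff]
      simp only [SetLike.mem_coe, LinearMap.mem_ker]
      ext l
      simp only [LinearMap.pi_apply, LinearMap.comp_apply, LinearMap.proj_apply, Pi.zero_apply]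
      exact (Submodule.Quotient.mk_eq_zero _).2 (Ideal.subset_span ⟨l, rfl⟩))

theorem redMap_ebar (j : Fin n) : redMap a (ebar a j) = Pi.single j 1 := by
  ext l
  simp only [redMap, ebar, Submodule.mkQ_apply, Submodule.liftQ_apply, LinearMap.pi_apply,
    LinearMap.comp_apply, LinearMap.proj_apply, Pi.single_apply]
  split_ifs with h
  · rfl
  · rfl

theorem mem_span_of_smul_eq_zero (r : R)
    (hr : r • exteriorPower.ιMulti R n (ebar a) = 0) : r ∈ Ideal.span (Set.range a) := by
  classical
  let L : ⋀[R]^n (quotA a) →ₗ[R] (R ⧸ Ideal.span (Set.range a)) :=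
    exteriorPower.alternatingMapLinearEquiv ((detQuot (Ideal.span (Set.range a))).compLinearMap
      (redMap a))
  have h1 : L (exteriorPower.ιMulti R n (ebar a)) = 1 := by
    simp only [L, exteriorPower.alternatingMapLinearEquiv_apply_ιMulti,
      AlternatingMap.compLinearMap_apply]
    change Matrix.det (Matrix.of fun j => redMap a (ebar a j)) = 1
    have : (Matrix.of fun j => redMap a (ebar a j)) =
        (1 : Matrix (Fin n) (Fin n) (R ⧸ Ideal.span (Set.range a))) := by
      ext j l
      rw [Matrix.of_apply, redMap_ebar, Matrix.one_apply, Pi.single_apply]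
      simp [eq_comm]
    rw [this, Matrix.det_one]
  have h2 := congrArg L hr
  rw [map_smul, h1, map_zero] at h2
  rw [← Ideal.Quotient.eq_zero_iff_mem]
  rw [Algebra.smul_def, mul_one] at h2
  exact h2

theorem annihilator_top_extPower :
    (⋀[R]^n (quotA a)).annihilator = Ideal.span (Set.range a) := by
  ext r
  rw [Module.mem_annihilator]
  constructor
  · intro h
    exact mem_span_of_smul_eq_zero a r (h _)
  · intro hr ω
    exact smul_eq_zero_of_mem_span a r hr ω

end Groth.Agent.Lib.Helper98
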