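import Groth.Agent.Lib.Helper98.ExtTop

/-!
Off `V(a)`, `R^n / R a` is free of rank `n - 1`.
-/

set_option autoImplicit false
universe u

namespace Groth.Agent.Lib.Helper98

open Function

variable {R : Type u} [CommRing R] {n : ℕ} (a : Fin n → R)

/-- `v ↦ (a i v j - v i a j)_{j ≠ i}`. -/
noncomputable def fB₀ (i : Fin n) : (Fin n → R) →ₗ[R] ({j : Fin n // j ≠ i} → R) where
  toFun v := fun j => a i * v j - v i * a j
  map_add' v w := by ext j; simp only [Pi.add_apply]; ring
  map_smul' c v := by ext j; simp only [Pi.smul_apply, smul_eq_mul, RingHom.id_apply]; ring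

noncomputable def fB (i : Fin n) : quotA a →ₗ[R] ({j : Fin n // j ≠ i} → R) :=
  (Submodule.span R {a}).liftQ (fB₀ a i) (by
    rw [Submodule.span_le, Set.singleton_subset_iff]
    simp only [SetLike.mem_coe, LinearMap.mem_ker]
    ext j
    simp only [fB₀, LinearMap.coe_mk, AddHom.coe_mk, Pi.zero_apply]
    ring)

noncomputable def gB₀ (i : Fin n) : ({j : Fin n // j ≠ i} → R) →ₗ[R] (Fin n → R) where
  toFun w := fun l => if h : l ≠ i then w ⟨l, h⟩ else 0
  map_add' v w := by
    ext l
    simp only [Pi.add_apply]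
    split_ifs <;> simp
  map_smul' c v := by
    ext l
    simp only [Pi.smul_apply, smul_eq_mul, RingHom.id_apply]
    split_ifs <;> simp

noncomputable def gB (i : Fin n) : ({j : Fin n // j ≠ i} → R) →ₗ[R] quotA a :=
  (Submodule.mkQ (Submodule.span R {a})).comp (gB₀ i)

theorem gB_comp_fB (i : Fin n) : gB a i ∘ₗ fB a i = a i • LinearMap.id := by
  apply Submodule.linearMap_qext
  refine LinearMap.ext fun v => ?_
  simp only [LinearMap.comp_apply, Submodule.mkQ_apply, LinearMap.smul_apply, LinearMap.id_apply,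
    gB, fB, Submodule.liftQ_apply]
  rw [← Submodule.Quotient.mk_smul, Submodule.Quotient.eq]
  have : gB₀ i (fB₀ a i v) - a i • v = (- v i) • a := by
    ext l
    simp only [gB₀, fB₀, LinearMap.coe_mk, AddHom.coe_mk, Pi.sub_apply, Pi.smul_apply, smul_eq_mul]
    split_ifs with h
    · ring
    · rw [not_not] at h
      subst h
      ring
  rw [this]
  exact Submodule.smul_mem _ _ (Submodule.mem_span_singleton_self a)

theorem fB_comp_gB (i : Fin n) : fB a i ∘ₗ gB a i = a i • LinearMap.id := by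
  ext w j
  simp only [LinearMap.comp_apply, gB, fB, Submodule.mkQ_apply, Submodule.liftQ_apply,
    LinearMap.smul_apply, LinearMap.id_apply, Pi.smul_apply, smul_eq_mul]
  simp only [fB₀, gB₀, LinearMap.coe_mk, AddHom.coe_mk]
  have hj : (j : Fin n) ≠ i := j.2
  simp [hj]

theorem freeLocus_rank_off (hn : 1 ≤ n) (p : PrimeSpectrum R)
    (hp : ¬ Ideal.span (Set.range a) ≤ p.asIdeal) :
    p ∈ Module.freeLocus R (quotA a) ∧ Module.rankAtStalk (quotA a) p = n - 1 := by
  classical
  have : ∃ i, a i ∉ p.asIdeal := by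
    by_contra h
    push_neg at h
    apply hp
    rw [Ideal.span_le]
    rintro _ ⟨i, rfl⟩
    exact h i
  obtain ⟨i, hi⟩ := this
  obtain ⟨h1, h2⟩ := mem_freeLocus_and_rankAtStalk_eq p (fB a i) (gB a i) (a i) hi
    (gB_comp_fB a i) (fB_comp_gB a i)
  refine ⟨h1, ?_⟩
  rw [h2]
  have : Nontrivial R := ⟨⟨0, 1, fun h => p.isPrime.ne_top
    ((Ideal.eq_top_iff_one _).2 (h ▸ Ideal.zero_mem _))⟩⟩
  rw [Module.finrank_fintype_fun_eq_card]
  simp [Fintype.card_subtype_compl]

end Groth.Agent.Lib.Helper98
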