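import Groth.Agent.Lib.Helper98.FlatRes
import Mathlib.RingTheory.Flat.EquationalCriterion
import Mathlib.RingTheory.Flat.TorsionFree
import Mathlib.RingTheory.Flat.Stability
import Mathlib.RingTheory.AdicCompletion.Basic
import Mathlib.RingTheory.WittVector.DiscreteValuationRing

/-!
Flatness over a DVR-like base `W` with uniformizer `π` versus flatness modulo `π^n`.
-/

set_option autoImplicit false
universe u v

namespace Groth.Agent.Lib.Helper98

open TensorProduct

/-- In a flat module, `r • x = 0` forces `x ∈ J M` for any ideal `J` containing the annihilator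
of `r`. -/
theorem mem_smul_top_of_smul_eq_zero {R : Type u} [CommRing R] {M : Type v} [AddCommGroup M]
    [Module R M] [Module.Flat R M] (r : R) (x : M) (h : r • x = 0) (J : Ideal R)
    (hJ : ∀ a, r * a = 0 → a ∈ J) : x ∈ (J • ⊤ : Submodule R M) := by
  have h' : ∑ i : Unit, (fun _ => r) i • (fun _ => x) i = 0 := by simpa using h
  obtain ⟨k, a, y, hxy, ha⟩ := Module.Flat.isTrivialRelation_of_sum_smul_eq_zero h'
  have hx := hxy ()
  simp only at hx
  rw [hx]
  refine Submodule.sum_mem _ fun j _ => ?_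
  refine Submodule.smul_mem_smul (hJ _ ?_) trivial
  simpa using ha j

variable {W : Type u} [CommRing W] [IsDomain W] (π : W) (hπ : π ≠ 0)
  (A : Type v) [AddCommGroup A] [Module W A]

set_option maxHeartbeats 200000 in
include hπ in
/-- If `(W/π^(n+1)) ⊗ A` is flat over `W/π^(n+1)` and `π a = 0` then `a ∈ π^n A`. -/
theorem mem_pow_smul_top_of_flat_quot (n : ℕ)
    [Module.Flat (W ⧸ (Ideal.span {π} ^ (n + 1))) ((W ⧸ (Ideal.span {π} ^ (n + 1))) ⊗[W] A)]
    (a : A) (ha : π • a = 0) : a ∈ ((Ideal.span {π}) ^ n • ⊤ : Submodule W A) := by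
  set I : Ideal W := Ideal.span {π} ^ (n + 1) with hI
  set x : (W ⧸ I) ⊗[W] A := (1 : W ⧸ I) ⊗ₜ[W] a with hx
  have h1 : (Ideal.Quotient.mk I π) • x = 0 := by
    rw [hx, TensorProduct.smul_tmul', smul_eq_mul, mul_one]
    have : (Ideal.Quotient.mk I π) = π • (1 : W ⧸ I) := by
      rw [Algebra.smul_def, mul_one]; rfl
    rw [this, TensorProduct.smul_tmul, ha, TensorProduct.tmul_zero]
  have h2 := mem_smul_top_of_smul_eq_zero (Ideal.Quotient.mk I π) x h1
    (Ideal.span {Ideal.Quotient.mk I (π ^ n)}) (by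
      intro b hb
      obtain ⟨w, rfl⟩ := Ideal.Quotient.mk_surjective b
      rw [← map_mul, Ideal.Quotient.eq_zero_iff_mem, hI, Ideal.span_singleton_pow,
        Ideal.mem_span_singleton] at hb
      obtain ⟨c, hc⟩ := hb
      rw [pow_succ', mul_assoc] at hc
      have := mul_left_cancel₀ hπ hc
      rw [this, map_mul]
      exact Ideal.mul_mem_right _ _ (Ideal.mem_span_singleton_self _))
  rw [Submodule.ideal_span_singleton_smul, Submodule.mem_smul_pointwise_iff_exists] at h2
  obtain ⟨y, -, hy⟩ := h2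
  obtain ⟨b, rfl⟩ := exists_one_tmul_eq I A y
  have h3 : (1 : W ⧸ I) ⊗ₜ[W] (a - π ^ n • b) = 0 := by
    rw [TensorProduct.tmul_sub, ← hx, ← hy]
    rw [TensorProduct.smul_tmul', smul_eq_mul, mul_one]
    have : (Ideal.Quotient.mk I (π ^ n)) = (π ^ n) • (1 : W ⧸ I) := by
      rw [Algebra.smul_def, mul_one]; rfl
    rw [this, TensorProduct.smul_tmul, sub_self]
  rw [one_tmul_eq_zero_iff] at h3
  have h4 : (I • ⊤ : Submodule W A) ≤ (Ideal.span {π}) ^ n • ⊤ :=
    Submodule.smul_mono_left (Ideal.pow_le_pow_right (Nat.le_succ n))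
  have h5 : π ^ n • b ∈ ((Ideal.span {π}) ^ n • ⊤ : Submodule W A) :=
    Submodule.smul_mem_smul (Ideal.pow_mem_pow (Ideal.mem_span_singleton_self π) n) trivial
  have h6 := Submodule.add_mem _ (h4 h3) h5
  rw [sub_add_cancel] at h6
  exact h6

include hπ in
/-- `π`-torsion-freeness from flatness of all the quotients, for a `π`-adically separated `A`. -/
theorem eq_zero_of_smul_eq_zero_of_flat_quot [IsHausdorff (Ideal.span {π}) A]
    (hflat : ∀ n : ℕ, 1 ≤ n → Module.Flat (W ⧸ (Ideal.span {π} ^ n))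
      ((W ⧸ (Ideal.span {π} ^ n)) ⊗[W] A))
    (a : A) (ha : π • a = 0) : a = 0 := by
  apply IsHausdorff.haus (I := Ideal.span {π}) inferInstance
  intro n
  rw [SModEq.zero]
  have := hflat (n + 1) (Nat.le_add_left 1 n)
  exact mem_pow_smul_top_of_flat_quot π hπ A n a ha

end Groth.Agent.Lib.Helper98
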