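import Mathlib

/-!
# Rings all of whose ideals are flat (helper98)

* `valuationRing_of_flat_span_pair`: a local ring in which every ideal `(x, y)` is flat is a
  valuation domain.
* `flat_span_pair_localization`: if every finitely generated ideal of `A` is flat then every
  ideal `(x, y)` of a localization of `A` is flat.
* `flat_submodule_of_valuationRing_localization`: if all localizations at maximal ideals are
  valuation domains then submodules of flat modules are flat.
-/

set_option autoImplicit false
universe u

namespace Groth.Agent.Lib.Helper98

section local_ring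

variable {B : Type*} [CommRing B] [IsLocalRing B]

/-- A finitely generated flat ideal of a local ring is principal. -/
theorem isPrincipal_of_flat_of_fg (J : Ideal B) (hfg : J.FG) [Module.Flat B J] : J.IsPrincipal := by
  haveI : Module.Finite B J := Module.Finite.iff_fg.mpr hfg
  haveI : Module.Free B J := Module.free_of_flat_of_isLocalRing
  rw [← Submodule.rank_le_one_iff_isPrincipal]
  calc Module.rank B J ≤ Module.rank B B := Submodule.rank_le J
    _ = 1 := Module.rank_self B

theorem eq_zero_of_mul_eq_zero_of_flat_span (a : B) (ha : a ≠ 0)
    [Module.Flat B (Ideal.span ({a} : Set B))] (c : B) (hc : c * a = 0) : c = 0 := by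
  haveI : Module.Finite B (Ideal.span ({a} : Set B)) :=
    Module.Finite.iff_fg.mpr (Submodule.fg_span (Set.toFinite {a}))
  haveI : Module.Free B (Ideal.span ({a} : Set B)) := Module.free_of_flat_of_isLocalRing
  haveI : Nontrivial (Ideal.span ({a} : Set B)) :=
    ⟨⟨⟨a, Ideal.mem_span_singleton_self a⟩, 0, fun h => ha (congrArg Subtype.val h)⟩⟩
  have hann : ∀ x : (Ideal.span ({a} : Set B)), c • x = 0 := by
    rintro ⟨x, hx⟩
    obtain ⟨r, rfl⟩ := Ideal.mem_span_singleton'.mp hx
    apply Subtype.ext
    show c * (r * a) = 0
    rw [mul_left_comm, hc, mul_zero]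
  have : c • (1 : B) = (0 : B) • (1 : B) → c = 0 := fun h => by simpa using h
  have hfaith : FaithfulSMul B (Ideal.span ({a} : Set B)) := inferInstance
  have := hfaith.eq_of_smul_eq_smul (m₁ := c) (m₂ := 0) (fun x => by rw [hann x, zero_smul])
  exact this

/-- A local ring in which every ideal generated by two elements is flat is a valuation domain. -/
theorem valuationRing_of_flat_span_pair
    (h : ∀ x y : B, Module.Flat B (Ideal.span ({x, y} : Set B))) :
    ∃ _ : IsDomain B, ValuationRing B := by
  have hdom : IsDomain B := by
    haveI : NoZeroDivisors B := by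
      refine ⟨fun {c a} hca => ?_⟩
      by_cases ha : a = 0
      · exact Or.inr ha
      · left
        haveI : Module.Flat B (Ideal.span ({a} : Set B)) := by
          have := h a a
          rwa [Set.pair_eq_singleton] at this
        exact eq_zero_of_mul_eq_zero_of_flat_span a ha c hca
    exact NoZeroDivisors.to_isDomain B
  refine ⟨hdom, ?_⟩
  rw [ValuationRing.iff_local_bezout_domain]
  refine ⟨inferInstance, ?_⟩
  rw [IsBezout.iff_span_pair_isPrincipal]
  intro x y
  haveI := h x y
  exact isPrincipal_of_flat_of_fg _ (Submodule.fg_span (Set.toFinite {x, y}))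

end local_ring

section localization

variable {A : Type u} [CommRing A] (M : Submonoid A) (B : Type u) [CommRing B] [Algebra A B]
  [IsLocalization M B]

include M in
theorem flat_span_pair_localization (h : ∀ I : Ideal A, I.FG → Module.Flat A I) (x y : B) :
    Module.Flat B (Ideal.span ({x, y} : Set B)) := by
  obtain ⟨a, s, rfl⟩ := IsLocalization.exists_mk'_eq M x
  obtain ⟨b, t, rfl⟩ := IsLocalization.exists_mk'_eq M y
  have hspan : Ideal.span ({IsLocalization.mk' B a s, IsLocalization.mk' B b t} : Set B) =
      (Ideal.span ({a, b} : Set A)).map (algebraMap A B) := by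
    rw [Ideal.map_span, Set.image_pair]
    apply le_antisymm
    · rw [Ideal.span_le]
      rintro z (rfl | rfl)
      · rw [IsLocalization.mk'_eq_mul_mk'_one]
        exact Ideal.mul_mem_right _ _ (Ideal.subset_span (Set.mem_insert _ _))
      · rw [IsLocalization.mk'_eq_mul_mk'_one]
        exact Ideal.mul_mem_right _ _ (Ideal.subset_span (Set.mem_insert_of_mem _ rfl))
    · rw [Ideal.span_le]
      rintro z (rfl | rfl)
      · rw [← IsLocalization.mk'_spec B a s]
        exact Ideal.mul_mem_right _ _ (Ideal.subset_span (Set.mem_insert _ _))
      · rw [← IsLocalization.mk'_spec B b t]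
        exact Ideal.mul_mem_right _ _ (Ideal.subset_span (Set.mem_insert_of_mem _ rfl))
  rw [hspan]
  haveI : Module.Flat A (Ideal.span ({a, b} : Set A)) := h _ (Submodule.fg_span (Set.toFinite {a, b}))
  exact Module.Flat.of_isLocalizedModule B M
    (Algebra.idealMap B (Ideal.span ({a, b} : Set A)))

end localization

section submodule

variable {A : Type u} [CommRing A]

theorem flat_submodule_of_valuationRing_localization
    (h : ∀ (p : Ideal A) [p.IsPrime],
      ∃ _ : IsDomain (Localization.AtPrime p), ValuationRing (Localization.AtPrime p))
    (M : Type u) [AddCommGroup M] [Module A M] [Module.Flat A M] (N : Submodule A M) :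
    Module.Flat A N := by
  apply Module.flat_of_localized_maximal
  intro P hP
  obtain ⟨hdom, hval⟩ := h P
  rw [← Module.flat_iff_of_isLocalization (Localization.AtPrime P) P.primeCompl,
    Module.Flat.flat_iff_torsion_eq_bot_of_isBezout, ← Submodule.isTorsionFree_iff_torsion_eq_bot]
  haveI : Module.Flat (Localization.AtPrime P) (LocalizedModule P.primeCompl M) := inferInstance
  haveI : Module.IsTorsionFree (Localization.AtPrime P) (LocalizedModule P.primeCompl M) :=
    inferInstance
  have hinj : Function.Injective (LocalizedModule.map P.primeCompl N.subtype) :=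
    LocalizedModule.map_injective _ _ N.injective_subtype
  exact Function.Injective.moduleIsTorsionFree _ hinj (fun r x => by
    rw [LinearMap.map_smul])

end submodule

end Groth.Agent.Lib.Helper98
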