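import Mathlib.RingTheory.Flat.Tensor
import Mathlib.LinearAlgebra.TensorProduct.Quotient
import Mathlib.LinearAlgebra.TensorProduct.RightExactness

/-!
If `P₃ → P₂ → P₁ → M → 0` is exact, `P₁` is flat and the sequence stays exact at `P₂` after
tensoring with `R/I` for every ideal `I`, then `M` is flat.
-/

set_option autoImplicit false
universe u v

namespace Groth.Agent.Lib.Helper98

open TensorProduct LinearMap

variable {R : Type u} [CommRing R]

/-- `I ⊗ P → P`, `a ⊗ p ↦ a p`. -/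
noncomputable def idealMul (I : Ideal R) (P : Type v) [AddCommGroup P] [Module R P] :
    I ⊗[R] P →ₗ[R] P :=
  (TensorProduct.lid R P).toLinearMap ∘ₗ rTensor P I.subtype

@[simp] theorem idealMul_tmul (I : Ideal R) (P : Type v) [AddCommGroup P] [Module R P]
    (a : I) (x : P) : idealMul I P (a ⊗ₜ x) = (a : R) • x := by
  simp [idealMul]

theorem idealMul_natural (I : Ideal R) {P Q : Type v} [AddCommGroup P] [Module R P]
    [AddCommGroup Q] [Module R Q] (f : P →ₗ[R] Q) (s : I ⊗[R] P) :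
    idealMul I Q (f.lTensor I s) = f (idealMul I P s) := by
  induction s using TensorProduct.induction_on with
  | zero => simp
  | tmul a x => simp
  | add x y hx hy => simp only [map_add, hx, hy]

theorem idealMul_mem (I : Ideal R) (P : Type v) [AddCommGroup P] [Module R P] (s : I ⊗[R] P) :
    idealMul I P s ∈ (I • ⊤ : Submodule R P) := by
  induction s using TensorProduct.induction_on with
  | zero => simp
  | tmul a x => rw [idealMul_tmul]; exact Submodule.smul_mem_smul a.2 trivial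
  | add x y hx hy => rw [map_add]; exact Submodule.add_mem _ hx hy

theorem exists_idealMul_eq (I : Ideal R) (P : Type v) [AddCommGroup P] [Module R P] (x : P)
    (hx : x ∈ (I • ⊤ : Submodule R P)) : ∃ z : I ⊗[R] P, idealMul I P z = x := by
  induction hx using Submodule.smul_induction_on' with
  | smul a ha x _ => exact ⟨(⟨a, ha⟩ : I) ⊗ₜ x, by simp⟩
  | add x _ y _ hx hy =>
    obtain ⟨z, hz⟩ := hx
    obtain ⟨w, hw⟩ := hy
    exact ⟨z + w, by rw [map_add, hz, hw]⟩

theorem idealMul_injective (I : Ideal R) (P : Type v) [AddCommGroup P] [Module R P]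
    [Module.Flat R P] : Function.Injective (idealMul I P) := by
  have h := (Module.Flat.iff_rTensor_injective' (R := R) (M := P)).1 inferInstance I
  exact (TensorProduct.lid R P).injective.comp h

theorem one_tmul_eq_zero_iff (I : Ideal R) (P : Type v) [AddCommGroup P] [Module R P] (x : P) :
    ((1 : R ⧸ I) ⊗ₜ[R] x = 0) ↔ x ∈ (I • ⊤ : Submodule R P) := by
  rw [← (quotTensorEquivQuotSMul P I).map_eq_zero_iff, quotTensorEquivQuotSMul_mk_one_tmul,
    Submodule.Quotient.mk_eq_zero]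

theorem exists_one_tmul_eq (I : Ideal R) (P : Type v) [AddCommGroup P] [Module R P]
    (ρ : (R ⧸ I) ⊗[R] P) : ∃ r : P, (1 : R ⧸ I) ⊗ₜ[R] r = ρ := by
  obtain ⟨r, hr⟩ := Submodule.Quotient.mk_surjective _ (quotTensorEquivQuotSMul P I ρ)
  refine ⟨r, ?_⟩
  rw [← quotTensorEquivQuotSMul_symm_mk, hr, LinearEquiv.symm_apply_apply]

theorem flat_of_resolution_mod_ideals
    {P₃ P₂ P₁ M : Type v} [AddCommGroup P₃] [Module R P₃] [AddCommGroup P₂] [Module R P₂]
    [AddCommGroup P₁] [Module R P₁] [AddCommGroup M] [Module R M]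
    (d₃ : P₃ →ₗ[R] P₂) (d₂ : P₂ →ₗ[R] P₁) (d₁ : P₁ →ₗ[R] M)
    (h32 : ∀ r, d₂ (d₃ r) = 0) (h21 : ∀ q, d₁ (d₂ q) = 0)
    (hsurj : Function.Surjective d₁)
    (hex : ∀ p, d₁ p = 0 → ∃ q, d₂ q = p)
    [Module.Flat R P₁]
    (hI : ∀ (I : Ideal R) (y : (R ⧸ I) ⊗[R] P₂), d₂.lTensor (R ⧸ I) y = 0 →
      ∃ ρ, d₃.lTensor (R ⧸ I) ρ = y) :
    Module.Flat R M := by
  rw [Module.Flat.iff_rTensor_injective']
  intro I
  rw [injective_iff_map_eq_zero]
  intro t ht
  obtain ⟨s, rfl⟩ := LinearMap.lTensor_surjective I hsurj t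
  set p := idealMul I P₁ s with hp
  have hd1p : d₁ p = 0 := by
    rw [hp, ← idealMul_natural, idealMul, LinearMap.comp_apply, ht, map_zero]
  obtain ⟨q, hq⟩ := hex p hd1p
  have h1 : d₂.lTensor (R ⧸ I) ((1 : R ⧸ I) ⊗ₜ[R] q) = 0 := by
    rw [LinearMap.lTensor_tmul, hq, one_tmul_eq_zero_iff]
    exact idealMul_mem I P₁ s
  obtain ⟨ρ, hρ⟩ := hI I _ h1
  obtain ⟨r, rfl⟩ := exists_one_tmul_eq I P₃ ρ
  rw [LinearMap.lTensor_tmul] at hρ
  have h2 : q - d₃ r ∈ (I • ⊤ : Submodule R P₂) := by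
    rw [← one_tmul_eq_zero_iff, TensorProduct.tmul_sub, hρ, sub_self]
  obtain ⟨z, hz⟩ := exists_idealMul_eq I P₂ _ h2
  have h3 : idealMul I P₁ (d₂.lTensor I z) = idealMul I P₁ s := by
    rw [idealMul_natural, hz, map_sub, h32, sub_zero, hq]
  have h4 := idealMul_injective I P₁ h3
  rw [← h4, ← LinearMap.lTensor_comp_apply]
  have : d₁ ∘ₗ d₂ = 0 := LinearMap.ext h21
  rw [this, LinearMap.lTensor_zero, LinearMap.zero_apply]

end Groth.Agent.Lib.Helper98
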