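import Mathlib
import Groth.Agent.Lib.Helper98.EtaleValuationC

set_option autoImplicit false
universe u

namespace Groth.Agent.Lib.Helper98.GaussValuation

open MvPolynomial

/-- Over a valuation ring, a nonzero polynomial is a constant times a polynomial with some
coefficient equal to `1`. -/
theorem exists_eq_C_mul_primitive {V : Type*} [CommRing V] [IsDomain V] [ValuationRing V]
    {σ : Type*} (f : MvPolynomial σ V) (hf : f ≠ 0) :
    ∃ (c : V) (f₀ : MvPolynomial σ V), c ≠ 0 ∧ f = C c * f₀ ∧ ∃ i, coeff i f₀ = 1 := by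
  classical
  have hsupp : f.support.Nonempty := by
    rw [Finset.nonempty_iff_ne_empty, Ne, MvPolynomial.support_eq_empty]
    exact hf
  obtain ⟨i₀, hi₀, hdiv⟩ :=
    Groth.Agent.Lib.Helper98.EtaleValuation.exists_dvd_all f.support hsupp (fun i => coeff i f)
  have hc0 : coeff i₀ f ≠ 0 := MvPolynomial.mem_support_iff.mp hi₀
  choose! d hd using hdiv
  have hd0 : d i₀ = 1 := by
    have := hd i₀ hi₀
    exact mul_left_cancel₀ hc0 (by rw [mul_one]; exact this.symm)
  refine ⟨coeff i₀ f, ∑ i ∈ f.support, monomial i (d i), hc0, ?_, i₀, ?_⟩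
  · conv_lhs => rw [← MvPolynomial.support_sum_monomial_coeff f]
    rw [Finset.mul_sum]
    refine Finset.sum_congr rfl (fun i hi => ?_)
    rw [MvPolynomial.C_mul_monomial, ← hd i hi]
  · rw [MvPolynomial.coeff_sum]
    rw [Finset.sum_eq_single i₀]
    · rw [MvPolynomial.coeff_monomial, if_pos rfl, hd0]
    · intro j _ hj
      rw [MvPolynomial.coeff_monomial, if_neg hj]
    · intro h; exact (h hi₀).elim

/-- `m V[x]` is a prime ideal. -/
theorem isPrime_map_C {V : Type*} [CommRing V] (m : Ideal V) [m.IsPrime] (σ : Type*) :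
    (m.map (C : V →+* MvPolynomial σ V)).IsPrime := by
  have e := MvPolynomial.quotientEquivQuotientMvPolynomial (R := V) (σ := σ) m
  have : IsDomain (MvPolynomial σ V ⧸ m.map (C : V →+* MvPolynomial σ V)) :=
    e.symm.toRingEquiv.toMulEquiv.isDomain _
  exact (Ideal.Quotient.isDomain_iff_prime _).mp this

end Groth.Agent.Lib.Helper98.GaussValuation

namespace Groth.Agent.Lib.Helper98.GaussValuation

open MvPolynomial

section Gauss

variable {V : Type*} [CommRing V] [IsDomain V] [ValuationRing V] {σ : Type*}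
  (W : Type*) [CommRing W] [Algebra (MvPolynomial σ V) W] [Algebra V W]
  [IsScalarTower V (MvPolynomial σ V) W]
  (hprime : ((IsLocalRing.maximalIdeal V).map (C : V →+* MvPolynomial σ V)).IsPrime)
  [IsLocalization.AtPrime W ((IsLocalRing.maximalIdeal V).map (C : V →+* MvPolynomial σ V))]

include hprime in
/-- Every nonzero element of the Gauss localization `V[x]_{mV[x]}` is an element of `V` times a
unit. -/
theorem exists_eq_algebraMap_mul_unit (x : W) (hx : x ≠ 0) :
    ∃ (v : V) (u : Wˣ), x = algebraMap V W v * u := by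
  classical
  let mP := (IsLocalRing.maximalIdeal V).map (C : V →+* MvPolynomial σ V)
  obtain ⟨⟨f, s⟩, hfs⟩ := IsLocalization.surj mP.primeCompl x
  simp only at hfs
  have hs : IsUnit (algebraMap (MvPolynomial σ V) W s) := IsLocalization.map_units W s
  have hf : f ≠ 0 := by
    rintro rfl
    rw [map_zero] at hfs
    exact hx ((hs.mul_left_eq_zero).mp hfs)
  obtain ⟨c, f₀, hc, hff, i, hi⟩ := exists_eq_C_mul_primitive f hf
  have hf₀ : f₀ ∈ mP.primeCompl := by
    intro hmem
    have := (MvPolynomial.mem_map_C_iff.mp hmem) i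
    rw [hi] at this
    exact (IsLocalRing.maximalIdeal V).ne_top_iff_one.mp (Ideal.IsPrime.ne_top inferInstance) this
  have hu₀ : IsUnit (algebraMap (MvPolynomial σ V) W f₀) :=
    IsLocalization.map_units W (⟨f₀, hf₀⟩ : mP.primeCompl)
  obtain ⟨us, hus⟩ := hs
  obtain ⟨u₀, hu₀'⟩ := hu₀
  refine ⟨c, u₀ * us⁻¹, ?_⟩
  have h1 : algebraMap (MvPolynomial σ V) W f = algebraMap V W c * u₀ := by
    rw [hff, map_mul, hu₀', ← MvPolynomial.algebraMap_eq, ← IsScalarTower.algebraMap_apply]
  rw [Units.val_mul, ← mul_assoc, ← h1, ← hfs, ← hus, mul_assoc, Units.mul_inv, mul_one]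

include hprime in
theorem isDomain_gauss : IsDomain W :=
  IsLocalization.isDomain_of_le_nonZeroDivisors (S := W)
    (M := ((IsLocalRing.maximalIdeal V).map (C : V →+* MvPolynomial σ V)).primeCompl)
    (fun x hx => mem_nonZeroDivisors_of_ne_zero (by rintro rfl; exact hx (Ideal.zero_mem _)))

include hprime in
/-- The Gauss localization `V[x]_{mV[x]}` of a valuation ring is a valuation ring. -/
theorem valuationRing_gauss [IsDomain W] : ValuationRing W := by
  rw [ValuationRing.iff_dvd_total]
  refine ⟨fun a b => ?_⟩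
  by_cases ha : a = 0
  · right; rw [ha]; exact dvd_zero b
  by_cases hb : b = 0
  · left; rw [hb]; exact dvd_zero a
  obtain ⟨v, u, rfl⟩ := exists_eq_algebraMap_mul_unit W hprime a ha
  obtain ⟨v', u', rfl⟩ := exists_eq_algebraMap_mul_unit W hprime b hb
  rcases ValuationRing.dvd_total v v' with h | h
  · left
    obtain ⟨w, rfl⟩ := h
    refine ⟨algebraMap V W w * (u⁻¹ : Wˣ) * u', ?_⟩
    rw [map_mul]
    calc algebraMap V W v * algebraMap V W w * ↑u'
        = algebraMap V W v * (↑u * ↑u⁻¹) * algebraMap V W w * ↑u' := by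
          rw [Units.mul_inv, mul_one]
      _ = _ := by ring
  · right
    obtain ⟨w, rfl⟩ := h
    refine ⟨algebraMap V W w * (u'⁻¹ : Wˣ) * u, ?_⟩
    rw [map_mul]
    calc algebraMap V W v' * algebraMap V W w * ↑u
        = algebraMap V W v' * (↑u' * ↑u'⁻¹) * algebraMap V W w * ↑u := by
          rw [Units.mul_inv, mul_one]
      _ = _ := by ring

end Gauss

end Groth.Agent.Lib.Helper98.GaussValuation
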