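import Mathlib
import Groth.Agent.Lib.Helper14.EssEtale
import Groth.Agent.Lib.Helper3.IntegralHensSplit
import Groth.Agent.Lib.Helper9.Hens.EtaleSectionFlat

set_option autoImplicit false
set_option linter.style.haveILetI false
set_option linter.unusedSectionVars false

universe u

namespace Groth.Agent.Lib.Helper98.HensGalois

open IsLocalRing

section Basic

variable (A : Type u) [CommRing A] [IsLocalRing A] (E : Type u) [CommRing E] [IsLocalRing E]
  [Algebra A E] [IsLocalHom (algebraMap A E)] [Algebra.Etale A E]

/-- A local étale algebra (with local structure map) is essentially étale. -/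
theorem isEssentiallyEtale_of_etale : EGA4loc.IsEssentiallyEtale A E := by
  refine ⟨E, inferInstance, inferInstance, maximalIdeal E,
    (inferInstance : (maximalIdeal E).IsPrime), (inferInstance : Algebra.Etale A E), ?_, ?_⟩
  · exact ((IsLocalRing.local_hom_TFAE (algebraMap A E)).out 0 4).mp ‹IsLocalHom (algebraMap A E)›
  · have h : ∀ x ∈ (maximalIdeal E).primeCompl, IsUnit x := by
      intro x hx
      by_contra hnu
      exact hx ((mem_maximalIdeal x).mpr hnu)
    exact ⟨(IsLocalization.atUnits E (maximalIdeal E).primeCompl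
      (S := Localization.AtPrime (maximalIdeal E)) h).restrictScalars A⟩

variable {A E}
variable {B : Type u} [CommRing B] [IsLocalRing B] [Algebra A B] [IsLocalHom (algebraMap A B)]

theorem algHom_ext_of_residue (φ ψ : E →ₐ[A] B)
    (h : ∀ x : E, residue B (φ x) = residue B (ψ x)) : φ = ψ :=
  Groth.Agent.Lib.Helper14.algHom_ext_of_residue_eq_of_essEtale A E B
    (isEssentiallyEtale_of_etale A E) φ ψ h

theorem isLocalHom_algHom (φ : E →ₐ[A] B) : IsLocalHom φ.toRingHom := by
  constructor
  intro x hx
  by_contra hnu
  exact Groth.Agent.Lib.Helper14.algHom_mem_maximalIdeal_of_essEtale A E B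
    (isEssentiallyEtale_of_etale A E) φ x hnu hx

theorem injective_algHom [Module.Flat A B] (φ : E →ₐ[A] B) : Function.Injective φ := by
  letI : Algebra E B := φ.toRingHom.toAlgebra
  haveI : IsScalarTower A E B := IsScalarTower.of_algebraMap_eq (fun r => (φ.commutes r).symm)
  haveI : Module.Flat E B := Groth.Agent.Lib.Helper9.flat_of_etale_of_flat A E B
  haveI : IsLocalHom (algebraMap E B) := isLocalHom_algHom φ
  haveI : Module.FaithfullyFlat E B := Module.FaithfullyFlat.of_flat_of_isLocalHom
  exact FaithfulSMul.algebraMap_injective E B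

/-- Division property: if `φ u * d = φ w` with `φ u` a non-zero-divisor then `d ∈ range φ`. -/
theorem mem_range_of_mul_eq [Module.Flat A B] (φ : E →ₐ[A] B) (u w : E) (d : B)
    (hu : φ u ∈ nonZeroDivisors B) (h : φ u * d = φ w) : d ∈ φ.range := by
  letI : Algebra E B := φ.toRingHom.toAlgebra
  haveI : IsScalarTower A E B := IsScalarTower.of_algebraMap_eq (fun r => (φ.commutes r).symm)
  haveI : Module.Flat E B := Groth.Agent.Lib.Helper9.flat_of_etale_of_flat A E B
  haveI : IsLocalHom (algebraMap E B) := isLocalHom_algHom φ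
  haveI : Module.FaithfullyFlat E B := Module.FaithfullyFlat.of_flat_of_isLocalHom
  have h1 : w ∈ ((Ideal.span {u}).map (algebraMap E B)).comap (algebraMap E B) := by
    rw [Ideal.mem_comap]
    change φ w ∈ _
    rw [← h]
    exact Ideal.mul_mem_right _ _ (Ideal.mem_map_of_mem _ (Ideal.mem_span_singleton_self u))
  rw [Ideal.comap_map_eq_self_of_faithfullyFlat (B := B), Ideal.mem_span_singleton'] at h1
  obtain ⟨e', he'⟩ := h1
  refine ⟨e', ?_⟩
  have h2 : φ u * φ e' = φ u * d := by
    rw [h, ← map_mul, mul_comm, he']
  exact (mul_cancel_left_mem_nonZeroDivisors hu).mp h2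

end Basic

section Lift

variable {A : Type u} [CommRing A] [IsLocalRing A] {E : Type u} [CommRing E] [IsLocalRing E]
  [Algebra A E] [IsLocalHom (algebraMap A E)] [Algebra.Etale A E]
  {B : Type u} [CommRing B] [HenselianLocalRing B] [Algebra A B] [IsLocalHom (algebraMap A B)]

theorem exists_algHom_lift
    (α : ResidueField E →ₐ[ResidueField A] ResidueField B) :
    ∃ φ : E →ₐ[A] B, ∀ x : E, residue B (φ x) = α (residue E x) := by
  have hα : (α : ResidueField E →+* ResidueField B).comp
      (ResidueField.map (algebraMap A E)) = ResidueField.map (algebraMap A B) := by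
    ext x
    exact α.commutes x
  obtain ⟨ψ', ⟨_, h2, h3⟩, -⟩ :=
    Groth.Agent.Lib.Helper14.existsUnique_lift_of_essEtale_of_henselian A E
      (isEssentiallyEtale_of_etale A E) B (algebraMap A B) (α : ResidueField E →+* ResidueField B) hα
  exact ⟨{ ψ' with commutes' := fun a => RingHom.congr_fun h2 a }, h3⟩

end Lift

end Groth.Agent.Lib.Helper98.HensGalois
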