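import Mathlib
import Groth.Agent.Lib.Helper98.HensGaloisA

set_option autoImplicit false
set_option linter.style.haveILetI false
set_option linter.unusedSectionVars false

universe u

namespace Groth.Agent.Lib.Helper98.HensGalois

open IsLocalRing

section Rank

variable (A : Type u) [CommRing A] [IsLocalRing A] (E : Type u) [CommRing E] [IsLocalRing E]
  [Algebra A E] [IsLocalHom (algebraMap A E)] [Module.Finite A E] [Algebra.Etale A E]

theorem map_maximalIdeal_eq : (maximalIdeal A).map (algebraMap A E) = maximalIdeal E :=
  Groth.Agent.Lib.Helper14.map_maximalIdeal_eq_of_essEtale A E (isEssentiallyEtale_of_etale A E)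

theorem finrank_le_finrank_residueField :
    Module.finrank A E ≤ Module.finrank (ResidueField A) (ResidueField E) := by
  classical
  haveI : Module.Finite (ResidueField A) (ResidueField E) :=
    Module.Finite.of_restrictScalars_finite A _ _
  let bb := Module.finBasis (ResidueField A) (ResidueField E)
  have hsurj : ∀ i, ∃ e : E, residue E e = bb i := fun i => residue_surjective _
  choose b hb using hsurj
  have hspan : Submodule.span A (Set.range b) = ⊤ := by
    rw [← top_le_iff]
    apply Submodule.le_of_le_smul_of_le_jacobson_bot (I := maximalIdeal A)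
      (Module.finite_def.mp inferInstance)
    · exact (IsLocalRing.jacobson_eq_maximalIdeal ⊥ bot_ne_top).ge
    · intro x _
      have hx : residue E x ∈ Submodule.span (ResidueField A) (Set.range bb) := by
        rw [bb.span_eq]; trivial
      obtain ⟨c, hc⟩ := (Submodule.mem_span_range_iff_exists_fun _).mp hx
      have hsurj' : ∀ i, ∃ a : A, residue A a = c i := fun i => residue_surjective _
      choose a ha using hsurj'
      have h1 : x - ∑ i, a i • b i ∈ maximalIdeal E := by
        rw [← Ideal.Quotient.eq_zero_iff_mem]
        change residue E _ = 0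
        rw [map_sub, map_sum, ← hc, sub_eq_zero]
        refine Finset.sum_congr rfl fun i _ => ?_
        rw [Algebra.smul_def, Algebra.smul_def, map_mul, hb, ← ha]
        rfl
      rw [← map_maximalIdeal_eq A E] at h1
      have h1' : x - ∑ i, a i • b i ∈ maximalIdeal A • (⊤ : Submodule A E) := by
        rw [Ideal.smul_top_eq_map]
        exact h1
      have h2 : x = ∑ i, a i • b i + (x - ∑ i, a i • b i) := by ring
      rw [h2]
      refine Submodule.add_mem_sup ?_ h1'
      exact Submodule.sum_mem _ fun i _ =>
        Submodule.smul_mem _ _ (Submodule.subset_span ⟨i, rfl⟩)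
  have := finrank_le_of_span_eq_top (R := A) hspan
  simpa using this

end Rank

section Aut

variable (A : Type u) [CommRing A] [HenselianLocalRing A] (E : Type u) [CommRing E] [IsLocalRing E]
  [Algebra A E] [IsLocalHom (algebraMap A E)] [Module.Finite A E] [Algebra.Etale A E]

include A in
theorem henselian_of_finite : HenselianLocalRing E :=
  Groth.Agent.Lib.Helper3.IntegralHensSplit.henselianLocalRing_of_isIntegral' A E

variable {A E}

/-- The unique lift of a residue field endomorphism. -/
noncomputable def liftHom (σ : ResidueField E →ₐ[ResidueField A] ResidueField E) : E →ₐ[A] E :=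
  haveI := henselian_of_finite A E
  Classical.choose (exists_algHom_lift (A := A) (E := E) (B := E) σ)

theorem liftHom_spec (σ : ResidueField E →ₐ[ResidueField A] ResidueField E) (x : E) :
    residue E (liftHom σ x) = σ (residue E x) := by
  haveI := henselian_of_finite A E
  exact Classical.choose_spec (exists_algHom_lift (A := A) (E := E) (B := E) σ) x

theorem liftHom_unique (σ : ResidueField E →ₐ[ResidueField A] ResidueField E) (φ : E →ₐ[A] E)
    (h : ∀ x, residue E (φ x) = σ (residue E x)) : φ = liftHom σ :=
  algHom_ext_of_residue φ (liftHom σ) fun x => by rw [h, liftHom_spec]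

theorem liftHom_id : liftHom (AlgHom.id (ResidueField A) (ResidueField E)) = AlgHom.id A E :=
  (liftHom_unique _ _ fun x => rfl).symm

theorem liftHom_comp (σ τ : ResidueField E →ₐ[ResidueField A] ResidueField E) :
    liftHom (σ.comp τ) = (liftHom σ).comp (liftHom τ) :=
  (liftHom_unique _ _ fun x => by
    change residue E (liftHom σ (liftHom τ x)) = σ (τ (residue E x))
    rw [liftHom_spec, liftHom_spec]).symm

/-- The lift of residue field automorphisms to automorphisms of `E`. -/
noncomputable def liftAut :
    (ResidueField E ≃ₐ[ResidueField A] ResidueField E) →* (E ≃ₐ[A] E) where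
  toFun σ := AlgEquiv.ofAlgHom (liftHom (σ : ResidueField E →ₐ[ResidueField A] ResidueField E))
    (liftHom (σ.symm : ResidueField E →ₐ[ResidueField A] ResidueField E))
    (by rw [← liftHom_comp, ← liftHom_id]; congr 1; ext x; simp)
    (by rw [← liftHom_comp, ← liftHom_id]; congr 1; ext x; simp)
  map_one' := by
    ext x
    change liftHom _ x = x
    have : ((1 : ResidueField E ≃ₐ[ResidueField A] ResidueField E) :
        ResidueField E →ₐ[ResidueField A] ResidueField E) = AlgHom.id _ _ := rfl
    rw [this, liftHom_id]
    rfl
  map_mul' σ τ := by
    ext x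
    change liftHom _ x = liftHom _ (liftHom _ x)
    have : ((σ * τ : ResidueField E ≃ₐ[ResidueField A] ResidueField E) :
        ResidueField E →ₐ[ResidueField A] ResidueField E) =
        (σ : ResidueField E →ₐ[ResidueField A] ResidueField E).comp
          (τ : ResidueField E →ₐ[ResidueField A] ResidueField E) := rfl
    rw [this, liftHom_comp]
    rfl

theorem liftAut_spec (σ : ResidueField E ≃ₐ[ResidueField A] ResidueField E) (x : E) :
    residue E (liftAut σ x) = σ (residue E x) :=
  liftHom_spec _ x

theorem liftAut_injective : Function.Injective (liftAut (A := A) (E := E)) := by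
  intro σ τ h
  ext y
  obtain ⟨x, rfl⟩ := residue_surjective y
  rw [← liftAut_spec, ← liftAut_spec, h]

/-- An `A`-automorphism of `E` is the lift of a residue automorphism as soon as it induces it. -/
theorem eq_liftAut (σ : ResidueField E ≃ₐ[ResidueField A] ResidueField E) (g : E ≃ₐ[A] E)
    (h : ∀ x, residue E (g x) = σ (residue E x)) : g = liftAut σ := by
  ext x
  have := liftHom_unique (σ : ResidueField E →ₐ[ResidueField A] ResidueField E)
    (g : E →ₐ[A] E) h
  exact AlgHom.congr_fun this x

end Aut

section Field

variable {A : Type u} [CommRing A] [HenselianLocalRing A] [IsDomain A]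
  {E : Type u} [CommRing E] [IsLocalRing E] [IsDomain E]
  [Algebra A E] [IsLocalHom (algebraMap A E)] [Module.Finite A E] [Algebra.Etale A E]
  (K₀ K : Type u) [Field K₀] [Field K] [Algebra A K₀] [IsFractionRing A K₀] [Algebra E K]
  [IsFractionRing E K] [Algebra A K] [IsScalarTower A E K] [Algebra K₀ K] [IsScalarTower A K₀ K]

include K₀ K in
theorem faithfulSMul_of_field : FaithfulSMul A E := by
  rw [faithfulSMul_iff_algebraMap_injective]
  have h1 : Function.Injective (algebraMap A K) := by
    rw [IsScalarTower.algebraMap_eq A K₀ K]
    exact (algebraMap K₀ K).injective.comp (IsFractionRing.injective A K₀)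
  rw [IsScalarTower.algebraMap_eq A E K] at h1
  exact Function.Injective.of_comp h1

variable (A E) in
include A E in
theorem finiteDimensional_of_field : FiniteDimensional K₀ K := by
  haveI := faithfulSMul_of_field (A := A) (E := E) K₀ K
  exact Module.Finite.of_isLocalization A E (nonZeroDivisors A)

theorem finrank_field_le :
    Module.finrank K₀ K ≤ Module.finrank (ResidueField A) (ResidueField E) := by
  rw [IsFractionRing.finrank_eq A K₀ E K]
  exact finrank_le_finrank_residueField A E

/-- The action of the residue Galois group on the fraction field of `E`. -/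
noncomputable def theta :
    (ResidueField E ≃ₐ[ResidueField A] ResidueField E) →* (K ≃ₐ[K₀] K) :=
  (IsFractionRing.fieldEquivOfAlgEquivHom K₀ K).comp (liftAut (A := A) (E := E))

theorem theta_algebraMap (σ : ResidueField E ≃ₐ[ResidueField A] ResidueField E) (x : E) :
    theta K₀ K σ (algebraMap E K x) = algebraMap E K (liftAut σ x) := by
  simp [theta]

theorem theta_injective : Function.Injective (theta (A := A) (E := E) K₀ K) :=
  (IsFractionRing.fieldEquivOfAlgEquivHom_injective A E K₀ K).comp liftAut_injective

variable [IsGalois (ResidueField A) (ResidueField E)]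

theorem theta_bijective_and_isGalois :
    Function.Bijective (theta (A := A) (E := E) K₀ K) ∧ IsGalois K₀ K := by
  classical
  haveI := finiteDimensional_of_field A E K₀ K
  haveI : Module.Finite (ResidueField A) (ResidueField E) :=
    Module.Finite.of_restrictScalars_finite A _ _
  have h1 : Nat.card (ResidueField E ≃ₐ[ResidueField A] ResidueField E) =
      Module.finrank (ResidueField A) (ResidueField E) := IsGalois.card_aut_eq_finrank _ _
  have h2 : Nat.card (K ≃ₐ[K₀] K) ≤ Module.finrank K₀ K := by
    rw [Nat.card_eq_fintype_card]; exact AlgEquiv.card_le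
  have h3 := finrank_field_le (A := A) (E := E) K₀ K
  have h4 : Nat.card (ResidueField E ≃ₐ[ResidueField A] ResidueField E) ≤ Nat.card (K ≃ₐ[K₀] K) :=
    Nat.card_le_card_of_injective _ (theta_injective K₀ K)
  have h5 : Nat.card (K ≃ₐ[K₀] K) = Module.finrank K₀ K := by omega
  refine ⟨?_, IsGalois.of_card_aut_eq_finrank K₀ K h5⟩
  rw [Nat.bijective_iff_injective_and_card]
  exact ⟨theta_injective K₀ K, by omega⟩

end Field

end Groth.Agent.Lib.Helper98.HensGalois
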