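import Mathlib
import Groth.Agent.Lib.Helper98.HensGaloisB
import Groth.Agent.S16430

set_option autoImplicit false
set_option linter.style.haveILetI false
set_option linter.unusedSectionVars false

universe u

namespace Groth.Agent.Lib.Helper98.HensGalois

open IsLocalRing

section Main

variable {A : Type u} [CommRing A] [HenselianLocalRing A] [IsDomain A] [IsNoetherianRing A]
  {E : Type u} [CommRing E] [IsLocalRing E] [IsDomain E]
  [Algebra A E] [IsLocalHom (algebraMap A E)] [Module.Finite A E] [Algebra.Etale A E]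
  [IsGalois (ResidueField A) (ResidueField E)]
  (K₀ K : Type u) [Field K₀] [Field K] [Algebra A K₀] [IsFractionRing A K₀] [Algebra E K]
  [IsFractionRing E K] [Algebra A K] [IsScalarTower A E K] [Algebra K₀ K] [IsScalarTower A K₀ K]

/-- **Galois correspondence for finite étale local algebras over a henselian local domain.**
For every intermediate field `L` of `Frac E / Frac A`, the ring `L ∩ E` is the image of a finite
étale local `A`-algebra. -/
theorem exists_etale_range_eq_preimage (L : IntermediateField K₀ K) :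
    ∃ (E₁ : Type u) (_ : CommRing E₁) (_ : IsLocalRing E₁) (_ : Algebra A E₁)
      (_ : IsLocalHom (algebraMap A E₁)) (ι₁ : E₁ →ₐ[A] E),
      Module.Finite A E₁ ∧ Algebra.Etale A E₁ ∧ Function.Injective ι₁ ∧
        ∀ x : E, algebraMap E K x ∈ L ↔ x ∈ ι₁.range := by
  classical
  haveI := finiteDimensional_of_field A E K₀ K
  haveI : Module.Finite (ResidueField A) (ResidueField E) :=
    Module.Finite.of_restrictScalars_finite A _ _
  obtain ⟨hbij, hgal⟩ := theta_bijective_and_isGalois (A := A) (E := E) K₀ K
  haveI := hgal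
  haveI hEhens : HenselianLocalRing E := henselian_of_finite A E
  -- the subgroup of the residue Galois group fixing `L`
  let Hb : Subgroup (ResidueField E ≃ₐ[ResidueField A] ResidueField E) :=
    L.fixingSubgroup.comap (theta (A := A) (E := E) K₀ K)
  let k₁ : IntermediateField (ResidueField A) (ResidueField E) := IntermediateField.fixedField Hb
  obtain ⟨E₁, _, _, _, _, hfin, het, ⟨e⟩⟩ := Groth.Agent.S16430.result A k₁
  let α : ResidueField E₁ →ₐ[ResidueField A] ResidueField E := k₁.val.comp e.toAlgHom
  obtain ⟨ι₁, hι₁⟩ := exists_algHom_lift (A := A) (E := E₁) (B := E) α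
  have hαmem : ∀ y : E₁, residue E (ι₁ y) ∈ k₁ := fun y => by
    rw [hι₁]; exact (e (residue E₁ y)).2
  have hαsurj : ∀ z ∈ k₁, ∃ y : E₁, residue E (ι₁ y) = z := fun z hz => by
    obtain ⟨w, hw⟩ := e.surjective ⟨z, hz⟩
    obtain ⟨y, rfl⟩ := residue_surjective w
    refine ⟨y, ?_⟩
    rw [hι₁]
    change ((e (residue E₁ y) : k₁) : ResidueField E) = z
    rw [hw]
  have hinj : Function.Injective ι₁ := injective_algHom ι₁
  have hEK : Function.Injective (algebraMap E K) := IsFractionRing.injective E K
  refine ⟨E₁, inferInstance, inferInstance, inferInstance, inferInstance, ι₁, hfin, het, hinj, ?_⟩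
  -- the fraction field of `E₁` inside `K`
  haveI : IsDomain E₁ := hinj.isDomain ι₁.toRingHom
  have hginj : Function.Injective ((algebraMap E K).comp ι₁.toRingHom) := hEK.comp hinj
  let j : FractionRing E₁ →+* K := IsFractionRing.lift hginj
  have hj : ∀ y : E₁, j (algebraMap E₁ (FractionRing E₁) y) = algebraMap E K (ι₁ y) :=
    fun y => IsFractionRing.lift_algebraMap hginj y
  have hA_mem : ∀ a : A, algebraMap A K a ∈ j.fieldRange := fun a =>
    ⟨algebraMap E₁ (FractionRing E₁) (algebraMap A E₁ a), by
      rw [hj, AlgHom.commutes, ← IsScalarTower.algebraMap_apply]⟩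
  let L₁ : IntermediateField K₀ K := j.fieldRange.toIntermediateField (by
    intro x
    obtain ⟨a, b, -, rfl⟩ := IsFractionRing.div_surjective A x
    rw [map_div₀, ← IsScalarTower.algebraMap_apply, ← IsScalarTower.algebraMap_apply]
    exact div_mem (hA_mem a) (hA_mem b))
  have hL₁ : ∀ y : E₁, algebraMap E K (ι₁ y) ∈ L₁ := fun y => ⟨_, hj y⟩
  -- `L ≤ L₁` by the Galois correspondence
  have hLL₁ : L ≤ L₁ := by
    rw [← IsGalois.fixedField_fixingSubgroup L₁, IntermediateField.le_iff_le]
    intro γ hγ
    obtain ⟨σ, rfl⟩ := hbij.2 γ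
    have hσ : σ ∈ Hb := by
      rw [← IntermediateField.fixingSubgroup_fixedField Hb, IntermediateField.mem_fixingSubgroup_iff]
      intro z hz
      obtain ⟨y, rfl⟩ := hαsurj z hz
      have h1 := (IntermediateField.mem_fixingSubgroup_iff _ _).mp hγ _ (hL₁ y)
      rw [theta_algebraMap] at h1
      have h2 := hEK h1
      rw [← liftAut_spec, h2]
    exact hσ
  intro x
  constructor
  · intro hx
    obtain ⟨z, hz⟩ := hLL₁ hx
    obtain ⟨u, w, hw, rfl⟩ := IsFractionRing.div_surjective E₁ z
    rw [map_div₀, hj, hj] at hz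
    have hw0 : w ≠ 0 := nonZeroDivisors.ne_zero hw
    have hw1 : ι₁ w ≠ 0 := fun h => hw0 (hinj (h.trans (map_zero ι₁).symm))
    have hw2 : algebraMap E K (ι₁ w) ≠ 0 := fun h => hw1 (hEK (h.trans (map_zero _).symm))
    have h3 : ι₁ w * x = ι₁ u := by
      apply hEK
      rw [map_mul, ← hz]
      field_simp
    exact mem_range_of_mul_eq ι₁ w u x (mem_nonZeroDivisors_of_ne_zero hw1) h3
  · rintro ⟨y, rfl⟩
    rw [← IsGalois.fixedField_fixingSubgroup L, IntermediateField.mem_fixedField_iff]
    intro γ hγ
    obtain ⟨σ, rfl⟩ := hbij.2 γ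
    have hσ : σ ∈ Hb := hγ
    rw [theta_algebraMap]
    congr 1
    have h4 : ((liftAut σ : E ≃ₐ[A] E) : E →ₐ[A] E).comp ι₁ = ι₁ := by
      apply algHom_ext_of_residue
      intro y
      change residue E (liftAut σ (ι₁ y)) = _
      rw [liftAut_spec]
      exact (IntermediateField.mem_fixedField_iff _ _).mp (hαmem y) σ hσ
    exact AlgHom.congr_fun h4 y

end Main

end Groth.Agent.Lib.Helper98.HensGalois
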