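import Mathlib
import Groth.Agent.Lib.Helper98.HensGaloisC
import Groth.Agent.Lib.Helper3.FracSub
import Groth.Agent.Lib.Helper3.QFLocal
import Groth.Agent.Lib.Helper9.HensK.StrictUnique

set_option autoImplicit false
set_option linter.style.haveILetI false
set_option linter.unusedSectionVars false

universe u

namespace Groth.Agent.Lib.Helper98.HensGalois

open IsLocalRing Groth.Agent.Lib.Helper3.EssEtaleSub

section Cofinal

variable (A : Type u) [CommRing A] [HenselianLocalRing A] [IsNoetherianRing A]
  (S : Type u) [CommRing S] [IsLocalRing S] [Algebra A S] [IsLocalHom (algebraMap A S)]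

/-- Over a henselian Noetherian local ring, the localisation of an étale algebra at a prime over
the maximal ideal is a finite étale local algebra. -/
theorem finite_etale_localization {E₀ : Type u} [CommRing E₀] [Algebra A E₀] [Algebra.Etale A E₀]
    (φ : E₀ →ₐ[A] S) :
    Module.Finite A (Localization.AtPrime (primeOf φ)) ∧
      Algebra.Etale A (Localization.AtPrime (primeOf φ)) ∧
      IsLocalHom (algebraMap A (Localization.AtPrime (primeOf φ))) := by
  have hover : (primeOf φ).LiesOver (maximalIdeal A) := ⟨(comap_primeOf φ).symm⟩
  have hfin : Module.Finite A (Localization.AtPrime (primeOf φ)) :=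
    Groth.Agent.Lib.Helper3.finite_localization_of_quasiFiniteAt A E₀ (primeOf φ) hover
      inferInstance
  refine ⟨hfin, ?_, ?_⟩
  · haveI : Algebra.FormallyEtale E₀ (Localization.AtPrime (primeOf φ)) :=
      Algebra.FormallyEtale.of_isLocalization (primeOf φ).primeCompl
    haveI : Algebra.FormallyEtale A (Localization.AtPrime (primeOf φ)) :=
      Algebra.FormallyEtale.comp A E₀ _
    haveI : Algebra.FinitePresentation A (Localization.AtPrime (primeOf φ)) :=
      Algebra.FinitePresentation.of_finiteType.mp inferInstance
    exact {}
  · constructor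
    intro a ha
    have h1 : IsUnit (locLift φ (algebraMap A _ a)) := ha.map (locLift φ)
    rw [AlgHom.commutes] at h1
    exact isUnit_of_map_unit (algebraMap A S) a h1

/-- Finite subsets of an étale-covered local algebra over a henselian Noetherian local ring lie
in the image of a finite étale local algebra. -/
theorem exists_finite_etale_of_finset (hcov : Groth.Agent.Lib.Helper9.IsEtaleCoveredFin A S)
    (F : Finset S) :
    ∃ (E : Type u) (_ : CommRing E) (_ : IsLocalRing E) (_ : Algebra A E)
      (_ : IsLocalHom (algebraMap A E)) (φ : E →ₐ[A] S),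
      Module.Finite A E ∧ Algebra.Etale A E ∧ ∀ x ∈ F, x ∈ φ.range := by
  -- `FracSub.exists_locLift_of_finset` needs `IsReduced A`, so we redo its short proof
  classical
  obtain ⟨E₀, _, _, _, φ, hφ⟩ := hcov F.card (fun i => ((F.equivFin.symm i : F) : S))
  obtain ⟨h1, h2, h3⟩ := finite_etale_localization A S φ
  refine ⟨Localization.AtPrime (primeOf φ), inferInstance, inferInstance, inferInstance, h3,
    locLift φ, h1, h2, fun x hx => ?_⟩
  have := hφ (F.equivFin ⟨x, hx⟩)
  rw [Equiv.symm_apply_apply] at this
  exact range_le_range_locLift φ this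

end Cofinal

section Enlarge

variable (A : Type u) [CommRing A] [HenselianLocalRing A] [IsNoetherianRing A]
  (S : Type u) [CommRing S] [IsLocalRing S] [Algebra A S] [IsLocalHom (algebraMap A S)]
  [Hensel.IsStrictHenselization A S]

/-- The residue field map of an algebra map between local algebras, as an algebra map. -/
noncomputable def residueAlgHom {A E B : Type u} [CommRing A] [IsLocalRing A] [CommRing E]
    [IsLocalRing E] [Algebra A E] [IsLocalHom (algebraMap A E)] [CommRing B] [IsLocalRing B]
    [Algebra A B] [IsLocalHom (algebraMap A B)] (φ : E →ₐ[A] B) [IsLocalHom φ.toRingHom] :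
    ResidueField E →ₐ[ResidueField A] ResidueField B :=
  { ResidueField.map φ.toRingHom with
    commutes' := by
      intro r
      obtain ⟨a, rfl⟩ := residue_surjective r
      change ResidueField.map φ.toRingHom (ResidueField.map (algebraMap A E) (residue A a)) =
        ResidueField.map (algebraMap A B) (residue A a)
      rw [ResidueField.map_residue, ResidueField.map_residue, ResidueField.map_residue]
      congr 1
      exact φ.commutes a }

theorem residueAlgHom_residue {A E B : Type u} [CommRing A] [IsLocalRing A] [CommRing E]
    [IsLocalRing E] [Algebra A E] [IsLocalHom (algebraMap A E)] [CommRing B] [IsLocalRing B]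
    [Algebra A B] [IsLocalHom (algebraMap A B)] (φ : E →ₐ[A] B) [IsLocalHom φ.toRingHom] (x : E) :
    residueAlgHom φ (residue E x) = residue B (φ x) :=
  ResidueField.map_residue φ.toRingHom x

/-- Every finite étale local algebra mapping to the strict henselization is dominated by one
with Galois residue field extension. -/
theorem exists_galois_enlargement {E₀ : Type u} [CommRing E₀] [IsLocalRing E₀] [Algebra A E₀]
    [IsLocalHom (algebraMap A E₀)] [Module.Finite A E₀] [Algebra.Etale A E₀] (φ : E₀ →ₐ[A] S) :
    ∃ (E : Type u) (_ : CommRing E) (_ : IsLocalRing E) (_ : Algebra A E)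
      (_ : IsLocalHom (algebraMap A E)) (ψ : E →ₐ[A] S),
      Module.Finite A E ∧ Algebra.Etale A E ∧ IsGalois (ResidueField A) (ResidueField E) ∧
        φ.range ≤ ψ.range := by
  haveI : HenselianLocalRing S := Hensel.IsStrictHenselization.henselian A
  haveI : IsSepClosure (ResidueField A) (ResidueField S) :=
    Hensel.IsStrictHenselization.isSepClosure
  haveI : IsLocalHom φ.toRingHom := isLocalHom_algHom φ
  haveI : Module.Finite (ResidueField A) (ResidueField E₀) :=
    Module.Finite.of_restrictScalars_finite A _ _
  let αb : ResidueField E₀ →ₐ[ResidueField A] ResidueField S := residueAlgHom φ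
  let N : IntermediateField (ResidueField A) (ResidueField S) :=
    IntermediateField.normalClosure (ResidueField A) (ResidueField E₀) (ResidueField S)
  haveI : Normal (ResidueField A) N := normalClosure.normal _ _ _
  haveI : FiniteDimensional (ResidueField A) N :=
    normalClosure.is_finiteDimensional _ _ _
  haveI : Algebra.IsSeparable (ResidueField A) N :=
    Algebra.isSeparable_tower_bot_of_isSeparable (ResidueField A) N (ResidueField S)
  haveI : IsGalois (ResidueField A) N := ⟨⟩
  obtain ⟨E, _, _, _, _, hfin, het, ⟨eN⟩⟩ := Groth.Agent.S16430.result A N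
  haveI : IsGalois (ResidueField A) (ResidueField E) := IsGalois.of_algEquiv eN.symm
  haveI : HenselianLocalRing E := henselian_of_finite A E
  let α : ResidueField E →ₐ[ResidueField A] ResidueField S := N.val.comp eN.toAlgHom
  obtain ⟨ψ, hψ⟩ := exists_algHom_lift (A := A) (E := E) (B := S) α
  let β : ResidueField E₀ →ₐ[ResidueField A] ResidueField E :=
    eN.symm.toAlgHom.comp (αb.codRestrict N.toSubalgebra
      (fun x => αb.fieldRange_le_normalClosure ⟨x, rfl⟩))
  obtain ⟨χ, hχ⟩ := exists_algHom_lift (A := A) (E := E₀) (B := E) β
  have hcomp : ψ.comp χ = φ := by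
    apply algHom_ext_of_residue
    intro x
    change residue S (ψ (χ x)) = residue S (φ x)
    rw [hψ, hχ, ← residueAlgHom_residue φ x]
    change ((eN (eN.symm _) : N) : ResidueField S) = _
    rw [AlgEquiv.apply_symm_apply]
    rfl
  refine ⟨E, inferInstance, inferInstance, inferInstance, inferInstance, ψ, hfin, het,
    inferInstance, ?_⟩
  rintro _ ⟨x, rfl⟩
  exact ⟨χ x, AlgHom.congr_fun hcomp x⟩

end Enlarge

end Groth.Agent.Lib.Helper98.HensGalois
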