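import Mathlib
import Groth.Agent.Lib.Helper98.HensGaloisD

set_option autoImplicit false
set_option linter.style.haveILetI false
set_option linter.unusedSectionVars false

universe u

namespace Groth.Agent.Lib.Helper98.HensGalois

open IsLocalRing

section Contract

variable {A : Type u} [CommRing A] [IsLocalRing A] {E : Type u} [CommRing E] [IsLocalRing E]
  [Algebra A E] [IsLocalHom (algebraMap A E)] [Algebra.Etale A E]
  {B : Type u} [CommRing B] [IsLocalRing B] [Algebra A B] [IsLocalHom (algebraMap A B)]

/-- Ideals of a local étale algebra are contracted from a flat local algebra. -/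
theorem comap_map_eq_of_flat [Module.Flat A B] (φ : E →ₐ[A] B) (I : Ideal E) :
    (I.map φ.toRingHom).comap φ.toRingHom = I := by
  letI : Algebra E B := φ.toRingHom.toAlgebra
  haveI : IsScalarTower A E B := IsScalarTower.of_algebraMap_eq (fun r => (φ.commutes r).symm)
  haveI : Module.Flat E B := Groth.Agent.Lib.Helper9.flat_of_etale_of_flat A E B
  haveI : IsLocalHom (algebraMap E B) := isLocalHom_algHom φ
  haveI : Module.FaithfullyFlat E B := Module.FaithfullyFlat.of_flat_of_isLocalHom
  exact Ideal.comap_map_eq_self_of_faithfullyFlat (B := B) I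

end Contract

section Core

/-- Core lemma: for a prime `Q` of the strict henselization `S` of a henselian Noetherian local
ring `A`, a finite subset `t` of `Frac (S/Q)` and a finite subset `F` of `S`, there is a finite
étale local `A`-algebra `E ↪ S` containing `F`, such that `Q` is generated by its contraction to
`E` and every element of `S/Q` lying in the subfield generated by `A` and `t` is the class of an
element of `E`. -/
theorem exists_finite_etale_quotient_core
    (A S : Type u) [CommRing A] [HenselianLocalRing A] [IsNoetherianRing A]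
    [CommRing S] [IsLocalRing S] [Algebra A S] [IsLocalHom (algebraMap A S)]
    [Hensel.IsStrictHenselization A S] (Q : Ideal S) [Q.IsPrime]
    (t : Finset (FractionRing (S ⧸ Q))) (F : Finset S) :
    ∃ (E : Type u) (_ : CommRing E) (_ : IsLocalRing E) (_ : Algebra A E)
      (_ : IsLocalHom (algebraMap A E)) (φ : E →ₐ[A] S),
      Module.Finite A E ∧ Algebra.Etale A E ∧ Function.Injective φ ∧ (∀ x ∈ F, x ∈ φ.range) ∧
      Q = (Q.comap φ.toRingHom).map φ.toRingHom ∧
      ∀ x : S, algebraMap (S ⧸ Q) (FractionRing (S ⧸ Q)) (Ideal.Quotient.mk Q x) ∈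
          Subfield.closure (Set.range (algebraMap A (FractionRing (S ⧸ Q))) ∪
            (t : Set (FractionRing (S ⧸ Q)))) →
        ∃ e : E, Ideal.Quotient.mk Q (φ e) = Ideal.Quotient.mk Q x := by
  classical
  haveI : Module.Flat A S := Groth.Agent.Lib.Helper9.HensK.flat_of_isStrictHenselization A S
  have hcov := Groth.Agent.Lib.Helper9.isEtaleCoveredFin_of_isStrictHenselization A S
  haveI : IsNoetherianRing S :=
    (Groth.Agent.Lib.Helper9.isNoetherianRing_iff_of_isStrictHenselization A S).mp inferInstance
  let K := FractionRing (S ⧸ Q)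
  have hinjK : Function.Injective (algebraMap (S ⧸ Q) K) := IsFractionRing.injective _ _
  obtain ⟨gens, hgens⟩ : Q.FG := (isNoetherianRing_iff_ideal_fg S).mp inferInstance Q
  have hfrac : ∀ y : K, ∃ a b : S,
      y = algebraMap (S ⧸ Q) K (Ideal.Quotient.mk Q a) /
        algebraMap (S ⧸ Q) K (Ideal.Quotient.mk Q b) := by
    intro y
    obtain ⟨a, b, -, rfl⟩ := IsFractionRing.div_surjective (S ⧸ Q) y
    obtain ⟨a', rfl⟩ := Ideal.Quotient.mk_surjective a
    obtain ⟨b', rfl⟩ := Ideal.Quotient.mk_surjective b
    exact ⟨a', b', rfl⟩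
  choose num den hnd using hfrac
  obtain ⟨E, _, _, _, _, φ, hfin, het, hφ⟩ :=
    exists_finite_etale_of_finset A S hcov (F ∪ gens ∪ t.image num ∪ t.image den)
  have hφinj : Function.Injective φ := injective_algHom φ
  have hQ : Q = (Q.comap φ.toRingHom).map φ.toRingHom := by
    apply le_antisymm
    · have h0 : Ideal.span (gens : Set S) ≤ (Q.comap φ.toRingHom).map φ.toRingHom := by
        rw [Ideal.span_le]
        intro g hg
        obtain ⟨e, he⟩ := hφ g (by simp [Finset.mem_coe.mp hg])
        have he' : φ e = g := he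
        have hgQ : g ∈ Q := by rw [← hgens]; exact Ideal.subset_span hg
        rw [← he']
        apply Ideal.mem_map_of_mem
        rw [Ideal.mem_comap]
        change φ e ∈ Q
        rw [he']; exact hgQ
      rwa [hgens] at h0
    · exact Ideal.map_comap_le
  refine ⟨E, inferInstance, inferInstance, inferInstance, inferInstance, φ, hfin, het, hφinj,
    fun x hx => hφ x (by simp [hx]), hQ, ?_⟩
  · intro x hx
    -- the subring of `K` coming from `E`
    let g : E →+* K := (algebraMap (S ⧸ Q) K).comp ((Ideal.Quotient.mk Q).comp φ.toRingHom)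
    have hg : ∀ e : E, g e = algebraMap (S ⧸ Q) K (Ideal.Quotient.mk Q (φ e)) := fun e => rfl
    have hle : Subfield.closure (Set.range (algebraMap A K) ∪ (t : Set K)) ≤
        Subfield.closure (g.range : Set K) := by
      rw [Subfield.closure_le]
      rintro y (⟨a, rfl⟩ | hy)
      · apply Subfield.subset_closure
        refine ⟨algebraMap A E a, ?_⟩
        rw [hg, AlgHom.commutes]
        exact (IsScalarTower.algebraMap_apply A (S ⧸ Q) (FractionRing (S ⧸ Q)) a).symm
      · have hy' : y ∈ t := hy
        obtain ⟨n', hn'⟩ := hφ (num y) (by simp [Finset.mem_image_of_mem num hy'])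
        obtain ⟨d', hd'⟩ := hφ (den y) (by simp [Finset.mem_image_of_mem den hy'])
        have hn'' : φ n' = num y := hn'
        have hd'' : φ d' = den y := hd'
        have : y = g n' / g d' := by rw [hg, hg, hn'', hd'']; exact hnd y
        rw [this]
        exact div_mem (Subfield.subset_closure ⟨n', rfl⟩) (Subfield.subset_closure ⟨d', rfl⟩)
    have hx' := hle hx
    rw [Subfield.mem_closure_iff, Subring.closure_eq] at hx'
    obtain ⟨_, ⟨e₁, rfl⟩, _, ⟨e₂, rfl⟩, h12⟩ := hx'
    by_cases hz : g e₂ = 0
    · rw [hz, div_zero] at h12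
      refine ⟨0, ?_⟩
      rw [map_zero, map_zero]
      apply hinjK
      rw [map_zero, ← h12]
    · have h1 : algebraMap (S ⧸ Q) K (Ideal.Quotient.mk Q (x * φ e₂ - φ e₁)) = 0 := by
        rw [map_sub, map_mul, map_sub, map_mul, ← hg, ← hg, ← h12, div_mul_cancel₀ _ hz, sub_self]
      have h2 : x * φ e₂ - φ e₁ ∈ Q := by
        rw [← Ideal.Quotient.eq_zero_iff_mem]
        exact hinjK (h1.trans (map_zero _).symm)
      have he₂ : φ e₂ ∉ Q := by
        intro h
        apply hz
        rw [hg, Ideal.Quotient.eq_zero_iff_mem.mpr h, map_zero]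
      -- contraction of the ideal `Q_E + (e₂)`
      set I : Ideal E := Q.comap φ.toRingHom ⊔ Ideal.span {e₂} with hI
      have h3 : e₁ ∈ (I.map φ.toRingHom).comap φ.toRingHom := by
        rw [Ideal.mem_comap, hI, Ideal.map_sup]
        have h4 : φ e₁ = -(x * φ e₂ - φ e₁) + x * φ e₂ := by ring
        change φ e₁ ∈ _
        rw [h4]
        refine Ideal.add_mem _ (Ideal.mem_sup_left ?_) (Ideal.mem_sup_right ?_)
        · rw [← hQ]
          exact neg_mem h2
        · rw [Ideal.map_span, Set.image_singleton]
          exact Ideal.mul_mem_left _ _ (Ideal.mem_span_singleton_self _)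
      rw [comap_map_eq_of_flat φ I, hI, Submodule.mem_sup] at h3
      obtain ⟨q', hq', r, hr, hqr⟩ := h3
      obtain ⟨e, rfl⟩ := Ideal.mem_span_singleton'.mp hr
      refine ⟨e, ?_⟩
      rw [Ideal.Quotient.eq]
      have hq'' : φ q' ∈ Q := hq'
      have h5 : φ e₂ * (x - φ e) ∈ Q := by
        have : φ e₂ * (x - φ e) = (x * φ e₂ - φ e₁) + φ q' := by
          rw [← hqr, map_add, map_mul]; ring
        rw [this]
        exact Ideal.add_mem _ h2 hq''
      have h6 := (Ideal.IsPrime.mem_or_mem inferInstance h5).resolve_left he₂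
      have : φ e - x = -(x - φ e) := by ring
      rw [this]
      exact neg_mem h6

end Core

end Groth.Agent.Lib.Helper98.HensGalois
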