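import Mathlib
import Groth.Agent.Lib.Helper98.HensGaloisF

set_option autoImplicit false
set_option linter.style.haveILetI false
set_option linter.unusedSectionVars false

universe u

namespace Groth.Agent.Lib.Helper98.HensGalois

open IsLocalRing

/-- The strict henselization of a henselian Noetherian local ring is integral over it. -/
theorem isIntegral_of_isStrictHenselization
    (A S : Type u) [CommRing A] [HenselianLocalRing A] [IsNoetherianRing A]
    [CommRing S] [IsLocalRing S] [Algebra A S] [IsLocalHom (algebraMap A S)]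
    [Hensel.IsStrictHenselization A S] : Algebra.IsIntegral A S := by
  have hcov := Groth.Agent.Lib.Helper9.isEtaleCoveredFin_of_isStrictHenselization A S
  constructor
  intro x
  obtain ⟨E, _, _, _, _, φ, hfin, het, hφ⟩ := exists_finite_etale_of_finset A S hcov {x}
  obtain ⟨e, rfl⟩ := hφ x (Finset.mem_singleton_self x)
  exact (Algebra.IsIntegral.isIntegral (R := A) e).map φ

section Sub

variable (A S : Type u) [CommRing A] [HenselianLocalRing A] [IsNoetherianRing A]
    [CommRing S] [IsLocalRing S] [Algebra A S] [IsLocalHom (algebraMap A S)]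
    [Hensel.IsStrictHenselization A S] (Q : Ideal S) [Q.IsPrime]
    (t : Finset (FractionRing (S ⧸ Q)))

/-- The subfield of `Frac (S/Q)` generated by `A` and `t`, as an `A`-subalgebra. -/
noncomputable def closureSubalgebra : Subalgebra A (FractionRing (S ⧸ Q)) :=
  { (Subfield.closure (Set.range (algebraMap A (FractionRing (S ⧸ Q))) ∪
      (t : Set (FractionRing (S ⧸ Q))))).toSubring.toSubsemiring with
    algebraMap_mem' := fun a => Subfield.subset_closure (Or.inl ⟨a, rfl⟩) }

/-- `L ∩ S/Q` as an `A`-subalgebra of `S/Q`. -/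
noncomputable def interSubalgebra : Subalgebra A (S ⧸ Q) :=
  (closureSubalgebra A S Q t).comap (IsScalarTower.toAlgHom A (S ⧸ Q) (FractionRing (S ⧸ Q)))

theorem coe_interSubalgebra : (interSubalgebra A S Q t : Set (S ⧸ Q)) =
    (algebraMap (S ⧸ Q) (FractionRing (S ⧸ Q))) ⁻¹'
      (Subfield.closure (Set.range (algebraMap A (FractionRing (S ⧸ Q))) ∪
        (t : Set (FractionRing (S ⧸ Q)))) : Set (FractionRing (S ⧸ Q))) := rfl

theorem mem_interSubalgebra (x : S ⧸ Q) : x ∈ interSubalgebra A S Q t ↔
    algebraMap (S ⧸ Q) (FractionRing (S ⧸ Q)) x ∈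
      Subfield.closure (Set.range (algebraMap A (FractionRing (S ⧸ Q))) ∪
        (t : Set (FractionRing (S ⧸ Q)))) := Iff.rfl

/-- `L ∩ S/Q` is a finite `A`-module. -/
theorem finite_interSubalgebra : Module.Finite A (interSubalgebra A S Q t) := by
  obtain ⟨E, _, _, _, _, φ, hfin, het, hφinj, -, -, hcore⟩ :=
    exists_finite_etale_quotient_core A S Q t ∅
  let f : E →ₗ[A] (S ⧸ Q) := ((Ideal.Quotient.mkₐ A Q).comp φ).toLinearMap
  haveI : IsNoetherian A (LinearMap.range f) := isNoetherian_of_isNoetherianRing_of_finite A _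
  have hle : Subalgebra.toSubmodule (interSubalgebra A S Q t) ≤ LinearMap.range f := by
    intro x hx
    obtain ⟨x', rfl⟩ := Ideal.Quotient.mk_surjective x
    obtain ⟨e, he⟩ := hcore x' hx
    exact ⟨e, he⟩
  exact Module.Finite.of_injective (Submodule.inclusion hle) (Submodule.inclusion_injective hle)

theorem isUnit_interSubalgebra_iff (d : interSubalgebra A S Q t) :
    IsUnit d ↔ IsUnit (d : S ⧸ Q) := by
  constructor
  · intro h
    exact h.map (interSubalgebra A S Q t).val
  · intro h
    obtain ⟨u, hu⟩ := h.exists_right_inv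
    have hmem : u ∈ interSubalgebra A S Q t := by
      rw [mem_interSubalgebra]
      have h1 : algebraMap (S ⧸ Q) (FractionRing (S ⧸ Q)) u =
          (algebraMap (S ⧸ Q) (FractionRing (S ⧸ Q)) d)⁻¹ := by
        apply eq_inv_of_mul_eq_one_right
        rw [← map_mul, hu, map_one]
      rw [h1]
      exact inv_mem ((mem_interSubalgebra A S Q t _).mp d.2)
    exact IsUnit.of_mul_eq_one ⟨u, hmem⟩ (Subtype.ext hu)

theorem isLocalRing_interSubalgebra : IsLocalRing (interSubalgebra A S Q t) := by
  haveI : Nontrivial (S ⧸ Q) := Ideal.Quotient.nontrivial_iff.mpr (Ideal.IsPrime.ne_top inferInstance)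
  haveI : IsLocalRing (S ⧸ Q) :=
    IsLocalRing.of_surjective' (Ideal.Quotient.mk Q) Ideal.Quotient.mk_surjective
  apply IsLocalRing.of_nonunits_add
  intro a b ha hb
  rw [mem_nonunits_iff, isUnit_interSubalgebra_iff] at ha hb ⊢
  exact IsLocalRing.nonunits_add ha hb

end Sub

end Groth.Agent.Lib.Helper98.HensGalois
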