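import Mathlib
import Groth.Prelude.Def_Hensel
import Groth.Agent.Lib.Helper9.Hens.Unique
import Groth.Agent.Lib.Helper9.Hens.LocalFlat
import Groth.Agent.Lib.Helper9.Hens.Reduced
import Groth.Agent.Lib.Helper9.HensK.StrictUnique
import Groth.Agent.Lib.Helper3.SHensQuot

/-! The tower `A → A^h → A^sh`: the strict henselization of `A` is a strict henselization of the
henselization; contraction of minimal primes along flat maps (helper98). -/

set_option autoImplicit false
set_option linter.style.haveILetI false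
universe u

namespace Groth.Agent.Lib.Helper98.HensTower

open IsLocalRing Groth.Agent.Lib.Helper9

section Tower

variable (A Ah Ash : Type u) [CommRing A] [IsLocalRing A]
  [CommRing Ah] [IsLocalRing Ah] [Algebra A Ah] [IsLocalHom (algebraMap A Ah)]
  [Hensel.IsHenselization A Ah]
  [CommRing Ash] [IsLocalRing Ash] [Algebra A Ash] [IsLocalHom (algebraMap A Ash)]
  [Hensel.IsStrictHenselization A Ash] [Algebra Ah Ash] [IsScalarTower A Ah Ash]

include A in
theorem isLocalHom_algebraMap : IsLocalHom (algebraMap Ah Ash) := by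
  refine ⟨fun x hx => ?_⟩
  by_contra hnx
  have hxm : x ∈ maximalIdeal Ah := (mem_maximalIdeal x).mpr hnx
  rw [← Hens.map_maximalIdeal_of_isHenselization A Ah] at hxm
  have h2 : algebraMap Ah Ash x ∈
      ((maximalIdeal A).map (algebraMap A Ah)).map (algebraMap Ah Ash) :=
    Ideal.mem_map_of_mem _ hxm
  rw [Ideal.map_map, ← IsScalarTower.algebraMap_eq,
    HensK.map_maximalIdeal_of_isStrictHenselization] at h2
  exact (mem_maximalIdeal _).mp h2 hx

include A in
theorem isStrictHenselization_of_tower [IsLocalHom (algebraMap Ah Ash)] :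
    Hensel.IsStrictHenselization Ah Ash := by
  have hS : Hensel.IsStrictHenselization A Ash := inferInstance
  have hH : Hensel.IsHenselization A Ah := inferInstance
  have hcomp : (algebraMap Ah Ash).comp (algebraMap A Ah) = algebraMap A Ash :=
    (IsScalarTower.algebraMap_eq A Ah Ash).symm
  have hmapcomp : (ResidueField.map (algebraMap Ah Ash)).comp (ResidueField.map (algebraMap A Ah)) =
      ResidueField.map (algebraMap A Ash) := by
    ext x
    obtain ⟨a, rfl⟩ := residue_surjective x
    simp only [RingHom.comp_apply, ResidueField.map_residue]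
    rw [← IsScalarTower.algebraMap_apply]
  refine ⟨hS.henselian, ?_, ?_⟩
  · haveI := hS.isSepClosure
    haveI : IsSepClosed (ResidueField Ash) := IsSepClosure.sep_closed (ResidueField A)
    haveI : Algebra.IsSeparable (ResidueField A) (ResidueField Ash) := IsSepClosure.separable
    exact ⟨inferInstance,
      Algebra.isSeparable_tower_top_of_isSeparable (ResidueField A) (ResidueField Ah)
        (ResidueField Ash)⟩
  · intro T _ _ f hf τ hτ
    haveI : IsLocalHom (f.comp (algebraMap A Ah)) := RingHom.isLocalHom_comp _ _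
    have hτ' : τ.comp (ResidueField.map (algebraMap A Ash)) =
        ResidueField.map (f.comp (algebraMap A Ah)) := by
      rw [← hmapcomp, ← RingHom.comp_assoc, hτ]
      ext x
      obtain ⟨a, rfl⟩ := residue_surjective x
      simp only [RingHom.comp_apply, ResidueField.map_residue]
    obtain ⟨g, ⟨hg1, hg2⟩, hguniq⟩ := hS.universal T (f.comp (algebraMap A Ah)) τ hτ'
    obtain ⟨g₀, -, hg₀uniq⟩ := hH.universal T (f.comp (algebraMap A Ah)) inferInstance
    have hgf : g.comp (algebraMap Ah Ash) = f := by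
      have h1 : g.comp (algebraMap Ah Ash) = g₀ := hg₀uniq _ (by
        show (g.comp (algebraMap Ah Ash)).comp (algebraMap A Ah) = f.comp (algebraMap A Ah)
        rw [RingHom.comp_assoc, hcomp, hg1])
      have h2 : f = g₀ := hg₀uniq _ rfl
      rw [h1, h2]
    refine ⟨g, ⟨hgf, hg2⟩, ?_⟩
    rintro g' ⟨hg'1, hg'2⟩
    refine hguniq g' ⟨?_, hg'2⟩
    rw [← hcomp, ← RingHom.comp_assoc, hg'1]

end Tower

section MinimalPrimes

variable {R S : Type*} [CommRing R] [CommRing S] [Algebra R S]

theorem comap_mem_minimalPrimes [Module.Flat R S] {Q : Ideal S} (hQ : Q ∈ minimalPrimes S) :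
    Q.comap (algebraMap R S) ∈ minimalPrimes R := by
  haveI : Q.IsPrime := hQ.1.1
  refine ⟨⟨inferInstance, bot_le⟩, ?_⟩
  rintro p ⟨hp, -⟩ hpq
  haveI := hp
  haveI : Q.LiesOver (Q.comap (algebraMap R S)) := ⟨rfl⟩
  obtain ⟨P, hPQ, hPprime, hPover⟩ := Ideal.exists_ideal_le_liesOver_of_le Q hpq
  have hQP : Q ≤ P := hQ.2 ⟨hPprime, bot_le⟩ hPQ
  have hPeq : P = Q := le_antisymm hPQ hQP
  subst hPeq
  exact hPover.over.ge

theorem exists_minimalPrimes_comap_eq [Module.FaithfullyFlat R S] {q : Ideal R}
    (hq : q ∈ minimalPrimes R) :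
    ∃ Q ∈ minimalPrimes S, Q.comap (algebraMap R S) = q := by
  haveI : q.IsPrime := hq.1.1
  obtain ⟨Q', hQ'prime, hQ'over⟩ := Ideal.exists_isPrime_liesOver_of_faithfullyFlat (B := S) q
  obtain ⟨Q, hQmin, hQle⟩ := Ideal.exists_minimalPrimes_le (I := ⊥) (J := Q') bot_le
  refine ⟨Q, hQmin, ?_⟩
  have h1 : Q.comap (algebraMap R S) ≤ q := by
    rw [hQ'over.over]
    exact Ideal.comap_mono hQle
  haveI : Q.IsPrime := hQmin.1.1
  exact le_antisymm h1 (hq.2 ⟨inferInstance, bot_le⟩ h1)

theorem eq_map_comap_of_unique [Module.Flat R S] {Q : Ideal S} (hQ : Q ∈ minimalPrimes S)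
    (hrad : ((Q.comap (algebraMap R S)).map (algebraMap R S)).IsRadical)
    (huniq : ∀ P ∈ minimalPrimes S,
      P.comap (algebraMap R S) = Q.comap (algebraMap R S) → P = Q) :
    Q = (Q.comap (algebraMap R S)).map (algebraMap R S) := by
  have hqmin : Q.comap (algebraMap R S) ∈ minimalPrimes R := comap_mem_minimalPrimes hQ
  have hIQ : (Q.comap (algebraMap R S)).map (algebraMap R S) ≤ Q := Ideal.map_comap_le
  have key : ∀ P ∈ ((Q.comap (algebraMap R S)).map (algebraMap R S)).minimalPrimes, P = Q := by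
    intro P hP
    haveI : P.IsPrime := hP.1.1
    have hIP : (Q.comap (algebraMap R S)).map (algebraMap R S) ≤ P := hP.1.2
    have hqP : Q.comap (algebraMap R S) ≤ P.comap (algebraMap R S) :=
      Ideal.map_le_iff_le_comap.mp hIP
    haveI : P.LiesOver (P.comap (algebraMap R S)) := ⟨rfl⟩
    haveI : (Q.comap (algebraMap R S)).IsPrime := hqmin.1.1
    obtain ⟨P₁, hP₁P, hP₁prime, hP₁over⟩ :=
      Ideal.exists_ideal_le_liesOver_of_le (p := Q.comap (algebraMap R S)) P hqP
    have hIP₁ : (Q.comap (algebraMap R S)).map (algebraMap R S) ≤ P₁ := by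
      rw [Ideal.map_le_iff_le_comap]
      exact hP₁over.over.le
    have hPP₁ : P ≤ P₁ := hP.2 ⟨hP₁prime, hIP₁⟩ hP₁P
    have hPeq : P₁ = P := le_antisymm hP₁P hPP₁
    have hcomapP : P.comap (algebraMap R S) = Q.comap (algebraMap R S) := by
      rw [← hPeq]
      exact hP₁over.over.symm
    have hPmin : P ∈ minimalPrimes S := by
      refine ⟨⟨inferInstance, bot_le⟩, ?_⟩
      rintro P₀ ⟨hP₀, -⟩ hP₀P
      haveI := hP₀
      have h1 : P₀.comap (algebraMap R S) ≤ Q.comap (algebraMap R S) := by
        rw [← hcomapP]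
        exact Ideal.comap_mono hP₀P
      have h2 : Q.comap (algebraMap R S) ≤ P₀.comap (algebraMap R S) :=
        hqmin.2 ⟨inferInstance, bot_le⟩ h1
      have h3 : (Q.comap (algebraMap R S)).map (algebraMap R S) ≤ P₀ :=
        Ideal.map_le_iff_le_comap.mpr h2
      exact hP.2 ⟨hP₀, h3⟩ hP₀P
    exact huniq P hPmin hcomapP
  have h1 : ((Q.comap (algebraMap R S)).map (algebraMap R S)).radical = Q := by
    rw [← Ideal.sInf_minimalPrimes]
    haveI : Q.IsPrime := hQ.1.1
    obtain ⟨P, hP, hPQ⟩ := Ideal.exists_minimalPrimes_le hIQ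
    apply le_antisymm
    · exact (sInf_le hP).trans hPQ
    · apply le_sInf
      intro P' hP'
      rw [key P' hP']
  rw [← hrad.radical]
  exact h1.symm

end MinimalPrimes

section Radical

variable {R S : Type u} [CommRing R] [IsLocalRing R] [CommRing S] [IsLocalRing S] [Algebra R S]
  [IsLocalHom (algebraMap R S)] [Hensel.IsStrictHenselization R S]

theorem isRadical_map_of_isPrime (q : Ideal R) [hq : q.IsPrime] :
    (q.map (algebraMap R S)).IsRadical := by
  have hne : q.map (algebraMap R S) ≠ ⊤ := by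
    have h1 : q ≤ maximalIdeal R := le_maximalIdeal hq.ne_top
    have h2 : (maximalIdeal R).map (algebraMap R S) ≤ maximalIdeal S :=
      ((local_hom_TFAE (algebraMap R S)).out 0 2 rfl rfl).mp ‹_›
    intro h
    have h3 : (⊤ : Ideal S) ≤ maximalIdeal S := h ▸ (Ideal.map_mono h1).trans h2
    exact (maximalIdeal.isMaximal S).ne_top (top_le_iff.mp h3)
  haveI : Nontrivial (S ⧸ q.map (algebraMap R S)) := Ideal.Quotient.nontrivial_iff.mpr hne
  haveI : IsLocalRing (R ⧸ q) := IsLocalRing.of_surjective' _ Ideal.Quotient.mk_surjective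
  haveI : IsLocalRing (S ⧸ q.map (algebraMap R S)) :=
    IsLocalRing.of_surjective' _ Ideal.Quotient.mk_surjective
  haveI : IsLocalHom (algebraMap (R ⧸ q) (S ⧸ q.map (algebraMap R S))) := by
    constructor
    intro a ha
    obtain ⟨a, rfl⟩ := Ideal.Quotient.mk_surjective a
    have h1 : algebraMap (R ⧸ q) (S ⧸ q.map (algebraMap R S)) (Ideal.Quotient.mk q a) =
        Ideal.Quotient.mk _ (algebraMap R S a) := rfl
    rw [h1] at ha
    haveI : IsLocalHom (Ideal.Quotient.mk (q.map (algebraMap R S))) :=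
      .of_surjective _ Ideal.Quotient.mk_surjective
    have h2 : IsUnit (algebraMap R S a) := isUnit_of_map_unit _ _ ha
    exact (isUnit_of_map_unit (algebraMap R S) a h2).map _
  haveI := Groth.Agent.Lib.Helper3.isStrictHenselization_quotient (A := R) (S := S) q
  have hnil := nilradical_eq_map_of_isStrictHenselization (R ⧸ q) (S ⧸ q.map (algebraMap R S))
  have h0 : nilradical (R ⧸ q) = ⊥ := nilradical_eq_zero _
  rw [h0, Ideal.map_bot] at hnil
  rw [Ideal.isRadical_iff_quotient_reduced]
  exact nilradical_eq_bot_iff.mp hnil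

end Radical

end Groth.Agent.Lib.Helper98.HensTower
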