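import Mathlib
import Groth.Prelude.Def_Brnch
import Groth.Prelude.Def_Hensel
import Groth.Agent.Lib.Helper98.BranchCount
import Groth.Agent.Lib.Helper9.Hens.NoetherianHens
import Groth.Agent.Lib.Helper9.HensK.StrictUnique
import Groth.Agent.Lib.Helper9.Hens.Reduced
import Groth.Agent.Lib.Helper98.HensTower
import Groth.Agent.Lib.Helper98.HensGaloisG

/-!
# Geometric unibranchness of subalgebras of a strict henselization (helper98)

* `forall_sepClosure_eq_bot_iff`: for a reduced local ring `D`, the residue fields of the
  normalization have trivial separable closure over the image of `D` iff all `Brnch.Emb` have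
  exactly one element.
* `exists_surjective_algHom_strictHenselization`: `D^sh → A^sh` is surjective for a local
  `A`-algebra `D` mapping locally to `A^sh`.
* `injective_of_injOn_comap_minimalPrimes`: it is injective when the minimal primes of `D^sh` are
  separated by their contractions (`D` henselian reduced Noetherian, target integral over `D`).
* `injOn_comap_of_card_eq`, `card_eq_of_injOn_comap`: counting minimal primes along a faithfully
  flat map.
-/

set_option autoImplicit false
set_option linter.style.haveILetI false
set_option linter.unusedSectionVars false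
universe u
namespace Groth.Agent.Lib.Helper98.GeomUnibranchFinite
open IsLocalRing Groth.Agent.Lib.Helper38 Groth.Agent.Lib.Helper9 Groth.Agent.Lib.Helper9.HensK

section Translate
variable (D : Type u) [CommRing D] [IsReduced D]

theorem bijective_mk_nilradical : Function.Bijective (Ideal.Quotient.mk (nilradical D)) := by
  refine ⟨?_, Ideal.Quotient.mk_surjective⟩
  rw [injective_iff_map_eq_zero]
  intro x hx
  rw [Ideal.Quotient.eq_zero_iff_mem, nilradical_eq_zero, Ideal.zero_eq_bot, Ideal.mem_bot] at hx
  exact hx

/-- `D ≃ D_red` for reduced `D`. -/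
noncomputable def redEquiv : D ≃+* CAlg2.red D := RingEquiv.ofBijective _ (bijective_mk_nilradical D)

/-- The normalization of a reduced ring versus `CAlg2.normRed`. -/
noncomputable def normEquiv : integralClosure D (FractionRing D) ≃+* CAlg2.normRed D :=
  NormalizationSemilocal.integralClosureEquiv (redEquiv D)
    (IsFractionRing.ringEquivOfRingEquiv (redEquiv D))
    (fun r => IsFractionRing.ringEquivOfRingEquiv_algebraMap (redEquiv D) r)

theorem normEquiv_algebraMap (d : D) :
    normEquiv D (algebraMap D (integralClosure D (FractionRing D)) d) =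
      algebraMap (CAlg2.red D) (CAlg2.normRed D) (Ideal.Quotient.mk (nilradical D) d) := by
  apply Subtype.ext
  change (IsFractionRing.ringEquivOfRingEquiv (redEquiv D)) (algebraMap D (FractionRing D) d) = _
  rw [IsFractionRing.ringEquivOfRingEquiv_algebraMap]
  rfl

end Translate

section Key
variable (D : Type u) [CommRing D] [IsLocalRing D] [IsReduced D]

theorem isPurelyInseparable_iff_of_range_eq {F₁ F₂ L : Type*} [Field F₁] [Field F₂] [Field L]
    [Algebra F₁ L] [Algebra F₂ L]
    (h : ((algebraMap F₁ L).range : Set L) = ((algebraMap F₂ L).range : Set L)) :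
    IsPurelyInseparable F₁ L ↔ IsPurelyInseparable F₂ L := by
  let q := ringExpChar L
  haveI : ExpChar L q := ringExpChar.expChar L
  haveI : ExpChar F₁ q := (algebraMap F₁ L).expChar (algebraMap F₁ L).injective q
  haveI : ExpChar F₂ q := (algebraMap F₂ L).expChar (algebraMap F₂ L).injective q
  rw [isPurelyInseparable_iff_pow_mem F₁ q, isPurelyInseparable_iff_pow_mem F₂ q]
  have h' : ∀ y : L, y ∈ (algebraMap F₁ L).range ↔ y ∈ (algebraMap F₂ L).range := fun y => by
    rw [← SetLike.mem_coe, h, SetLike.mem_coe]
  simp only [h']

/-- Key translation: for a maximal ideal `m'` of `normRed D` and the corresponding maximal ideal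
`M` of the normalization, the separable closure condition is `card Emb = 1`. -/
theorem sepClosure_eq_bot_iff_card_emb (m' : MaximalSpectrum (CAlg2.normRed D))
    (M : Ideal (integralClosure D (FractionRing D))) [hMmax : M.IsMaximal]
    (hM : M = m'.asIdeal.comap (normEquiv D : integralClosure D (FractionRing D) →+* CAlg2.normRed D)) :
    separableClosure (Subfield.closure (Set.range ((algebraMap (integralClosure D (FractionRing D))
        M.ResidueField).comp (algebraMap D (integralClosure D (FractionRing D))))))
        M.ResidueField = ⊥ ↔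
      ENat.card (Brnch.Emb D m') = 1 := by
  haveI := m'.isMaximal
  let B := integralClosure D (FractionRing D)
  let e : B ≃+* CAlg2.normRed D := normEquiv D
  let L := M.ResidueField
  let f : D →+* L := (algebraMap B L).comp (algebraMap D B)
  have hm'M : m'.asIdeal = M.map (e : B →+* CAlg2.normRed D) := by
    rw [hM]
    exact (Ideal.map_comap_of_surjective (e : B →+* CAlg2.normRed D) e.surjective _).symm
  let Φ₁ : (B ⧸ M) ≃+* (CAlg2.normRed D ⧸ m'.asIdeal) := Ideal.quotientEquiv M m'.asIdeal e hm'M
  let Φ₂ : (B ⧸ M) ≃+* L := RingEquiv.ofBijective (algebraMap (B ⧸ M) L)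
    (Ideal.bijective_algebraMap_quotient_residueField M)
  let Φ : (CAlg2.normRed D ⧸ m'.asIdeal) ≃+* L := Φ₁.symm.trans Φ₂
  have hΦf : ∀ d : D, Φ (Brnch.toResidue D m' d) = f d := by
    intro d
    have h1 : Brnch.toResidue D m' d = Φ₁ (Ideal.Quotient.mk M (algebraMap D B d)) := by
      change _ = Ideal.Quotient.mk m'.asIdeal (e (algebraMap D B d))
      rw [normEquiv_algebraMap]
      rfl
    rw [h1]
    rw [RingEquiv.trans_apply, RingEquiv.symm_apply_apply]
    have h3 := IsScalarTower.algebraMap_apply (integralClosure D (FractionRing D))
      (integralClosure D (FractionRing D) ⧸ M) M.ResidueField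
      (algebraMap D (integralClosure D (FractionRing D)) d)
    exact h3.symm
  haveI hloc := WedgeDVR.isLocalHom_toResidue D m'
  haveI : IsLocalHom f := by
    constructor
    intro d hd
    rw [← hΦf d] at hd
    have h2 : IsUnit (Brnch.toResidue D m' d) := by
      have := hd.map Φ.symm
      rwa [RingEquiv.symm_apply_apply] at this
    exact hloc.map_nonunit d h2
  letI : Algebra (ResidueField D) L := (ResidueField.lift f).toAlgebra
  have hΦ : ∀ r : D, Φ (Brnch.toResidue D m' r) =
      algebraMap (ResidueField D) L (residue D r) := by
    intro r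
    rw [hΦf r]
    exact (ResidueField.lift_residue_apply f r).symm
  haveI halg := BrnchEmb.isAlgebraic m' Φ hΦ
  rw [BranchCount.card_emb_eq_one_iff D m' Φ hΦ]
  -- the subfield
  let F₀ : Subfield L := (algebraMap (ResidueField D) L).fieldRange
  have hrange : Set.range f = (F₀ : Set L) := by
    ext y
    constructor
    · rintro ⟨d, rfl⟩
      exact ⟨residue D d, ResidueField.lift_residue_apply f d⟩
    · rintro ⟨c, rfl⟩
      obtain ⟨d, rfl⟩ := residue_surjective c
      exact ⟨d, (ResidueField.lift_residue_apply f d).symm⟩
  have hk : Subfield.closure (Set.range f) = F₀ := by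
    rw [hrange]
    exact Subfield.closure_eq F₀
  change separableClosure (Subfield.closure (Set.range f)) L = ⊥ ↔ _
  rw [hk]
  letI : Algebra (ResidueField D) F₀ := (algebraMap (ResidueField D) L).rangeRestrictField.toAlgebra
  haveI : IsScalarTower (ResidueField D) F₀ L := IsScalarTower.of_algebraMap_eq (fun _ => rfl)
  haveI : Algebra.IsAlgebraic F₀ L := Algebra.IsAlgebraic.tower_top (K := ResidueField D) F₀
  rw [separableClosure.eq_bot_iff]
  apply isPurelyInseparable_iff_of_range_eq
  ext y
  constructor
  · rintro ⟨⟨z, ⟨c, rfl⟩⟩, rfl⟩
    exact ⟨c, rfl⟩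
  · rintro ⟨c, rfl⟩
    exact ⟨⟨algebraMap (ResidueField D) L c, ⟨c, rfl⟩⟩, rfl⟩

end Key


section ForAll
variable (D : Type u) [CommRing D] [IsLocalRing D] [IsReduced D]

theorem forall_sepClosure_eq_bot_iff :
    (∀ (M : Ideal (integralClosure D (FractionRing D))) [M.IsMaximal],
        separableClosure (Subfield.closure (Set.range ((algebraMap (integralClosure D (FractionRing D))
          M.ResidueField).comp (algebraMap D (integralClosure D (FractionRing D))))))
          M.ResidueField = ⊥) ↔
      ∀ m' : MaximalSpectrum (CAlg2.normRed D), ENat.card (Brnch.Emb D m') = 1 := by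
  constructor
  · intro h m'
    haveI := m'.isMaximal
    haveI : (m'.asIdeal.comap
        (normEquiv D : integralClosure D (FractionRing D) →+* CAlg2.normRed D)).IsMaximal :=
      Ideal.comap_isMaximal_of_surjective _ (normEquiv D).surjective
    exact (sepClosure_eq_bot_iff_card_emb D m' _ rfl).mp (h _)
  · intro h M hMmax
    let m' : MaximalSpectrum (CAlg2.normRed D) :=
      ⟨M.comap ((normEquiv D).symm : CAlg2.normRed D →+* integralClosure D (FractionRing D)),
        Ideal.comap_isMaximal_of_surjective _ (normEquiv D).symm.surjective⟩
    have hM : M = m'.asIdeal.comap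
        (normEquiv D : integralClosure D (FractionRing D) →+* CAlg2.normRed D) := by
      ext x
      simp only [m', Ideal.mem_comap]
      change _ ↔ (normEquiv D).symm (normEquiv D x) ∈ M
      rw [RingEquiv.symm_apply_apply]
    exact (sepClosure_eq_bot_iff_card_emb D m' M hM).mpr (h m')

theorem forall_sepClosure_eq_bot_iff_numGeomBranches [IsNoetherianRing D] :
    (∀ (M : Ideal (integralClosure D (FractionRing D))) [M.IsMaximal],
        separableClosure (Subfield.closure (Set.range ((algebraMap (integralClosure D (FractionRing D))
          M.ResidueField).comp (algebraMap D (integralClosure D (FractionRing D))))))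
          M.ResidueField = ⊥) ↔
      Brnch.numGeomBranches D = Brnch.numBranches D := by
  rw [forall_sepClosure_eq_bot_iff, BranchCount.numGeomBranches_eq_numBranches_iff]

end ForAll

section Iso
variable (A D S : Type u) [CommRing A] [IsLocalRing A] [CommRing S] [IsLocalRing S] [Algebra A S]
  [IsLocalHom (algebraMap A S)] [Hensel.IsStrictHenselization A S]
  [CommRing D] [IsLocalRing D] [Algebra A D] [Algebra D S] [IsScalarTower A D S]
  [IsLocalHom (algebraMap D S)]

include A in
/-- The canonical `D`-map from the strict henselization of `D` to `S = A^sh` is surjective. -/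
theorem exists_surjective_algHom_strictHenselization :
    ∃ φ : StrictHenselization D →ₐ[D] S, Function.Surjective φ := by
  have hS : Hensel.IsStrictHenselization A S := inferInstance
  let T := StrictHenselization D
  have hT : Hensel.IsStrictHenselization D T := inferInstance
  haveI : HenselianLocalRing S := hS.henselian
  haveI : HenselianLocalRing T := hT.henselian
  haveI hAD : IsLocalHom (algebraMap A D) := by
    haveI : IsLocalHom ((algebraMap D S).comp (algebraMap A D)) := by
      rw [← IsScalarTower.algebraMap_eq]; infer_instance
    exact isLocalHom_of_comp (algebraMap A D) (algebraMap D S)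
  letI : Algebra A T := ((algebraMap D T).comp (algebraMap A D)).toAlgebra
  haveI : IsScalarTower A D T := IsScalarTower.of_algebraMap_eq (fun _ => rfl)
  haveI : IsLocalHom (algebraMap A T) := by
    change IsLocalHom ((algebraMap D T).comp (algebraMap A D))
    infer_instance
  haveI : IsSepClosure (ResidueField A) (ResidueField S) := hS.isSepClosure
  haveI : IsSepClosure (ResidueField D) (ResidueField T) := hT.isSepClosure
  haveI : IsSepClosure (ResidueField D) (ResidueField S) :=
    ⟨hS.isSepClosure.sep_closed,
      Algebra.isSeparable_tower_top_of_isSeparable (ResidueField A) (ResidueField D)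
        (ResidueField S)⟩
  let e : ResidueField T ≃ₐ[ResidueField D] ResidueField S :=
    IsSepClosure.equiv (ResidueField D) (ResidueField T) (ResidueField S)
  have hτ : (e : ResidueField T →+* ResidueField S).comp (ResidueField.map (algebraMap D T)) =
      ResidueField.map (algebraMap D S) := by
    ext c
    exact e.commutes c
  obtain ⟨φ, ⟨hφ1, hφ2⟩, -⟩ :=
    hT.universal S (algebraMap D S) (e : ResidueField T →+* ResidueField S) hτ
  have hτ' : (e.symm : ResidueField S →+* ResidueField T).comp
      (ResidueField.map (algebraMap A S)) = ResidueField.map (algebraMap A T) := by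
    ext c
    obtain ⟨c, rfl⟩ := residue_surjective c
    change e.symm (residue S (algebraMap A S c)) = residue T (algebraMap A T c)
    rw [IsScalarTower.algebraMap_apply A D S, IsScalarTower.algebraMap_apply A D T]
    exact e.symm.commutes (residue D (algebraMap A D c))
  obtain ⟨ψ, ⟨hψ1, hψ2⟩, -⟩ :=
    hS.universal T (algebraMap A T) (e.symm : ResidueField S →+* ResidueField T) hτ'
  have hid : φ.comp ψ = RingHom.id S := by
    have hτ'' : (RingHom.id (ResidueField S)).comp (ResidueField.map (algebraMap A S)) =
        ResidueField.map (algebraMap A S) := RingHom.id_comp _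
    obtain ⟨g, -, hguniq⟩ := hS.universal S (algebraMap A S) (RingHom.id (ResidueField S)) hτ''
    have h1 : φ.comp ψ = g := by
      apply hguniq
      refine ⟨?_, ?_⟩
      · rw [RingHom.comp_assoc, hψ1]
        ext a
        change φ (algebraMap D T (algebraMap A D a)) = _
        rw [← RingHom.comp_apply, hφ1, ← IsScalarTower.algebraMap_apply]
      · intro x
        change residue S (φ (ψ x)) = residue S x
        rw [hφ2, hψ2]
        exact e.apply_symm_apply _
    have h2 : RingHom.id S = g := by
      apply hguniq
      exact ⟨RingHom.id_comp _, fun x => rfl⟩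
    rw [h1, h2]
  let φa : T →ₐ[D] S := { φ with commutes' := fun d => DFunLike.congr_fun hφ1 d }
  exact ⟨φa, fun s => ⟨ψ s, DFunLike.congr_fun hid s⟩⟩

end Iso

section Inj
variable (D S : Type u) [CommRing S] [CommRing D] [HenselianLocalRing D] [IsReduced D]
  [IsNoetherianRing D]
  [Algebra D S] [Algebra.IsIntegral D S]

/-- If distinct minimal primes of `D^sh` have distinct contractions to the henselian reduced local
ring `D`, and `S` is an integral extension of `D`, then any `D`-algebra map `D^sh → S` is
injective. -/
theorem injective_of_injOn_comap_minimalPrimes (hinjDS : Function.Injective (algebraMap D S))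
    (φ : StrictHenselization D →ₐ[D] S)
    (hinj : ∀ P ∈ minimalPrimes (StrictHenselization D), ∀ P' ∈ minimalPrimes (StrictHenselization D),
      P.comap (algebraMap D (StrictHenselization D)) = P'.comap (algebraMap D (StrictHenselization D)) →
        P = P') :
    Function.Injective φ := by
  let T := StrictHenselization D
  haveI : Module.Flat D T := flat_of_isStrictHenselization D T
  haveI : Algebra.IsIntegral D T :=
    Groth.Agent.Lib.Helper98.HensGalois.isIntegral_of_isStrictHenselization D T
  have hnil := nilradical_eq_map_of_isStrictHenselization D T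
  rw [nilradical_eq_zero D, Ideal.zero_eq_bot, Ideal.map_bot] at hnil
  have hφalg : ∀ d : D, φ (algebraMap D T d) = algebraMap D S d := fun d => φ.commutes d
  have hker : RingHom.ker φ.toRingHom ≤ nilradical T := by
    have h0 : nilradical T = sInf (minimalPrimes T) := by
      change (⊥ : Ideal T).radical = sInf (⊥ : Ideal T).minimalPrimes
      rw [Ideal.sInf_minimalPrimes]
    rw [h0]
    apply le_sInf
    intro P hP
    haveI : P.IsPrime := hP.1.1
    have hp : P.comap (algebraMap D T) ∈ minimalPrimes D :=
      Groth.Agent.Lib.Helper98.HensTower.comap_mem_minimalPrimes hP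
    haveI : (P.comap (algebraMap D T)).IsPrime := hp.1.1
    obtain ⟨Q₀, -, hQ₀prime, hQ₀⟩ := Ideal.exists_ideal_over_prime_of_isIntegral
      (P.comap (algebraMap D T)) (⊥ : Ideal S) (by
        intro x hx
        rw [Ideal.mem_comap, Ideal.mem_bot] at hx
        have : x = 0 := hinjDS (by rw [hx, map_zero])
        rw [this]
        exact zero_mem _)
    haveI := hQ₀prime
    let Q : Ideal T := Q₀.comap φ.toRingHom
    haveI : Q.IsPrime := Ideal.comap_isPrime _ _
    have hQc : Q.comap (algebraMap D T) = P.comap (algebraMap D T) := by
      rw [← hQ₀]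
      ext d
      simp only [Q, Ideal.mem_comap]
      change φ (algebraMap D T d) ∈ Q₀ ↔ _
      rw [hφalg]
    obtain ⟨P', hP', hP'Q⟩ := Ideal.exists_minimalPrimes_le (I := ⊥) (J := Q) bot_le
    haveI : P'.IsPrime := hP'.1.1
    have hp' : P'.comap (algebraMap D T) ∈ minimalPrimes D :=
      Groth.Agent.Lib.Helper98.HensTower.comap_mem_minimalPrimes hP'
    have h1 : P'.comap (algebraMap D T) ≤ P.comap (algebraMap D T) := by
      rw [← hQc]
      exact Ideal.comap_mono hP'Q
    have h2 : P'.comap (algebraMap D T) = P.comap (algebraMap D T) :=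
      le_antisymm h1 (hp.2 ⟨hp'.1.1, bot_le⟩ h1)
    have h3 : P' = P := hinj P' hP' P hP h2
    rw [h3] at hP'Q
    have h4 : P = Q := by
      by_contra hne
      have hlt : P < Q := lt_of_le_of_ne hP'Q hne
      have := Ideal.IsIntegral.comap_lt_comap (R := D) hlt
      rw [hQc] at this
      exact lt_irrefl _ this
    rw [h4]
    intro x hx
    change φ x ∈ Q₀
    have : φ x = 0 := hx
    rw [this]
    exact zero_mem _
  rw [injective_iff_map_eq_zero]
  intro x hx
  have : x ∈ nilradical T := hker hx
  rw [hnil] at this
  exact this

end Inj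


section Count
variable {D T : Type*} [CommRing D] [CommRing T] [Algebra D T] [Module.FaithfullyFlat D T]

/-- The contraction map on minimal primes. -/
noncomputable def comapMin : minimalPrimes T → minimalPrimes D := fun P =>
  ⟨P.1.comap (algebraMap D T), HensTower.comap_mem_minimalPrimes P.2⟩

theorem comapMin_surjective : Function.Surjective (comapMin (D := D) (T := T)) := by
  rintro ⟨q, hq⟩
  obtain ⟨Q, hQ, hQq⟩ := HensTower.exists_minimalPrimes_comap_eq (S := T) hq
  exact ⟨⟨Q, hQ⟩, Subtype.ext hQq⟩

theorem injOn_comap_of_card_eq (hfin : (minimalPrimes D).Finite)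
    (hcard : ENat.card (minimalPrimes T) = ENat.card (minimalPrimes D)) :
    ∀ P ∈ minimalPrimes T, ∀ P' ∈ minimalPrimes T,
      P.comap (algebraMap D T) = P'.comap (algebraMap D T) → P = P' := by
  haveI : Finite (minimalPrimes D) := hfin
  haveI : Finite (minimalPrimes T) := by
    rw [← ENat.card_lt_top, hcard]
    exact ENat.card_lt_top_of_finite
  haveI := Fintype.ofFinite (minimalPrimes D)
  haveI := Fintype.ofFinite (minimalPrimes T)
  have hc : Nat.card (minimalPrimes T) ≤ Nat.card (minimalPrimes D) := by
    rw [ENat.card_eq_coe_fintype_card, ENat.card_eq_coe_fintype_card] at hcard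
    rw [Nat.card_eq_fintype_card, Nat.card_eq_fintype_card]
    exact_mod_cast hcard.le
  have hbij := (comapMin_surjective (D := D) (T := T)).bijective_of_nat_card_le hc
  intro P hP P' hP' h
  have := hbij.1 (a₁ := ⟨P, hP⟩) (a₂ := ⟨P', hP'⟩) (Subtype.ext h)
  exact congrArg Subtype.val this

theorem card_eq_of_injOn_comap
    (hinj : ∀ P ∈ minimalPrimes T, ∀ P' ∈ minimalPrimes T,
      P.comap (algebraMap D T) = P'.comap (algebraMap D T) → P = P') :
    ENat.card (minimalPrimes T) = ENat.card (minimalPrimes D) := by
  apply ENat.card_congr
  refine Equiv.ofBijective (comapMin (D := D) (T := T)) ⟨?_, comapMin_surjective⟩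
  rintro ⟨P, hP⟩ ⟨P', hP'⟩ h
  exact Subtype.ext (hinj P hP P' hP' (congrArg Subtype.val h))

end Count


section FiniteSub
variable {A S : Type u} [CommRing A] [HenselianLocalRing A] [IsNoetherianRing A] [CommRing S]
  [IsLocalRing S] [Algebra A S] [IsLocalHom (algebraMap A S)] [Hensel.IsStrictHenselization A S]
  (D : Subalgebra A S)

theorem isIntegral_sub : Algebra.IsIntegral D S := by
  haveI := Groth.Agent.Lib.Helper98.HensGalois.isIntegral_of_isStrictHenselization A S
  exact Algebra.IsIntegral.tower_top (R := A)

theorem isIntegral_base_sub : Algebra.IsIntegral A D := by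
  haveI := Groth.Agent.Lib.Helper98.HensGalois.isIntegral_of_isStrictHenselization A S
  constructor
  intro d
  have h1 : IsIntegral A ((d : D) : S) := Algebra.IsIntegral.isIntegral _
  exact (isIntegral_algHom_iff D.val Subtype.val_injective).mp h1

theorem isLocalRing_sub : IsLocalRing D := by
  haveI := isIntegral_sub D
  haveI : IsLocalHom (algebraMap D S) := inferInstance
  apply IsLocalRing.of_nonunits_add
  intro a b ha hb
  rw [mem_nonunits_iff] at ha hb ⊢
  intro hab
  have ha' : ¬ IsUnit (algebraMap D S a) := fun h => ha (isUnit_of_map_unit _ _ h)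
  have hb' : ¬ IsUnit (algebraMap D S b) := fun h => hb (isUnit_of_map_unit _ _ h)
  have := IsLocalRing.nonunits_add ha' hb'
  rw [← map_add] at this
  exact this (hab.map _)

end FiniteSub

end Groth.Agent.Lib.Helper98.GeomUnibranchFinite
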