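import Groth.Agent.Lib.Helper98.LaurentEuler
import Groth.Prelude.Def_DeRham
import Mathlib.LinearAlgebra.ExteriorPower.Basic

/-!
Algebraic de Rham cohomology of `G_m = Spec k[T, T⁻¹]` in characteristic zero.
-/

set_option autoImplicit false
universe u

namespace Groth.Agent.Lib.Helper98

open LaurentPolynomial exteriorPower

variable (k : Type u) [Field k]

local notation "L" => LaurentPolynomial k
local notation "ΩL" => Ω[LaurentPolynomial k⁄k]
local notation "DL" => KaehlerDifferential.D k (LaurentPolynomial k)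

/-- `dT`. -/
noncomputable abbrev gmdT : ΩL := DL (T 1)

theorem D_mem_span_dT (f : L) : DL f ∈ Submodule.span L {gmdT k} := by
  have hT : DL (T 1) ∈ Submodule.span L {gmdT k} := Submodule.mem_span_singleton_self _
  have hTinv : DL (T (-1)) ∈ Submodule.span L {gmdT k} := by
    have h1 : (T (-1) : L) * T 1 = 1 := by rw [← T_add]; simp
    rw [Derivation.leibniz_of_mul_eq_one _ h1]
    exact Submodule.smul_mem _ _ hT
  induction f using LaurentPolynomial.induction_on with
  | h_C a =>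
    have : DL (C a) = 0 := by
      rw [C_eq_algebraMap]; exact Derivation.map_algebraMap _ a
    rw [this]; exact Submodule.zero_mem _
  | h_add hp hq => rw [map_add]; exact Submodule.add_mem _ hp hq
  | h_C_mul_T n a ih =>
    have : (C a * T (n + 1) : L) = (C a * T n) * T 1 := by rw [T_add]; ring
    rw [this, Derivation.leibniz]
    exact Submodule.add_mem _ (Submodule.smul_mem _ _ hT) (Submodule.smul_mem _ _ ih)
  | h_C_mul_T_Z n a ih =>
    have : (C a * T (-n - 1) : L) = (C a * T (-n)) * T (-1) := by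
      rw [sub_eq_add_neg, T_add]; ring
    rw [this, Derivation.leibniz]
    exact Submodule.add_mem _ (Submodule.smul_mem _ _ hTinv) (Submodule.smul_mem _ _ ih)

theorem span_dT_eq_top : Submodule.span L {gmdT k} = ⊤ := by
  rw [eq_top_iff, ← KaehlerDifferential.span_range_derivation k L, Submodule.span_le]
  rintro _ ⟨f, rfl⟩
  exact D_mem_span_dT k f

/-- exterior powers of degree `≥ 2` vanish. -/
theorem extPow_subsingleton (i : ℕ) : Subsingleton ↥(⋀[L]^(i + 2) ΩL) := by
  have h := exteriorPower.ιMulti_span_of_span L (i + 2) ΩL (span_dT_eq_top k)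
  have h0 : ∀ x ∈ (exteriorPower.ιMulti L (i + 2) ''
      {a : Fin (i + 2) → ΩL | Set.range a ⊆ {gmdT k}}), x = 0 := by
    rintro _ ⟨a, ha, rfl⟩
    have h0 : a 0 = gmdT k := ha ⟨0, rfl⟩
    have h1 : a 1 = gmdT k := ha ⟨1, rfl⟩
    exact AlternatingMap.map_eq_zero_of_eq _ a (h0.trans h1.symm) (by simp [Fin.ext_iff])
  have h2 : (⊤ : Submodule L ↥(⋀[L]^(i + 2) ΩL)) = ⊥ := by
    rw [← h, Submodule.span_eq_bot]
    exact h0
  refine ⟨fun x y => ?_⟩
  have hx : x ∈ (⊤ : Submodule L ↥(⋀[L]^(i + 2) ΩL)) := trivial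
  have hy : y ∈ (⊤ : Submodule L ↥(⋀[L]^(i + 2) ΩL)) := trivial
  rw [h2, Submodule.mem_bot] at hx hy
  rw [hx, hy]

/-- the lift of the Euler derivation. -/
noncomputable def gmLam : ΩL →ₗ[L] L := (eulerDer (k := k)).liftKaehlerDifferential

theorem gmLam_D (f : L) : gmLam k (DL f) = eulerDer f :=
  Derivation.liftKaehlerDifferential_comp_D _ f

theorem eulerDer_T_one : eulerDer (T 1 : L) = T 1 := by
  ext n
  rw [eulerDer_coeff]
  by_cases h : n = 1
  · subst h; simp
  · have : (T 1 : L).coeff n = 0 := by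
      rw [T, AddMonoidAlgebra.coeff_single]
      exact Finsupp.single_eq_of_ne h
    rw [this, mul_zero]

theorem gmLam_injective : Function.Injective (gmLam k) := by
  rw [injective_iff_map_eq_zero]
  intro ω hω
  have hmem : ω ∈ Submodule.span L {gmdT k} := by rw [span_dT_eq_top]; trivial
  obtain ⟨g, rfl⟩ := Submodule.mem_span_singleton.1 hmem
  rw [map_smul, gmLam_D, eulerDer_T_one, smul_eq_mul] at hω
  have : g = 0 := by
    have h1 : g * T 1 * T (-1) = 0 := by rw [hω, zero_mul]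
    rw [mul_assoc, ← T_add] at h1
    simpa using h1
  rw [this, zero_smul]

/-- `⋀^1 Ω → L`. -/
noncomputable def gmLam1 : ↥(⋀[L]^1 ΩL) →ₗ[L] L :=
  gmLam k ∘ₗ (exteriorPower.oneEquiv L ΩL).toLinearMap

theorem gmLam1_injective : Function.Injective (gmLam1 k) :=
  (gmLam_injective k).comp (exteriorPower.oneEquiv L ΩL).injective

theorem gmLam1_ιMulti (m : Fin 1 → ΩL) :
    gmLam1 k (exteriorPower.ιMulti L 1 m) = gmLam k (m 0) := by
  simp [gmLam1, exteriorPower.oneEquiv_ιMulti]

theorem gmLam1_smul_k (c : k) (x : ↥(⋀[L]^1 ΩL)) : gmLam1 k (c • x) = C c * gmLam1 k x := by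
  rw [← algebraMap_smul L c x, map_smul, smul_eq_mul, C_eq_algebraMap]

/-- antiderivative for the Euler operator. -/
noncomputable def eulerInv (h : L) : L :=
  AddMonoidAlgebra.ofCoeff (Finsupp.onFinset h.coeff.support (fun n => h.coeff n / (n : k))
    (by
      intro n hn
      rw [Finsupp.mem_support_iff]
      intro h0
      rw [h0, zero_div] at hn
      exact hn rfl))

@[simp] theorem eulerInv_coeff (h : L) (n : ℤ) : (eulerInv k h).coeff n = h.coeff n / (n : k) := by
  simp [eulerInv]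

theorem eulerDer_eulerInv [CharZero k] (h : L) :
    eulerDer (eulerInv k h) = h - C (h.coeff 0) := by
  ext n
  rw [eulerDer_coeff, eulerInv_coeff]
  by_cases hn : n = 0
  · subst hn
    simp
  · have hn' : (n : k) ≠ 0 := by exact_mod_cast hn
    have : (C (h.coeff 0) : L).coeff n = 0 := by
      rw [C_apply, if_neg hn]
    rw [AddMonoidAlgebra.coeff_sub, Finsupp.sub_apply, this, sub_zero]
    field_simp

section main

variable {k}

theorem gmLam1_d0
    (d : ∀ p : ℕ, ↥(⋀[LaurentPolynomial k]^p (Ω[LaurentPolynomial k⁄k])) →ₗ[k] ↥(⋀[LaurentPolynomial k]^(p + 1) (Ω[LaurentPolynomial k⁄k])))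
    (hd : DeRham.IsDiff (KaehlerDifferential.D k (LaurentPolynomial k)) d)
    (y : ↥(⋀[L]^0 ΩL)) :
    gmLam1 k (d 0 y) = eulerDer (exteriorPower.zeroEquiv L ΩL y) := by
  set b₀ := exteriorPower.zeroEquiv L ΩL y with hb₀
  have hy : y = DeRham.gen DL 0 b₀ (fun i => i.elim0) := by
    apply (exteriorPower.zeroEquiv L ΩL).injective
    rw [DeRham.gen, LinearEquiv.map_smul, exteriorPower.zeroEquiv_ιMulti, smul_eq_mul, mul_one]
  rw [hy, hd.1 0 b₀ _, gmLam1_ιMulti, Fin.cons_zero, gmLam_D]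

theorem gmLam1_omega0 :
    gmLam1 k (DeRham.gen DL 1 (T (-1)) (fun _ => T 1)) = 1 := by
  rw [DeRham.gen, LinearMap.map_smul, gmLam1_ιMulti, gmLam_D, eulerDer_T_one, smul_eq_mul, ← T_add]
  simp

theorem gm_main [CharZero k]
    (d : ∀ p : ℕ, ↥(⋀[LaurentPolynomial k]^p (Ω[LaurentPolynomial k⁄k])) →ₗ[k] ↥(⋀[LaurentPolynomial k]^(p + 1) (Ω[LaurentPolynomial k⁄k])))
    (hd : DeRham.IsDiff (KaehlerDifferential.D k (LaurentPolynomial k)) d) :
    DeRham.cocycles d 1 = ⊤ ∧
    IsCompl (DeRham.coboundaries d 1)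
      (Submodule.span k {DeRham.gen DL 1 (T (-1)) (fun _ => T 1)}) ∧
    DeRham.gen DL 1 (T (-1)) (fun _ => T 1) ∉ DeRham.coboundaries d 1 ∧
    ∀ i : ℕ, DeRham.cocycles d (i + 2) ≤ DeRham.coboundaries d (i + 2) := by
  set ω₀ := DeRham.gen DL 1 (T (-1)) (fun _ => T 1) with hω₀
  have hdisj : ∀ x ∈ DeRham.coboundaries d 1, ∀ c : k, x = c • ω₀ → c = 0 := by
    rintro _ ⟨y, rfl⟩ c hc
    have h1 := congrArg (gmLam1 k) hc
    rw [gmLam1_d0 d hd, gmLam1_smul_k, gmLam1_omega0, mul_one] at h1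
    have h2 := congrArg (fun f : L => f.coeff 0) h1
    simp only [eulerDer_coeff, Int.cast_zero, zero_mul] at h2
    rw [C_apply, if_pos rfl] at h2
    exact h2.symm
  refine ⟨?_, ⟨?_, ?_⟩, ?_, ?_⟩
  · rw [eq_top_iff]
    intro x _
    have := extPow_subsingleton k 0
    exact Subsingleton.elim _ _
  · rw [Submodule.disjoint_def]
    intro x hx hx'
    obtain ⟨c, rfl⟩ := Submodule.mem_span_singleton.1 hx'
    rw [hdisj _ hx c rfl, zero_smul]
  · rw [Submodule.codisjoint_iff_exists_add_eq]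
    intro x
    set h := gmLam1 k x with hh
    let b := eulerInv k h
    let y : ↥(⋀[L]^0 ΩL) := (exteriorPower.zeroEquiv L ΩL).symm b
    refine ⟨d 0 y, h.coeff 0 • ω₀, ⟨y, rfl⟩, Submodule.smul_mem _ _ (Submodule.mem_span_singleton_self _), ?_⟩
    apply gmLam1_injective k
    rw [map_add, gmLam1_d0 d hd, gmLam1_smul_k, gmLam1_omega0, mul_one,
      LinearEquiv.apply_symm_apply, eulerDer_eulerInv, sub_add_cancel]
  · intro hmem
    have := hdisj _ hmem 1 (one_smul _ _).symm
    exact one_ne_zero this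
  · intro i x _
    have := extPow_subsingleton k i
    rw [Subsingleton.elim x 0]
    exact Submodule.zero_mem _

end main

end Groth.Agent.Lib.Helper98
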