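import Mathlib
import Groth.Agent.Lib.Helper98.HensGaloisD
import Groth.Agent.Lib.Helper89.EssEt

set_option autoImplicit false
set_option linter.style.haveILetI false
set_option linter.unusedSectionVars false

universe u

namespace Groth.Agent.Lib.Helper98.HensGalois

open IsLocalRing

/-- Let `A` be a henselian Noetherian local domain whose strict henselization `S` is a domain, and
`L` the subfield of `Frac S` generated by `A` and a finite set `t`. Then `L ∩ S` is a local
essentially étale `A`-subalgebra of `S`, dominated by `S`. -/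
theorem exists_subalgebra_eq_preimage_closure
    (A S : Type u) [CommRing A] [HenselianLocalRing A] [IsDomain A] [IsNoetherianRing A]
    [CommRing S] [IsLocalRing S] [Algebra A S] [IsLocalHom (algebraMap A S)]
    [Hensel.IsStrictHenselization A S] [IsDomain S] (t : Finset (FractionRing S)) :
    ∃ D : Subalgebra A S, (D : Set S) = (algebraMap S (FractionRing S)) ⁻¹'
        (Subfield.closure (Set.range (algebraMap A (FractionRing S)) ∪ (t : Set (FractionRing S))) :
          Set (FractionRing S)) ∧
      ∃ _ : IsLocalRing D, IsLocalHom (algebraMap D S) ∧ EGA4loc.IsEssentiallyEtale A D := by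
  classical
  haveI : Module.Flat A S := Groth.Agent.Lib.Helper9.HensK.flat_of_isStrictHenselization A S
  haveI : Module.FaithfullyFlat A S :=
    Groth.Agent.Lib.Helper9.HensK.faithfullyFlat_of_isStrictHenselization A S
  have hcov := Groth.Agent.Lib.Helper9.isEtaleCoveredFin_of_isStrictHenselization A S
  have hSΩ : Function.Injective (algebraMap S (FractionRing S)) := IsFractionRing.injective S _
  -- numerators and denominators
  have hfrac : ∀ y : FractionRing S, ∃ a b : S, b ≠ 0 ∧
      y = algebraMap S (FractionRing S) a / algebraMap S (FractionRing S) b := by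
    intro y
    obtain ⟨a, b, hb, rfl⟩ := IsFractionRing.div_surjective S y
    exact ⟨a, b, nonZeroDivisors.ne_zero hb, rfl⟩
  choose num den hden hnd using hfrac
  obtain ⟨E₀, _, _, _, _, φ, hfin₀, het₀, hφ⟩ :=
    exists_finite_etale_of_finset A S hcov (t.image num ∪ t.image den)
  obtain ⟨E, _, _, _, _, ψ, hfin, het, hgal, hle⟩ := exists_galois_enlargement A S φ
  have hψinj : Function.Injective ψ := injective_algHom ψ
  haveI : IsDomain E := hψinj.isDomain ψ.toRingHom
  have hEK : Function.Injective (algebraMap E (FractionRing E)) := IsFractionRing.injective E _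
  have hAE : Function.Injective (algebraMap A E) := by
    have h1 : Function.Injective (algebraMap A S) := FaithfulSMul.algebraMap_injective A S
    have h2 : (algebraMap A S : A → S) = ψ ∘ algebraMap A E := by
      ext a; exact (ψ.commutes a).symm
    rw [h2] at h1
    exact Function.Injective.of_comp h1
  haveI : FaithfulSMul A (FractionRing E) := by
    rw [faithfulSMul_iff_algebraMap_injective, IsScalarTower.algebraMap_eq A E (FractionRing E)]
    exact hEK.comp hAE
  letI : Algebra (FractionRing A) (FractionRing E) := FractionRing.liftAlgebra A (FractionRing E)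
  haveI : IsScalarTower A (FractionRing A) (FractionRing E) :=
    FractionRing.isScalarTower_liftAlgebra A (FractionRing E)
  -- the embedding of `Frac E` into `Frac S`
  have hginj : Function.Injective ((algebraMap S (FractionRing S)).comp ψ.toRingHom) :=
    hSΩ.comp hψinj
  let j : FractionRing E →+* FractionRing S := IsFractionRing.lift hginj
  have hj : ∀ x : E, j (algebraMap E (FractionRing E) x) = algebraMap S (FractionRing S) (ψ x) :=
    fun x => IsFractionRing.lift_algebraMap hginj x
  have hjA : ∀ a : A, j (algebraMap A (FractionRing E) a) = algebraMap A (FractionRing S) a := by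
    intro a
    rw [IsScalarTower.algebraMap_apply A E (FractionRing E), hj, AlgHom.commutes,
      ← IsScalarTower.algebraMap_apply]
  set Lset : Subfield (FractionRing S) :=
    Subfield.closure (Set.range (algebraMap A (FractionRing S)) ∪ (t : Set (FractionRing S)))
    with hLset
  have hALset : ∀ a : A, algebraMap A (FractionRing S) a ∈ Lset := fun a =>
    Subfield.subset_closure (Or.inl ⟨a, rfl⟩)
  let L : IntermediateField (FractionRing A) (FractionRing E) :=
    (Lset.comap j).toIntermediateField (by
      intro x
      obtain ⟨a, b, -, rfl⟩ := IsFractionRing.div_surjective A x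
      rw [map_div₀, ← IsScalarTower.algebraMap_apply, ← IsScalarTower.algebraMap_apply,
        Subfield.mem_comap, map_div₀, hjA, hjA]
      exact div_mem (hALset a) (hALset b))
  have hL : ∀ z : FractionRing E, z ∈ L ↔ j z ∈ Lset := fun z => Iff.rfl
  obtain ⟨E₁, _, _, _, _, ι₁, hfin₁, het₁, hinj₁, hE₁⟩ :=
    exists_etale_range_eq_preimage (A := A) (E := E) (FractionRing A) (FractionRing E) L
  -- `Lset` lies in the image of `j`
  have hLj : Lset ≤ j.fieldRange := by
    rw [hLset, Subfield.closure_le]
    rintro y (⟨a, rfl⟩ | hy)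
    · exact ⟨_, hjA a⟩
    · have hy' : y ∈ t := hy
      obtain ⟨n', hn'⟩ := hle (hφ (num y) (Finset.mem_union_left _ (Finset.mem_image_of_mem _ hy')))
      obtain ⟨d', hd'⟩ := hle (hφ (den y) (Finset.mem_union_right _ (Finset.mem_image_of_mem _ hy')))
      have hn'' : ψ n' = num y := hn'
      have hd'' : ψ d' = den y := hd'
      refine ⟨algebraMap E _ n' / algebraMap E _ d', ?_⟩
      rw [map_div₀, hj, hj, hn'', hd'']
      exact (hnd y).symm
  let ρ : E₁ →ₐ[A] S := ψ.comp ι₁
  have hρinj : Function.Injective ρ := hψinj.comp hinj₁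
  refine ⟨ρ.range, ?_, ?_⟩
  · ext s
    constructor
    · rintro ⟨y, rfl⟩
      change algebraMap S (FractionRing S) (ψ (ι₁ y)) ∈ Lset
      rw [← hj, ← hL, hE₁]
      exact ⟨y, rfl⟩
    · intro hs
      have hs' : algebraMap S (FractionRing S) s ∈ Lset := hs
      obtain ⟨z, hz⟩ := hLj hs'
      obtain ⟨u, w, hw, rfl⟩ := IsFractionRing.div_surjective E z
      rw [map_div₀, hj, hj] at hz
      have hw0 : w ≠ 0 := nonZeroDivisors.ne_zero hw
      have hw1 : ψ w ≠ 0 := fun h => hw0 (hψinj (h.trans (map_zero ψ).symm))
      have hw2 : algebraMap S (FractionRing S) (ψ w) ≠ 0 :=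
        fun h => hw1 (hSΩ (h.trans (map_zero _).symm))
      have h3 : ψ w * s = ψ u := by
        apply hSΩ
        rw [map_mul, ← hz]
        field_simp
      obtain ⟨x, hx⟩ := mem_range_of_mul_eq ψ w u s (mem_nonZeroDivisors_of_ne_zero hw1) h3
      have hx' : ψ x = s := hx
      rw [← hx', ← hj, ← hL, hE₁] at hs'
      obtain ⟨y, hy⟩ := hs'
      have hy' : ι₁ y = x := hy
      exact ⟨y, by change ψ (ι₁ y) = s; rw [hy', hx']⟩
  · let e : E₁ ≃ₐ[A] ρ.range := AlgEquiv.ofInjective ρ hρinj
    have hloc : IsLocalRing ρ.range := e.toRingEquiv.isLocalRing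
    refine ⟨hloc, ?_, ?_⟩
    · constructor
      rintro ⟨_, y, rfl⟩ hu
      have hu' : IsUnit (ρ y) := hu
      haveI : IsLocalHom ρ.toRingHom := isLocalHom_algHom ρ
      have hy : IsUnit y := isUnit_of_map_unit ρ.toRingHom y hu'
      exact hy.map e
    · exact Groth.Agent.Lib.Helper89.isEssentiallyEtale_of_algEquiv e.symm
        (isEssentiallyEtale_of_etale A E₁)

end Groth.Agent.Lib.Helper98.HensGalois
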