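import Mathlib
import Groth.Agent.Lib.Helper98.HensGaloisD

set_option autoImplicit false
set_option linter.style.haveILetI false
set_option linter.unusedSectionVars false

universe u

namespace Groth.Agent.Lib.Helper98.HensGalois

open IsLocalRing

section ResAut

variable {A : Type u} [CommRing A] [HenselianLocalRing A]
  {E : Type u} [CommRing E] [IsLocalRing E] [Algebra A E] [IsLocalHom (algebraMap A E)]
  [Module.Finite A E] [Algebra.Etale A E]

/-- The residue field automorphism induced by an `A`-automorphism of `E`. -/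
noncomputable def resAut (g : E ≃ₐ[A] E) :
    ResidueField E ≃ₐ[ResidueField A] ResidueField E :=
  haveI : IsLocalHom (g : E →ₐ[A] E).toRingHom := isLocalHom_algHom _
  haveI : Module.Finite (ResidueField A) (ResidueField E) :=
    Module.Finite.of_restrictScalars_finite A _ _
  AlgEquiv.ofBijective (residueAlgHom (g : E →ₐ[A] E)) (AlgHom.bijective _)

theorem resAut_residue (g : E ≃ₐ[A] E) (x : E) :
    resAut g (residue E x) = residue E (g x) := by
  haveI : IsLocalHom (g : E →ₐ[A] E).toRingHom := isLocalHom_algHom _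
  exact residueAlgHom_residue (g : E →ₐ[A] E) x

theorem liftAut_resAut (g : E ≃ₐ[A] E) : liftAut (resAut g) = g :=
  (eq_liftAut (resAut g) g fun x => (resAut_residue g x).symm).symm

theorem resAut_liftAut (σ : ResidueField E ≃ₐ[ResidueField A] ResidueField E) :
    resAut (liftAut σ) = σ := by
  apply liftAut_injective (A := A) (E := E)
  rw [liftAut_resAut]

theorem resAut_injective : Function.Injective (resAut (A := A) (E := E)) := by
  intro g h hgh
  rw [← liftAut_resAut g, ← liftAut_resAut h, hgh]

instance finite_algEquiv : Finite (E ≃ₐ[A] E) := by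
  haveI : Module.Finite (ResidueField A) (ResidueField E) :=
    Module.Finite.of_restrictScalars_finite A _ _
  exact Finite.of_injective _ (resAut_injective (A := A) (E := E))

end ResAut

section Reynolds

variable {A : Type u} [CommRing A] [HenselianLocalRing A]
  {E : Type u} [CommRing E] [IsLocalRing E] [Algebra A E] [IsLocalHom (algebraMap A E)]
  [Module.Finite A E] [Algebra.Etale A E]

/-- There is an element of trace one for every subgroup of `Aut_A(E)`. -/
theorem exists_trace_one (H : Subgroup (E ≃ₐ[A] E)) [Fintype H] :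
    ∃ c : E, ∑ h : H, (h : E ≃ₐ[A] E) c = 1 := by
  classical
  -- Dedekind independence in the residue field
  have hli := linearIndependent_algHom_toLinearMap (ResidueField A) (ResidueField E)
    (ResidueField E)
  have hinj : Function.Injective (fun h : H =>
      ((resAut (h : E ≃ₐ[A] E) : ResidueField E ≃ₐ[ResidueField A] ResidueField E) :
        ResidueField E →ₐ[ResidueField A] ResidueField E)) := by
    intro h₁ h₂ h12
    apply Subtype.ext
    apply resAut_injective (A := A) (E := E)
    ext x
    exact AlgHom.congr_fun h12 x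
  have hli' := hli.comp _ hinj
  have hne : ∃ cb : ResidueField E, ∑ h : H, resAut (h : E ≃ₐ[A] E) cb ≠ 0 := by
    by_contra hcon
    push Not at hcon
    have h0 : ∑ h : H, (1 : ResidueField E) •
        ((resAut (h : E ≃ₐ[A] E) : ResidueField E →ₐ[ResidueField A] ResidueField E)).toLinearMap
          = 0 := by
      ext x
      simp only [one_smul, LinearMap.sum_apply, AlgHom.toLinearMap_apply,
        LinearMap.zero_apply]
      exact hcon x
    have := (Fintype.linearIndependent_iff.mp hli') (fun _ => 1) h0 (1 : H)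
    exact one_ne_zero this
  obtain ⟨cb, hcb⟩ := hne
  obtain ⟨c, rfl⟩ := residue_surjective cb
  set u : E := ∑ h : H, (h : E ≃ₐ[A] E) c with hu
  have hures : residue E u = ∑ h : H, resAut (h : E ≃ₐ[A] E) (residue E c) := by
    rw [hu, map_sum]
    exact Finset.sum_congr rfl fun h _ => (resAut_residue _ c).symm
  have huu : IsUnit u := by
    rw [← IsLocalRing.residue_ne_zero_iff_isUnit, hures]
    exact hcb
  have hfix : ∀ g : H, (g : E ≃ₐ[A] E) u = u := by
    intro g
    rw [hu, map_sum]
    exact Fintype.sum_equiv (Equiv.mulLeft g) _ _ fun h => rfl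
  obtain ⟨v, hv⟩ := huu.exists_right_inv
  have hfixv : ∀ g : H, (g : E ≃ₐ[A] E) v = v := by
    intro g
    have h1 : u * (g : E ≃ₐ[A] E) v = 1 := by
      rw [← hfix g, ← map_mul, hv, map_one]
    calc (g : E ≃ₐ[A] E) v = (v * u) * (g : E ≃ₐ[A] E) v := by rw [mul_comm v u, hv, one_mul]
      _ = v * (u * (g : E ≃ₐ[A] E) v) := by ring
      _ = v := by rw [h1, mul_one]
  refine ⟨c * v, ?_⟩
  calc ∑ h : H, (h : E ≃ₐ[A] E) (c * v) = ∑ h : H, (h : E ≃ₐ[A] E) c * v := by
        refine Finset.sum_congr rfl fun h _ => ?_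
        rw [map_mul, hfixv h]
    _ = u * v := by rw [hu, Finset.sum_mul]
    _ = 1 := hv

/-- **Reynolds operator.** For every subgroup `H` of `Aut_A(E)` there is an `A`-linear map
`R : E → E` with `H`-invariant values such that `R x ≡ x` modulo any ideal modulo which `x` is
`H`-invariant. -/
theorem exists_reynolds (H : Subgroup (E ≃ₐ[A] E)) :
    ∃ R : E →ₗ[A] E, (∀ x, ∀ h ∈ H, h (R x) = R x) ∧
      ∀ (I : Ideal E) (x : E), (∀ h ∈ H, h x - x ∈ I) → R x - x ∈ I := by
  classical
  letI : Fintype H := Fintype.ofFinite H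
  obtain ⟨c, hc⟩ := exists_trace_one H
  let R : E →ₗ[A] E := ∑ h : H, ((h : E ≃ₐ[A] E).toLinearMap).comp (LinearMap.mulLeft A c)
  have hR : ∀ x, R x = ∑ h : H, (h : E ≃ₐ[A] E) (c * x) := by
    intro x
    simp [R]
  refine ⟨R, ?_, ?_⟩
  · intro x g hg
    rw [hR, map_sum]
    exact Fintype.sum_equiv (Equiv.mulLeft (⟨g, hg⟩ : H)) _ _ fun h => rfl
  · intro I x hx
    have h1 : R x - x = ∑ h : H, (h : E ≃ₐ[A] E) c * ((h : E ≃ₐ[A] E) x - x) := by
      rw [hR]
      simp only [map_mul, mul_sub, Finset.sum_sub_distrib, ← Finset.sum_mul, hc, one_mul]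
    rw [h1]
    exact Ideal.sum_mem _ fun h _ => Ideal.mul_mem_left _ _ (hx h h.2)

/-- The `A`-submodule of `H`-invariants. -/
def fixedSubmodule (H : Subgroup (E ≃ₐ[A] E)) : Submodule A E where
  carrier := {x | ∀ h ∈ H, h x = x}
  add_mem' := fun {x y} hx hy h hh => by rw [map_add, hx h hh, hy h hh]
  zero_mem' := fun h _ => map_zero h
  smul_mem' := fun a x hx h hh => by rw [map_smul, hx h hh]

theorem mem_fixedSubmodule (H : Subgroup (E ≃ₐ[A] E)) (x : E) :
    x ∈ fixedSubmodule H ↔ ∀ h ∈ H, h x = x := Iff.rfl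

/-- **Key lemma.** If `x` lies in the maximal ideal of `E` and is fixed by `H` modulo an ideal `I`,
then `x ∈ 𝔪_A • E^H + I`. -/
theorem mem_smul_fixedSubmodule_sup (H : Subgroup (E ≃ₐ[A] E)) (I : Ideal E) (x : E)
    (hxm : x ∈ maximalIdeal E) (hx : ∀ h ∈ H, h x - x ∈ I) :
    x ∈ maximalIdeal A • fixedSubmodule H ⊔ I.restrictScalars A := by
  obtain ⟨R, hR1, hR2⟩ := exists_reynolds H
  have h1 : R x ∈ maximalIdeal A • fixedSubmodule H := by
    have hx' : x ∈ maximalIdeal A • (⊤ : Submodule A E) := by
      rw [Ideal.smul_top_eq_map, map_maximalIdeal_eq A E]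
      exact hxm
    have h2 : Submodule.map R (maximalIdeal A • (⊤ : Submodule A E)) ≤
        maximalIdeal A • fixedSubmodule H := by
      rw [Submodule.map_smul'']
      apply Submodule.smul_mono le_rfl
      rintro _ ⟨y, -, rfl⟩
      exact fun h hh => hR1 y h hh
    exact h2 ⟨x, hx', rfl⟩
  have h3 : x = R x + -(R x - x) := by ring
  rw [h3]
  exact Submodule.add_mem_sup h1 (neg_mem (hR2 I x hx))

end Reynolds

section Invariant

variable {A : Type u} [CommRing A] [HenselianLocalRing A] [IsNoetherianRing A]
  {E : Type u} [CommRing E] [IsLocalRing E] [Algebra A E] [IsLocalHom (algebraMap A E)]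
  [Module.Finite A E] [Algebra.Etale A E] [IsGalois (ResidueField A) (ResidueField E)]

/-- **Invariants.** If the residue field extension is Galois, then `E^{Aut_A(E)} = A`. -/
theorem isInvariant_algEquiv : Algebra.IsInvariant A E (E ≃ₐ[A] E) := by
  constructor
  intro x hx
  haveI : Module.Finite (ResidueField A) (ResidueField E) :=
    Module.Finite.of_restrictScalars_finite A _ _
  have key : fixedSubmodule (⊤ : Subgroup (E ≃ₐ[A] E)) ≤ LinearMap.range (Algebra.linearMap A E) := by
    apply Submodule.le_of_le_smul_of_le_jacobson_bot (I := maximalIdeal A)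
      (IsNoetherian.noetherian _)
    · exact (IsLocalRing.jacobson_eq_maximalIdeal ⊥ bot_ne_top).ge
    · intro y hy
      have hres : ∀ σ : ResidueField E ≃ₐ[ResidueField A] ResidueField E,
          σ (residue E y) = residue E y := by
        intro σ
        rw [← liftAut_spec, hy _ (Subgroup.mem_top _)]
      obtain ⟨r, hr⟩ := (IsGalois.mem_range_algebraMap_iff_fixed (residue E y)).mpr hres
      obtain ⟨a, rfl⟩ := residue_surjective r
      have hya : y - algebraMap A E a ∈ maximalIdeal E := by
        rw [← Ideal.Quotient.eq_zero_iff_mem]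
        change residue E _ = 0
        rw [map_sub, ← hr, sub_eq_zero]
        rfl
      have hfix : ∀ h ∈ (⊤ : Subgroup (E ≃ₐ[A] E)), h (y - algebraMap A E a) -
          (y - algebraMap A E a) ∈ (⊥ : Ideal E) := by
        intro h hh
        rw [map_sub, hy h hh, AlgEquiv.commutes, sub_self]
        exact zero_mem _
      have := mem_smul_fixedSubmodule_sup (⊤ : Subgroup (E ≃ₐ[A] E)) ⊥ _ hya hfix
      have hbot : (⊥ : Ideal E).restrictScalars A = ⊥ := rfl
      rw [hbot, sup_bot_eq] at this
      have h2 : y = algebraMap A E a + (y - algebraMap A E a) := by ring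
      rw [h2]
      exact Submodule.add_mem_sup ⟨a, rfl⟩ this
  obtain ⟨a, ha⟩ := key (fun h _ => hx h)
  exact ⟨a, ha⟩

end Invariant

end Groth.Agent.Lib.Helper98.HensGalois
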