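import Mathlib
import Groth.Agent.Lib.Helper98.HensGaloisH

set_option autoImplicit false
set_option linter.style.haveILetI false
set_option linter.unusedSectionVars false

universe u

open scoped Pointwise

namespace Groth.Agent.Lib.Helper98.HensGalois

open IsLocalRing

/-- **Decomposition group argument.** Let `E` be a finite étale local algebra over a henselian
Noetherian local ring `A` with Galois residue extension, `QE` a prime of `E`, and `L` an
intermediate field of `Frac (E/QE)` over `Frac (A/(QE ∩ A))`. Every element of the maximal ideal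
of `E` whose class lies in `L` belongs to `𝔪_A • N + QE` where `N` is an `A`-submodule of `E`
all of whose classes lie in `L`. -/
theorem mem_smul_preimage_sup
    {A : Type u} [CommRing A] [HenselianLocalRing A] [IsNoetherianRing A]
    {E : Type u} [CommRing E] [IsLocalRing E] [Algebra A E] [IsLocalHom (algebraMap A E)]
    [Module.Finite A E] [Algebra.Etale A E] [IsGalois (ResidueField A) (ResidueField E)]
    (QE : Ideal E) [QE.IsPrime]
    (K Lq : Type u) [Field K] [Field Lq] [Algebra (A ⧸ QE.under A) K] [Algebra (E ⧸ QE) Lq]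
    [Algebra (A ⧸ QE.under A) Lq] [IsScalarTower (A ⧸ QE.under A) (E ⧸ QE) Lq] [Algebra K Lq]
    [IsScalarTower (A ⧸ QE.under A) K Lq] [IsFractionRing (A ⧸ QE.under A) K]
    [IsFractionRing (E ⧸ QE) Lq]
    (L : IntermediateField K Lq) (e : E) (hem : e ∈ maximalIdeal E)
    (heL : algebraMap (E ⧸ QE) Lq (Ideal.Quotient.mk QE e) ∈ L) :
    ∃ N : Submodule A E, (∀ z ∈ N, algebraMap (E ⧸ QE) Lq (Ideal.Quotient.mk QE z) ∈ L) ∧
      e ∈ maximalIdeal A • N ⊔ QE.restrictScalars A := by
  classical
  haveI hinv : Algebra.IsInvariant A E (E ≃ₐ[A] E) := isInvariant_algEquiv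
  -- separability
  haveI : Algebra.FormallyUnramified A (E ⧸ QE) :=
    Algebra.FormallyUnramified.of_surjective (Ideal.Quotient.mkₐ A QE) Ideal.Quotient.mk_surjective
  haveI : Algebra.FormallyUnramified (A ⧸ QE.under A) (E ⧸ QE) :=
    Algebra.FormallyUnramified.of_restrictScalars A _ _
  haveI : Algebra.FormallyUnramified (E ⧸ QE) Lq :=
    Algebra.FormallyUnramified.of_isLocalization (nonZeroDivisors (E ⧸ QE))
  haveI : Algebra.FormallyUnramified (A ⧸ QE.under A) Lq :=
    Algebra.FormallyUnramified.comp _ (E ⧸ QE) _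
  haveI : Algebra.FormallyUnramified K Lq :=
    Algebra.FormallyUnramified.of_restrictScalars (A ⧸ QE.under A) _ _
  haveI : Algebra.EssFiniteType (E ⧸ QE) Lq :=
    Algebra.EssFiniteType.of_isLocalization _ (nonZeroDivisors (E ⧸ QE))
  haveI : Algebra.EssFiniteType (A ⧸ QE.under A) Lq :=
    Algebra.EssFiniteType.comp _ (E ⧸ QE) _
  haveI : Algebra.EssFiniteType K Lq := Algebra.EssFiniteType.of_comp (A ⧸ QE.under A) _ _
  haveI : Algebra.IsSeparable K Lq := Algebra.FormallyUnramified.isSeparable K Lq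
  haveI : Normal K Lq := Ideal.IsFractionRing.normal (E ≃ₐ[A] E) (QE.under A) QE K Lq
  haveI : Module.Finite K Lq :=
    Ideal.IsFractionRing.finite_of_isInvariant (E ≃ₐ[A] E) (QE.under A) QE K Lq
  haveI : IsGalois K Lq := ⟨⟩
  have hsurj := IsFractionRing.stabilizerHom_surjective (E ≃ₐ[A] E) (QE.under A) QE K Lq
  set sh := IsFractionRing.stabilizerHom (E ≃ₐ[A] E) (QE.under A) QE K Lq with hsh
  let H : Subgroup (E ≃ₐ[A] E) :=
    (L.fixingSubgroup.comap sh).map (MulAction.stabilizer (E ≃ₐ[A] E) QE).subtype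
  have hEinj : Function.Injective (algebraMap (E ⧸ QE) Lq) := IsFractionRing.injective _ _
  have hH : ∀ h ∈ H, ∀ x : E, algebraMap (E ⧸ QE) Lq (Ideal.Quotient.mk QE x) ∈ L →
      h x - x ∈ QE := by
    rintro _ ⟨σ, hσ, rfl⟩ x hx
    have h1 := (IntermediateField.mem_fixingSubgroup_iff _ _).mp hσ _ hx
    rw [hsh, IsFractionRing.stabilizerHom_apply_apply_mk] at h1
    have h2 := hEinj h1
    rw [Ideal.Quotient.eq] at h2
    exact h2
  refine ⟨fixedSubmodule H, ?_, mem_smul_fixedSubmodule_sup H QE e hem (fun h hh => hH h hh e heL)⟩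
  intro z hz
  rw [← IsGalois.fixedField_fixingSubgroup L, IntermediateField.mem_fixedField_iff]
  intro γ hγ
  obtain ⟨σ, rfl⟩ := hsurj γ
  have hσH : (σ : E ≃ₐ[A] E) ∈ H := ⟨σ, hγ, rfl⟩
  rw [IsFractionRing.stabilizerHom_apply_apply_mk]
  congr 2
  exact hz _ hσH

end Groth.Agent.Lib.Helper98.HensGalois
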