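import Mathlib
import Groth.Agent.Lib.Helper98.HensGaloisG
import Groth.Agent.Lib.Helper98.HensGaloisI

set_option autoImplicit false
set_option linter.style.haveILetI false
set_option linter.unusedSectionVars false

universe u

namespace Groth.Agent.Lib.Helper98.HensGalois

open IsLocalRing

section Unram

variable (A S : Type u) [CommRing A] [HenselianLocalRing A] [IsNoetherianRing A]
    [CommRing S] [IsLocalRing S] [Algebra A S] [IsLocalHom (algebraMap A S)]
    [Hensel.IsStrictHenselization A S] (Q : Ideal S) [Q.IsPrime]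
    (t : Finset (FractionRing (S ⧸ Q)))

theorem isUnit_mk_iff (x : S) : IsUnit (Ideal.Quotient.mk Q x) ↔ IsUnit x := by
  constructor
  · intro h
    by_contra hx
    obtain ⟨y, hy⟩ := h.exists_right_inv
    obtain ⟨y', rfl⟩ := Ideal.Quotient.mk_surjective y
    rw [← map_mul, ← map_one (Ideal.Quotient.mk Q), Ideal.Quotient.eq] at hy
    have h1 : x * y' - 1 ∈ maximalIdeal S := IsLocalRing.le_maximalIdeal (Ideal.IsPrime.ne_top ‹_›) hy
    have h2 : x * y' ∈ maximalIdeal S := Ideal.mul_mem_right _ _ hx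
    have h3 : (1 : S) ∈ maximalIdeal S := by
      have : (1 : S) = x * y' - (x * y' - 1) := by ring
      rw [this]; exact sub_mem h2 h1
    exact (Ideal.ne_top_iff_one _).mp (Ideal.IsPrime.ne_top inferInstance) h3
  · exact fun h => h.map _

theorem isLocalHom_algebraMap_interSubalgebra :
    IsLocalHom (algebraMap A (interSubalgebra A S Q t)) := by
  constructor
  intro a ha
  have h1 : IsUnit (algebraMap A (S ⧸ Q) a) := ha.map (interSubalgebra A S Q t).val
  have h2 : IsUnit (algebraMap A S a) := (isUnit_mk_iff S Q _).mp h1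
  exact isUnit_of_map_unit (algebraMap A S) a h2

/-- The maximal ideal of `L ∩ S/Q` is generated by the maximal ideal of `A`. -/
theorem map_maximalIdeal_interSubalgebra :
    letI := isLocalRing_interSubalgebra A S Q t
    (maximalIdeal A).map (algebraMap A (interSubalgebra A S Q t)) =
      maximalIdeal (interSubalgebra A S Q t) := by
  classical
  letI := isLocalRing_interSubalgebra A S Q t
  haveI := isLocalHom_algebraMap_interSubalgebra A S Q t
  haveI : Module.Flat A S := Groth.Agent.Lib.Helper9.HensK.flat_of_isStrictHenselization A S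
  apply le_antisymm
  · exact ((IsLocalRing.local_hom_TFAE (algebraMap A (interSubalgebra A S Q t))).out 0 2).mp
      (isLocalHom_algebraMap_interSubalgebra A S Q t)
  intro d hd
  -- the Galois finite étale local algebra
  obtain ⟨E₀, _, _, _, _, φ₀, hfin₀, het₀, -, -, -, hcore₀⟩ :=
    exists_finite_etale_quotient_core A S Q t ∅
  obtain ⟨E, _, _, _, _, ψ, hfin, het, hgal, hle⟩ := exists_galois_enlargement A S φ₀
  have hcore : ∀ x : S, algebraMap (S ⧸ Q) (FractionRing (S ⧸ Q)) (Ideal.Quotient.mk Q x) ∈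
      Subfield.closure (Set.range (algebraMap A (FractionRing (S ⧸ Q))) ∪
        (t : Set (FractionRing (S ⧸ Q)))) →
      ∃ e : E, Ideal.Quotient.mk Q (ψ e) = Ideal.Quotient.mk Q x := by
    intro x hx
    obtain ⟨e₀, he₀⟩ := hcore₀ x hx
    obtain ⟨e, he⟩ := hle ⟨e₀, rfl⟩
    have he' : ψ e = φ₀ e₀ := he
    exact ⟨e, by rw [he', he₀]⟩
  have hψinj : Function.Injective ψ := injective_algHom ψ
  -- the prime `QE` and the fields
  set QE : Ideal E := Q.comap ψ.toRingHom with hQE
  haveI : QE.IsPrime := Ideal.comap_isPrime _ _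
  let ψb : E ⧸ QE →+* S ⧸ Q := Ideal.quotientMap Q ψ.toRingHom le_rfl
  have hψb : ∀ x : E, ψb (Ideal.Quotient.mk QE x) = Ideal.Quotient.mk Q (ψ x) := fun x => rfl
  have hψbinj : Function.Injective ψb := Ideal.quotientMap_injective
  have hΩinj : Function.Injective (algebraMap (S ⧸ Q) (FractionRing (S ⧸ Q))) :=
    IsFractionRing.injective _ _
  letI : Algebra (FractionRing (A ⧸ QE.under A)) (FractionRing (E ⧸ QE)) :=
    FractionRing.liftAlgebra (A ⧸ QE.under A) (FractionRing (E ⧸ QE))
  haveI : IsScalarTower (A ⧸ QE.under A) (FractionRing (A ⧸ QE.under A)) (FractionRing (E ⧸ QE)) :=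
    FractionRing.isScalarTower_liftAlgebra _ _
  have hginj : Function.Injective ((algebraMap (S ⧸ Q) (FractionRing (S ⧸ Q))).comp ψb) :=
    hΩinj.comp hψbinj
  let j : FractionRing (E ⧸ QE) →+* FractionRing (S ⧸ Q) := IsFractionRing.lift hginj
  have hj : ∀ x : E, j (algebraMap (E ⧸ QE) (FractionRing (E ⧸ QE)) (Ideal.Quotient.mk QE x)) =
      algebraMap (S ⧸ Q) (FractionRing (S ⧸ Q)) (Ideal.Quotient.mk Q (ψ x)) :=
    fun x => IsFractionRing.lift_algebraMap hginj _
  set Lset : Subfield (FractionRing (S ⧸ Q)) :=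
    Subfield.closure (Set.range (algebraMap A (FractionRing (S ⧸ Q))) ∪
      (t : Set (FractionRing (S ⧸ Q)))) with hLset
  have hALset : ∀ a : A, algebraMap A (FractionRing (S ⧸ Q)) a ∈ Lset := fun a =>
    Subfield.subset_closure (Or.inl ⟨a, rfl⟩)
  have hjA : ∀ a : A, j (algebraMap (A ⧸ QE.under A) (FractionRing (E ⧸ QE))
      (Ideal.Quotient.mk _ a)) = algebraMap A (FractionRing (S ⧸ Q)) a := by
    intro a
    have h1 : algebraMap (A ⧸ QE.under A) (FractionRing (E ⧸ QE)) (Ideal.Quotient.mk _ a) =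
        algebraMap (E ⧸ QE) (FractionRing (E ⧸ QE)) (Ideal.Quotient.mk QE (algebraMap A E a)) := by
      rw [IsScalarTower.algebraMap_apply (A ⧸ QE.under A) (E ⧸ QE) (FractionRing (E ⧸ QE))]
      rfl
    rw [h1, hj, AlgHom.commutes]
    exact (IsScalarTower.algebraMap_apply A (S ⧸ Q) (FractionRing (S ⧸ Q)) a).symm
  let L : IntermediateField (FractionRing (A ⧸ QE.under A)) (FractionRing (E ⧸ QE)) :=
    (Lset.comap j).toIntermediateField (by
      intro x
      obtain ⟨a, b, -, rfl⟩ := IsFractionRing.div_surjective (A ⧸ QE.under A) x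
      obtain ⟨a', rfl⟩ := Ideal.Quotient.mk_surjective a
      obtain ⟨b', rfl⟩ := Ideal.Quotient.mk_surjective b
      rw [map_div₀, ← IsScalarTower.algebraMap_apply, ← IsScalarTower.algebraMap_apply,
        Subfield.mem_comap, map_div₀, hjA, hjA]
      exact div_mem (hALset a') (hALset b'))
  have hL : ∀ z : FractionRing (E ⧸ QE), z ∈ L ↔ j z ∈ Lset := fun z => Iff.rfl
  -- lift `d`
  obtain ⟨d₀, hd₀⟩ := d
  obtain ⟨x, rfl⟩ := Ideal.Quotient.mk_surjective d₀
  obtain ⟨e, he⟩ := hcore x hd₀
  have hem : e ∈ maximalIdeal E := by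
    rw [mem_maximalIdeal, mem_nonunits_iff]
    intro hu
    have h1 : IsUnit (Ideal.Quotient.mk Q x) := by
      rw [← he]; exact (hu.map ψ).map _
    have h2 : IsUnit (⟨Ideal.Quotient.mk Q x, hd₀⟩ : interSubalgebra A S Q t) :=
      (isUnit_interSubalgebra_iff A S Q t _).mpr h1
    exact hd h2
  have heL : algebraMap (E ⧸ QE) (FractionRing (E ⧸ QE)) (Ideal.Quotient.mk QE e) ∈ L := by
    rw [hL, hj, he]
    exact hd₀
  obtain ⟨N, hN, heN⟩ := mem_smul_preimage_sup (A := A) QE (FractionRing (A ⧸ QE.under A))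
    (FractionRing (E ⧸ QE)) L e hem heL
  -- push forward to `S/Q`
  let π : E →ₗ[A] (S ⧸ Q) := ((Ideal.Quotient.mkₐ A Q).comp ψ).toLinearMap
  have hπ : ∀ z, π z = Ideal.Quotient.mk Q (ψ z) := fun z => rfl
  have hπN : Submodule.map π N ≤ Subalgebra.toSubmodule (interSubalgebra A S Q t) := by
    rintro _ ⟨z, hz, rfl⟩
    have := hN z hz
    rw [hL, hj] at this
    exact this
  have hπQ : Submodule.map π (QE.restrictScalars A) ≤ ⊥ := by
    rintro _ ⟨z, hz, rfl⟩
    rw [Submodule.mem_bot, hπ, Ideal.Quotient.eq_zero_iff_mem]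
    exact hz
  have h1 : π e ∈ maximalIdeal A • Subalgebra.toSubmodule (interSubalgebra A S Q t) := by
    have h2 : π e ∈ Submodule.map π (maximalIdeal A • N ⊔ QE.restrictScalars A) := ⟨e, heN, rfl⟩
    rw [Submodule.map_sup, Submodule.map_smul''] at h2
    have h3 : maximalIdeal A • Submodule.map π N ⊔ Submodule.map π (QE.restrictScalars A) ≤
        maximalIdeal A • Subalgebra.toSubmodule (interSubalgebra A S Q t) :=
      sup_le (Submodule.smul_mono le_rfl hπN) (hπQ.trans bot_le)
    exact h3 h2
  rw [hπ, he] at h1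
  -- back to the subalgebra
  have h4 : Submodule.map (interSubalgebra A S Q t).val.toLinearMap
      (maximalIdeal A • (⊤ : Submodule A (interSubalgebra A S Q t))) =
      maximalIdeal A • Subalgebra.toSubmodule (interSubalgebra A S Q t) := by
    rw [Submodule.map_smul'', Submodule.map_top]
    congr 1
    ext y
    simp
  rw [← h4] at h1
  obtain ⟨d', hd', hdd'⟩ := h1
  have hd'eq : d' = ⟨Ideal.Quotient.mk Q x, hd₀⟩ := Subtype.ext hdd'
  rw [Ideal.smul_top_eq_map] at hd'
  rw [← hd'eq]
  exact hd'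

/-- `L ∩ S/Q` is formally unramified over `A`. -/
theorem formallyUnramified_interSubalgebra :
    Algebra.FormallyUnramified A (interSubalgebra A S Q t) := by
  letI := isLocalRing_interSubalgebra A S Q t
  haveI := isLocalHom_algebraMap_interSubalgebra A S Q t
  haveI : Nontrivial (S ⧸ Q) :=
    Ideal.Quotient.nontrivial_iff.mpr (Ideal.IsPrime.ne_top inferInstance)
  haveI : IsLocalRing (S ⧸ Q) :=
    IsLocalRing.of_surjective' (Ideal.Quotient.mk Q) Ideal.Quotient.mk_surjective
  haveI : IsLocalHom (algebraMap A (S ⧸ Q)) := by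
    constructor
    intro a ha
    have h2 : IsUnit (algebraMap A S a) := (isUnit_mk_iff S Q _).mp ha
    exact isUnit_of_map_unit (algebraMap A S) a h2
  haveI h1loc : IsLocalHom (interSubalgebra A S Q t).val.toRingHom := by
    constructor
    intro d hd
    exact (isUnit_interSubalgebra_iff A S Q t d).mpr hd
  haveI h2loc : IsLocalHom (Ideal.Quotient.mkₐ A Q).toRingHom := by
    constructor
    intro x hx
    exact (isUnit_mk_iff S Q x).mp hx
  let r₁ := residueAlgHom (interSubalgebra A S Q t).val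
  let r₂ := residueAlgHom (Ideal.Quotient.mkₐ A Q)
  have hr₂ : Function.Bijective r₂ := by
    refine ⟨r₂.toRingHom.injective, ?_⟩
    intro y
    obtain ⟨y', rfl⟩ := residue_surjective y
    obtain ⟨x, rfl⟩ := Ideal.Quotient.mk_surjective y'
    exact ⟨residue S x, residueAlgHom_residue (Ideal.Quotient.mkₐ A Q) x⟩
  haveI : IsSepClosure (ResidueField A) (ResidueField S) :=
    Hensel.IsStrictHenselization.isSepClosure
  haveI : Algebra.IsSeparable (ResidueField A) (ResidueField S) := IsSepClosure.separable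
  haveI : Algebra.IsSeparable (ResidueField A) (ResidueField (S ⧸ Q)) :=
    AlgEquiv.Algebra.isSeparable (AlgEquiv.ofBijective r₂ hr₂)
  haveI : Algebra.IsSeparable (ResidueField A) (ResidueField (interSubalgebra A S Q t)) :=
    Algebra.IsSeparable.of_algHom _ _ r₁
  haveI : Module.Finite A (interSubalgebra A S Q t) := finite_interSubalgebra A S Q t
  exact Algebra.FormallyUnramified.of_map_maximalIdeal (map_maximalIdeal_interSubalgebra A S Q t)

end Unram

end Groth.Agent.Lib.Helper98.HensGalois
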