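import Mathlib
import Groth.Prelude.Def_Hensel
import Groth.Prelude.Def_EssEt
import Groth.Agent.S16430
import Groth.Agent.Lib.Helper98.HensGaloisA
import Groth.Agent.Lib.Helper3.FactorLift
import Groth.Agent.Lib.Helper3.FracSub
import Groth.Agent.Lib.Helper3.EssEtaleSub2
import Groth.Agent.Lib.Helper14.EssEtale
import Groth.Agent.Lib.Helper9.Hens.Unique

/-!
# Henselian local subrings of a strict henselization are ind-étale (helper98)

* `isStrictHenselization_of_indEssEtale`: if the henselization `D^h` of a local subalgebra `D ⊆ S = A^sh` embeds into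
  `S` with image a union of essentially étale `A`-subalgebras, then `S` is a strict henselization of `D`.
* `eq_zero_of_aeval_eq_zero`: independence of the powers of a root of a lifted minimal polynomial.
* `exists_factor`: factor of a monic polynomial over a henselian local ring lifting the minimal polynomial of the residue
  class of a simple root.
* `exists_primitive_element`: elements of a local essentially étale subalgebra are fractions in a primitive element.
* `exists_essEtale_of_finset`: if `H` is a henselian local `A`-algebra mapping to `S` (local, flat), then the image of `H`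
  is a directed union of local essentially étale `A`-subalgebras of `S`.
-/

set_option autoImplicit false
set_option linter.style.haveILetI false
set_option linter.unusedSectionVars false
universe u
namespace Groth.Agent.Lib.Helper98.HensInd

open IsLocalRing Polynomial Groth.Agent.Lib.Helper3.EssEtaleSub Groth.Agent.Lib.Helper9

section P3
variable (A S : Type u) [CommRing A] [IsLocalRing A]
  [CommRing S] [IsLocalRing S] [Algebra A S] [IsLocalHom (algebraMap A S)]
  [hS : Hensel.IsStrictHenselization A S] (D : Subalgebra A S) [IsLocalRing D]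
  [IsLocalHom (algebraMap D S)]
  (Dh : Type u) [CommRing Dh] [IsLocalRing Dh] [Algebra D Dh] [IsLocalHom (algebraMap D Dh)]
  [hH : Hensel.IsHenselization D Dh] [Algebra Dh S] [IsScalarTower D Dh S]

include D in
theorem mem_maximalIdeal_of_mem_maximalIdeal_hens (w : Dh) (hw : w ∈ maximalIdeal Dh) :
    algebraMap Dh S w ∈ maximalIdeal S := by
  rw [← Hens.map_maximalIdeal_of_isHenselization D Dh] at hw
  have h2 : algebraMap Dh S w ∈ ((maximalIdeal D).map (algebraMap D Dh)).map (algebraMap Dh S) :=
    Ideal.mem_map_of_mem _ hw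
  rw [Ideal.map_map, ← IsScalarTower.algebraMap_eq] at h2
  have h3 : (maximalIdeal D).map (algebraMap D S) ≤ maximalIdeal S := by
    rw [Ideal.map_le_iff_le_comap]
    exact le_of_eq (((local_hom_TFAE (algebraMap D S)).out 0 4 rfl rfl).mp inferInstance).symm
  exact h3 h2

/-- If the henselization `D^h` of a local subalgebra `D` of `S = A^sh` embeds into `S` with image a
union of essentially étale subalgebras, then `S` is a strict henselization of `D`. -/
theorem isStrictHenselization_of_indEssEtale
    (hinj : Function.Injective (algebraMap Dh S))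
    (hE : ∀ x : Dh, ∃ E : Subalgebra A S, algebraMap Dh S x ∈ E ∧
      (E : Set S) ⊆ Set.range (algebraMap Dh S) ∧ EGA4loc.IsEssentiallyEtale A E) :
    Hensel.IsStrictHenselization D S := by
  haveI hADloc : IsLocalHom (algebraMap A D) :=
    Groth.Agent.Lib.Helper3.EssEtaleSub.isLocalHom_algebraMap_subalgebra D
  refine ⟨hS.henselian, ?_, ?_⟩
  · haveI := hS.isSepClosure
    haveI : IsSepClosed (ResidueField S) := IsSepClosure.sep_closed (ResidueField A)
    haveI : Algebra.IsSeparable (ResidueField A) (ResidueField S) := IsSepClosure.separable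
    exact ⟨inferInstance,
      Algebra.isSeparable_tower_top_of_isSeparable (ResidueField A) (ResidueField D)
        (ResidueField S)⟩
  · intro T _ _ f hf τ hτ
    obtain ⟨fh, hfh, -⟩ := hH.universal T f hf
    have hfh' : ∀ d : D, fh (algebraMap D Dh d) = f d := fun d => RingHom.congr_fun hfh d
    let fA : A →+* T := f.comp (algebraMap A D)
    haveI : IsLocalHom fA := RingHom.isLocalHom_comp _ _
    have hτ' : ∀ d : D, τ (residue S (d : S)) = residue T (f d) := by
      intro d
      have := RingHom.congr_fun hτ (residue D d)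
      simpa [ResidueField.map_residue] using this
    have hτA : τ.comp (ResidueField.map (algebraMap A S)) = ResidueField.map fA := by
      ext x
      obtain ⟨a, rfl⟩ := residue_surjective x
      simp only [RingHom.comp_apply, ResidueField.map_residue]
      exact hτ' (algebraMap A D a)
    obtain ⟨g, ⟨hg1, hg2⟩, hguniq⟩ := hS.universal T fA τ hτA
    -- `fh` maps the maximal ideal into the maximal ideal
    have hfhm : ∀ w : Dh, w ∈ maximalIdeal Dh → fh w ∈ maximalIdeal T := by
      intro w hw
      rw [← Hens.map_maximalIdeal_of_isHenselization D Dh] at hw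
      have h2 : fh w ∈ ((maximalIdeal D).map (algebraMap D Dh)).map fh :=
        Ideal.mem_map_of_mem _ hw
      rw [Ideal.map_map, hfh] at h2
      have h3 : (maximalIdeal D).map f ≤ maximalIdeal T := by
        rw [Ideal.map_le_iff_le_comap]
        exact le_of_eq (((local_hom_TFAE f).out 0 4 rfl rfl).mp hf).symm
      exact h3 h2
    -- compatibility of `fh` with `τ`
    have hfhτ : ∀ z : Dh, residue T (fh z) = τ (residue S (algebraMap Dh S z)) := by
      intro z
      obtain ⟨d, hd⟩ := Hens.exists_sub_mem_maximalIdeal_of_isHenselization D Dh z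
      have h1 : residue T (fh z) = residue T (f d) := by
        rw [← hfh' d, ← sub_eq_zero, ← map_sub, ← map_sub, residue_eq_zero_iff]
        exact hfhm _ hd
      have h2 : residue S (algebraMap Dh S z) = residue S (d : S) := by
        have h3 : (d : S) = algebraMap Dh S (algebraMap D Dh d) :=
          IsScalarTower.algebraMap_apply D Dh S d
        rw [h3, ← sub_eq_zero, ← map_sub, ← map_sub, residue_eq_zero_iff]
        exact mem_maximalIdeal_of_mem_maximalIdeal_hens A S D Dh _ hd
      rw [h1, h2, hτ']
    -- the key claim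
    have key : ∀ x : Dh, g (algebraMap Dh S x) = fh x := by
      intro x
      obtain ⟨E, hxE, hEr, hEss⟩ := hE x
      letI : Algebra A T := fA.toAlgebra
      choose y hy using (fun e : E => hEr e.2)
      let ρ : E →+* Dh :=
        { toFun := y
          map_one' := hinj (by rw [hy, map_one]; rfl)
          map_mul' := fun a b => hinj (by rw [hy, map_mul, hy, hy]; rfl)
          map_zero' := hinj (by rw [hy, map_zero]; rfl)
          map_add' := fun a b => hinj (by rw [hy, map_add, hy, hy]; rfl) }
      have hρ : ∀ e : E, algebraMap Dh S (ρ e) = (e : S) := hy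
      let ψ₁ : E →ₐ[A] T :=
        { toRingHom := g.comp (algebraMap E S)
          commutes' := fun a => by
            change g (algebraMap A S a) = fA a
            exact RingHom.congr_fun hg1 a }
      let ψ₂ : E →ₐ[A] T :=
        { toRingHom := fh.comp ρ
          commutes' := fun a => by
            change fh (ρ (algebraMap A E a)) = f (algebraMap A D a)
            have h1 : ρ (algebraMap A E a) = algebraMap D Dh (algebraMap A D a) := by
              apply hinj
              rw [hρ, ← IsScalarTower.algebraMap_apply D Dh S]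
              rfl
            rw [h1, hfh'] }
      have hres : ∀ e : E, residue T (ψ₁ e) = residue T (ψ₂ e) := by
        intro e
        change residue T (g (e : S)) = residue T (fh (ρ e))
        rw [hg2, hfhτ, hρ]
      have heq := Groth.Agent.Lib.Helper14.algHom_ext_of_residue_eq_of_essEtale A E T hEss ψ₁ ψ₂ hres
      have h1 := AlgHom.congr_fun heq ⟨algebraMap Dh S x, hxE⟩
      change g (algebraMap Dh S x) = fh (ρ ⟨algebraMap Dh S x, hxE⟩) at h1
      rw [h1]
      congr 1
      apply hinj
      rw [hρ]
    have hgf : g.comp (algebraMap D S) = f := by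
      ext d
      change g (algebraMap D S d) = f d
      rw [IsScalarTower.algebraMap_apply D Dh S d, key, hfh']
    refine ⟨g, ⟨hgf, hg2⟩, ?_⟩
    rintro g' ⟨hg'1, hg'2⟩
    refine hguniq g' ⟨?_, hg'2⟩
    ext a
    change g' (algebraMap D S (algebraMap A D a)) = f (algebraMap A D a)
    exact RingHom.congr_fun hg'1 (algebraMap A D a)

end P3

section Indep
variable {H S : Type u} [CommRing H] [IsLocalRing H] [CommRing S] [IsLocalRing S] [Algebra H S]
  [IsLocalHom (algebraMap H S)]

theorem aeval_residue_map (β : S) (p : H[X]) :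
    aeval (residue S β) (p.map (residue H)) = residue S (aeval β p) := by
  change aeval (residue S β) (p.map (algebraMap H (ResidueField H))) = _
  rw [Polynomial.aeval_map_algebraMap]
  exact Polynomial.aeval_algHom_apply (IsScalarTower.toAlgHom H S (ResidueField S)) β p

theorem adjoin_gen_eq_top (F E : Type*) [Field F] [Field E] [Algebra F E] (α : E) :
    IntermediateField.adjoin F {IntermediateField.AdjoinSimple.gen F α} =
      (⊤ : IntermediateField F (IntermediateField.adjoin F {α})) := by
  apply IntermediateField.map_injective ((IntermediateField.adjoin F {α}).val)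
  rw [IntermediateField.adjoin_map, Set.image_singleton]
  simp only [IntermediateField.coe_val, IntermediateField.AdjoinSimple.coe_gen]
  rw [← AlgHom.fieldRange_eq_map, IntermediateField.fieldRange_val]

/-- Linear independence of `1, β, …, β^(m-1)` over `H`, where `β` is a root of the monic `r` lifting
the minimal polynomial of the residue class of `β`, separable at `β`. -/
theorem eq_zero_of_aeval_eq_zero [Module.Flat H S]
    (r : H[X]) (hr : r.Monic) (β : S) (hβ : aeval β r = 0)
    (hβ' : IsUnit (aeval β (derivative r)))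
    (hmin : r.map (residue H) = minpoly (ResidueField H) (residue S β))
    (w : H[X]) (hw : w.degree < r.degree) (hwβ : aeval β w = 0) : w = 0 := by
  set β' := residue S β with hβ'def
  have hint : IsIntegral (ResidueField H) β' := by
    refine ⟨r.map (residue H), hr.map _, ?_⟩
    rw [← Polynomial.aeval_def, aeval_residue_map, hβ, map_zero]
  let l := IntermediateField.adjoin (ResidueField H) {β'}
  let θ : l := IntermediateField.AdjoinSimple.gen (ResidueField H) β'
  have hrθ : r.map (residue H) = minpoly (ResidueField H) θ := by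
    rw [IntermediateField.minpoly_gen]
    exact hmin
  haveI : FiniteDimensional (ResidueField H) l := IntermediateField.adjoin.finiteDimensional hint
  have hθtop : IntermediateField.adjoin (ResidueField H) {θ} = ⊤ :=
    adjoin_gen_eq_top (ResidueField H) (ResidueField S) β'
  have hsurj := Groth.Agent.S16430.psi_surjective H l θ r hrθ hθtop
  haveI hloc : IsLocalRing (AdjoinRoot r) :=
    Groth.Agent.S16430.isLocalRing_adjoinRoot H l θ r hr hrθ hsurj
  have hmax : maximalIdeal (AdjoinRoot r) = RingHom.ker (Groth.Agent.S16430.psi H l θ r hrθ) :=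
    Groth.Agent.S16430.eq_ker_of_isMaximal H l θ r hr hrθ hsurj (maximalIdeal (AdjoinRoot r))
  -- the derivative is a unit
  have hder : IsUnit (AdjoinRoot.mk r (derivative r)) := by
    by_contra hnu
    have h1 : AdjoinRoot.mk r (derivative r) ∈ maximalIdeal (AdjoinRoot r) :=
      (mem_maximalIdeal _).mpr hnu
    rw [hmax, RingHom.mem_ker, Groth.Agent.S16430.psi_mk] at h1
    have h2 := congrArg (algebraMap l (ResidueField S)) h1
    rw [map_zero, ← Polynomial.aeval_algebraMap_apply,
      IntermediateField.AdjoinSimple.algebraMap_gen, aeval_residue_map] at h2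
    exact ((residue_ne_zero_iff_isUnit _).mpr hβ') h2
  haveI : Algebra.Etale H (AdjoinRoot r) := Groth.Agent.S16430.etale_adjoinRoot H r hr hder
  haveI : IsLocalHom (algebraMap H (AdjoinRoot r)) := by
    constructor
    intro h hh
    by_contra hnu
    have h1 : h ∈ maximalIdeal H := (mem_maximalIdeal _).mpr hnu
    have h2 : algebraMap H (AdjoinRoot r) h ∈ maximalIdeal (AdjoinRoot r) := by
      rw [hmax]
      exact Groth.Agent.S16430.map_maximalIdeal_le_ker H l θ r hrθ (Ideal.mem_map_of_mem _ h1)
    exact ((mem_maximalIdeal _).mp h2) hh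
  let Φ : AdjoinRoot r →ₐ[H] S := AdjoinRoot.liftAlgHom r (Algebra.ofId H S) β (by
    rw [← hβ]; rfl)
  have hΦinj : Function.Injective Φ := Groth.Agent.Lib.Helper98.HensGalois.injective_algHom Φ
  have h1 : Φ (AdjoinRoot.mk r w) = 0 := by
    rw [← hwβ]
    simp [Φ, Polynomial.aeval_def]
  have h2 : AdjoinRoot.mk r w = 0 := hΦinj (h1.trans (map_zero Φ).symm)
  rw [AdjoinRoot.mk_eq_zero] at h2
  by_contra hw0
  exact hr.not_dvd_of_degree_lt hw0 hw h2

end Indep

section Factor
variable {H S : Type u} [CommRing H] [HenselianLocalRing H] [CommRing S] [IsLocalRing S]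
  [Algebra H S] [IsLocalHom (algebraMap H S)]

/-- Over a henselian local ring `H`, a monic polynomial with a simple root `β` in a local
`H`-algebra `S` has a monic factor `r` lifting the minimal polynomial of the residue class of `β`,
with `r(β) = 0`. -/
theorem exists_factor (f : H[X]) (hf : f.Monic) (β : S) (hβ : aeval β f = 0)
    (hβ' : IsUnit (aeval β (derivative f))) :
    ∃ r r₂ : H[X], r.Monic ∧ r₂.Monic ∧ f = r * r₂ ∧ IsCoprime r r₂ ∧ aeval β r = 0 ∧
      IsUnit (aeval β (derivative r)) ∧
      r.map (residue H) = minpoly (ResidueField H) (residue S β) := by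
  set β' := residue S β with hβ'def
  have h0 : aeval β' (f.map (residue H)) = 0 := by
    rw [aeval_residue_map, hβ, map_zero]
  have hint : IsIntegral (ResidueField H) β' :=
    ⟨f.map (residue H), hf.map _, by rwa [← Polynomial.aeval_def]⟩
  have hrmonic := minpoly.monic hint
  have hirr := minpoly.irreducible hint
  obtain ⟨q₂, hq₂⟩ := minpoly.dvd (ResidueField H) β' h0
  have hq₂monic : q₂.Monic := hrmonic.of_mul_monic_left (hq₂ ▸ hf.map _)
  have hd : aeval β' (derivative (f.map (residue H))) ≠ 0 := by
    rw [Polynomial.derivative_map, aeval_residue_map]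
    exact (residue_ne_zero_iff_isUnit _).mpr hβ'
  have hcop : IsCoprime (minpoly (ResidueField H) β') q₂ := by
    rw [hirr.coprime_iff_not_dvd]
    rintro ⟨q, hq⟩
    apply hd
    rw [hq₂, hq, Polynomial.derivative_mul, map_add, map_mul, map_mul, map_mul, minpoly.aeval]
    ring
  obtain ⟨r, r₂, hr, hr₂, hfr, hrmap, hr₂map⟩ :=
    Groth.Agent.Lib.Helper3.exists_factorization_lift (maximalIdeal H) f hf
      (minpoly (ResidueField H) β') q₂ hrmonic hq₂monic hcop hq₂
  have hrmap' : r.map (residue H) = minpoly (ResidueField H) β' := hrmap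
  have hr₂map' : r₂.map (residue H) = q₂ := hr₂map
  -- coprimality over `H`
  have hcopH : IsCoprime r r₂ := by
    rw [← Polynomial.isUnit_resultant_iff_isCoprime hr]
    have h1 : residue H (resultant r r₂) =
        resultant (minpoly (ResidueField H) β') q₂ := by
      rw [← Polynomial.resultant_map_map, hrmap', hr₂map', ← hrmap', ← hr₂map',
        hr.natDegree_map, hr₂.natDegree_map]
    have h2 : IsUnit (resultant (minpoly (ResidueField H) β') q₂) :=
      (Polynomial.isUnit_resultant_iff_isCoprime hrmonic).mpr hcop
    rw [← h1] at h2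
    exact isUnit_of_map_unit (residue H) _ h2
  -- `r₂(β)` is a unit
  have hr₂β : IsUnit (aeval β r₂) := by
    rw [← residue_ne_zero_iff_isUnit, ← aeval_residue_map, hr₂map']
    intro h
    obtain ⟨a, b, hab⟩ := hcop
    have := congrArg (aeval β') hab
    rw [map_add, map_mul, map_mul, minpoly.aeval, h, mul_zero, mul_zero, add_zero, map_one] at this
    exact zero_ne_one this
  have hrβ : aeval β r = 0 := by
    have h1 : aeval β r * aeval β r₂ = 0 := by rw [← map_mul, ← hfr, hβ]
    exact (hr₂β.mul_left_eq_zero).mp h1
  refine ⟨r, r₂, hr, hr₂, hfr, hcopH, hrβ, ?_, hrmap'⟩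
  have h1 : aeval β (derivative f) = aeval β (derivative r) * aeval β r₂ := by
    rw [hfr, Polynomial.derivative_mul, map_add, map_mul, map_mul, hrβ, zero_mul, add_zero]
  rw [h1] at hβ'
  exact isUnit_of_mul_isUnit_left hβ'

end Factor

section StdEtale
variable {A S C : Type u} [CommRing A] [IsLocalRing A] [CommRing S] [IsLocalRing S] [Algebra A S]
  [IsLocalHom (algebraMap A S)] [CommRing C] [Algebra A C] [Algebra.Etale A C] (φ : C →ₐ[A] S)

/-- Elements of the local essentially étale subalgebra `(locLift φ).range` are fractions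
`U(β)/V(β)` of polynomials in a single element `β` which is a simple root of a monic polynomial. -/
theorem exists_primitive_element :
    ∃ (f : A[X]) (β : S), f.Monic ∧ aeval β f = 0 ∧ IsUnit (aeval β (derivative f)) ∧
      ∀ x ∈ (locLift φ).range, ∃ U V : A[X], IsUnit (aeval β V) ∧ x * aeval β V = aeval β U := by
  haveI : Algebra.FinitePresentation A C := inferInstance
  haveI : Algebra.IsEtaleAt A (primeOf φ) := by
    unfold Algebra.IsEtaleAt
    infer_instance
  obtain ⟨g₀, hg₀, hstd⟩ := Algebra.IsEtaleAt.exists_isStandardEtale (R := A) (primeOf φ)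
  have hunit : IsUnit (φ g₀) := by
    by_contra h
    exact hg₀ ((mem_primeOf_iff φ g₀).mpr h)
  let φg : Localization.Away g₀ →ₐ[A] S :=
    IsLocalization.liftAlgHom (M := Submonoid.powers g₀) (f := φ) (by
      rintro ⟨_, n, rfl⟩
      rw [map_pow]
      exact hunit.pow n)
  have hφg : ∀ c : C, φg (algebraMap C (Localization.Away g₀) c) = φ c := by
    intro c
    simp only [φg, IsLocalization.liftAlgHom_apply]
    exact IsLocalization.lift_eq _ _
  let P : StandardEtalePresentation A (Localization.Away g₀) :=
    (Algebra.IsStandardEtale.nonempty_standardEtalePresentation).some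
  let β : S := φg P.x
  have hβ : P.P.HasMap β := P.hasMap.map φg
  have hfrac : ∀ z : Localization.Away g₀, ∃ (u : A[X]) (n : ℕ),
      φg z * (aeval β P.g) ^ n = aeval β u := by
    intro z
    obtain ⟨u, n, hu⟩ := P.exists_mul_aeval_x_g_pow_eq_aeval_x z
    refine ⟨u, n, ?_⟩
    have := congrArg φg hu
    rw [map_mul, map_pow, ← Polynomial.aeval_algHom_apply, ← Polynomial.aeval_algHom_apply] at this
    exact this
  refine ⟨P.f, β, P.monic_f, hβ.1, hβ.isUnit_derivative_f, ?_⟩
  intro x hx
  obtain ⟨a, s, hs, hxs⟩ := (mem_range_locLift_iff φ x).mp hx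
  obtain ⟨ua, na, hua⟩ := hfrac (algebraMap C _ a)
  obtain ⟨us, ns, hus⟩ := hfrac (algebraMap C _ s)
  rw [hφg] at hua hus
  refine ⟨ua * P.g ^ ns, us * P.g ^ na, ?_, ?_⟩
  · rw [map_mul, map_pow, ← hus]
    exact (hs.mul (hβ.2.pow ns)).mul (hβ.2.pow na)
  · rw [map_mul, map_pow, map_mul, map_pow, ← hus, ← hua, ← hxs]
    ring

end StdEtale

section Main
variable {A S : Type u} [CommRing A] [IsLocalRing A] [IsReduced A] [CommRing S] [IsLocalRing S]
  [Algebra A S] [IsLocalHom (algebraMap A S)] [Module.Flat A S]
  (H : Type u) [CommRing H] [HenselianLocalRing H] [Algebra A H] [Algebra H S]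
  [IsScalarTower A H S] [IsLocalHom (algebraMap H S)] [Module.Flat H S]

theorem ucfr_factor₁_map {R : Type u} [CommRing R] {n : ℕ} (m k : ℕ) (hn : n = m + k)
    (p : MonicDegreeEq R n) {T : Type u} [CommRing T] [Algebra R T]
    (ψ : UniversalCoprimeFactorizationRing m k hn p →ₐ[R] T) :
    ((UniversalCoprimeFactorizationRing.homEquiv T m k hn p) ψ).1.1.1 =
      (UniversalCoprimeFactorizationRing.factor₁ m k hn p).1.map
        (ψ : UniversalCoprimeFactorizationRing m k hn p →+* T) := by
  simp [UniversalCoprimeFactorizationRing.homEquiv, UniversalFactorizationRing.homEquiv,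
    UniversalCoprimeFactorizationRing.factor₁, MonicDegreeEq.map, Polynomial.map_map]
  rfl

include H in
theorem exists_essEtale_of_finset (hcov : IsEtaleCoveredFin A S) (s : Finset S)
    (hs : (s : Set S) ⊆ Set.range (algebraMap H S)) :
    ∃ E : Subalgebra A S, (s : Set S) ⊆ (E : Set S) ∧
      (E : Set S) ⊆ Set.range (algebraMap H S) ∧
      ∃ _ : IsLocalRing E, EGA4loc.IsEssentiallyEtale A E := by
  classical
  obtain ⟨C₀, _, _, _, φ, hφ⟩ := Groth.Agent.Lib.Helper3.FracSub.exists_locLift_of_finset hcov s
  obtain ⟨f, β, hf, hβ, hβ', hfrac⟩ := exists_primitive_element φ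
  have hβH : aeval β (f.map (algebraMap A H)) = 0 := by
    rw [Polynomial.aeval_map_algebraMap]; exact hβ
  have hβH' : IsUnit (aeval β (derivative (f.map (algebraMap A H)))) := by
    rw [Polynomial.derivative_map, Polynomial.aeval_map_algebraMap]; exact hβ'
  obtain ⟨r, r₂, hr, hr₂, hfr, hcop, hrβ, hrβ', hrmin⟩ :=
    exists_factor (f.map (algebraMap A H)) (hf.map _) β hβH hβH'
  have hn : f.natDegree = r.natDegree + r₂.natDegree := by
    rw [← hr.natDegree_mul hr₂, ← hfr, hf.natDegree_map]
  let p : MonicDegreeEq A f.natDegree := .mk f hf rfl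
  let q₀ : { q : MonicDegreeEq H r.natDegree × MonicDegreeEq H r₂.natDegree //
      q.1.1 * q.2.1 = p.1.map (algebraMap A H) ∧ IsCoprime q.1.1 q.2.1 } :=
    ⟨(.mk r hr rfl, .mk r₂ hr₂ rfl), hfr.symm, hcop⟩
  let ψ := (UniversalCoprimeFactorizationRing.homEquiv H r.natDegree r₂.natDegree hn p).symm q₀
  let r₁ := (UniversalCoprimeFactorizationRing.factor₁ r.natDegree r₂.natDegree hn p).1
  have hr₁ : r₁.Monic :=
    (UniversalCoprimeFactorizationRing.factor₁ r.natDegree r₂.natDegree hn p).monic
  have hr₁ψ : r₁.map (ψ : _ →+* H) = r := by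
    rw [← ucfr_factor₁_map]
    have := (UniversalCoprimeFactorizationRing.homEquiv H r.natDegree r₂.natDegree hn p).apply_symm_apply q₀
    exact congrArg (fun q => q.1.1.1) this
  let χ : UniversalCoprimeFactorizationRing r.natDegree r₂.natDegree hn p →ₐ[A] S :=
    (IsScalarTower.toAlgHom A H S).comp ψ
  have hχ : ∀ c, χ c = algebraMap H S (ψ c) := fun c => rfl
  refine ⟨(locLift χ).range, ?_, ?_, range_locLift_spec χ⟩
  · -- `s ⊆ E`
    intro x hx
    obtain ⟨h, rfl⟩ := hs hx
    obtain ⟨U, V, hV, hUV⟩ := hfrac _ (hφ _ hx)
    set U' := (U.map (algebraMap A _)) %ₘ r₁ with hU'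
    set V' := (V.map (algebraMap A _)) %ₘ r₁ with hV'
    have hmapU : U'.map (ψ : _ →+* H) = (U.map (algebraMap A H)) %ₘ r := by
      rw [hU', Polynomial.map_modByMonic _ hr₁, hr₁ψ, Polynomial.map_map]
      congr 2
      exact ψ.comp_algebraMap
    have hmapV : V'.map (ψ : _ →+* H) = (V.map (algebraMap A H)) %ₘ r := by
      rw [hV', Polynomial.map_modByMonic _ hr₁, hr₁ψ, Polynomial.map_map]
      congr 2
      exact ψ.comp_algebraMap
    have haev : ∀ W : A[X], aeval β ((W.map (algebraMap A H)) %ₘ r) = aeval β W := by
      intro W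
      have h1 := Polynomial.modByMonic_add_div (W.map (algebraMap A H)) r
      have h2 := congrArg (aeval β) h1
      rw [map_add, map_mul, hrβ, zero_mul, add_zero, Polynomial.aeval_map_algebraMap] at h2
      exact h2
    -- the polynomial `w`
    set w : H[X] := Polynomial.C h * V'.map (ψ : _ →+* H) - U'.map (ψ : _ →+* H) with hw
    have hwdeg : w.degree < r.degree := by
      refine lt_of_le_of_lt (Polynomial.degree_sub_le _ _) (max_lt ?_ ?_)
      · rw [← Polynomial.smul_eq_C_mul]
        refine lt_of_le_of_lt (Polynomial.degree_smul_le _ _) ?_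
        rw [hmapV]
        exact Polynomial.degree_modByMonic_lt _ hr
      · rw [hmapU]
        exact Polynomial.degree_modByMonic_lt _ hr
    have hwβ : aeval β w = 0 := by
      rw [hw, map_sub, map_mul, Polynomial.aeval_C, hmapU, hmapV, haev, haev, hUV, sub_self]
    have hw0 : w = 0 := eq_zero_of_aeval_eq_zero r hr β hrβ hrβ' hrmin w hwdeg hwβ
    have hcoef : ∀ i, h * ψ (V'.coeff i) = ψ (U'.coeff i) := by
      intro i
      have := congrArg (fun q => q.coeff i) hw0
      simp only [hw, Polynomial.coeff_sub, Polynomial.coeff_C_mul, Polynomial.coeff_map,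
        Polynomial.coeff_zero, sub_eq_zero] at this
      exact this
    -- some coefficient of `V'` is a unit
    have hex : ∃ i, IsUnit (ψ (V'.coeff i)) := by
      by_contra hcon
      push Not at hcon
      have h1 : aeval β (V'.map (ψ : _ →+* H)) ∈ maximalIdeal S := by
        rw [Polynomial.aeval_eq_sum_range]
        refine Ideal.sum_mem _ (fun i _ => ?_)
        rw [Algebra.smul_def]
        apply Ideal.mul_mem_right
        rw [Polynomial.coeff_map, mem_maximalIdeal, mem_nonunits_iff]
        intro hu
        exact hcon i (isUnit_of_map_unit (algebraMap H S) _ hu)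
      rw [hmapV, haev] at h1
      exact ((mem_maximalIdeal _).mp h1) hV
    obtain ⟨i, hi⟩ := hex
    rw [SetLike.mem_coe, mem_range_locLift_iff]
    refine ⟨U'.coeff i, V'.coeff i, ?_, ?_⟩
    · rw [hχ]
      exact hi.map (algebraMap H S)
    · rw [hχ, hχ, ← map_mul, hcoef]
  · -- `E ⊆ range`
    intro x hx
    obtain ⟨a, c, hc, hxc⟩ := (mem_range_locLift_iff χ x).mp hx
    rw [hχ] at hc hxc
    have hc' : IsUnit (ψ c) := isUnit_of_map_unit (algebraMap H S) _ hc
    obtain ⟨v, hv⟩ := hc'.exists_right_inv
    refine ⟨ψ a * v, ?_⟩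
    rw [map_mul, ← hχ, ← hxc, mul_assoc, ← map_mul, hv, map_one, mul_one]

end Main

end Groth.Agent.Lib.Helper98.HensInd
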