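import Mathlib
import Groth.Agent.S1963
import Groth.Agent.Lib.Helper9.Hens.NoetherianHens

set_option autoImplicit false
set_option linter.style.haveILetI false
universe u

namespace Groth.Agent.Lib.Helper98.HenselizationValuation

open Groth.Agent.Lib.Helper9

variable (A S : Type u) [CommRing A] [IsDomain A] [ValuationRing A] [CommRing S]
  [IsLocalRing S] [Algebra A S] [IsLocalHom (algebraMap A S)]

/-- Elements of a local `A`-algebra covered by étale `A`-algebras are unit multiples of elements
of the valuation ring `A`. -/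
theorem exists_eq_unit_mul (hcov : IsEtaleCoveredFin A S)
    (hinj : Function.Injective (algebraMap A S)) (s : S) (hs : s ≠ 0) :
    ∃ (a : A) (u : Sˣ), s = u * algebraMap A S a := by
  obtain ⟨E, _, _, _, φ, hφ⟩ := hcov 1 (fun _ => s)
  obtain ⟨e, he⟩ := hφ 0
  have he' : φ e = s := he
  let q : Ideal E := (IsLocalRing.maximalIdeal S).comap φ.toRingHom
  have hqprime : q.IsPrime := Ideal.comap_isPrime _ _
  have hq : q.comap (algebraMap A E) = IsLocalRing.maximalIdeal A := by
    rw [Ideal.comap_comap]
    have : φ.toRingHom.comp (algebraMap A E) = algebraMap A S := φ.comp_algebraMap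
    rw [this]
    exact IsLocalRing.maximalIdeal_comap (algebraMap A S)
  obtain ⟨hdom, -, -, -, hmul⟩ := Groth.Agent.S1963.result A E q hq
  have hunits : ∀ y : q.primeCompl, IsUnit (φ.toRingHom y) := by
    intro y
    have hy : (y : E) ∉ q := y.2
    by_contra hnu
    exact hy ((IsLocalRing.mem_maximalIdeal _).mpr hnu)
  let ψ : Localization.AtPrime q →+* S := IsLocalization.lift hunits
  have hψ : ∀ x : E, ψ (algebraMap E (Localization.AtPrime q) x) = φ x := fun x =>
    IsLocalization.lift_eq hunits x
  have hne : algebraMap E (Localization.AtPrime q) e ≠ 0 := by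
    intro h0
    apply hs
    rw [← he', ← hψ, h0, map_zero]
  obtain ⟨a, u, hu⟩ := hmul _ hne
  refine ⟨a, Units.map ψ.toMonoidHom u, ?_⟩
  have h1 : ψ (algebraMap A (Localization.AtPrime q) a) = algebraMap A S a := by
    rw [IsScalarTower.algebraMap_apply A E (Localization.AtPrime q), hψ, φ.commutes]
  rw [← he', ← hψ, hu, map_mul, h1]
  rfl

theorem main (hcov : IsEtaleCoveredFin A S) (hflat : Module.Flat A S) :
    IsDomain S ∧ (∀ _ : IsDomain S, ValuationRing S) ∧ Function.Injective (algebraMap A S) ∧
      ∀ s : S, s ≠ 0 → ∃ (a : A) (u : Sˣ), s = u * algebraMap A S a := by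
  have hff : Module.FaithfullyFlat A S := Module.FaithfullyFlat.of_flat_of_isLocalHom
  have hinj : Function.Injective (algebraMap A S) := FaithfulSMul.algebraMap_injective A S
  have hmul := exists_eq_unit_mul A S hcov hinj
  have hnzd : NoZeroDivisors S := by
    refine ⟨fun {s t} hst => ?_⟩
    by_contra hcon
    push_neg at hcon
    obtain ⟨a, u, rfl⟩ := hmul s hcon.1
    obtain ⟨b, v, rfl⟩ := hmul t hcon.2
    have h1 : algebraMap A S (a * b) = 0 := by
      have : (u : S) * algebraMap A S a * (v * algebraMap A S b) =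
          (u * v : Sˣ) * algebraMap A S (a * b) := by
        rw [map_mul, Units.val_mul]; ring
      rw [this] at hst
      exact (Units.mul_right_eq_zero _).mp hst
    have h2 : a * b = 0 := hinj (by rw [h1, map_zero])
    rcases mul_eq_zero.mp h2 with h | h
    · exact hcon.1 (by rw [h, map_zero, mul_zero])
    · exact hcon.2 (by rw [h, map_zero, mul_zero])
  have hdom : IsDomain S := NoZeroDivisors.to_isDomain S
  refine ⟨hdom, fun _ => ?_, hinj, hmul⟩
  rw [ValuationRing.iff_dvd_total]
  refine ⟨fun s t => ?_⟩
  by_cases hs : s = 0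
  · right; rw [hs]; exact dvd_zero t
  by_cases ht : t = 0
  · left; rw [ht]; exact dvd_zero s
  obtain ⟨a, u, rfl⟩ := hmul s hs
  obtain ⟨b, v, rfl⟩ := hmul t ht
  rcases ValuationRing.dvd_total a b with h | h
  · left
    exact (Units.mul_left_dvd).mpr (Dvd.dvd.mul_left (map_dvd (algebraMap A S) h) _)
  · right
    exact (Units.mul_left_dvd).mpr (Dvd.dvd.mul_left (map_dvd (algebraMap A S) h) _)

end Groth.Agent.Lib.Helper98.HenselizationValuation
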