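import Mathlib
import Groth.Agent.S0605

/-!
# Two-periodicity of syzygies over a planar hypersurface and vanishing of `Ext²` (helper98)

`S` regular local of dimension two, `R = S/(f)`, `M` a finite `R`-module of positive depth.
Then there are short exact sequences `0 → K → R^b → M → 0` and `0 → M → R^a → K → 0`.
-/

set_option autoImplicit false
universe u

namespace Groth.Agent.Lib.Helper98.HypersurfacePeriod

open CategoryTheory IsLocalRing

section syzygy

variable {S : Type u} [CommRing S] [IsRegularLocalRing S]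

/-- A short exact sequence attached to a submodule. -/
noncomputable def subSC {F : Type u} [AddCommGroup F] [Module S F] (F₁ : Submodule S F) :
    ShortComplex (ModuleCat.{u} S) :=
  ShortComplex.mk (ModuleCat.ofHom F₁.subtype) (ModuleCat.ofHom F₁.mkQ) (by
    ext x
    change F₁.mkQ (F₁.subtype x) = 0
    rw [Submodule.mkQ_apply, Submodule.Quotient.mk_eq_zero]
    exact x.2)

omit [IsRegularLocalRing S] in
theorem subSC_shortExact {F : Type u} [AddCommGroup F] [Module S F] (F₁ : Submodule S F) :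
    (subSC F₁).ShortExact := by
  have hmono : Mono (subSC F₁).f := by
    rw [ModuleCat.mono_iff_injective]
    exact F₁.injective_subtype
  have hepi : Epi (subSC F₁).g := by
    rw [ModuleCat.epi_iff_surjective]
    exact Submodule.mkQ_surjective _
  refine ShortComplex.ShortExact.mk ?_
  rw [ShortComplex.moduleCat_exact_iff]
  intro a ha
  change F₁.mkQ a = 0 at ha
  rw [Submodule.mkQ_apply, Submodule.Quotient.mk_eq_zero] at ha
  exact ⟨⟨a, ha⟩, rfl⟩

/-- Over a two-dimensional regular local ring, the kernel of a surjection from a finite free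
module onto a module of positive depth is free. -/
theorem free_of_regular_quotient (hS : ringKrullDim S = 2) {b : ℕ}
    (F₁ : Submodule S (Fin b → S)) (x : S) (hx : x ∈ maximalIdeal S)
    (hreg : ∀ v, x • v ∈ F₁ → v ∈ F₁) : Module.Free S F₁ := by
  by_cases hQ : Subsingleton ((Fin b → S) ⧸ F₁)
  · have htop : F₁ = ⊤ := Submodule.Quotient.subsingleton_iff.mp hQ
    rw [htop]
    exact Module.Free.of_equiv (Submodule.topEquiv (R := S) (M := Fin b → S)).symm
  rw [not_subsingleton_iff_nontrivial] at hQ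
  obtain ⟨e, he, hsum⟩ := Groth.Agent.S0605.pd_add_depth S ((Fin b → S) ⧸ F₁)
  have hsf : (maximalIdeal S).spanFinrank = 2 := by
    have h1 := IsRegularLocalRing.spanFinrank_maximalIdeal (R := S)
    rw [hS] at h1
    exact_mod_cast h1
  have hdepth : (1 : ℕ∞) ≤ LocCoh.depth S ((Fin b → S) ⧸ F₁) := by
    unfold LocCoh.depth LocCoh.idealDepth
    split_ifs with h1
    · exact le_top
    · have hwr : RingTheory.Sequence.IsWeaklyRegular ((Fin b → S) ⧸ F₁) [x] := by
        rw [RingTheory.Sequence.isWeaklyRegular_cons_iff]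
        refine ⟨?_, RingTheory.Sequence.IsWeaklyRegular.nil _ _⟩
        intro a c hac
        obtain ⟨v, rfl⟩ := Submodule.Quotient.mk_surjective _ a
        obtain ⟨w, rfl⟩ := Submodule.Quotient.mk_surjective _ c
        simp only [← Submodule.Quotient.mk_smul] at hac
        rw [Submodule.Quotient.eq] at hac ⊢
        rw [← smul_sub] at hac
        exact hreg _ hac
      exact le_iSup₂_of_le [x] ⟨hwr, by simpa using hx⟩ (by simp)
  have he1 : e ≤ 1 := by
    rw [hsf] at hsum
    by_contra hcon
    push Not at hcon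
    have h2 : (2 : ℕ∞) ≤ (e : ℕ∞) := by exact_mod_cast hcon
    have h3 : (e : ℕ∞) + 1 ≤ (e : ℕ∞) + LocCoh.depth S ((Fin b → S) ⧸ F₁) := by gcongr
    have h4 : ((2 : ℕ) : ℕ∞) + 1 ≤ ((2 : ℕ) : ℕ∞) := by
      calc ((2 : ℕ) : ℕ∞) + 1 ≤ (e : ℕ∞) + 1 := by gcongr; exact_mod_cast hcon
        _ ≤ _ := h3
        _ = _ := hsum.symm
    exact absurd h4 (by decide)
  have hpd : HasProjectiveDimensionLT (ModuleCat.of S ((Fin b → S) ⧸ F₁)) (1 + 1) := by
    have h5 : HasProjectiveDimensionLE (ModuleCat.of S ((Fin b → S) ⧸ F₁)) 1 := by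
      rw [← projectiveDimension_le_iff, he]
      exact_mod_cast he1
    exact h5
  have hproj2 : Projective (subSC F₁).X₂ := by
    change Projective (ModuleCat.of S (Fin b → S))
    exact ModuleCat.projective_of_free (Module.Free.chooseBasis S (Fin b → S))
  have h6 : HasProjectiveDimensionLT (subSC F₁).X₁ 1 :=
    (subSC_shortExact F₁).hasProjectiveDimensionLT_X₁ 1 inferInstance hpd
  have h7 : Projective (ModuleCat.of S F₁) := by
    rw [projective_iff_hasProjectiveDimensionLT_one]
    exact h6
  rw [← IsProjective.iff_projective] at h7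
  exact Module.free_of_flat_of_isLocalRing

end syzygy

section period

variable {S R : Type u} [CommRing S] [CommRing R] (π : S →+* R)

/-- Coordinatewise reduction along `π`. -/
def red (n : ℕ) : (Fin n → S) →ₛₗ[π] (Fin n → R) where
  toFun v := fun i => π (v i)
  map_add' := fun v w => by ext i; simp
  map_smul' := fun s v => by ext i; simp

@[simp] theorem red_apply (n : ℕ) (v : Fin n → S) (i : Fin n) : red π n v i = π (v i) := rfl

theorem red_surjective (hπ : Function.Surjective π) (n : ℕ) : Function.Surjective (red π n) :=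
  fun r => ⟨fun i => (hπ (r i)).choose, funext fun i => (hπ (r i)).choose_spec⟩

theorem exists_eq_smul_of_red_eq_zero {f : S} (hker : RingHom.ker π = Ideal.span {f}) {n : ℕ}
    (v : Fin n → S) (hv : red π n v = 0) : ∃ w : Fin n → S, v = f • w := by
  have h0 : ∀ i, ∃ c, v i = f * c := fun i => by
    have h1 : v i ∈ RingHom.ker π := by
      rw [RingHom.mem_ker]
      exact congrFun hv i
    rw [hker, Ideal.mem_span_singleton'] at h1
    obtain ⟨c, hc⟩ := h1
    exact ⟨c, by rw [← hc, mul_comm]⟩
  choose w hw using h0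
  exact ⟨w, funext fun i => by simp [hw i]⟩

theorem lc_red {n m : ℕ} (g : (Fin n → S) →ₛₗ[π] (Fin m → R)) (v : Fin n → S) :
    Fintype.linearCombination R (fun j => g (Pi.single j 1)) (red π n v) = g v := by
  rw [Fintype.linearCombination_apply]
  have h1 : v = ∑ j, v j • (Pi.single j 1 : Fin n → S) := by
    conv_lhs => rw [← Finset.univ_sum_single v]
    refine Finset.sum_congr rfl fun j _ => ?_
    ext i
    by_cases hij : i = j
    · subst hij; simp
    · simp [Pi.single_eq_of_ne hij]
  conv_rhs => rw [h1, map_sum]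
  refine Finset.sum_congr rfl fun j _ => ?_
  rw [map_smulₛₗ, red_apply]

theorem exists_period [IsRegularLocalRing S] [IsDomain S] (hS : ringKrullDim S = 2)
    (hπ : Function.Surjective π) (f : S) (hf : f ≠ 0) (hker : RingHom.ker π = Ideal.span {f})
    (M : Type u) [AddCommGroup M] [Module R M] [Module.Finite R M]
    (x : S) (hx : x ∈ maximalIdeal S) (hxM : IsSMulRegular M (π x)) :
    ∃ (a b : ℕ) (p : (Fin b → R) →ₗ[R] M) (α : M →ₗ[R] (Fin a → R))
      (β : (Fin a → R) →ₗ[R] LinearMap.ker p),
      Function.Surjective p ∧ Function.Injective α ∧ Function.Surjective β ∧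
        Function.Exact α β := by
  obtain ⟨b, p, hp⟩ := Module.Finite.exists_fin' R M
  have hπf : π f = 0 := by
    rw [← RingHom.mem_ker, hker]
    exact Ideal.mem_span_singleton_self f
  obtain ⟨q, hq⟩ : ∃ q : (Fin b → S) →ₛₗ[π] M, ∀ v, q v = p (red π b v) :=
    ⟨p.comp (red π b), fun v => rfl⟩
  obtain ⟨F₁, hF₁⟩ : ∃ F₁ : Submodule S (Fin b → S), F₁ = LinearMap.ker q := ⟨_, rfl⟩
  have hmem : ∀ v, v ∈ F₁ ↔ p (red π b v) = 0 := fun v => by
    rw [hF₁, LinearMap.mem_ker, hq]
  have hfree : Module.Free S F₁ := by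
    refine free_of_regular_quotient hS F₁ x hx (fun v hv => ?_)
    rw [hmem] at hv ⊢
    rw [map_smulₛₗ, map_smul] at hv
    exact hxM (by simp only [hv, smul_zero])
  obtain ⟨a, ⟨e⟩⟩ : ∃ a : ℕ, Nonempty (F₁ ≃ₗ[S] (Fin a → S)) :=
    ⟨Module.finrank S F₁, ⟨(Module.finBasis S F₁).equivFun⟩⟩
  have hfF : ∀ v : Fin b → S, f • v ∈ F₁ := fun v => by
    rw [hmem, map_smulₛₗ, hπf, zero_smul, map_zero]
  -- multiplication by `f` into `F₁`
  let mulF : (Fin b → S) →ₗ[S] F₁ := (LinearMap.lsmul S (Fin b → S) f).codRestrict F₁ hfF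
  have hmulF : ∀ v, ((mulF v : F₁) : Fin b → S) = f • v := fun v => rfl
  let gα : (Fin b → S) →ₛₗ[π] (Fin a → R) := (red π a).comp (e.toLinearMap.comp mulF)
  have hgα : ∀ v, gα v = red π a (e (mulF v)) := fun v => rfl
  let gβ : (Fin a → S) →ₛₗ[π] (Fin b → R) :=
    (red π b).comp (F₁.subtype.comp e.symm.toLinearMap)
  have hgβ : ∀ c, gβ c = red π b ((e.symm c : F₁) : Fin b → S) := fun c => rfl
  obtain ⟨α', hα'⟩ : ∃ α' : (Fin b → R) →ₗ[R] (Fin a → R), ∀ v, α' (red π b v) = gα v :=
    ⟨_, lc_red π gα⟩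
  obtain ⟨β', hβ'⟩ : ∃ β' : (Fin a → R) →ₗ[R] (Fin b → R), ∀ c, β' (red π a c) = gβ c :=
    ⟨_, lc_red π gβ⟩
  have hβker : ∀ r, β' r ∈ LinearMap.ker p := fun r => by
    obtain ⟨c, rfl⟩ := red_surjective π hπ a r
    rw [hβ', hgβ, LinearMap.mem_ker, ← hmem]
    exact (e.symm c).2
  have hαker : LinearMap.ker p ≤ LinearMap.ker α' := fun r hr => by
    obtain ⟨v, rfl⟩ := red_surjective π hπ b r
    rw [LinearMap.mem_ker] at hr ⊢
    have hv : v ∈ F₁ := (hmem v).mpr hr
    have h1 : mulF v = f • (⟨v, hv⟩ : F₁) := Subtype.ext (by rw [hmulF]; rfl)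
    rw [hα', hgα, h1, map_smul, map_smulₛₗ, hπf, zero_smul]
  obtain ⟨α, hα⟩ : ∃ α : M →ₗ[R] (Fin a → R), ∀ r, α (p r) = α' r := by
    refine ⟨((LinearMap.ker p).liftQ α' hαker).comp
      (p.quotKerEquivOfSurjective hp).symm.toLinearMap, fun r => ?_⟩
    have h2 : (p.quotKerEquivOfSurjective hp).symm (p r) = Submodule.Quotient.mk r := by
      rw [LinearEquiv.symm_apply_eq]
      rfl
    rw [LinearMap.comp_apply, LinearEquiv.coe_coe, h2, Submodule.liftQ_apply]
  have hαv : ∀ v : Fin b → S, α (p (red π b v)) = red π a (e (mulF v)) := fun v => by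
    rw [hα, hα', hgα]
  refine ⟨a, b, p, α, β'.codRestrict _ hβker, hp, ?_, ?_, ?_⟩
  · -- injectivity of `α`
    rw [injective_iff_map_eq_zero]
    intro m hm
    obtain ⟨r, rfl⟩ := hp m
    obtain ⟨v, rfl⟩ := red_surjective π hπ b r
    rw [hαv] at hm
    obtain ⟨c', hc'⟩ := exists_eq_smul_of_red_eq_zero π hker _ hm
    have h3 : mulF v = f • e.symm c' := by
      rw [← map_smul, ← hc', LinearEquiv.symm_apply_apply]
    have h4 : f • v = f • ((e.symm c' : F₁) : Fin b → S) := by
      rw [← hmulF, h3]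
      rfl
    have h5 : v = ((e.symm c' : F₁) : Fin b → S) := by
      funext i
      have := congrFun h4 i
      simp only [Pi.smul_apply, smul_eq_mul] at this
      exact mul_left_cancel₀ hf this
    rw [← hmem, h5]
    exact (e.symm c').2
  · -- surjectivity of `β`
    rintro ⟨k, hk⟩
    obtain ⟨v, rfl⟩ := red_surjective π hπ b k
    have hv : v ∈ F₁ := (hmem v).mpr hk
    refine ⟨red π a (e ⟨v, hv⟩), Subtype.ext ?_⟩
    rw [LinearMap.codRestrict_apply, hβ', hgβ, LinearEquiv.symm_apply_apply]
  · -- exactness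
    intro r'
    constructor
    · intro h0
      obtain ⟨c, rfl⟩ := red_surjective π hπ a r'
      have h6 : red π b ((e.symm c : F₁) : Fin b → S) = 0 := by
        have := congrArg Subtype.val h0
        rw [LinearMap.codRestrict_apply, hβ', hgβ] at this
        exact this
      obtain ⟨w, hw⟩ := exists_eq_smul_of_red_eq_zero π hker _ h6
      refine ⟨p (red π b w), ?_⟩
      rw [hαv]
      congr 1
      have h7 : mulF w = e.symm c := Subtype.ext (by rw [hmulF, hw])
      rw [h7, LinearEquiv.apply_symm_apply]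
    · rintro ⟨m, rfl⟩
      obtain ⟨r, rfl⟩ := hp m
      obtain ⟨v, rfl⟩ := red_surjective π hπ b r
      apply Subtype.ext
      rw [LinearMap.codRestrict_apply, hαv, hβ', hgβ, LinearEquiv.symm_apply_apply, hmulF,
        map_smulₛₗ, hπf, zero_smul]
      rfl

end period

section ext

variable {R : Type u} [CommRing R]

/-- A short exact sequence of modules from linear maps. -/
theorem shortExact_of_linearMaps {X₁ X₂ X₃ : Type u} [AddCommGroup X₁] [Module R X₁]
    [AddCommGroup X₂] [Module R X₂] [AddCommGroup X₃] [Module R X₃]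
    (i : X₁ →ₗ[R] X₂) (g : X₂ →ₗ[R] X₃) (hi : Function.Injective i) (hg : Function.Surjective g)
    (hex : Function.Exact i g) :
    ∃ T : ShortComplex (ModuleCat.{u} R), T.ShortExact ∧ T.X₁ = ModuleCat.of R X₁ ∧
      T.X₂ = ModuleCat.of R X₂ ∧ T.X₃ = ModuleCat.of R X₃ := by
  let T : ShortComplex (ModuleCat.{u} R) :=
    ShortComplex.mk (ModuleCat.ofHom i) (ModuleCat.ofHom g) (by
      ext x
      change g (i x) = 0
      exact (hex (i x)).mpr ⟨x, rfl⟩)
  refine ⟨T, ?_, rfl, rfl, rfl⟩
  have hmono : Mono T.f := by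
    rw [ModuleCat.mono_iff_injective]
    exact hi
  have hepi : Epi T.g := by
    rw [ModuleCat.epi_iff_surjective]
    exact hg
  refine ShortComplex.ShortExact.mk ?_
  rw [ShortComplex.moduleCat_exact_iff]
  intro y hy
  exact (hex y).mp hy

open Abelian in
theorem ext_two_subsingleton {M N : Type u} [AddCommGroup M] [Module R M] [AddCommGroup N]
    [Module R N] {a b : ℕ} (p : (Fin b → R) →ₗ[R] M) (α : M →ₗ[R] (Fin a → R))
    (β : (Fin a → R) →ₗ[R] LinearMap.ker p)
    (hp : Function.Surjective p) (hα : Function.Injective α) (hβ : Function.Surjective β)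
    (hex : Function.Exact α β) (hHom : ∀ g : M →ₗ[R] N, g = 0) :
    Subsingleton (Ext (ModuleCat.of R M) (ModuleCat.of R N) 2) := by
  have hex1 : Function.Exact (LinearMap.ker p).subtype p := fun y => by
    constructor
    · intro hy
      exact ⟨⟨y, hy⟩, rfl⟩
    · rintro ⟨k, rfl⟩
      exact k.2
  let T₁ : ShortComplex (ModuleCat.{u} R) :=
    ShortComplex.mk (ModuleCat.ofHom (LinearMap.ker p).subtype) (ModuleCat.ofHom p) (by
      ext x
      change p ((LinearMap.ker p).subtype x) = 0
      exact x.2)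
  have hT₁ : T₁.ShortExact := by
    have hmono : Mono T₁.f := by
      rw [ModuleCat.mono_iff_injective]
      exact (LinearMap.ker p).injective_subtype
    have hepi : Epi T₁.g := by
      rw [ModuleCat.epi_iff_surjective]
      exact hp
    refine ShortComplex.ShortExact.mk ?_
    rw [ShortComplex.moduleCat_exact_iff]
    intro y hy
    exact (hex1 y).mp hy
  let T₂ : ShortComplex (ModuleCat.{u} R) :=
    ShortComplex.mk (ModuleCat.ofHom α) (ModuleCat.ofHom β) (by
      apply ModuleCat.hom_ext
      apply LinearMap.ext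
      intro x
      change β (α x) = 0
      exact (hex (α x)).mpr ⟨x, rfl⟩)
  have hT₂ : T₂.ShortExact := by
    have hmono : Mono T₂.f := by
      rw [ModuleCat.mono_iff_injective]
      exact hα
    have hepi : Epi T₂.g := by
      rw [ModuleCat.epi_iff_surjective]
      exact hβ
    refine ShortComplex.ShortExact.mk ?_
    rw [ShortComplex.moduleCat_exact_iff]
    intro y hy
    exact (hex y).mp hy
  haveI hproj1 : Projective T₁.X₂ := by
    change Projective (ModuleCat.of R (Fin b → R))
    exact ModuleCat.projective_of_free (Module.Free.chooseBasis R (Fin b → R))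
  haveI hproj2 : Projective T₂.X₂ := by
    change Projective (ModuleCat.of R (Fin a → R))
    exact ModuleCat.projective_of_free (Module.Free.chooseBasis R (Fin a → R))
  refine ⟨fun y z => ?_⟩
  have key : ∀ x₃ : Ext (ModuleCat.of R M) (ModuleCat.of R N) 2, x₃ = 0 := by
    intro x₃
    obtain ⟨x₁, rfl⟩ := Ext.contravariant_sequence_exact₃ hT₁ (ModuleCat.of R N)
      (n₁ := 2) x₃ (Ext.eq_zero_of_projective _) (n₀ := 1) rfl
    obtain ⟨x₀, rfl⟩ := Ext.contravariant_sequence_exact₃ hT₂ (ModuleCat.of R N)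
      (n₁ := 1) x₁ (Ext.eq_zero_of_projective _) (n₀ := 0) rfl
    obtain ⟨g, rfl⟩ := (Ext.mk₀_bijective _ _).2 x₀
    have hg : g = 0 := by
      have h1 := hHom g.hom
      apply ModuleCat.hom_ext
      exact h1
    rw [hg, Ext.mk₀_zero, Ext.comp_zero, Ext.comp_zero]
  rw [key y, key z]

end ext

end Groth.Agent.Lib.Helper98.HypersurfacePeriod
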