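import Mathlib
import Groth.Agent.S3535
import Groth.Agent.Lib.Helper98.DerivedOneIso
import Groth.Agent.Lib.Helper98.HypersurfacePeriod

/-!
# Vanishing of `Tor₁(M, N^*)` over a planar hypersurface (helper98)
-/

set_option autoImplicit false
universe u

namespace Groth.Agent.Lib.Helper98.HypersurfaceTor

open CategoryTheory Limits MonoidalCategory TensorProduct

section dual

variable {R : Type u} [CommRing R] {N : Type u} [AddCommGroup N] [Module R N]

theorem dualTensorHom_pi_injective (a : ℕ) :
    Function.Injective (dualTensorHom R N (Fin a → R)) := by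
  rw [injective_iff_map_eq_zero]
  intro w hw
  have key : ∀ w : Module.Dual R N ⊗[R] (Fin a → R), ∀ i n,
      (TensorProduct.piScalarRight R R (Module.Dual R N) (Fin a) w i) n =
        (dualTensorHom R N (Fin a → R) w n) i := by
    intro w i n
    induction w using TensorProduct.induction_on with
    | zero => simp
    | tmul d r =>
      rw [TensorProduct.piScalarRight_apply, TensorProduct.piScalarRightHom_tmul,
        dualTensorHom_apply]
      simp [mul_comm]
    | add w₁ w₂ h₁ h₂ =>
      rw [map_add, map_add, Pi.add_apply, LinearMap.add_apply, LinearMap.add_apply, Pi.add_apply,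
        h₁, h₂]
  have h0 : TensorProduct.piScalarRight R R (Module.Dual R N) (Fin a) w = 0 := by
    ext i n
    rw [key, hw]
    simp
  exact (LinearEquiv.map_eq_zero_iff _).mp h0

theorem lTensor_dual_injective {a b : ℕ} (ψ : (Fin a → R) →ₗ[R] (Fin b → R))
    (hψ : ∀ g : N →ₗ[R] (Fin a → R), ψ ∘ₗ g = 0 → g = 0) :
    Function.Injective (LinearMap.lTensor (Module.Dual R N) ψ) := by
  rw [injective_iff_map_eq_zero]
  intro z hz
  have h1 := LinearMap.congr_fun (dualTensorHom_comp_lTensor (R := R) (M := N) ψ) z
  rw [LinearMap.comp_apply, hz, map_zero, LinearMap.comp_apply] at h1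
  apply dualTensorHom_pi_injective a
  rw [map_zero]
  exact hψ _ h1.symm

end dual

section main

variable {R : Type u} [CommRing R]

theorem tor_one_isZero_of_rTensor_injective {M D : Type u} [AddCommGroup M] [Module R M]
    [AddCommGroup D] [Module R D] {b : ℕ} (p : (Fin b → R) →ₗ[R] M)
    (hp : Function.Surjective p)
    (hinj : Function.Injective (LinearMap.rTensor D (LinearMap.ker p).subtype)) :
    IsZero (((Tor (ModuleCat.{u} R) 1).obj (ModuleCat.of R M)).obj (ModuleCat.of R D)) := by
  obtain ⟨e⟩ := Groth.Agent.S3535.nonempty_iso (ModuleCat.of R D) 1 (ModuleCat.of R M)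
  refine IsZero.of_iso ?_ e
  let T₁ : ShortComplex (ModuleCat.{u} R) :=
    ShortComplex.mk (ModuleCat.ofHom (LinearMap.ker p).subtype) (ModuleCat.ofHom p) (by
      apply ModuleCat.hom_ext
      apply LinearMap.ext
      intro x
      change p ((LinearMap.ker p).subtype x) = 0
      exact x.2)
  have hT₁ : T₁.ShortExact := by
    have hmono : Mono T₁.f := by
      rw [ModuleCat.mono_iff_injective]
      exact (LinearMap.ker p).injective_subtype
    have hepi : Epi T₁.g := by
      rw [ModuleCat.epi_iff_surjective]
      exact hp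
    refine ShortComplex.ShortExact.mk ?_
    rw [ShortComplex.moduleCat_exact_iff]
    intro y hy
    exact ⟨⟨y, hy⟩, rfl⟩
  haveI hproj1 : Projective T₁.X₂ := by
    change Projective (ModuleCat.of R (Fin b → R))
    exact ModuleCat.projective_of_free (Module.Free.chooseBasis R (Fin b → R))
  obtain ⟨δ, w, hmono, -⟩ :=
    Groth.Agent.Lib.Helper98.exists_mono_leftDerived_one_to_obj
      (tensorRight (ModuleCat.of R D)) hT₁
  haveI : Mono ((tensorRight (ModuleCat.of R D)).map T₁.f) := by
    rw [ModuleCat.mono_iff_injective]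
    exact hinj
  have hδ : δ = 0 := by
    rw [← cancel_mono ((tensorRight (ModuleCat.of R D)).map T₁.f), w, zero_comp]
  haveI := hmono
  exact IsZero.of_mono_eq_zero δ hδ

theorem rTensor_dual_injective_of_period {M N : Type u} [AddCommGroup M] [Module R M]
    [AddCommGroup N] [Module R N] {a b : ℕ} (p : (Fin b → R) →ₗ[R] M)
    (α : M →ₗ[R] (Fin a → R)) (β : (Fin a → R) →ₗ[R] LinearMap.ker p)
    (hβ : Function.Surjective β) (hex : Function.Exact α β)
    (hg : ∀ g : N →ₗ[R] (Fin a → R), (∀ n, g n ∈ Set.range α) → g = 0) :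
    Function.Injective (LinearMap.rTensor (Module.Dual R N) (LinearMap.ker p).subtype) := by
  rw [← LinearMap.lTensor_inj_iff_rTensor_inj, injective_iff_map_eq_zero]
  intro z hz
  obtain ⟨z', rfl⟩ := LinearMap.lTensor_surjective (Module.Dual R N) hβ z
  have h1 : LinearMap.lTensor (Module.Dual R N) ((LinearMap.ker p).subtype ∘ₗ β) z' = 0 := by
    rw [LinearMap.lTensor_comp]
    exact hz
  have h2 : z' = 0 := by
    refine lTensor_dual_injective ((LinearMap.ker p).subtype ∘ₗ β) ?_ (by rw [h1, map_zero])
    intro g hg0
    apply hg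
    intro n
    have h3 : β (g n) = 0 := Subtype.ext (by
      have := LinearMap.congr_fun hg0 n
      simpa using this)
    exact (hex (g n)).mp h3
  rw [h2, map_zero]

end main

end Groth.Agent.Lib.Helper98.HypersurfaceTor
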