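import Mathlib.LinearAlgebra.BilinearForm.Properties
import Mathlib.Algebra.Polynomial.Reverse
import Mathlib.Algebra.Polynomial.AlgebraMap
import Mathlib.Algebra.Polynomial.EraseLead
import Mathlib.RingTheory.Coprime.Basic
import Mathlib.LinearAlgebra.Span.Basic

/-!
Bilinear forms invariant (up to a scalar) under an endomorphism: adjunction between `P(m)` and
the reflected polynomial.
-/

set_option autoImplicit false
universe u v

namespace Groth.Agent.Lib.Helper98

open Polynomial

variable {k : Type u} [Field k] {V : Type v} [AddCommGroup V] [Module k V]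

/-- `B (m^i u) (m^i w) = q^i B u w` for a `q`-scaled invariant form. -/
theorem form_pow_pow (B : LinearMap.BilinForm k V) (m : Module.End k V) (q : k)
    (hm : ∀ x y : V, B (m x) (m y) = q * B x y) (i : ℕ) (u w : V) :
    B ((m ^ i) u) ((m ^ i) w) = q ^ i * B u w := by
  induction i generalizing u w with
  | zero => simp
  | succ i ih =>
    rw [pow_succ, Module.End.mul_apply, Module.End.mul_apply, ih, hm, pow_succ, mul_assoc]

/-- Adjunction for monomials. -/
theorem form_pow_left (B : LinearMap.BilinForm k V) (m : Module.End k V) (q : k)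
    (hm : ∀ x y : V, B (m x) (m y) = q * B x y) (d i : ℕ) (hi : i ≤ d) (u v : V) :
    B ((m ^ i) u) ((m ^ d) v) = q ^ i * B u ((m ^ (d - i)) v) := by
  have : (m ^ d) v = (m ^ i) ((m ^ (d - i)) v) := by
    rw [← Module.End.mul_apply, ← pow_add, Nat.add_sub_cancel' hi]
  rw [this, form_pow_pow B m q hm]

/-- `qscale q P = P(qX)`, written through coefficients as a sum; we only need its `aeval`. -/
theorem form_aeval_left (B : LinearMap.BilinForm k V) (m : Module.End k V)
    (hm : ∀ x y : V, B (m x) (m y) = B x y) (d : ℕ) (P : k[X]) (hP : P.natDegree ≤ d) (u v : V) :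
    B (aeval m P u) ((m ^ d) v) = B u (aeval m (reflect d P) v) := by
  have hm' : ∀ x y : V, B (m x) (m y) = 1 * B x y := by intro x y; rw [one_mul, hm]
  revert u v
  refine induction_with_natDegree_le
    (fun P => ∀ u v, B (aeval m P u) ((m ^ d) v) = B u (aeval m (reflect d P) v)) d ?_ ?_ ?_ P hP
  · intro u v; simp
  · intro n r _ hn u v
    rw [reflect_C_mul_X_pow, revAt_le hn]
    simp only [map_mul, aeval_C, map_pow, aeval_X, Module.End.mul_apply,
      Module.algebraMap_end_apply, map_smul, LinearMap.smul_apply]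
    rw [form_pow_left B m 1 hm' d n hn, one_pow, one_mul]
  · intro f g _ _ hf hg u v
    rw [reflect_add, map_add, map_add, LinearMap.add_apply, LinearMap.add_apply, map_add,
      LinearMap.add_apply, map_add, hf, hg]

theorem aeval_comm_pow (m : Module.End k V) (P : k[X]) (j : ℕ) (v : V) :
    aeval m P ((m ^ j) v) = (m ^ j) (aeval m P v) := by
  have h1 : aeval m P * m ^ j = m ^ j * aeval m P := by
    have : m ^ j = aeval m (X ^ j : k[X]) := by simp
    rw [this, ← map_mul, ← map_mul, mul_comm]
  have := congrArg (fun f : Module.End k V => f v) h1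
  simpa [Module.End.mul_apply] using this

theorem form_aeval_pow_left (B : LinearMap.BilinForm k V) (m : Module.End k V)
    (hm : ∀ x y : V, B (m x) (m y) = B x y) (P : k[X]) (n : ℕ) (u v : V) :
    B ((aeval m P ^ n) u) ((m ^ (P.natDegree * n)) v) = B u ((aeval m P.reverse ^ n) v) := by
  induction n generalizing u v with
  | zero => simp
  | succ n ih =>
    rw [pow_succ', Module.End.mul_apply, Nat.mul_succ, add_comm, pow_add, Module.End.mul_apply,
      form_aeval_left B m hm P.natDegree P le_rfl, ← reverse, aeval_comm_pow, ih,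
      pow_succ, Module.End.mul_apply]

/-- Orthogonality of generalized kernels. -/
theorem form_eq_zero_of_coprime_reverse (B : LinearMap.BilinForm k V) (m : Module.End k V)
    (hm : ∀ x y : V, B (m x) (m y) = B x y)
    (Q₁ Q₂ : k[X]) (h : IsCoprime Q₁.reverse Q₂)
    (x y : V)
    (hx : ∃ n : ℕ, (aeval m Q₁ ^ n) x = 0)
    (hy : ∃ n : ℕ, (aeval m Q₂ ^ n) y = 0) :
    B x y = 0 := by
  obtain ⟨n₁, hn₁⟩ := hx
  obtain ⟨n₂, hn₂⟩ := hy
  obtain ⟨a, b, hab⟩ := (h.pow (m := n₁) (n := n₂))
  have hy' : y = (aeval m Q₁.reverse ^ n₁) (aeval m a y) := by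
    have h1 := congrArg (fun P => aeval m P y) hab
    simp only [map_add, map_mul, map_pow, map_one, LinearMap.add_apply, Module.End.mul_apply,
      Module.End.one_apply] at h1
    rw [hn₂, map_zero, add_zero] at h1
    have h2 : aeval m a * aeval m Q₁.reverse ^ n₁ = aeval m Q₁.reverse ^ n₁ * aeval m a := by
      rw [← map_pow, ← map_mul, ← map_mul, mul_comm]
    have h3 := congrArg (fun f : Module.End k V => f y) h2
    simp only [Module.End.mul_apply] at h3
    rw [← h3]
    exact h1.symm
  rw [hy', ← form_aeval_pow_left B m hm Q₁ n₁, hn₁, map_zero, LinearMap.zero_apply]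

end Groth.Agent.Lib.Helper98
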