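import Groth.Agent.Lib.Helper98.InvForm
import Mathlib.LinearAlgebra.Eigenspace.Basic
import Mathlib.LinearAlgebra.FiniteDimensional.Defs
import Mathlib.RingTheory.Artinian.Module
import Mathlib.Algebra.Polynomial.RingDivision

/-!
Forms scaled by `q` under an automorphism: generalized eigenspaces at `1` and `q`.
-/

set_option autoImplicit false
universe u v

namespace Groth.Agent.Lib.Helper98

open Polynomial Filter

variable {k : Type u} [Field k] {V : Type v} [AddCommGroup V] [Module k V]

theorem commute_sub_smul_pow (m : Module.End k V) (q : k) (n j : ℕ) :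
    Commute ((m - q • (1 : Module.End k V)) ^ n) (m ^ j) := by
  apply Commute.pow_pow
  apply Commute.sub_left (Commute.refl m)
  exact (Commute.one_left m).smul_left q

/-- the basic adjunction `B ((m-1) u) (m v) = - B u ((m-q) v)` iterated. -/
theorem form_sub_one_pow (B : LinearMap.BilinForm k V) (m : Module.End k V) (q : k)
    (hm : ∀ x y : V, B (m x) (m y) = q * B x y) (n : ℕ) (u v : V) :
    B (((m - 1) ^ n) u) ((m ^ n) v) = (-1) ^ n * B u (((m - q • (1 : Module.End k V)) ^ n) v) := by
  induction n generalizing u v with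
  | zero => simp
  | succ n ih =>
    have h1 : ∀ a b : V, B ((m - 1) a) (m b) = - B a ((m - q • (1 : Module.End k V)) b) := by
      intro a b
      simp only [LinearMap.sub_apply, Module.End.one_apply, map_sub, LinearMap.smul_apply, hm,
        map_smul, smul_eq_mul]
      ring
    have hc := (commute_sub_smul_pow m q 1 n).eq
    rw [pow_one] at hc
    have hc' : ∀ w : V, (m - q • (1 : Module.End k V)) ((m ^ n) w) =
        (m ^ n) ((m - q • (1 : Module.End k V)) w) := by
      intro w
      have := congrArg (fun f : Module.End k V => f w) hc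
      simpa [Module.End.mul_apply] using this
    rw [pow_succ' (m - 1), Module.End.mul_apply, pow_succ' m, Module.End.mul_apply, h1, hc', ih,
      pow_succ (m - q • (1 : Module.End k V)), Module.End.mul_apply, pow_succ]
    ring

theorem aeval_X_sub_C_pow (m : Module.End k V) (q : k) (n : ℕ) :
    aeval m ((X - C q) ^ n : k[X]) = (m - q • (1 : Module.End k V)) ^ n := by
  rw [map_pow, map_sub, aeval_X, aeval_C, Module.algebraMap_end_eq_smul_id]
  rfl

/-- if `(m - a)^K y = 0` and `a ≠ b` then `y` is in the range of `(m - b)^N`. -/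
theorem exists_eq_pow_apply_of_ne (m : Module.End k V) (a b : k) (hab : a ≠ b) (K N : ℕ) (y : V)
    (hy : ((m - a • (1 : Module.End k V)) ^ K) y = 0) :
    ∃ w, y = ((m - b • (1 : Module.End k V)) ^ N) w := by
  have hcop : IsCoprime ((X - C a) ^ K : k[X]) ((X - C b) ^ N) :=
    (isCoprime_X_sub_C_of_isUnit_sub (sub_ne_zero_of_ne hab).isUnit).pow
  obtain ⟨f, g, hfg⟩ := hcop
  refine ⟨aeval m g y, ?_⟩
  have h1 := congrArg (fun P => aeval m P y) hfg
  simp only [map_add, map_mul, map_one, LinearMap.add_apply, Module.End.mul_apply,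
    Module.End.one_apply] at h1
  rw [aeval_X_sub_C_pow, aeval_X_sub_C_pow, hy, map_zero, zero_add] at h1
  have h2 : aeval m g * (m - b • (1 : Module.End k V)) ^ N =
      (m - b • (1 : Module.End k V)) ^ N * aeval m g := by
    rw [← aeval_X_sub_C_pow, ← map_mul, ← map_mul, mul_comm]
  have h3 := congrArg (fun f : Module.End k V => f y) h2
  simp only [Module.End.mul_apply] at h3
  rw [← h3]
  exact h1.symm

variable [FiniteDimensional k V]

/-- Fitting decomposition with a lower bound on the exponent. -/
theorem exists_fitting_decomp (f : Module.End k V) (K : ℕ) (v : V) :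
    ∃ n, K ≤ n ∧ ∃ a z : V, (f ^ n) a = 0 ∧ v = a + (f ^ n) z := by
  obtain ⟨n, hn, hc⟩ := ((eventually_ge_atTop K).and
    f.eventually_isCompl_ker_pow_range_pow).exists
  have hv : v ∈ LinearMap.ker (f ^ n) ⊔ LinearMap.range (f ^ n) := by
    rw [hc.sup_eq_top]; trivial
  obtain ⟨a, ha, b, ⟨z, rfl⟩, rfl⟩ := Submodule.mem_sup.1 hv
  exact ⟨n, hn, a, z, LinearMap.mem_ker.1 ha, rfl⟩

theorem form_scaled_eigenspaces
    (B : LinearMap.BilinForm k V) (hB : B.Nondegenerate) (q : k) (hq : q ≠ 0)
    (M : V ≃ₗ[k] V) (hM : ∀ x y : V, B (M x) (M y) = q * B x y) :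
    (∀ x ∈ Module.End.maxGenEigenspace (M : Module.End k V) 1,
        (∀ y ∈ Module.End.maxGenEigenspace (M : Module.End k V) q, B x y = 0) → x = 0) ∧
      (∀ y ∈ Module.End.maxGenEigenspace (M : Module.End k V) q,
        (∀ x ∈ Module.End.maxGenEigenspace (M : Module.End k V) 1, B x y = 0) → y = 0) ∧
      (q ≠ 1 → ∀ x ∈ Module.End.maxGenEigenspace (M : Module.End k V) 1,
        ∀ x' ∈ Module.End.maxGenEigenspace (M : Module.End k V) 1, B x x' = 0) ∧
      (q ≠ 1 → ∀ y ∈ Module.End.maxGenEigenspace (M : Module.End k V) q,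
        ∀ y' ∈ Module.End.maxGenEigenspace (M : Module.End k V) q, B y y' = 0) := by
  set m : Module.End k V := (M : V →ₗ[k] V) with hmdef
  have hm : ∀ x y : V, B (m x) (m y) = q * B x y := fun x y => hM x y
  have hone : (m - (1 : k) • (1 : Module.End k V)) = m - 1 := by rw [one_smul]
  -- surjectivity and injectivity of powers of `m`
  have hsurj : ∀ (N : ℕ) (y : V), ∃ y', y = (m ^ N) y' := by
    intro N
    induction N with
    | zero => intro y; exact ⟨y, by simp⟩
    | succ N ih =>
      intro y
      obtain ⟨y₁, rfl⟩ := ih y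
      refine ⟨M.symm y₁, ?_⟩
      rw [pow_succ, Module.End.mul_apply]
      congr 1
      exact (M.apply_symm_apply y₁).symm
  have hinj : ∀ (N : ℕ) (w : V), (m ^ N) w = 0 → w = 0 := by
    intro N
    induction N with
    | zero => intro w hw; simpa using hw
    | succ N ih =>
      intro w hw
      rw [pow_succ, Module.End.mul_apply] at hw
      have := ih _ hw
      exact M.injective (by rw [map_zero]; exact this)
  have hzero : ∀ (f : Module.End k V) (K n : ℕ) (x : V), K ≤ n → (f ^ K) x = 0 → (f ^ n) x = 0 :=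
    fun f K n x hKn hx => Module.End.pow_map_zero_of_le hKn hx
  refine ⟨?_, ?_, ?_, ?_⟩
  · -- (1)
    intro x hx hperp
    rw [Module.End.mem_maxGenEigenspace, hone] at hx
    obtain ⟨K, hK⟩ := hx
    apply hB.1
    intro v
    obtain ⟨n, hn, a, z, ha, rfl⟩ := exists_fitting_decomp (m - q • (1 : Module.End k V)) K v
    have ha' : a ∈ Module.End.maxGenEigenspace m q := by
      rw [Module.End.mem_maxGenEigenspace]; exact ⟨n, ha⟩
    rw [map_add, hperp a ha', zero_add]
    have := form_sub_one_pow B m q hm n x z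
    rw [hzero _ K n x hn hK, map_zero, LinearMap.zero_apply] at this
    have h1 : (-1 : k) ^ n ≠ 0 := pow_ne_zero _ (neg_ne_zero.2 one_ne_zero)
    exact (mul_eq_zero.1 this.symm).resolve_left h1
  · -- (2)
    intro y hy hperp
    rw [Module.End.mem_maxGenEigenspace] at hy
    obtain ⟨K, hK⟩ := hy
    apply hB.2
    intro v
    obtain ⟨n, hn, a, z, ha, rfl⟩ := exists_fitting_decomp (m - 1) K v
    have ha' : a ∈ Module.End.maxGenEigenspace m 1 := by
      rw [Module.End.mem_maxGenEigenspace, hone]; exact ⟨n, ha⟩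
    rw [map_add, LinearMap.add_apply, hperp a ha', zero_add]
    obtain ⟨y', rfl⟩ := hsurj n y
    have hy' : ((m - q • (1 : Module.End k V)) ^ n) y' = 0 := by
      have h1 := hzero _ K n _ hn hK
      have hc := (commute_sub_smul_pow m q n n).eq
      have h2 := congrArg (fun f : Module.End k V => f y') hc
      simp only [Module.End.mul_apply] at h2
      rw [h2] at h1
      exact hinj n _ h1
    rw [form_sub_one_pow B m q hm n z y', hy', map_zero, mul_zero]
  · -- (3)
    intro hq1 x hx x' hx'
    rw [Module.End.mem_maxGenEigenspace, hone] at hx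
    rw [Module.End.mem_maxGenEigenspace] at hx'
    obtain ⟨N, hN⟩ := hx
    obtain ⟨K', hK'⟩ := hx'
    obtain ⟨w, rfl⟩ := exists_eq_pow_apply_of_ne m 1 q (Ne.symm hq1) K' N x' hK'
    have := form_sub_one_pow B m q hm N x w
    rw [hN, map_zero, LinearMap.zero_apply] at this
    have h1 : (-1 : k) ^ N ≠ 0 := pow_ne_zero _ (neg_ne_zero.2 one_ne_zero)
    exact (mul_eq_zero.1 this.symm).resolve_left h1
  · -- (4)
    intro hq1 y hy y' hy'
    rw [Module.End.mem_maxGenEigenspace] at hy hy'
    obtain ⟨K, hK⟩ := hy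
    obtain ⟨N, hN⟩ := hy'
    obtain ⟨u, rfl⟩ := exists_eq_pow_apply_of_ne m q 1 hq1 K N y hK
    obtain ⟨v, rfl⟩ := hsurj N y'
    have hv : ((m - q • (1 : Module.End k V)) ^ N) v = 0 := by
      have hc := (commute_sub_smul_pow m q N N).eq
      have h2 := congrArg (fun f : Module.End k V => f v) hc
      simp only [Module.End.mul_apply] at h2
      rw [h2] at hN
      exact hinj N _ hN
    rw [hone, form_sub_one_pow B m q hm N u v, hv, map_zero, mul_zero]

end Groth.Agent.Lib.Helper98
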