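import Groth.Agent.Lib.Helper98.InvForm2

/-!
Nondegeneracy of an invariant form on the generalized kernel of a self-reciprocal polynomial.
-/

set_option autoImplicit false
universe u v

namespace Groth.Agent.Lib.Helper98

open Polynomial Filter

variable {k : Type u} [Field k] {V : Type v} [AddCommGroup V] [Module k V]

theorem equiv_pow_surj (M : V ≃ₗ[k] V) (N : ℕ) (y : V) :
    ∃ y', y = (((M : V →ₗ[k] V) : Module.End k V) ^ N) y' := by
  induction N generalizing y with
  | zero => exact ⟨y, by simp⟩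
  | succ N ih =>
    obtain ⟨y₁, rfl⟩ := ih y
    refine ⟨M.symm y₁, ?_⟩
    rw [pow_succ, Module.End.mul_apply]
    congr 1
    exact (M.apply_symm_apply y₁).symm

theorem equiv_pow_inj (M : V ≃ₗ[k] V) (N : ℕ) (w : V)
    (hw : (((M : V →ₗ[k] V) : Module.End k V) ^ N) w = 0) : w = 0 := by
  induction N generalizing w with
  | zero => simpa using hw
  | succ N ih =>
    rw [pow_succ, Module.End.mul_apply] at hw
    have := ih _ hw
    exact M.injective (by rw [map_zero]; exact this)

/-- if `P = P' * R` then `ker (aeval m P')^n ≤ ker (aeval m P)^n`. -/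
theorem aeval_pow_apply_eq_zero_of_mul (m : Module.End k V) (P P' R : k[X]) (h : P = P' * R)
    (n : ℕ) (a : V) (ha : (aeval m P' ^ n) a = 0) : (aeval m P ^ n) a = 0 := by
  have h1 : aeval m P ^ n = aeval m R ^ n * aeval m P' ^ n := by
    rw [h, ← map_pow, ← map_pow, ← map_pow, ← map_mul, mul_pow, mul_comm]
  rw [h1, Module.End.mul_apply, ha, map_zero]

theorem mem_iSup_ker_pow (F : Module.End k V) (x : V) :
    x ∈ (⨆ n : ℕ, LinearMap.ker (F ^ n)) ↔ ∃ n, (F ^ n) x = 0 := by
  rw [Submodule.mem_iSup_of_directed]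
  · simp
  · intro i j
    refine ⟨max i j, ?_, ?_⟩
    · intro x hx
      exact Module.End.pow_map_zero_of_le (le_max_left i j) hx
    · intro x hx
      exact Module.End.pow_map_zero_of_le (le_max_right i j) hx

variable [FiniteDimensional k V]

theorem form_restrict_nondegenerate
    (B : LinearMap.BilinForm k V) (hB : B.Nondegenerate) (M : V ≃ₗ[k] V)
    (hM : ∀ x y : V, B (M x) (M y) = B x y)
    (Q : k[X]) (hQ : Associated Q Q.reverse) :
    (B.restrict (⨆ n : ℕ, LinearMap.ker (Polynomial.aeval (M : V →ₗ[k] V) Q ^ n))).Nondegenerate := by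
  set m : Module.End k V := (M : V →ₗ[k] V) with hmdef
  have hm : ∀ x y : V, B (m x) (m y) = B x y := fun x y => hM x y
  obtain ⟨u, hu⟩ := hQ
  -- `Q.reverse = Q * u` and `Q = Q.reverse * u⁻¹`
  have hu' : Q = Q.reverse * ((u⁻¹ : k[X]ˣ) : k[X]) := by
    rw [← hu, mul_assoc, Units.mul_inv, mul_one]
  have hcomm : ∀ (P : k[X]) (n j : ℕ) (w : V),
      (aeval m P ^ n) ((m ^ j) w) = (m ^ j) ((aeval m P ^ n) w) := by
    intro P n j w
    have h1 : aeval m P ^ n * m ^ j = m ^ j * aeval m P ^ n := by
      have : m ^ j = aeval m (X ^ j : k[X]) := by simp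
      rw [this, ← map_pow, ← map_mul, ← map_mul, mul_comm]
    have := congrArg (fun f : Module.End k V => f w) h1
    simpa [Module.End.mul_apply] using this
  constructor
  · -- left separating
    rintro ⟨x, hx⟩ hperp
    rw [mem_iSup_ker_pow] at hx
    obtain ⟨K, hK⟩ := hx
    have : x = 0 := by
      apply hB.1
      intro v
      obtain ⟨n, hn, a, z, ha, rfl⟩ := exists_fitting_decomp (aeval m Q.reverse) K v
      have ha' : a ∈ (⨆ n : ℕ, LinearMap.ker (aeval m Q ^ n)) := by
        rw [mem_iSup_ker_pow]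
        exact ⟨n, aeval_pow_apply_eq_zero_of_mul m Q Q.reverse _ hu' n a ha⟩
      have h0 : B x a = 0 := hperp ⟨a, ha'⟩
      rw [map_add, h0, zero_add, ← form_aeval_pow_left B m hm Q n,
        Module.End.pow_map_zero_of_le hn hK, map_zero, LinearMap.zero_apply]
    exact Subtype.ext this
  · -- right separating
    rintro ⟨y, hy⟩ hperp
    rw [mem_iSup_ker_pow] at hy
    obtain ⟨K, hK⟩ := hy
    have : y = 0 := by
      apply hB.2
      intro v
      obtain ⟨n, hn, a, z, ha, rfl⟩ := exists_fitting_decomp (aeval m Q) K v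
      have ha' : a ∈ (⨆ n : ℕ, LinearMap.ker (aeval m Q ^ n)) := by
        rw [mem_iSup_ker_pow]
        exact ⟨n, ha⟩
      have h0 : B a y = 0 := hperp ⟨a, ha'⟩
      rw [map_add, LinearMap.add_apply, h0, zero_add]
      obtain ⟨y', rfl⟩ := equiv_pow_surj M (Q.natDegree * n) y
      have hy' : (aeval m Q.reverse ^ n) y' = 0 := by
        have h1 : (aeval m Q ^ n) ((m ^ (Q.natDegree * n)) y') = 0 :=
          Module.End.pow_map_zero_of_le hn hK
        have h2 := aeval_pow_apply_eq_zero_of_mul m Q.reverse Q _ hu.symm n _ h1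
        rw [hcomm] at h2
        exact equiv_pow_inj M _ _ h2
      rw [form_aeval_pow_left B m hm Q n, hy', map_zero]
    exact Subtype.ext this

end Groth.Agent.Lib.Helper98
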