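import Mathlib
import Groth.Agent.Lib.Helper74.LatticeLength

/-!
# Lattices over a one-dimensional Noetherian domain (helper98)
-/

set_option autoImplicit false
universe u v

namespace Groth.Agent.Lib.Helper98

open Groth.Agent.Lib.Helper74

section

variable {A : Type u} [CommRing A] [IsDomain A] (K : Type u) [Field K] [Algebra A K]
  [IsFractionRing A K] {V : Type v} [AddCommGroup V] [Module K V] [Module A V] [IsScalarTower A K V]

/-- If `a • M ≤ N` for some nonzero `a`, and `M` spans `V` over `K`, then so does `N`. -/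
theorem span_eq_top_of_smul_mem (M N : Submodule A V) (a : A) (ha : a ≠ 0)
    (h : ∀ m ∈ M, a • m ∈ N) (hM : Submodule.span K (M : Set V) = ⊤) :
    Submodule.span K (N : Set V) = ⊤ := by
  rw [eq_top_iff, ← hM, Submodule.span_le]
  intro m hm
  have ha' : algebraMap A K a ≠ 0 := by
    rwa [Ne, IsFractionRing.to_map_eq_zero_iff]
  have : m = (algebraMap A K a)⁻¹ • (a • m) := by
    rw [← algebraMap_smul K a m, smul_smul, inv_mul_cancel₀ ha', one_smul]
  rw [this]
  exact Submodule.smul_mem _ _ (Submodule.subset_span (h m hm))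

/-- From elementwise denominators to a common denominator for a finitely generated submodule. -/
theorem exists_ne_zero_smul_le_of_fg (M N : Submodule A V) (hM : M.FG)
    (h : ∀ m ∈ M, ∃ a : A, a ≠ 0 ∧ a • m ∈ N) : ∃ a : A, a ≠ 0 ∧ ∀ m ∈ M, a • m ∈ N := by
  classical
  obtain ⟨S, rfl⟩ := hM
  have h' : ∀ v : V, ∃ a : A, a ≠ 0 ∧ (v ∈ Submodule.span A (S : Set V) → a • v ∈ N) := by
    intro v
    by_cases hv : v ∈ Submodule.span A (S : Set V)
    · obtain ⟨a, ha, hav⟩ := h v hv
      exact ⟨a, ha, fun _ => hav⟩
    · exact ⟨1, one_ne_zero, fun h => absurd h hv⟩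
  choose c hc0 hc using h'
  refine ⟨∏ s ∈ S, c s, Finset.prod_ne_zero_iff.mpr fun s _ => hc0 s, ?_⟩
  intro m hm
  induction hm using Submodule.span_induction with
  | mem x hx =>
    have hx' : x ∈ S := hx
    rw [← Finset.mul_prod_erase S c hx', mul_comm, mul_smul]
    exact N.smul_mem _ (hc x (Submodule.subset_span hx))
  | zero => simp
  | add x y _ _ hx hy => rw [smul_add]; exact N.add_mem hx hy
  | smul r x _ hx => rw [smul_comm]; exact N.smul_mem r hx

end

section dimOne

variable {A : Type u} [CommRing A] [IsDomain A] [IsNoetherianRing A]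

/-- In a Noetherian domain which is not Artinian, every element of a module of finite length is
killed by a nonzero scalar. -/
theorem exists_ne_zero_smul_eq_zero_of_length_ne_top (hA : ¬ IsArtinianRing A)
    {Q : Type v} [AddCommGroup Q] [Module A Q] (hQ : Module.length A Q ≠ ⊤) (q : Q) :
    ∃ a : A, a ≠ 0 ∧ a • q = 0 := by
  by_contra hcon
  push Not at hcon
  apply hA
  have hinj : Function.Injective (LinearMap.toSpanSingleton A Q q) := by
    rw [← LinearMap.ker_eq_bot, LinearMap.ker_eq_bot']
    intro a ha
    by_contra ha0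
    exact hcon a ha0 ha
  have hle := Module.length_le_of_injective _ hinj
  have hA' : Module.length A A ≠ ⊤ := fun h => hQ (top_le_iff.1 (h ▸ hle))
  rw [Module.length_ne_top_iff, isFiniteLength_iff_isNoetherian_isArtinian] at hA'
  exact hA'.2

end dimOne

section main

variable (R K V : Type u) [CommRing R] [IsDomain R] [IsNoetherianRing R]
  [Field K] [Algebra R K] [IsFractionRing R K] [AddCommGroup V] [Module K V] [Module R V]
  [IsScalarTower R K V]

theorem not_isArtinianRing_of_dim_one (hdim : ringKrullDim R = 1) : ¬ IsArtinianRing R := by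
  intro h
  rw [isArtinianRing_iff_krullDimLE_zero, Ring.krullDimLE_iff, hdim] at h
  exact absurd h (by decide)

theorem lattice_facts (hdim : ringKrullDim R = 1) (M : Submodule R V) [hM : Submodule.IsLattice K M] :
    (∀ M' : Submodule R V, M ≤ M' →
        (Submodule.IsLattice K M' ↔ Module.length R (M' ⧸ Submodule.comap M'.subtype M) ≠ ⊤) ∧
          (Submodule.IsLattice K M' ↔ M'.FG)) ∧
      (∀ M' : Submodule R V, M' ≤ M →
        (Submodule.IsLattice K M' ↔ Module.length R (M ⧸ Submodule.comap M.subtype M') ≠ ⊤)) ∧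
      ∀ M' : Submodule R V, Submodule.IsLattice K M' → Submodule.IsLattice K (M ⊓ M') := by
  have hK1 : Ring.KrullDimLE 1 R := by rw [Ring.krullDimLE_iff, hdim]; rfl
  have hnart := not_isArtinianRing_of_dim_one R hdim
  have hMnoeth : IsNoetherian R M := isNoetherian_of_fg_of_noetherian M hM.fg
  refine ⟨fun M' hle => ?_, fun M' hle => ?_, fun M' hM' => ?_⟩
  · have hspan : Submodule.span K (M' : Set V) = ⊤ := by
      rw [eq_top_iff, ← hM.span_eq_top]
      exact Submodule.span_mono hle
    have h2 : Submodule.IsLattice K M' ↔ M'.FG := ⟨fun h => h.fg, fun h => ⟨h, hspan⟩⟩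
    refine ⟨⟨fun h => (length_quotient_submoduleOf_lt_top K M M' h.fg hM.span_eq_top).ne,
      fun h => h2.2 ?_⟩, h2⟩
    -- `M'` is finitely generated as an extension of f.g. modules
    rw [Module.length_ne_top_iff, isFiniteLength_iff_isNoetherian_isArtinian] at h
    have hq : Module.Finite R (M' ⧸ Submodule.comap M'.subtype M) := by
      have := h.1
      infer_instance
    have hsub : (Submodule.comap M'.subtype M).FG := by
      apply Submodule.fg_of_fg_map_injective M'.subtype M'.subtype_injective
      rw [Submodule.map_comap_subtype, inf_eq_right.2 hle]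
      exact hM.fg
    have htop : (⊤ : Submodule R M').FG := by
      apply Submodule.fg_of_fg_map_of_fg_inf_ker (Submodule.comap M'.subtype M).mkQ
      · rw [Submodule.map_top, Submodule.range_mkQ]
        exact hq.1
      · rw [top_inf_eq, Submodule.ker_mkQ]
        exact hsub
    exact Module.Finite.iff_fg.1 ⟨htop⟩
  · constructor
    · intro h
      exact (length_quotient_submoduleOf_lt_top K M' M hM.fg h.span_eq_top).ne
    · intro h
      have hfg : M'.FG := isNoetherian_submodule.1 hMnoeth M' hle
      refine ⟨hfg, ?_⟩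
      have hex : ∀ m ∈ M, ∃ a : R, a ≠ 0 ∧ a • m ∈ M' := by
        intro m hm
        obtain ⟨a, ha, haq⟩ := exists_ne_zero_smul_eq_zero_of_length_ne_top hnart h
          ((Submodule.comap M.subtype M').mkQ ⟨m, hm⟩)
        refine ⟨a, ha, ?_⟩
        rw [← map_smul, Submodule.mkQ_apply, Submodule.Quotient.mk_eq_zero] at haq
        exact haq
      obtain ⟨a, ha, haM⟩ := exists_ne_zero_smul_le_of_fg M M' hM.fg hex
      exact span_eq_top_of_smul_mem K M M' a ha haM hM.span_eq_top
  · have hfg : (M ⊓ M').FG := isNoetherian_submodule.1 hMnoeth (M ⊓ M') inf_le_left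
    refine ⟨hfg, ?_⟩
    obtain ⟨a, ha, haM⟩ := exists_ne_zero_smul_le_of_fg_of_span_eq_top K M M' hM.fg hM'.span_eq_top
    exact span_eq_top_of_smul_mem K M (M ⊓ M') a ha
      (fun m hm => ⟨M.smul_mem a hm, haM m hm⟩) hM.span_eq_top

end main

end Groth.Agent.Lib.Helper98
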