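import Mathlib.RingTheory.Kaehler.Basic
import Mathlib.Algebra.Polynomial.Laurent
import Mathlib.Algebra.CharZero.Defs

/-!
The Euler derivation `T d/dT` on Laurent polynomials, `T^n ↦ n T^n`.
-/

set_option autoImplicit false
universe u

namespace Groth.Agent.Lib.Helper98

open LaurentPolynomial

variable {k : Type u} [CommRing k]

/-- The underlying function of the Euler operator `T d/dT`. -/
noncomputable def eulerFun (f : LaurentPolynomial k) : LaurentPolynomial k :=
  AddMonoidAlgebra.ofCoeff (Finsupp.onFinset f.coeff.support (fun n => (n : k) * f.coeff n)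
    (by
      intro n hn
      rw [Finsupp.mem_support_iff]
      intro h
      rw [h, mul_zero] at hn
      exact hn rfl))

@[simp] theorem eulerFun_coeff (f : LaurentPolynomial k) (n : ℤ) :
    (eulerFun f).coeff n = (n : k) * f.coeff n := by
  simp [eulerFun]

/-- The Euler operator as a linear map. -/
noncomputable def eulerLin : LaurentPolynomial k →ₗ[k] LaurentPolynomial k where
  toFun := eulerFun
  map_add' f g := by
    ext n
    simp [mul_add]
  map_smul' c f := by
    ext n
    simp [mul_left_comm]

@[simp] theorem eulerLin_coeff (f : LaurentPolynomial k) (n : ℤ) :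
    (eulerLin f).coeff n = (n : k) * f.coeff n := eulerFun_coeff f n

theorem eulerLin_C_mul_T (a : k) (n : ℤ) :
    eulerLin (C a * T n : LaurentPolynomial k) = C ((n : k) * a) * T n := by
  rw [← single_eq_C_mul_T, ← single_eq_C_mul_T]
  ext m
  rw [eulerLin_coeff]
  simp only [AddMonoidAlgebra.coeff_single]
  by_cases h : n = m
  · subst h; simp
  · simp [Finsupp.single_eq_of_ne' h]

theorem eulerLin_leibniz (f g : LaurentPolynomial k) :
    eulerLin (f * g) = f • eulerLin g + g • eulerLin f := by
  induction f using LaurentPolynomial.induction_on' with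
  | add p q hp hq =>
    rw [add_mul, map_add, hp, hq, map_add, add_smul, smul_add]
    abel
  | C_mul_T m a =>
    induction g using LaurentPolynomial.induction_on' with
    | add p q hp hq =>
      rw [mul_add, map_add, hp, hq, map_add, add_smul, smul_add]
      abel
    | C_mul_T n b =>
      have h1 : (C a * T m : LaurentPolynomial k) * (C b * T n) = C (a * b) * T (m + n) := by
        rw [T_add, map_mul]; ring
      rw [h1, eulerLin_C_mul_T, eulerLin_C_mul_T, eulerLin_C_mul_T, smul_eq_mul, smul_eq_mul,
        T_add]
      simp only [map_mul, map_add, Int.cast_add]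
      ring

/-- The Euler derivation `T d/dT` of the Laurent polynomial ring. -/
noncomputable def eulerDer : Derivation k (LaurentPolynomial k) (LaurentPolynomial k) :=
  Derivation.mk' eulerLin eulerLin_leibniz

@[simp] theorem eulerDer_coeff (f : LaurentPolynomial k) (n : ℤ) :
    (eulerDer f).coeff n = (n : k) * f.coeff n := eulerFun_coeff f n

/-- In characteristic zero, the Kähler differential of a Laurent polynomial vanishes only for
constants. -/
theorem kaehler_D_eq_zero_iff [IsDomain k] [CharZero k] (f : LaurentPolynomial k) :
    KaehlerDifferential.D k (LaurentPolynomial k) f = 0 ↔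
      f ∈ Set.range (algebraMap k (LaurentPolynomial k)) := by
  constructor
  · intro h
    have h1 : eulerDer f = 0 := by
      rw [← Derivation.liftKaehlerDifferential_comp_D eulerDer f, h, map_zero]
    refine ⟨f.coeff 0, ?_⟩
    rw [← C_eq_algebraMap]
    ext n
    rw [C_apply]
    by_cases hn : n = 0
    · subst hn; simp
    · rw [if_neg hn]
      have h2 : (eulerDer f).coeff n = 0 := by rw [h1]; rfl
      rw [eulerDer_coeff] at h2
      rcases mul_eq_zero.1 h2 with h3 | h3
      · exact absurd (by exact_mod_cast h3) hn
      · exact h3.symm
  · rintro ⟨c, rfl⟩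
    exact Derivation.map_algebraMap _ c

end Groth.Agent.Lib.Helper98
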