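import Mathlib.LinearAlgebra.FiniteDimensional.Lemmas
import Mathlib.LinearAlgebra.FiniteDimensional.Basic
import Mathlib.LinearAlgebra.Dimension.Finrank
import Mathlib.RingTheory.Grassmannian
import Mathlib.RingTheory.Spectrum.Prime.FreeLocus
import Mathlib.LinearAlgebra.Dimension.Constructions
import Mathlib.LinearAlgebra.Dimension.Free

/-!
Linear algebra for linked Grassmannians over a field.
-/

set_option autoImplicit false
universe u v

namespace Groth.Agent.Lib.Helper98

open Module

variable {k : Type u} [Field k] {M : Type v} [AddCommGroup M] [Module k M] [FiniteDimensional k M]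

/-- rank–nullity for the restriction of `F` to a subspace `P`. -/
theorem finrank_map_add_finrank_ker_inf (F : M →ₗ[k] M) (P : Submodule k M) :
    finrank k (P.map F) + finrank k ↥(LinearMap.ker F ⊓ P) = finrank k P := by
  have h := LinearMap.finrank_range_add_finrank_ker (F.domRestrict P)
  have h1 : LinearMap.range (F.domRestrict P) = P.map F := by
    ext y
    constructor
    · rintro ⟨x, rfl⟩
      exact ⟨x, x.2, rfl⟩
    · rintro ⟨x, hx, rfl⟩
      exact ⟨⟨x, hx⟩, rfl⟩
  have h2 : finrank k (LinearMap.ker (F.domRestrict P)) = finrank k ↥(LinearMap.ker F ⊓ P) := by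
    have e : (LinearMap.ker (F.domRestrict P)).map P.subtype = LinearMap.ker F ⊓ P := by
      ext y
      constructor
      · rintro ⟨x, hx, rfl⟩
        exact ⟨hx, x.2⟩
      · rintro ⟨hy1, hy2⟩
        exact ⟨⟨y, hy2⟩, hy1, rfl⟩
    rw [← e, Submodule.finrank_map_subtype_eq]
  rw [h1, h2] at h
  exact h

theorem linked_exact_iff (F G : M →ₗ[k] M) (hGF : G ∘ₗ F = 0) (hFG : F ∘ₗ G = 0)
    (P Q : Submodule k M) (hFP : P.map F ≤ Q) (hGQ : Q.map G ≤ P) (r : ℕ)
    (hP : finrank k P = r) (hQ : finrank k Q = r) :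
    (LinearMap.ker G ⊓ Q ≤ P.map F ∧ LinearMap.ker F ⊓ P ≤ Q.map G) ↔
      finrank k (P.map F) + finrank k (Q.map G) = r := by
  have h1 := finrank_map_add_finrank_ker_inf F P
  have h2 := finrank_map_add_finrank_ker_inf G Q
  have i1 : P.map F ≤ LinearMap.ker G ⊓ Q := by
    rintro _ ⟨x, hx, rfl⟩
    refine ⟨?_, hFP ⟨x, hx, rfl⟩⟩
    exact LinearMap.mem_ker.2 (LinearMap.congr_fun hGF x)
  have i2 : Q.map G ≤ LinearMap.ker F ⊓ P := by
    rintro _ ⟨x, hx, rfl⟩
    refine ⟨?_, hGQ ⟨x, hx, rfl⟩⟩
    exact LinearMap.mem_ker.2 (LinearMap.congr_fun hFG x)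
  constructor
  · rintro ⟨e1, e2⟩
    have : P.map F = LinearMap.ker G ⊓ Q := le_antisymm i1 e1
    rw [this]
    omega
  · intro hsum
    constructor
    · have : P.map F = LinearMap.ker G ⊓ Q :=
        Submodule.eq_of_le_of_finrank_eq i1 (by omega)
      rw [this]
    · have : Q.map G = LinearMap.ker F ⊓ P :=
        Submodule.eq_of_le_of_finrank_eq i2 (by omega)
      rw [this]

/-- dimension of a point of the Grassmannian over a field. -/
theorem finrank_grassmannian (κ : ℕ) (N : Module.Grassmannian k M κ) :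
    finrank k N.toSubmodule + κ = finrank k M := by
  have h := N.rankAtStalk_eq ⟨⊥, Ideal.isPrime_bot⟩
  rw [Module.rankAtStalk_eq_finrank_of_free] at h
  have := Submodule.finrank_quotient_add_finrank N.toSubmodule
  simp only [Pi.natCast_def, Nat.cast_id] at h
  omega

end Groth.Agent.Lib.Helper98
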