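import Mathlib
import Groth.Agent.Lib.Helper98.HensTower
import Groth.Agent.Lib.Helper98.BranchCount
import Groth.Agent.Lib.Helper9.Hens.NoetherianHens
import Groth.Agent.S9237
import Groth.Agent.S9238

/-!
# Minimal primes of the strict henselization generated by an intermediate henselization
(helper98)

`minimalPrimes_iff_pow_mem`: Noetherian version of S16431 (the proof there only uses that the
excellent ring is Noetherian).
-/

set_option autoImplicit false
set_option linter.style.haveILetI false
universe u
open Hensel

namespace Groth.Agent.Lib.Helper98.MinGen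

theorem minimalPrimes_iff_pow_mem
    (A Ah Ash : Type u) [CommRing A] [IsLocalRing A] [IsReduced A] [IsNoetherianRing A]
    [CommRing Ah] [IsLocalRing Ah] [Algebra A Ah] [IsLocalHom (algebraMap A Ah)]
    [Hensel.IsHenselization A Ah]
    [CommRing Ash] [IsLocalRing Ash] [Algebra A Ash] [IsLocalHom (algebraMap A Ash)]
    [Hensel.IsStrictHenselization A Ash] [Algebra Ah Ash] [IsScalarTower A Ah Ash] :
    (∀ (M : Ideal (integralClosure A (FractionRing A))) [M.IsMaximal],
      ∀ x : (integralClosure A (FractionRing A)) ⧸ M, ∃ n : ℕ,
        x ^ (ringExpChar ((integralClosure A (FractionRing A)) ⧸ M)) ^ n ∈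
          ((Ideal.Quotient.mk M).comp (algebraMap A (integralClosure A (FractionRing A)))).range) ↔
      (∀ Q ∈ minimalPrimes Ash, Q = Ideal.map (algebraMap Ah Ash) (Q.comap (algebraMap Ah Ash))) := by
  classical
  haveI : IsNoetherianRing Ah :=
    (Groth.Agent.Lib.Helper9.isNoetherianRing_iff_of_isHenselization A Ah).mp inferInstance
  haveI : IsNoetherianRing Ash :=
    (Groth.Agent.Lib.Helper9.isNoetherianRing_iff_of_isStrictHenselization A Ash).mp inferInstance
  haveI := HensTower.isLocalHom_algebraMap A Ah Ash
  haveI := HensTower.isStrictHenselization_of_tower A Ah Ash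
  haveI : Module.FaithfullyFlat Ah Ash :=
    Groth.Agent.Lib.Helper9.HensK.faithfullyFlat_of_isStrictHenselization Ah Ash
  -- the identification of the normalization with `CAlg2.normRed A`
  have hnil : nilradical A = ⊥ := nilradical_eq_zero A
  have hbij : Function.Bijective (Ideal.Quotient.mk (nilradical A)) := by
    refine ⟨?_, Ideal.Quotient.mk_surjective⟩
    rw [injective_iff_map_eq_zero]
    intro a ha
    rw [Ideal.Quotient.eq_zero_iff_mem, hnil] at ha
    exact ha
  let f : A ≃+* CAlg2.red A := RingEquiv.ofBijective (Ideal.Quotient.mk (nilradical A)) hbij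
  let g : FractionRing A ≃+* FractionRing (CAlg2.red A) := IsFractionRing.ringEquivOfRingEquiv f
  have hfg : ∀ r, g (algebraMap A (FractionRing A) r) =
      algebraMap (CAlg2.red A) (FractionRing (CAlg2.red A)) (f r) := fun r =>
    IsFractionRing.ringEquivOfRingEquiv_algebraMap f r
  obtain ⟨e, he⟩ : ∃ e : integralClosure A (FractionRing A) ≃+* CAlg2.normRed A,
      ∀ a, e (algebraMap A (integralClosure A (FractionRing A)) a) =
        algebraMap (CAlg2.red A) (CAlg2.normRed A) (Ideal.Quotient.mk (nilradical A) a) := by
    refine ⟨NormalizationSemilocal.integralClosureEquiv f g hfg, fun a => ?_⟩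
    apply Subtype.ext
    exact hfg a
  clear_value g f
  have hL : (∀ (M : Ideal (integralClosure A (FractionRing A))) [M.IsMaximal],
      ∀ x : (integralClosure A (FractionRing A)) ⧸ M, ∃ n : ℕ,
        x ^ (ringExpChar ((integralClosure A (FractionRing A)) ⧸ M)) ^ n ∈
          ((Ideal.Quotient.mk M).comp
            (algebraMap A (integralClosure A (FractionRing A)))).range) ↔
      Brnch.numGeomBranches A = Brnch.numBranches A := by
    rw [BranchCount.numGeomBranches_eq_numBranches_iff]
    constructor
    · intro h m'
      haveI := m'.isMaximal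
      have hmap : (m'.asIdeal.comap e.toRingHom).map
          e.toRingHom = m'.asIdeal :=
        Ideal.map_comap_of_surjective _ e.surjective _
      have hM' : ((m'.asIdeal.comap e.toRingHom).map
          e.toRingHom).IsMaximal := by
        rw [hmap]
        exact m'.isMaximal
      haveI hM : (m'.asIdeal.comap e.toRingHom).IsMaximal :=
        Ideal.comap_isMaximal_of_surjective e.toRingHom e.surjective
      have h1 := (BranchCount.pow_mem_range_iff_card_emb A
        (algebraMap A (integralClosure A (FractionRing A))) e he _ hM').mp (h _)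
      have hm' : m' = ⟨_, hM'⟩ := by
        ext1
        exact hmap.symm
      rw [hm']
      exact h1
    · intro h M hM x
      have hM' : (M.map e.toRingHom).IsMaximal :=
        Ideal.IsMaximal.map_bijective e.toRingHom e.bijective hM
      exact (BranchCount.pow_mem_range_iff_card_emb A
        (algebraMap A (integralClosure A (FractionRing A))) e he M hM').mpr (h _) x
  rw [hL, ← Groth.Agent.S9238.result A Ash, ← Groth.Agent.S9237.result A Ah]
  haveI : Finite (minimalPrimes Ash) := (minimalPrimes.finite_of_isNoetherianRing Ash).to_subtype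
  haveI : Finite (minimalPrimes Ah) := (minimalPrimes.finite_of_isNoetherianRing Ah).to_subtype
  let c : minimalPrimes Ash → minimalPrimes Ah := fun Q =>
    ⟨Q.1.comap (algebraMap Ah Ash), HensTower.comap_mem_minimalPrimes Q.2⟩
  have hcsurj : Function.Surjective c := by
    rintro ⟨q, hq⟩
    obtain ⟨Q, hQ, hQq⟩ := HensTower.exists_minimalPrimes_comap_eq (S := Ash) hq
    exact ⟨⟨Q, hQ⟩, Subtype.ext hQq⟩
  have hcard : ENat.card (minimalPrimes Ash) = ENat.card (minimalPrimes Ah) ↔
      Function.Injective c := by
    constructor
    · intro h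
      have h' : Nat.card (minimalPrimes Ash) ≤ Nat.card (minimalPrimes Ah) := by
        rw [ENat.card_eq_coe_natCard, ENat.card_eq_coe_natCard] at h
        exact (ENat.natCast_inj.mp h).le
      exact (Function.Surjective.bijective_of_nat_card_le hcsurj h').1
    · intro h
      exact ENat.card_congr (Equiv.ofBijective c ⟨h, hcsurj⟩)
  rw [hcard]
  constructor
  · intro hinj Q hQ
    haveI : Q.IsPrime := hQ.1.1
    refine HensTower.eq_map_comap_of_unique hQ
      (HensTower.isRadical_map_of_isPrime (R := Ah) (S := Ash) _) ?_
    intro P hP hPQ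
    have h1 := hinj (a₁ := ⟨P, hP⟩) (a₂ := ⟨Q, hQ⟩) (Subtype.ext hPQ)
    exact congrArg Subtype.val h1
  · intro h P Q hPQ
    have hPQ' : P.1.comap (algebraMap Ah Ash) = Q.1.comap (algebraMap Ah Ash) :=
      congrArg Subtype.val hPQ
    apply Subtype.ext
    rw [h P.1 P.2, h Q.1 Q.2, hPQ']

end Groth.Agent.Lib.Helper98.MinGen
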