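import Mathlib

/-!
# The normalization of a ring realized inside a bigger total ring of fractions (helper98)

* `fracLift hu : FractionRing R →ₐ[R] K` for an `R`-algebra `K` in which non-zero-divisors of `R` are units.
* `exists_ringEquiv_integralClosure`: a subring `W ⊆ K` cut out by "integral over `R` and a fraction of `R`" is
  isomorphic to `integralClosure R (FractionRing R)`.
-/

set_option autoImplicit false
namespace Groth.Agent.Lib.Helper98.NormInFrac

section General
variable {R K : Type*} [CommRing R] [CommRing K] [Algebra R K]

/-- The canonical map from the total ring of fractions of `R` to an `R`-algebra `K` in which the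
non-zero-divisors of `R` become units. -/
noncomputable def fracLift (hu : ∀ r : nonZeroDivisors R, IsUnit (algebraMap R K r)) :
    FractionRing R →ₐ[R] K :=
  IsLocalization.liftAlgHom (M := nonZeroDivisors R) (f := Algebra.ofId R K) hu

theorem fracLift_algebraMap (hu : ∀ r : nonZeroDivisors R, IsUnit (algebraMap R K r)) (r : R) :
    fracLift hu (algebraMap R (FractionRing R) r) = algebraMap R K r :=
  (fracLift hu).commutes r

theorem fracLift_injective (hu : ∀ r : nonZeroDivisors R, IsUnit (algebraMap R K r))
    (hinj : Function.Injective (algebraMap R K)) : Function.Injective (fracLift hu) := by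
  change Function.Injective (IsLocalization.lift (M := nonZeroDivisors R)
    (g := (algebraMap R K)) hu)
  rw [IsLocalization.lift_injective_iff]
  intro x y
  constructor
  · intro h
    rw [IsFractionRing.injective R (FractionRing R) h]
  · intro h
    rw [hinj h]

theorem mem_range_fracLift_iff (hu : ∀ r : nonZeroDivisors R, IsUnit (algebraMap R K r)) (x : K) :
    x ∈ (fracLift hu).range ↔
      ∃ s ∈ nonZeroDivisors R, ∃ r : R, algebraMap R K s * x = algebraMap R K r := by
  constructor
  · rintro ⟨y, rfl⟩
    obtain ⟨r, s, rfl⟩ := IsLocalization.exists_mk'_eq (nonZeroDivisors R) y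
    refine ⟨s, s.2, r, ?_⟩
    have h := IsLocalization.mk'_spec (FractionRing R) r s
    have h2 := congrArg (fracLift hu) h
    rw [map_mul, fracLift_algebraMap, fracLift_algebraMap] at h2
    rw [mul_comm]
    exact h2
  · rintro ⟨s, hs, r, h⟩
    refine ⟨IsLocalization.mk' (FractionRing R) r ⟨s, hs⟩, ?_⟩
    have h1 := IsLocalization.mk'_spec (FractionRing R) r ⟨s, hs⟩
    have h2 := congrArg (fracLift hu) h1
    rw [map_mul, fracLift_algebraMap, fracLift_algebraMap] at h2
    have hunit := hu ⟨s, hs⟩
    apply hunit.mul_left_cancel
    rw [h, ← h2, mul_comm]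
    rfl

/-- The integral closure of `R` in its total ring of fractions, realized inside `K`. -/
theorem exists_ringEquiv_integralClosure (hu : ∀ r : nonZeroDivisors R, IsUnit (algebraMap R K r))
    (hinj : Function.Injective (algebraMap R K)) (W : Subring K)
    (hW : ∀ x, x ∈ W ↔ IsIntegral R x ∧
      ∃ s ∈ nonZeroDivisors R, ∃ r : R, algebraMap R K s * x = algebraMap R K r) :
    ∃ e : integralClosure R (FractionRing R) ≃+* W,
      ∀ x, ((e x : W) : K) = fracLift hu (x : FractionRing R) := by
  have hg := fracLift_injective hu hinj
  have hmem : ∀ x : integralClosure R (FractionRing R), fracLift hu (x : FractionRing R) ∈ W := by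
    intro x
    rw [hW]
    refine ⟨?_, (mem_range_fracLift_iff hu _).mp ⟨x, rfl⟩⟩
    exact (isIntegral_algHom_iff (fracLift hu) hg).mpr x.2
  let f : integralClosure R (FractionRing R) →+* W :=
    ((fracLift hu).toRingHom.comp (integralClosure R (FractionRing R)).val.toRingHom).codRestrict W
      hmem
  have hf : ∀ x, ((f x : W) : K) = fracLift hu (x : FractionRing R) := fun x => rfl
  have hbij : Function.Bijective f := by
    constructor
    · intro x y hxy
    
      have h1 : fracLift hu (x : FractionRing R) = fracLift hu (y : FractionRing R) := by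
        rw [← hf, ← hf, hxy]
      exact Subtype.ext (hg h1)
    · intro y
      obtain ⟨hint, hfr⟩ := (hW y).mp y.2
      obtain ⟨z, hz⟩ := (mem_range_fracLift_iff hu _).mpr hfr
      have hz' : fracLift hu z = y := hz
      have hzint : IsIntegral R z := by
        rw [← isIntegral_algHom_iff (fracLift hu) hg, hz']
        exact hint
      exact ⟨⟨z, hzint⟩, Subtype.ext hz'⟩
  exact ⟨RingEquiv.ofBijective f hbij, hf⟩

end General

section Sub
variable {R K R₀ : Type*} [CommRing R] [CommRing K] [Algebra R K] [CommRing R₀] [Algebra R₀ K]

/-- Subalgebra version of `exists_ringEquiv_integralClosure`. -/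
theorem exists_ringEquiv_integralClosure' (hu : ∀ r : nonZeroDivisors R, IsUnit (algebraMap R K r))
    (hinj : Function.Injective (algebraMap R K)) (W : Subalgebra R₀ K)
    (hW : ∀ x, x ∈ W ↔ IsIntegral R x ∧
      ∃ s ∈ nonZeroDivisors R, ∃ r : R, algebraMap R K s * x = algebraMap R K r) :
    ∃ e : integralClosure R (FractionRing R) ≃+* W,
      ∀ x, ((e x : W) : K) = fracLift hu (x : FractionRing R) := by
  obtain ⟨e, he⟩ := exists_ringEquiv_integralClosure hu hinj W.toSubring
    (fun x => by rw [Subalgebra.mem_toSubring]; exact hW x)
  exact ⟨e, he⟩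

end Sub

end Groth.Agent.Lib.Helper98.NormInFrac
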