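import Mathlib
import Groth.Agent.Lib.Helper98.GeomUnibranchFinite
import Groth.Agent.Lib.Helper3.BranchStrict
import Groth.Agent.Lib.Helper9.Hens.Dimension

/-!
# Counting geometric branches through homomorphisms of the normalization (helper98)

* `HomOver f c`: ring maps `R' → Ω` restricting to `c` along `f : R → R'`.
* `numGeomBranches_eq_card_homOver`: for a reduced local ring with finitely many minimal primes,
  `numGeomBranches R` is the number of maps from the normalization to the algebraic closure of the
  residue field over `R`.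
* `restrictHom_bijective`: if `A' ⊗_A D → D'/Rad(D')` is surjective with kernel
  `Rad(A') ⊗ D + A' ⊗ m_D`, restriction of such maps from `D'` to `A'` is bijective.
* `exists_closure_equiv`: identification of algebraic closures of residue fields.
* `injective_of_card_minimalPrimes_eq`: a surjection from an étale-covered reduced algebra is
  injective if the numbers of minimal primes agree.
-/

set_option autoImplicit false
set_option linter.style.haveILetI false
set_option linter.unusedSectionVars false
universe u
namespace Groth.Agent.Lib.Helper98.NormResidue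

open IsLocalRing TensorProduct Groth.Agent.Lib.Helper9

/-- Ring maps `R' → Ω` restricting to `c` along `f`. -/
def HomOver {R R' Ω : Type*} [CommRing R] [CommRing R'] [CommRing Ω] (f : R →+* R')
    (c : R →+* Ω) : Type _ :=
  {ρ : R' →+* Ω // ρ.comp f = c}

section HomOver
variable {R R₁ R₂ Ω Ω' : Type*} [CommRing R] [CommRing R₁] [CommRing R₂] [CommRing Ω] [CommRing Ω']

/-- Transport along an isomorphism of the source. -/
def HomOver.congrSource (f₁ : R →+* R₁) (f₂ : R →+* R₂) (c : R →+* Ω) (e : R₁ ≃+* R₂)
    (he : ∀ r, e (f₁ r) = f₂ r) : HomOver f₁ c ≃ HomOver f₂ c where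
  toFun ρ := ⟨ρ.1.comp (e.symm : R₂ →+* R₁), by
    ext r
    have h := DFunLike.congr_fun ρ.2 r
    simp only [RingHom.comp_apply] at h ⊢
    rw [← he r]
    simpa using h⟩
  invFun ρ := ⟨ρ.1.comp (e : R₁ →+* R₂), by
    ext r
    have h := DFunLike.congr_fun ρ.2 r
    simp only [RingHom.comp_apply] at h ⊢
    simpa [he r] using h⟩
  left_inv ρ := by
    apply Subtype.ext
    ext x
    simp
  right_inv ρ := by
    apply Subtype.ext
    ext x
    simp

/-- Transport along an isomorphism of the target. -/
def HomOver.congrTarget (f : R →+* R₁) (c : R →+* Ω) (σ : Ω ≃+* Ω') :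
    HomOver f c ≃ HomOver f ((σ : Ω →+* Ω').comp c) where
  toFun ρ := ⟨(σ : Ω →+* Ω').comp ρ.1, by rw [RingHom.comp_assoc, ρ.2]⟩
  invFun ρ := ⟨(σ.symm : Ω' →+* Ω).comp ρ.1, by
    rw [RingHom.comp_assoc, ρ.2]
    ext r
    simp⟩
  left_inv ρ := by
    apply Subtype.ext
    ext x
    simp
  right_inv ρ := by
    apply Subtype.ext
    ext x
    simp

end HomOver

/-- The number of geometric branches of a reduced local ring with finitely many minimal primes,
computed from the integral closure in the total ring of fractions. -/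
theorem numGeomBranches_eq_card_homOver (R : Type u) [CommRing R] [IsLocalRing R] [IsReduced R]
    (hmin : (minimalPrimes R).Finite) :
    Brnch.numGeomBranches R =
      ENat.card (HomOver (algebraMap R (integralClosure R (FractionRing R))) (Brnch.toClosure R)) := by
  unfold Brnch.numGeomBranches
  rw [if_pos hmin]
  haveI hint1 : Algebra.IsIntegral R (CAlg2.red R) :=
    Algebra.isIntegral_of_surjective Ideal.Quotient.mk_surjective
  haveI hint : Algebra.IsIntegral R (CAlg2.normRed R) :=
    Algebra.IsIntegral.trans (R := R) (A := CAlg2.red R) (B := CAlg2.normRed R)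
  obtain ⟨e1⟩ := Groth.Agent.Lib.Helper3.Branch.nonempty_equiv_embSigma_closureHom R (CAlg2.normRed R)
  have e2 : HomOver (algebraMap R (integralClosure R (FractionRing R))) (Brnch.toClosure R) ≃
      Groth.Agent.Lib.Helper3.Branch.ClosureHom R (CAlg2.normRed R) :=
    HomOver.congrSource _ (algebraMap R (CAlg2.normRed R)) _
      (Groth.Agent.Lib.Helper98.GeomUnibranchFinite.normEquiv R) (fun r => by
        rw [Groth.Agent.Lib.Helper98.GeomUnibranchFinite.normEquiv_algebraMap]
        rfl)
  exact ENat.card_congr (e1.trans e2.symm)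

section Restrict

variable {A D A' D' Ω : Type*} [CommRing A] [CommRing D] [IsLocalRing D] [Algebra A D]
  [CommRing A'] [Algebra A A'] [CommRing D'] [Algebra A D'] [Field Ω]
  (incl : A' →ₐ[A] D') (ι : D →ₐ[A] D') (c : D →+* Ω)

/-- Restriction of homomorphisms from `D'` to `A'`. -/
def restrictHom (ρ : HomOver (ι : D →+* D') c) :
    HomOver (algebraMap A A') (c.comp (algebraMap A D)) :=
  ⟨ρ.1.comp (incl : A' →+* D'), by
    ext a
    have h := DFunLike.congr_fun ρ.2 (algebraMap A D a)
    simp only [RingHom.comp_apply, RingHom.coe_coe, AlgHom.commutes] at h ⊢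
    exact h⟩

variable (hint : (ι : D →+* D').IsIntegral) [Algebra.IsIntegral A A']
  (hc : RingHom.ker c = maximalIdeal D)
  (hmA : (RingHom.ker (c.comp (algebraMap A D))).IsMaximal)
  (hsurj : Function.Surjective ((Ideal.Quotient.mkₐ A (Ideal.jacobson (⊥ : Ideal D'))).comp
          (Algebra.TensorProduct.productMap incl ι)))
  (hker : RingHom.ker ((Ideal.Quotient.mkₐ A (Ideal.jacobson (⊥ : Ideal D'))).comp
          (Algebra.TensorProduct.productMap incl ι)) =
          (Ideal.jacobson (⊥ : Ideal A')).map
              (Algebra.TensorProduct.includeLeft : A' →ₐ[A] A' ⊗[A] D) ⊔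
            (maximalIdeal D).map
              (Algebra.TensorProduct.includeRight : D →ₐ[A] A' ⊗[A] D))

include hint hc in
theorem isMaximal_ker_homOver (ρ : HomOver (ι : D →+* D') c) : (RingHom.ker ρ.1).IsMaximal := by
  haveI : (RingHom.ker ρ.1).IsPrime := RingHom.ker_isPrime ρ.1
  apply Ideal.isMaximal_of_isIntegral_of_isMaximal_comap' (ι : D →+* D') hint
  rw [RingHom.comap_ker, ρ.2, hc]
  exact maximalIdeal.isMaximal D

include hint hc in
theorem jacobson_le_ker_homOver (ρ : HomOver (ι : D →+* D') c) :
    Ideal.jacobson (⊥ : Ideal D') ≤ RingHom.ker ρ.1 := by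
  haveI hmax := isMaximal_ker_homOver ι c hint hc ρ
  exact (Ideal.jacobson_mono bot_le).trans (le_of_eq Ideal.jacobson_eq_self_of_isMaximal)

omit [Algebra.IsIntegral A A'] in
include hint hc hsurj in
theorem restrictHom_injective : Function.Injective (restrictHom incl ι c) := by
  intro ρ₁ ρ₂ h
  have h' : ρ₁.1.comp (incl : A' →+* D') = ρ₂.1.comp (incl : A' →+* D') :=
    congrArg Subtype.val h
  -- the two maps agree on the image of the product map
  have hprod : ∀ t : A' ⊗[A] D, ρ₁.1 (Algebra.TensorProduct.productMap incl ι t) =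
      ρ₂.1 (Algebra.TensorProduct.productMap incl ι t) := by
    intro t
    induction t with
    | zero => simp
    | add x y hx hy => rw [map_add, map_add, map_add, hx, hy]
    | tmul a d =>
      rw [Algebra.TensorProduct.productMap_apply_tmul, map_mul, map_mul]
      have h1 := DFunLike.congr_fun h' a
      have h2 := DFunLike.congr_fun ρ₁.2 d
      have h3 := DFunLike.congr_fun ρ₂.2 d
      simp only [RingHom.comp_apply, RingHom.coe_coe] at h1 h2 h3
      rw [h1, h2, h3]
  apply Subtype.ext
  ext x
  obtain ⟨t, ht⟩ := hsurj (Ideal.Quotient.mk _ x)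
  have ht' : Ideal.Quotient.mk (Ideal.jacobson (⊥ : Ideal D'))
      (Algebra.TensorProduct.productMap incl ι t) = Ideal.Quotient.mk _ x := ht
  rw [Ideal.Quotient.eq] at ht'
  have k1 := jacobson_le_ker_homOver ι c hint hc ρ₁ ht'
  have k2 := jacobson_le_ker_homOver ι c hint hc ρ₂ ht'
  rw [RingHom.mem_ker, map_sub, sub_eq_zero] at k1 k2
  rw [← k1, ← k2, hprod]

include hc hmA hsurj hker in
theorem restrictHom_surjective : Function.Surjective (restrictHom incl ι c) := by
  intro τ
  -- `Ω` as an `A`-algebra
  letI : Algebra A Ω := (c.comp (algebraMap A D)).toAlgebra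
  let τa : A' →ₐ[A] Ω := { τ.1 with commutes' := fun a => DFunLike.congr_fun τ.2 a }
  let ca : D →ₐ[A] Ω := { c with commutes' := fun a => rfl }
  let ψ : A' ⊗[A] D →ₐ[A] Ω := Algebra.TensorProduct.productMap τa ca
  -- the kernel of `τ` is a maximal ideal
  have hτmax : (RingHom.ker τ.1).IsMaximal := by
    haveI : (RingHom.ker τ.1).IsPrime := RingHom.ker_isPrime τ.1
    apply Ideal.isMaximal_of_isIntegral_of_isMaximal_comap (R := A)
    rw [RingHom.comap_ker, τ.2]
    exact hmA
  have hJ : Ideal.jacobson (⊥ : Ideal A') ≤ RingHom.ker τ.1 := by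
    haveI := hτmax
    exact (Ideal.jacobson_mono bot_le).trans (le_of_eq Ideal.jacobson_eq_self_of_isMaximal)
  set π := (Ideal.Quotient.mkₐ A (Ideal.jacobson (⊥ : Ideal D'))).comp
          (Algebra.TensorProduct.productMap incl ι) with hπ
  have hle : RingHom.ker (π : A' ⊗[A] D →+* D' ⧸ Ideal.jacobson (⊥ : Ideal D')) ≤
      RingHom.ker (ψ : A' ⊗[A] D →+* Ω) := by
    have hker' : RingHom.ker (π : A' ⊗[A] D →+* D' ⧸ Ideal.jacobson (⊥ : Ideal D')) =
        (Ideal.jacobson (⊥ : Ideal A')).map
              (Algebra.TensorProduct.includeLeft : A' →ₐ[A] A' ⊗[A] D) ⊔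
            (maximalIdeal D).map
              (Algebra.TensorProduct.includeRight : D →ₐ[A] A' ⊗[A] D) := hker
    rw [hker']
    apply sup_le
    · rw [Ideal.map_le_iff_le_comap]
      intro a ha
      rw [Ideal.mem_comap, RingHom.mem_ker]
      change ψ (a ⊗ₜ 1) = 0
      rw [Algebra.TensorProduct.productMap_apply_tmul, map_one, mul_one]
      exact hJ ha
    · rw [Ideal.map_le_iff_le_comap]
      intro d hd
      rw [Ideal.mem_comap, RingHom.mem_ker]
      change ψ (1 ⊗ₜ d) = 0
      rw [Algebra.TensorProduct.productMap_apply_tmul, map_one, one_mul]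
      rw [← hc] at hd
      exact hd
  let ρbar : D' ⧸ Ideal.jacobson (⊥ : Ideal D') →+* Ω :=
    RingHom.liftOfSurjective (π : A' ⊗[A] D →+* D' ⧸ Ideal.jacobson (⊥ : Ideal D')) hsurj
      ⟨(ψ : A' ⊗[A] D →+* Ω), hle⟩
  have hρbar : ∀ t : A' ⊗[A] D, ρbar (π t) = ψ t := fun t =>
    RingHom.liftOfSurjective_comp_apply _ hsurj ⟨(ψ : A' ⊗[A] D →+* Ω), hle⟩ t
  let ρ : D' →+* Ω := ρbar.comp (Ideal.Quotient.mk _)
  have hρι : ρ.comp (ι : D →+* D') = c := by
    ext d
    have h1 : π (1 ⊗ₜ d) = Ideal.Quotient.mk _ (ι d) := by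
      rw [hπ]
      simp
    change ρbar (Ideal.Quotient.mk _ (ι d)) = c d
    rw [← h1, hρbar]
    change Algebra.TensorProduct.productMap τa ca (1 ⊗ₜ d) = c d
    rw [Algebra.TensorProduct.productMap_apply_tmul, map_one, one_mul]
    rfl
  refine ⟨⟨ρ, hρι⟩, ?_⟩
  apply Subtype.ext
  ext a
  have h1 : π (a ⊗ₜ 1) = Ideal.Quotient.mk _ (incl a) := by
    rw [hπ]
    simp
  change ρbar (Ideal.Quotient.mk _ (incl a)) = τ.1 a
  rw [← h1, hρbar]
  change Algebra.TensorProduct.productMap τa ca (a ⊗ₜ 1) = τ.1 a
  rw [Algebra.TensorProduct.productMap_apply_tmul, map_one, mul_one]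
  rfl

include hint hc hmA hsurj hker in
theorem restrictHom_bijective : Function.Bijective (restrictHom incl ι c) :=
  ⟨restrictHom_injective incl ι c hint hc hsurj,
    restrictHom_surjective incl ι c hc hmA hsurj hker⟩

end Restrict

theorem exists_closure_equiv (A D : Type u) [CommRing A] [IsLocalRing A] [CommRing D]
    [IsLocalRing D] [Algebra A D] [IsLocalHom (algebraMap A D)]
    [Algebra.IsAlgebraic (ResidueField A) (ResidueField D)] :
    ∃ σ : AlgebraicClosure (ResidueField A) ≃+* AlgebraicClosure (ResidueField D),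
      (σ : AlgebraicClosure (ResidueField A) →+* AlgebraicClosure (ResidueField D)).comp
        (Brnch.toClosure A) = (Brnch.toClosure D).comp (algebraMap A D) := by
  haveI : IsScalarTower (ResidueField A) (ResidueField D) (AlgebraicClosure (ResidueField D)) :=
    inferInstance
  haveI : Algebra.IsAlgebraic (ResidueField A) (AlgebraicClosure (ResidueField D)) :=
    Algebra.IsAlgebraic.trans (ResidueField A) (ResidueField D) _
  haveI : IsAlgClosure (ResidueField A) (AlgebraicClosure (ResidueField D)) :=
    ⟨inferInstance, inferInstance⟩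
  let σ := IsAlgClosure.equiv (ResidueField A) (AlgebraicClosure (ResidueField A))
    (AlgebraicClosure (ResidueField D))
  refine ⟨σ.toRingEquiv, ?_⟩
  ext a
  change σ (algebraMap (ResidueField A) (AlgebraicClosure (ResidueField A)) (residue A a)) =
    algebraMap (ResidueField D) (AlgebraicClosure (ResidueField D)) (residue D (algebraMap A D a))
  rw [σ.commutes, IsScalarTower.algebraMap_apply (ResidueField A) (ResidueField D)
    (AlgebraicClosure (ResidueField D)), ResidueField.algebraMap_residue]

section MinCount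
variable {D T S : Type u} [CommRing D] [CommRing T] [CommRing S] [Algebra D T] [Algebra D S]
  [IsReduced T]

/-- A surjection from an étale-covered reduced `D`-algebra `T` onto `S` is injective as soon as
`T` and `S` have the same finite number of minimal primes and minimal primes of `S` contract to
minimal primes of `D`. -/
theorem injective_of_card_minimalPrimes_eq (hcov : IsEtaleCovered D T) (φ : T →ₐ[D] S)
    (hφ : Function.Surjective φ)
    (hmin : ∀ Q ∈ minimalPrimes S, Q.comap (algebraMap D S) ∈ minimalPrimes D)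
    (hfin : (minimalPrimes S).Finite)
    (hcard : ENat.card (minimalPrimes T) = ENat.card (minimalPrimes S)) :
    Function.Injective φ := by
  classical
  have hF : ∀ Q ∈ minimalPrimes S, Q.comap (φ : T →+* S) ∈ minimalPrimes T := by
    intro Q hQ
    haveI : Q.IsPrime := hQ.1.1
    haveI hP : (Q.comap (φ : T →+* S)).IsPrime := Ideal.comap_isPrime _ _
    obtain ⟨P', hP', hle⟩ := Ideal.exists_minimalPrimes_le (I := (⊥ : Ideal T))
      (J := Q.comap (φ : T →+* S)) bot_le
    haveI : P'.IsPrime := hP'.1.1
    have hunder : (Q.comap (φ : T →+* S)).under D = Q.comap (algebraMap D S) := by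
      change (Q.comap (φ : T →+* S)).comap (algebraMap D T) = _
      rw [Ideal.comap_comap, AlgHom.comp_algebraMap]
    have h1 : P'.under D ≤ (Q.comap (φ : T →+* S)).under D := Ideal.comap_mono hle
    have h2 : (Q.comap (φ : T →+* S)).under D ≤ P'.under D := by
      rw [hunder]
      have hmQ := hmin Q hQ
      haveI : (P'.under D).IsPrime := Ideal.comap_isPrime _ _
      exact hmQ.2 ⟨inferInstance, bot_le⟩ (by rw [← hunder]; exact h1)
    rcases eq_or_lt_of_le hle with h | h
    · rw [← h]; exact hP'
    · exact absurd (hcov.under_lt_under h) (not_lt_of_ge h2)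
  have hfinS : Finite (minimalPrimes S) := hfin.to_subtype
  have hfinT : Finite (minimalPrimes T) := by
    rw [← ENat.card_lt_top, hcard, ENat.card_lt_top]
    exact hfinS
  let F : minimalPrimes S → minimalPrimes T := fun Q => ⟨Q.1.comap (φ : T →+* S), hF Q.1 Q.2⟩
  have hFinj : Function.Injective F := by
    intro Q₁ Q₂ h
    have h' : Q₁.1.comap (φ : T →+* S) = Q₂.1.comap (φ : T →+* S) := congrArg Subtype.val h
    exact Subtype.ext (Ideal.comap_injective_of_surjective (φ : T →+* S) hφ h')
  have hFbij : Function.Bijective F := by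
    letI := Fintype.ofFinite (minimalPrimes S)
    letI := Fintype.ofFinite (minimalPrimes T)
    rw [Fintype.bijective_iff_injective_and_card]
    refine ⟨hFinj, ?_⟩
    rw [ENat.card_eq_coe_fintype_card, ENat.card_eq_coe_fintype_card] at hcard
    exact (Nat.cast_injective hcard).symm
  rw [injective_iff_map_eq_zero]
  intro x hx
  have hxnil : x ∈ nilradical T := by
    rw [nilradical_eq_sInf, Ideal.mem_sInf]
    intro P hP
    haveI : P.IsPrime := hP
    obtain ⟨P', hP', hle⟩ := Ideal.exists_minimalPrimes_le (I := (⊥ : Ideal T)) (J := P) bot_le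
    obtain ⟨Q, hQ⟩ := hFbij.2 ⟨P', hP'⟩
    apply hle
    have : P' = Q.1.comap (φ : T →+* S) := (congrArg Subtype.val hQ).symm
    rw [this, Ideal.mem_comap]
    change φ x ∈ Q.1
    rw [hx]
    exact Q.1.zero_mem
  rw [nilradical_eq_zero, Ideal.zero_eq_bot, Ideal.mem_bot] at hxnil
  exact hxnil

end MinCount

end Groth.Agent.Lib.Helper98.NormResidue
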