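import Mathlib
import Groth.Agent.Lib.Helper98.NormInFrac
import Groth.Agent.Lib.Helper98.NormResidueA
import Groth.Agent.Lib.Helper3.FracSub
import Groth.Agent.Lib.Helper3.EssEtaleSub2
import Groth.Agent.Lib.Helper36.StrictHensWE
import Groth.Agent.S9238

/-!
# Subrings of a strict henselization whose normalization has the expected residue fields (helper98)

`isStrictHenselization_sub_of_residue`: for a local subalgebra `D` of `S = A^sh` (dominated by `S`, total ring of
fractions obtained by inverting the non-zero-divisors of `A`), if `A' ⊗_A D → D'/Rad(D')` is surjective with kernel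
`Rad(A') ⊗ D + A' ⊗ m_D`, then `S` is a strict henselization of `D`.
-/

set_option autoImplicit false
set_option linter.style.haveILetI false
set_option linter.unusedSectionVars false
universe u
namespace Groth.Agent.Lib.Helper98.NormResidue

open IsLocalRing TensorProduct Groth.Agent.Lib.Helper9 Groth.Agent.Lib.Helper9.HensK
  Groth.Agent.Lib.Helper3.FracEssEtale Groth.Agent.Lib.Helper98.NormInFrac

section Concrete
variable (A S : Type u) [CommRing A] [IsLocalRing A] [IsReduced A] [IsNoetherianRing A]
  [CommRing S] [IsLocalRing S] [Algebra A S] [IsLocalHom (algebraMap A S)]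
  [Hensel.IsStrictHenselization A S] (D : Subalgebra A S)

include A in
theorem isReduced_sh : IsReduced S := by
  have hnil := nilradical_eq_map_of_isStrictHenselization A S
  rw [nilradical_eq_zero A, Ideal.zero_eq_bot, Ideal.map_bot] at hnil
  exact nilradical_eq_bot_iff.mp hnil

theorem isUnit_algebraMap_base (r : nonZeroDivisors A) :
    IsUnit (algebraMap A (FractionRing S) r) := by
  haveI : Module.Flat A S := flat_of_isStrictHenselization A S
  have h1 : algebraMap A S r ∈ nonZeroDivisors S :=
    imNZD_le_nonZeroDivisors A S ⟨r, r.2, rfl⟩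
  rw [IsScalarTower.algebraMap_apply A S (FractionRing S)]
  exact IsLocalization.map_units (FractionRing S) (⟨_, h1⟩ : nonZeroDivisors S)

theorem isUnit_algebraMap_sub (r : nonZeroDivisors D) :
    IsUnit (algebraMap D (FractionRing S) r) := by
  haveI : Module.Flat A S := flat_of_isStrictHenselization A S
  have hmin : (minimalPrimes A).Finite := minimalPrimes.finite_of_isNoetherianRing A
  have hcov := isEtaleCoveredFin_of_isStrictHenselization A S
  have h1 : ((r : D) : S) ∈ nonZeroDivisors S :=
    Groth.Agent.Lib.Helper3.FracSub.mem_nonZeroDivisors_of_subalgebra hmin hcov D r r.2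
  exact IsLocalization.map_units (FractionRing S) (⟨_, h1⟩ : nonZeroDivisors S)

theorem injective_algebraMap_sub : Function.Injective (algebraMap D (FractionRing S)) := by
  intro x y h
  exact Subtype.ext (IsFractionRing.injective S (FractionRing S) h)

theorem injective_algebraMap_base : Function.Injective (algebraMap A (FractionRing S)) := by
  haveI : Module.FaithfullyFlat A S := Groth.Agent.S0539.result A S
  rw [IsScalarTower.algebraMap_eq A S (FractionRing S)]
  exact (IsFractionRing.injective S (FractionRing S)).comp
    (FaithfulSMul.algebraMap_injective A S)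

theorem finite_minimalPrimes_sub : (minimalPrimes D).Finite := by
  haveI : IsNoetherianRing S := (isNoetherianRing_iff_of_isStrictHenselization A S).mp inferInstance
  have hS : (minimalPrimes S).Finite := minimalPrimes.finite_of_isNoetherianRing S
  refine (hS.image (Ideal.comap (algebraMap D S))).subset ?_
  intro p hp
  have hp' : p ∈ ((⊥ : Ideal S).comap (algebraMap D S)).minimalPrimes := by
    rwa [Ideal.comap_bot_of_injective _ Subtype.val_injective]
  obtain ⟨q, hq, rfl⟩ := Ideal.exists_minimalPrimes_comap_eq (algebraMap D S) p hp'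
  exact ⟨q, hq, rfl⟩

theorem comap_mem_minimalPrimes_sub (Q : Ideal S) (hQ : Q ∈ minimalPrimes S) :
    Q.comap (algebraMap D S) ∈ minimalPrimes D := by
  haveI : IsReduced S := isReduced_sh A S
  haveI : IsReduced D := isReduced_of_injective D.val Subtype.val_injective
  haveI : Module.Flat A S := flat_of_isStrictHenselization A S
  have hmin : (minimalPrimes A).Finite := minimalPrimes.finite_of_isNoetherianRing A
  have hcov := isEtaleCoveredFin_of_isStrictHenselization A S
  haveI : Q.IsPrime := hQ.1.1
  haveI : (Q.comap (algebraMap D S)).IsPrime := Ideal.comap_isPrime _ _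
  apply Groth.Agent.Lib.Helper3.TotalFrac.mem_minimalPrimes_of_disjoint_nonZeroDivisors
    (finite_minimalPrimes_sub A S D)
  rw [Set.disjoint_left]
  intro x hx hxQ
  have h1 : (x : S) ∈ nonZeroDivisors S :=
    Groth.Agent.Lib.Helper3.FracSub.mem_nonZeroDivisors_of_subalgebra hmin hcov D x hx
  have h2 : Disjoint (nonZeroDivisors S : Set S) (Q : Set S) :=
    (Ideal.disjoint_nonZeroDivisors_of_mem_minimalPrimes hQ).symm
  exact Set.disjoint_left.mp h2 h1 hxQ


section Main
variable [IsLocalRing D] [IsLocalHom (algebraMap D S)]
  (A' D' : Subalgebra A (FractionRing S))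
  (hA' : ∀ x : (FractionRing S), x ∈ A' ↔ (IsIntegral A x ∧
      ∃ a ∈ nonZeroDivisors A, ∃ b : A, algebraMap A (FractionRing S) a * x = algebraMap A (FractionRing S) b))
  (hD' : ∀ x : (FractionRing S), x ∈ D' ↔ (IsIntegral D x ∧
      ∃ a ∈ nonZeroDivisors A, ∃ d ∈ D, algebraMap A (FractionRing S) a * x = algebraMap S (FractionRing S) d))
  (hle : A' ≤ D') (ι : D →ₐ[A] D') (hι : ∀ d : D, (ι d : (FractionRing S)) = algebraMap S (FractionRing S) d)
  (hloc : IsLocalization (imNZD A D) (FractionRing D))

include hA' in
theorem exists_equiv_base : ∃ e : integralClosure A (FractionRing A) ≃+* A',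
    ∀ a : A, e (algebraMap A (integralClosure A (FractionRing A)) a) = algebraMap A A' a := by
  obtain ⟨e, he⟩ := exists_ringEquiv_integralClosure' (isUnit_algebraMap_base A S)
    (injective_algebraMap_base A S) A' hA'
  refine ⟨e, fun a => Subtype.ext ?_⟩
  rw [he]
  exact fracLift_algebraMap _ a

include hD' hι hloc in
theorem exists_equiv_sub : ∃ e : integralClosure D (FractionRing D) ≃+* D',
    ∀ d : D, e (algebraMap D (integralClosure D (FractionRing D)) d) = ι d := by
  haveI : Module.Flat A S := flat_of_isStrictHenselization A S
  have hW : ∀ x : FractionRing S, x ∈ D' ↔ IsIntegral D x ∧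
      ∃ s ∈ nonZeroDivisors D, ∃ r : D,
        algebraMap D (FractionRing S) s * x = algebraMap D (FractionRing S) r := by
    intro x
    rw [hD']
    refine and_congr_right fun _ => ⟨?_, ?_⟩
    · rintro ⟨a, ha, d, hd, h⟩
      refine ⟨algebraMap A D a,
        Groth.Agent.Lib.Helper3.FracSub.imNZD_le_of_subalgebra D ⟨a, ha, rfl⟩, ⟨d, hd⟩, ?_⟩
      change algebraMap S (FractionRing S) (algebraMap A S a) * x =
        algebraMap S (FractionRing S) d
      rw [← h, IsScalarTower.algebraMap_apply A S (FractionRing S)]
    · rintro ⟨s, hs, r, h⟩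
      have hsu : IsUnit (algebraMap D (FractionRing D) s) :=
        IsLocalization.map_units (FractionRing D) (⟨s, hs⟩ : nonZeroDivisors D)
      obtain ⟨⟨d', m⟩, hdm⟩ := IsLocalization.surj (imNZD A D) (↑hsu.unit⁻¹ : FractionRing D)
      obtain ⟨a, ha, ham⟩ := m.2
      have h1 : algebraMap D (FractionRing D) (m : D) =
          algebraMap D (FractionRing D) (s * d') := by
        rw [map_mul, ← hdm]
        change _ = algebraMap D (FractionRing D) s * (↑hsu.unit⁻¹ * _)
        rw [← mul_assoc, IsUnit.mul_val_inv, one_mul]
      have h2 : (m : D) = s * d' := IsFractionRing.injective D (FractionRing D) h1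
      refine ⟨a, ha, ((d' * r : D) : S), (d' * r).2, ?_⟩
      have h3 : algebraMap A (FractionRing S) a = algebraMap D (FractionRing S) (s * d') := by
        rw [← h2, ← ham, IsScalarTower.algebraMap_apply A S (FractionRing S)]
        rfl
      rw [h3, map_mul, mul_right_comm, h]
      change _ = algebraMap D (FractionRing S) (d' * r)
      rw [map_mul, mul_comm]
  obtain ⟨e, he⟩ := exists_ringEquiv_integralClosure' (isUnit_algebraMap_sub A S D)
    (injective_algebraMap_sub A S D) D' hW
  refine ⟨e, fun d => Subtype.ext ?_⟩
  rw [he, hι]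
  exact fracLift_algebraMap _ d

include hD' hι in
theorem isIntegral_iota : (ι : D →+* D').IsIntegral := by
  intro x
  obtain ⟨p, hp, hpx⟩ := ((hD' x.1).mp x.2).1
  refine ⟨p, hp, ?_⟩
  apply Subtype.ext
  have h1 : ((Polynomial.eval₂ (ι : D →+* D') x p : D') : FractionRing S) =
      Polynomial.eval₂ ((D'.val : D' →+* FractionRing S).comp (ι : D →+* D')) (x : FractionRing S) p :=
    Polynomial.hom_eval₂ p (ι : D →+* D') (D'.val : D' →+* FractionRing S) x
  rw [h1]
  have h2 : (D'.val : D' →+* FractionRing S).comp (ι : D →+* D') = algebraMap D (FractionRing S) := by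
    ext d
    exact hι d
  rw [h2]
  exact hpx

include hA' in
theorem isIntegral_base : Algebra.IsIntegral A A' := by
  constructor
  intro x
  have h := ((hA' x.1).mp x.2).1
  exact (isIntegral_algHom_iff A'.val Subtype.val_injective).mp h


include hA' hD' hι hloc in
theorem numGeomBranches_sub_eq
    (hsurj : Function.Surjective ((Ideal.Quotient.mkₐ A (Ideal.jacobson (⊥ : Ideal D'))).comp
          (Algebra.TensorProduct.productMap (Subalgebra.inclusion hle) ι)))
    (hker : RingHom.ker ((Ideal.Quotient.mkₐ A (Ideal.jacobson (⊥ : Ideal D'))).comp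
          (Algebra.TensorProduct.productMap (Subalgebra.inclusion hle) ι)) =
          (Ideal.jacobson (⊥ : Ideal A')).map
              (Algebra.TensorProduct.includeLeft : A' →ₐ[A] A' ⊗[A] D) ⊔
            (maximalIdeal D).map
              (Algebra.TensorProduct.includeRight : D →ₐ[A] A' ⊗[A] D)) :
    Brnch.numGeomBranches D = Brnch.numGeomBranches A := by
  haveI : IsReduced S := isReduced_sh A S
  haveI : IsReduced D := isReduced_of_injective D.val Subtype.val_injective
  haveI hADloc : IsLocalHom (algebraMap A D) :=
    Groth.Agent.Lib.Helper3.EssEtaleSub.isLocalHom_algebraMap_subalgebra D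
  have hS : Hensel.IsStrictHenselization A S := inferInstance
  haveI : IsSepClosure (ResidueField A) (ResidueField S) := hS.isSepClosure
  haveI : Algebra.IsSeparable (ResidueField A) (ResidueField S) := hS.isSepClosure.separable
  haveI : Algebra.IsAlgebraic (ResidueField A) (ResidueField S) :=
    Algebra.IsSeparable.isAlgebraic _ _
  haveI : Algebra.IsAlgebraic (ResidueField A) (ResidueField D) :=
    Algebra.IsAlgebraic.tower_bot (ResidueField A) (ResidueField D) (ResidueField S)
  obtain ⟨σ, hσ⟩ := exists_closure_equiv A D
  obtain ⟨eA, heA⟩ := exists_equiv_base A S A' hA'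
  obtain ⟨eD, heD⟩ := exists_equiv_sub A S D D' hD' ι hι hloc
  have hint := isIntegral_iota A S D D' hD' ι hι
  haveI := isIntegral_base A S A' hA'
  have hc : RingHom.ker (Brnch.toClosure D) = maximalIdeal D :=
    Groth.Agent.Lib.Helper3.Branch.ker_toClosure D
  have hmA : (RingHom.ker ((Brnch.toClosure D).comp (algebraMap A D))).IsMaximal := by
    rw [← RingHom.comap_ker, hc,
      ((local_hom_TFAE (algebraMap A D)).out 0 4 rfl rfl).mp inferInstance]
    exact maximalIdeal.isMaximal A
  rw [numGeomBranches_eq_card_homOver D (finite_minimalPrimes_sub A S D),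
      numGeomBranches_eq_card_homOver A (minimalPrimes.finite_of_isNoetherianRing A)]
  have e1 : HomOver (algebraMap D (integralClosure D (FractionRing D))) (Brnch.toClosure D) ≃
      HomOver (ι : D →+* D') (Brnch.toClosure D) :=
    HomOver.congrSource _ _ _ eD heD
  have e2 : HomOver (ι : D →+* D') (Brnch.toClosure D) ≃
      HomOver (algebraMap A A') ((Brnch.toClosure D).comp (algebraMap A D)) :=
    Equiv.ofBijective _ (restrictHom_bijective (Subalgebra.inclusion hle) ι (Brnch.toClosure D)
      hint hc hmA hsurj hker)
  have e3 : HomOver (algebraMap A A') (Brnch.toClosure A) ≃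
      HomOver (algebraMap A A') ((σ : AlgebraicClosure (ResidueField A) →+*
        AlgebraicClosure (ResidueField D)).comp (Brnch.toClosure A)) :=
    HomOver.congrTarget _ _ σ
  have e4 : HomOver (algebraMap A (integralClosure A (FractionRing A))) (Brnch.toClosure A) ≃
      HomOver (algebraMap A A') (Brnch.toClosure A) :=
    HomOver.congrSource _ _ _ eA heA
  rw [hσ] at e3
  exact ENat.card_congr (e1.trans (e2.trans (e3.symm.trans e4.symm)))

include hA' hD' hι hloc in
/-- If the residual field products of the normalizations match, `S` is also a strict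
henselization of `D`. -/
theorem isStrictHenselization_sub_of_residue
    (hsurj : Function.Surjective ((Ideal.Quotient.mkₐ A (Ideal.jacobson (⊥ : Ideal D'))).comp
          (Algebra.TensorProduct.productMap (Subalgebra.inclusion hle) ι)))
    (hker : RingHom.ker ((Ideal.Quotient.mkₐ A (Ideal.jacobson (⊥ : Ideal D'))).comp
          (Algebra.TensorProduct.productMap (Subalgebra.inclusion hle) ι)) =
          (Ideal.jacobson (⊥ : Ideal A')).map
              (Algebra.TensorProduct.includeLeft : A' →ₐ[A] A' ⊗[A] D) ⊔
            (maximalIdeal D).map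
              (Algebra.TensorProduct.includeRight : D →ₐ[A] A' ⊗[A] D)) :
    Hensel.IsStrictHenselization D S := by
  haveI : IsReduced S := isReduced_sh A S
  haveI : IsReduced D := isReduced_of_injective D.val Subtype.val_injective
  haveI : IsNoetherianRing S := (isNoetherianRing_iff_of_isStrictHenselization A S).mp inferInstance
  have hnum := numGeomBranches_sub_eq A S D A' D' hA' hD' hle ι hι hloc hsurj hker
  have c1 : ENat.card (minimalPrimes (StrictHenselization D)) = Brnch.numGeomBranches D :=
    Groth.Agent.S9238.result D (StrictHenselization D)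
  have c2 : ENat.card (minimalPrimes S) = Brnch.numGeomBranches A := Groth.Agent.S9238.result A S
  obtain ⟨φ, hφ⟩ := Groth.Agent.Lib.Helper98.GeomUnibranchFinite.exists_surjective_algHom_strictHenselization A D S
  haveI : IsReduced (StrictHenselization D) := by
    have hnil := nilradical_eq_map_of_isStrictHenselization D (StrictHenselization D)
    rw [nilradical_eq_zero D, Ideal.zero_eq_bot, Ideal.map_bot] at hnil
    exact nilradical_eq_bot_iff.mp hnil
  have hinj : Function.Injective φ :=
    injective_of_card_minimalPrimes_eq
      (isEtaleCovered_of_isStrictHenselization (R := D) (S := StrictHenselization D)) φ hφ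
      (comap_mem_minimalPrimes_sub A S D) (minimalPrimes.finite_of_isNoetherianRing S)
      (by rw [c1, c2, hnum])
  exact Groth.Agent.Lib.Helper36.StrictHensWE.isStrictHenselization_of_algEquiv D (StrictHenselization D) S
    (AlgEquiv.ofBijective φ ⟨hinj, hφ⟩)

end Main

end Concrete

end Groth.Agent.Lib.Helper98.NormResidue
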