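import Mathlib
import Groth.Agent.Lib.Helper98.NormResidueB
import Groth.Prelude.Def_EssEt

/-!
# The normalization of an essentially étale local algebra (helper98)

* `toIntegralClosure_bijective_of_isEssentiallyEtale`: integral closure commutes with essentially étale base change
  (from Mathlib's smooth base change theorem).
* `jacobson_tensor_eq`: `Rad(A' ⊗_A D) = Rad(A') ⊗ D + A' ⊗ m_D` for `A'` integral semilocal over the local ring `A`
  and `D` local essentially unramified over `A`.
* `productMap_bijective`: for an essentially étale local subalgebra `D` of `S = A^sh`, the normalization of `D`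
  (inside `Frac S`) is `A' ⊗_A D`.
-/

set_option autoImplicit false
set_option linter.style.haveILetI false
set_option linter.unusedSectionVars false
universe u
namespace Groth.Agent.Lib.Helper98.NormEssEtale

open IsLocalRing TensorProduct Groth.Agent.Lib.Helper9 Groth.Agent.Lib.Helper9.HensK
  Groth.Agent.Lib.Helper3.FracEssEtale Groth.Agent.Lib.Helper98.NormInFrac
  Groth.Agent.Lib.Helper98.NormResidue

/-- Integral closure commutes with essentially étale base change. -/
theorem toIntegralClosure_bijective_of_isEssentiallyEtale {A D : Type u} [CommRing A]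
    [IsLocalRing A] [CommRing D] [Algebra A D] (hD : EGA4loc.IsEssentiallyEtale A D)
    (B : Type u) [CommRing B] [Algebra A B] :
    Function.Bijective (TensorProduct.toIntegralClosure A D B) := by
  obtain ⟨C, _, _, q, _, hC, hq, ⟨e⟩⟩ := hD
  letI : Algebra C D :=
    ((e.symm : Localization.AtPrime q →ₐ[A] D).toRingHom.comp
      (algebraMap C (Localization.AtPrime q))).toAlgebra
  haveI : IsScalarTower A C D := IsScalarTower.of_algebraMap_eq (fun a => by
    change algebraMap A D a = e.symm (algebraMap C (Localization.AtPrime q) (algebraMap A C a))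
    rw [← IsScalarTower.algebraMap_apply A C (Localization.AtPrime q), e.symm.commutes])
  let e' : Localization.AtPrime q ≃ₐ[C] D :=
    AlgEquiv.ofRingEquiv (f := e.symm.toRingEquiv) (fun c => rfl)
  haveI : IsLocalization q.primeCompl D :=
    IsLocalization.isLocalization_of_algEquiv q.primeCompl e'
  exact TensorProduct.toIntegralClosure_bijective_of_tower (S := C)
    TensorProduct.toIntegralClosure_bijective_of_smooth
    (TensorProduct.toIntegralClosure_bijective_of_isLocalization q.primeCompl)

section Jac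
variable {A A' D : Type*} [CommRing A] [IsLocalRing A] [CommRing A'] [Algebra A A']
  [Algebra.IsIntegral A A'] [CommRing D] [IsLocalRing D] [Algebra A D]

theorem isIntegral_includeRight :
    (Algebra.TensorProduct.includeRight : D →ₐ[A] A' ⊗[A] D).toRingHom.IsIntegral := by
  intro x
  have h : IsIntegral D ((Algebra.TensorProduct.comm A D A').symm x) :=
    Algebra.IsIntegral.isIntegral _
  obtain ⟨p, hp, hpx⟩ := h
  refine ⟨p, hp, ?_⟩
  have h1 := congrArg (Algebra.TensorProduct.comm A D A') hpx
  rw [map_zero] at h1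
  rw [← h1]
  have h2 := Polynomial.hom_eval₂ p (algebraMap D (D ⊗[A] A'))
    ((Algebra.TensorProduct.comm A D A' : D ⊗[A] A' →ₐ[A] A' ⊗[A] D) : D ⊗[A] A' →+* A' ⊗[A] D)
    ((Algebra.TensorProduct.comm A D A').symm x)
  have h3 : ((Algebra.TensorProduct.comm A D A' : D ⊗[A] A' →ₐ[A] A' ⊗[A] D) :
      D ⊗[A] A' →+* A' ⊗[A] D).comp (algebraMap D (D ⊗[A] A')) =
      (Algebra.TensorProduct.includeRight : D →ₐ[A] A' ⊗[A] D).toRingHom := by
    ext d
    simp [Algebra.TensorProduct.algebraMap_apply]
  rw [h3] at h2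
  simp only [RingHom.coe_coe, AlgEquiv.coe_toAlgHom, AlgEquiv.apply_symm_apply] at h2
  exact h2.symm

variable (hm : Ideal.map (algebraMap A D) (maximalIdeal A) = maximalIdeal D)

theorem comap_includeRight_of_isMaximal (N : Ideal (A' ⊗[A] D)) [hN : N.IsMaximal] :
    N.comap (Algebra.TensorProduct.includeRight : D →ₐ[A] A' ⊗[A] D).toRingHom =
      maximalIdeal D := by
  haveI : (N.comap (Algebra.TensorProduct.includeRight : D →ₐ[A] A' ⊗[A] D).toRingHom).IsMaximal :=
    Ideal.isMaximal_comap_of_isIntegral_of_isMaximal'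
      (Algebra.TensorProduct.includeRight : D →ₐ[A] A' ⊗[A] D).toRingHom
      isIntegral_includeRight N
  exact IsLocalRing.eq_maximalIdeal inferInstance


theorem map_includeLeft_jacobson_le_of_isMaximal [IsLocalHom (algebraMap A D)]
    (N : Ideal (A' ⊗[A] D)) [hN : N.IsMaximal] :
    (Ideal.jacobson (⊥ : Ideal A')).map
      (Algebra.TensorProduct.includeLeft : A' →ₐ[A] A' ⊗[A] D) ≤ N := by
  rw [Ideal.map_le_iff_le_comap]
  have hR := comap_includeRight_of_isMaximal (A := A) (A' := A') N
  let P := N.comap (Algebra.TensorProduct.includeLeft : A' →ₐ[A] A' ⊗[A] D)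
  haveI : P.IsPrime := Ideal.comap_isPrime _ _
  have hPA : P.comap (algebraMap A A') = maximalIdeal A := by
    have h1 : P.comap (algebraMap A A') = (N.comap
        (Algebra.TensorProduct.includeRight : D →ₐ[A] A' ⊗[A] D).toRingHom).comap
          (algebraMap A D) := by
      change (N.comap ((Algebra.TensorProduct.includeLeft : A' →ₐ[A] A' ⊗[A] D) :
        A' →+* A' ⊗[A] D)).comap (algebraMap A A') = _
      rw [Ideal.comap_comap, Ideal.comap_comap]
      congr 1
      ext a
      simp [Algebra.algebraMap_eq_smul_one]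
    rw [h1, hR]
    exact ((local_hom_TFAE (algebraMap A D)).out 0 4 rfl rfl).mp inferInstance
  haveI : P.IsMaximal := by
    apply Ideal.isMaximal_of_isIntegral_of_isMaximal_comap (R := A)
    rw [hPA]
    exact maximalIdeal.isMaximal A
  exact (Ideal.jacobson_mono bot_le).trans (le_of_eq Ideal.jacobson_eq_self_of_isMaximal)

include hm in
theorem sup_le_jacobson [IsLocalHom (algebraMap A D)] :
    (Ideal.jacobson (⊥ : Ideal A')).map
        (Algebra.TensorProduct.includeLeft : A' →ₐ[A] A' ⊗[A] D) ⊔
      (maximalIdeal D).map (Algebra.TensorProduct.includeRight : D →ₐ[A] A' ⊗[A] D) ≤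
      Ideal.jacobson (⊥ : Ideal (A' ⊗[A] D)) := by
  change _ ≤ sInf {J : Ideal (A' ⊗[A] D) | ⊥ ≤ J ∧ J.IsMaximal}
  apply le_sInf
  rintro N ⟨-, hN⟩
  haveI := hN
  apply sup_le
  · exact map_includeLeft_jacobson_le_of_isMaximal N
  · rw [Ideal.map_le_iff_le_comap]
    exact le_of_eq (comap_includeRight_of_isMaximal (A := A) (A' := A') N).symm


include hm in
theorem jacobson_le_map_of_isMaximal [IsLocalHom (algebraMap A D)] [Algebra.EssFiniteType A D]
    [Algebra.FormallyUnramified A D] (M : Ideal A') [hM : M.IsMaximal] :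
    Ideal.jacobson (⊥ : Ideal (A' ⊗[A] D)) ≤ M.map (algebraMap A' (A' ⊗[A] D)) := by
  have hrad : (M.map (algebraMap A' (A' ⊗[A] D))).IsRadical :=
    Algebra.FormallyUnramified.isRadical_map_isMaximal A' (A' ⊗[A] D) M
  rw [← hrad.radical, Ideal.radical_eq_sInf]
  apply le_sInf
  rintro P ⟨hMP, hP⟩
  haveI := hP
  -- `P` is a maximal ideal
  have hMA : M.comap (algebraMap A A') = maximalIdeal A := by
    haveI : (M.comap (algebraMap A A')).IsMaximal :=
      Ideal.isMaximal_comap_of_isIntegral_of_isMaximal (R := A) (S := A') M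
    exact IsLocalRing.eq_maximalIdeal inferInstance
  let p := P.comap (Algebra.TensorProduct.includeRight : D →ₐ[A] A' ⊗[A] D).toRingHom
  haveI : p.IsPrime := Ideal.comap_isPrime _ _
  have hp : maximalIdeal D ≤ p := by
    rw [← hm, Ideal.map_le_iff_le_comap]
    intro a ha
    rw [Ideal.mem_comap, Ideal.mem_comap]
    apply hMP
    have h1 : (Algebra.TensorProduct.includeRight : D →ₐ[A] A' ⊗[A] D).toRingHom
        (algebraMap A D a) = algebraMap A' (A' ⊗[A] D) (algebraMap A A' a) := by
      simp [Algebra.algebraMap_eq_smul_one, Algebra.TensorProduct.one_def]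
    rw [h1]
    apply Ideal.mem_map_of_mem
    rw [← hMA] at ha
    exact ha
  have hpmax : p.IsMaximal := by
    have : p = maximalIdeal D :=
      ((maximalIdeal.isMaximal D).eq_of_le (Ideal.IsPrime.ne_top inferInstance) hp).symm
    rw [this]
    exact maximalIdeal.isMaximal D
  haveI : P.IsMaximal :=
    Ideal.isMaximal_of_isIntegral_of_isMaximal_comap'
      (Algebra.TensorProduct.includeRight : D →ₐ[A] A' ⊗[A] D).toRingHom
      isIntegral_includeRight P hpmax
  exact (Ideal.jacobson_mono bot_le).trans (le_of_eq Ideal.jacobson_eq_self_of_isMaximal)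

include hm in
theorem jacobson_le_map_jacobson [IsLocalHom (algebraMap A D)] [Algebra.EssFiniteType A D]
    [Algebra.FormallyUnramified A D] (hfin : {M : Ideal A' | M.IsMaximal}.Finite) :
    Ideal.jacobson (⊥ : Ideal (A' ⊗[A] D)) ≤
      (Ideal.jacobson (⊥ : Ideal A')).map (algebraMap A' (A' ⊗[A] D)) := by
  classical
  have hJ : Ideal.jacobson (⊥ : Ideal A') = ⨅ M ∈ hfin.toFinset, M := by
    change sInf {J : Ideal A' | ⊥ ≤ J ∧ J.IsMaximal} = _
    rw [sInf_eq_iInf]
    apply le_antisymm
    · apply le_iInf₂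
      intro M hM
      exact iInf₂_le M ⟨bot_le, by simpa using hM⟩
    · apply le_iInf₂
      rintro M ⟨-, hM⟩
      exact iInf₂_le M (by simpa using hM)
  have hcop : (hfin.toFinset : Set (Ideal A')).Pairwise (Function.onFun IsCoprime id) := by
    intro M₁ h₁ M₂ h₂ hne
    haveI : M₁.IsMaximal := by simpa using h₁
    haveI : M₂.IsMaximal := by simpa using h₂
    change IsCoprime M₁ M₂
    exact Ideal.isCoprime_of_isMaximal hne
  have hcop' : (hfin.toFinset : Set (Ideal A')).Pairwise
      (Function.onFun IsCoprime (fun M => M.map (algebraMap A' (A' ⊗[A] D)))) := by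
    intro M₁ h₁ M₂ h₂ hne
    have h := hcop h₁ h₂ hne
    change IsCoprime M₁ M₂ at h
    change IsCoprime (M₁.map _) (M₂.map _)
    rw [Ideal.isCoprime_iff_sup_eq] at h ⊢
    rw [← Ideal.map_sup, h, Ideal.map_top]
  have h1 : ∏ M ∈ hfin.toFinset, (id M : Ideal A') = ⨅ M ∈ hfin.toFinset, M :=
    Ideal.prod_eq_iInf_of_pairwise_isCoprime hcop
  have h2 := Ideal.prod_eq_iInf_of_pairwise_isCoprime hcop'
  rw [hJ, ← h1]
  have h3 : (∏ M ∈ hfin.toFinset, (id M : Ideal A')).map (algebraMap A' (A' ⊗[A] D)) =
      ∏ M ∈ hfin.toFinset, M.map (algebraMap A' (A' ⊗[A] D)) :=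
    map_prod (Ideal.mapHom (algebraMap A' (A' ⊗[A] D))) _ _
  rw [h3, h2]
  apply le_iInf₂
  intro M hM
  haveI : M.IsMaximal := by simpa using hM
  exact jacobson_le_map_of_isMaximal hm M

include hm in
/-- The Jacobson radical of `A' ⊗_A D` for `A'` integral semilocal over `A` and `D` essentially
unramified with `m_A D = m_D`. -/
theorem jacobson_tensor_eq [IsLocalHom (algebraMap A D)] [Algebra.EssFiniteType A D]
    [Algebra.FormallyUnramified A D] (hfin : {M : Ideal A' | M.IsMaximal}.Finite) :
    Ideal.jacobson (⊥ : Ideal (A' ⊗[A] D)) =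
      (Ideal.jacobson (⊥ : Ideal A')).map
        (Algebra.TensorProduct.includeLeft : A' →ₐ[A] A' ⊗[A] D) ⊔
      (maximalIdeal D).map (Algebra.TensorProduct.includeRight : D →ₐ[A] A' ⊗[A] D) := by
  apply le_antisymm
  · exact (jacobson_le_map_jacobson hm hfin).trans le_sup_left
  · exact sup_le_jacobson hm

end Jac

section Concrete
variable (A S : Type u) [CommRing A] [IsLocalRing A] [IsReduced A] [IsNoetherianRing A]
  [CommRing S] [IsLocalRing S] [Algebra A S] [IsLocalHom (algebraMap A S)]
  [Hensel.IsStrictHenselization A S] (D : Subalgebra A S)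

/-- The canonical map `D ⊗_A K_A → K_S`. -/
noncomputable def tensorToFrac : D ⊗[A] FractionRing A →ₐ[D] FractionRing S :=
  Algebra.TensorProduct.lift (Algebra.ofId D (FractionRing S))
    (fracLift (isUnit_algebraMap_base A S)) (fun _ _ => Commute.all _ _)

theorem tensorToFrac_tmul (d : D) (x : FractionRing A) :
    tensorToFrac A S D (d ⊗ₜ x) =
      algebraMap D (FractionRing S) d * fracLift (isUnit_algebraMap_base A S) x := by
  unfold tensorToFrac
  rw [Algebra.TensorProduct.lift_tmul]
  rfl

theorem tensorToFrac_injective : Function.Injective (tensorToFrac A S D) := by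
  rw [injective_iff_map_eq_zero]
  intro z hz
  obtain ⟨d, m, rfl⟩ := IsLocalization.exists_mk'_eq
    (Algebra.algebraMapSubmonoid D (nonZeroDivisors A)) z
  have h1 := IsLocalization.mk'_spec (D ⊗[A] FractionRing A) d m
  have h2 := congrArg (tensorToFrac A S D) h1
  rw [map_mul, hz, zero_mul, AlgHom.commutes] at h2
  have h3 : d = 0 := injective_algebraMap_sub A S D (h2.symm.trans (map_zero _).symm)
  rw [h3, IsLocalization.mk'_zero]

theorem mem_range_tensorToFrac_iff (x : FractionRing S) :
    x ∈ (tensorToFrac A S D).range ↔ ∃ a ∈ nonZeroDivisors A, ∃ d ∈ D,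
      algebraMap A (FractionRing S) a * x = algebraMap S (FractionRing S) d := by
  constructor
  · rintro ⟨z, rfl⟩
    obtain ⟨d, m, rfl⟩ := IsLocalization.exists_mk'_eq
      (Algebra.algebraMapSubmonoid D (nonZeroDivisors A)) z
    obtain ⟨a, ha, ham⟩ := m.2
    refine ⟨a, ha, d, d.2, ?_⟩
    have h1 := IsLocalization.mk'_spec (D ⊗[A] FractionRing A) d m
    have h2 := congrArg (tensorToFrac A S D) h1
    rw [map_mul, AlgHom.commutes, AlgHom.commutes, ← ham] at h2
    rw [mul_comm, IsScalarTower.algebraMap_apply A D (FractionRing S)]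
    exact h2
  · rintro ⟨a, ha, d, hd, h⟩
    let m : Algebra.algebraMapSubmonoid D (nonZeroDivisors A) :=
      ⟨algebraMap A D a, Algebra.mem_algebraMapSubmonoid_of_mem ⟨a, ha⟩⟩
    refine ⟨IsLocalization.mk' (D ⊗[A] FractionRing A) (⟨d, hd⟩ : D) m, ?_⟩
    have h1 := IsLocalization.mk'_spec (D ⊗[A] FractionRing A) (⟨d, hd⟩ : D) m
    have h2 := congrArg (tensorToFrac A S D) h1
    rw [map_mul, AlgHom.commutes, AlgHom.commutes] at h2
    have hunit := isUnit_algebraMap_base A S ⟨a, ha⟩
    apply hunit.mul_left_cancel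
    change algebraMap A (FractionRing S) a * _ = algebraMap A (FractionRing S) a * x
    rw [h, mul_comm, IsScalarTower.algebraMap_apply A D (FractionRing S)]
    exact h2


section Main
variable [IsLocalRing D] [IsLocalHom (algebraMap D S)]
  (A' D' : Subalgebra A (FractionRing S))
  (hA' : ∀ x : (FractionRing S), x ∈ A' ↔ (IsIntegral A x ∧
      ∃ a ∈ nonZeroDivisors A, ∃ b : A, algebraMap A (FractionRing S) a * x = algebraMap A (FractionRing S) b))
  (hD' : ∀ x : (FractionRing S), x ∈ D' ↔ (IsIntegral D x ∧
      ∃ a ∈ nonZeroDivisors A, ∃ d ∈ D, algebraMap A (FractionRing S) a * x = algebraMap S (FractionRing S) d))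
  (hle : A' ≤ D') (ι : D →ₐ[A] D') (hι : ∀ d : D, (ι d : (FractionRing S)) = algebraMap S (FractionRing S) d)

include hA' in
theorem exists_algEquiv_base : ∃ e : integralClosure A (FractionRing A) ≃ₐ[A] A',
    ∀ x, ((e x : A') : FractionRing S) =
      fracLift (isUnit_algebraMap_base A S) (x : FractionRing A) := by
  obtain ⟨e, he⟩ := exists_ringEquiv_integralClosure' (isUnit_algebraMap_base A S)
    (injective_algebraMap_base A S) A' hA'
  refine ⟨AlgEquiv.ofRingEquiv (f := e) (fun a => Subtype.ext ?_), he⟩
  rw [he]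
  exact fracLift_algebraMap _ a

include hA' hD' hι in
/-- For an essentially étale `D`, the normalization of `D` is `A' ⊗_A D`. -/
theorem productMap_bijective (hD : EGA4loc.IsEssentiallyEtale A D) :
    Function.Bijective (Algebra.TensorProduct.productMap (Subalgebra.inclusion hle) ι) := by
  obtain ⟨eA, heA⟩ := exists_algEquiv_base A S A' hA'
  have hΨ := toIntegralClosure_bijective_of_isEssentiallyEtale hD (FractionRing A)
  let κ : D ⊗[A] integralClosure A (FractionRing A) ≃ₐ[A] A' ⊗[A] D :=
    (Algebra.TensorProduct.congr AlgEquiv.refl eA).trans (Algebra.TensorProduct.comm A D A')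
  let Θ := Algebra.TensorProduct.productMap (Subalgebra.inclusion hle) ι
  -- the composite `D ⊗ IC_A → K`
  have hc : ∀ t : D ⊗[A] integralClosure A (FractionRing A),
      ((Θ (κ t) : D') : FractionRing S) =
        tensorToFrac A S D ((TensorProduct.toIntegralClosure A D (FractionRing A) t :
          integralClosure D (D ⊗[A] FractionRing A)) : D ⊗[A] FractionRing A) := by
    intro t
    induction t with
    | zero => simp
    | add x y hx hy =>
      rw [map_add, map_add, map_add, Subalgebra.coe_add, hx, hy, Subalgebra.coe_add, map_add]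
    | tmul d x =>
      have h1 : κ (d ⊗ₜ x) = eA x ⊗ₜ d := by
        simp [κ]
      rw [h1]
      change (((Subalgebra.inclusion hle (eA x)) * ι d : D') : FractionRing S) = _
      rw [Subalgebra.coe_mul, hι]
      have h2 : ((TensorProduct.toIntegralClosure A D (FractionRing A) (d ⊗ₜ x) :
          integralClosure D (D ⊗[A] FractionRing A)) : D ⊗[A] FractionRing A) =
          d ⊗ₜ (x : FractionRing A) := by
        simp [TensorProduct.toIntegralClosure]
      rw [h2, tensorToFrac_tmul, mul_comm, ← heA]
      rfl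
  have hbij : Function.Bijective (fun t => Θ (κ t)) := by
    constructor
    · intro t₁ t₂ h
      have h' : ((Θ (κ t₁) : D') : FractionRing S) = ((Θ (κ t₂) : D') : FractionRing S) :=
        congrArg Subtype.val h
      rw [hc, hc] at h'
      exact hΨ.1 (Subtype.ext (tensorToFrac_injective A S D h'))
    · intro y
      obtain ⟨hint, hfr⟩ := (hD' y.1).mp y.2
      obtain ⟨z, hz⟩ := (mem_range_tensorToFrac_iff A S D _).mpr hfr
      have hz' : tensorToFrac A S D z = y.1 := hz
      have hzint : IsIntegral D z := by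
        rw [← isIntegral_algHom_iff (tensorToFrac A S D) (tensorToFrac_injective A S D), hz']
        exact hint
      obtain ⟨t, ht⟩ := hΨ.2 ⟨z, hzint⟩
      refine ⟨t, Subtype.ext ?_⟩
      change ((Θ (κ t) : D') : FractionRing S) = y.1
      rw [hc, ht]
      exact hz'
  have : (Θ : A' ⊗[A] D → D') = (fun t => Θ (κ t)) ∘ κ.symm := by
    ext t
    simp
  rw [show (Algebra.TensorProduct.productMap (Subalgebra.inclusion hle) ι : A' ⊗[A] D → D') =
    (fun t => Θ (κ t)) ∘ κ.symm from this]
  exact hbij.comp κ.symm.bijective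

end Main

end Concrete

section EssEt
variable {A D : Type u} [CommRing A] [IsLocalRing A] [CommRing D] [Algebra A D]

theorem essFiniteType_of_isEssentiallyEtale (hD : EGA4loc.IsEssentiallyEtale A D) :
    Algebra.EssFiniteType A D := by
  obtain ⟨C, _, _, q, _, _, _, ⟨e⟩⟩ := hD
  haveI : Algebra.EssFiniteType A (Localization.AtPrime q) := inferInstance
  exact (Algebra.EssFiniteType.iff_of_algEquiv e).mpr inferInstance

theorem formallyUnramified_of_isEssentiallyEtale (hD : EGA4loc.IsEssentiallyEtale A D) :
    Algebra.FormallyUnramified A D := by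
  obtain ⟨C, _, _, q, _, _, _, ⟨e⟩⟩ := hD
  haveI : Algebra.FormallyUnramified C (Localization.AtPrime q) :=
    Algebra.FormallyUnramified.of_isLocalization q.primeCompl
  haveI : Algebra.FormallyUnramified A (Localization.AtPrime q) :=
    Algebra.FormallyUnramified.comp A C _
  exact Algebra.FormallyUnramified.of_equiv e.symm

end EssEt

theorem finite_setOf_isMaximal {X : Type*} [CommRing X] [Finite (MaximalSpectrum X)] :
    {N : Ideal X | N.IsMaximal}.Finite := by
  refine (Set.finite_range (MaximalSpectrum.asIdeal : MaximalSpectrum X → Ideal X)).subset ?_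
  intro N hN
  exact ⟨⟨N, hN⟩, rfl⟩

theorem mem_jacobson_bot_iff_of_bijective {T R : Type*} [CommRing T] [CommRing R] (Θ : T →+* R)
    (hΘ : Function.Bijective Θ) (t : T) :
    Θ t ∈ Ideal.jacobson (⊥ : Ideal R) ↔ t ∈ Ideal.jacobson (⊥ : Ideal T) := by
  have h1 : (Ideal.jacobson (⊥ : Ideal R)).comap Θ = ((⊥ : Ideal R).comap Θ).jacobson :=
    Ideal.comap_jacobson_of_surjective hΘ.2
  have h2 : (⊥ : Ideal R).comap Θ = ⊥ := by
    rw [← RingHom.ker_eq_comap_bot]
    exact (RingHom.injective_iff_ker_eq_bot Θ).mp hΘ.1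
  rw [h2] at h1
  rw [← h1, Ideal.mem_comap]

section Concrete
variable (A S : Type u) [CommRing A] [IsLocalRing A] [IsReduced A] [IsNoetherianRing A]
  [CommRing S] [IsLocalRing S] [Algebra A S] [IsLocalHom (algebraMap A S)]
  [Hensel.IsStrictHenselization A S] (D : Subalgebra A S)
  [IsLocalRing D] [IsLocalHom (algebraMap D S)]
  (A' D' : Subalgebra A (FractionRing S))
  (hA' : ∀ x : (FractionRing S), x ∈ A' ↔ (IsIntegral A x ∧
      ∃ a ∈ nonZeroDivisors A, ∃ b : A, algebraMap A (FractionRing S) a * x = algebraMap A (FractionRing S) b))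
  (hD' : ∀ x : (FractionRing S), x ∈ D' ↔ (IsIntegral D x ∧
      ∃ a ∈ nonZeroDivisors A, ∃ d ∈ D, algebraMap A (FractionRing S) a * x = algebraMap S (FractionRing S) d))
  (hle : A' ≤ D') (ι : D →ₐ[A] D') (hι : ∀ d : D, (ι d : (FractionRing S)) = algebraMap S (FractionRing S) d)

include hA' hD' hι in
theorem residue_of_isEssentiallyEtale (hD : EGA4loc.IsEssentiallyEtale A D) :
    {N : Ideal D' | N.IsMaximal}.Finite ∧
      Function.Surjective ((Ideal.Quotient.mkₐ A (Ideal.jacobson (⊥ : Ideal D'))).comp
          (Algebra.TensorProduct.productMap (Subalgebra.inclusion hle) ι)) ∧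
      RingHom.ker ((Ideal.Quotient.mkₐ A (Ideal.jacobson (⊥ : Ideal D'))).comp
          (Algebra.TensorProduct.productMap (Subalgebra.inclusion hle) ι)) =
          (Ideal.jacobson (⊥ : Ideal A')).map
              (Algebra.TensorProduct.includeLeft : A' →ₐ[A] A' ⊗[A] D) ⊔
            (maximalIdeal D).map
              (Algebra.TensorProduct.includeRight : D →ₐ[A] A' ⊗[A] D) := by
  haveI := essFiniteType_of_isEssentiallyEtale hD
  haveI := formallyUnramified_of_isEssentiallyEtale hD
  haveI := quasiFinite_of_isEssentiallyEtale hD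
  haveI := flat_of_isEssentiallyEtale hD
  haveI hADloc : IsLocalHom (algebraMap A D) :=
    Groth.Agent.Lib.Helper3.EssEtaleSub.isLocalHom_algebraMap_subalgebra D
  have hm : Ideal.map (algebraMap A D) (maximalIdeal A) = maximalIdeal D :=
    Algebra.FormallyUnramified.map_maximalIdeal
  haveI : IsNoetherianRing D := Algebra.EssFiniteType.isNoetherianRing A D
  haveI : IsReduced S := isReduced_sh A S
  haveI : IsReduced D := isReduced_of_injective D.val Subtype.val_injective
  have hmin : (minimalPrimes A).Finite := minimalPrimes.finite_of_isNoetherianRing A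
  have hloc : IsLocalization (imNZD A D) (FractionRing D) := isLocalization_fractionRing A D hmin
  obtain ⟨eD, -⟩ := exists_equiv_sub A S D D' hD' ι hι hloc
  obtain ⟨eA, -⟩ := exists_equiv_base A S A' hA'
  haveI := Groth.Agent.Lib.Helper98.NormalizationSemilocal.finite_maximalSpectrum_integralClosure D
  haveI := Groth.Agent.Lib.Helper98.NormalizationSemilocal.finite_maximalSpectrum_integralClosure A
  haveI : Finite (MaximalSpectrum D') :=
    Groth.Agent.Lib.Helper98.NormalizationSemilocal.finite_maximalSpectrum_of_ringEquiv eD.symm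
  haveI : Finite (MaximalSpectrum A') :=
    Groth.Agent.Lib.Helper98.NormalizationSemilocal.finite_maximalSpectrum_of_ringEquiv eA.symm
  have hΘ := productMap_bijective A S D A' D' hA' hD' hle ι hι hD
  haveI := isIntegral_base A S A' hA'
  have hJ := jacobson_tensor_eq (A := A) (A' := A') (D := D) hm finite_setOf_isMaximal
  refine ⟨finite_setOf_isMaximal, ?_, ?_⟩
  · exact (Ideal.Quotient.mkₐ_surjective A _).comp hΘ.2
  · rw [← hJ]
    ext t
    rw [RingHom.mem_ker]
    change Ideal.Quotient.mk _ (Algebra.TensorProduct.productMap (Subalgebra.inclusion hle) ι t) = 0 ↔ _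
    rw [Ideal.Quotient.eq_zero_iff_mem]
    exact mem_jacobson_bot_iff_of_bijective ((Algebra.TensorProduct.productMap
      (Subalgebra.inclusion hle) ι : A' ⊗[A] D →ₐ[A] D') : A' ⊗[A] D →+* D') hΘ t

end Concrete

end Groth.Agent.Lib.Helper98.NormEssEtale
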