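import Mathlib
import Groth.Agent.Lib.Helper98.NormEssEtale

/-!
# Normalization of a finite essentially étale algebra and residue field splitting (helper98)

* `isFractionRing_tensor`: `E ⊗_A Frac A` is the total ring of fractions of a finite flat
  algebra `E` over a domain `A`.
* `exists_algHom_productMap_bijective`: the normalization of a finite essentially étale `E` is
  `A' ⊗_A E`.
* `pow_mem_of_card_eq`, `card_eq_of_pow_mem`: for `R = A' ⊗_A E`, all residue fields of `R` are
  purely inseparable over the residue field of `E` iff the separable closure `k^s` of `k` in `k'`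
  has `[k^s : k]` embeddings into the residue field of `E`.
-/

set_option autoImplicit false
set_option linter.style.haveILetI false
set_option linter.unusedSectionVars false
universe u
open TensorProduct IsLocalRing

namespace Groth.Agent.Lib.Helper98.MinGen

theorem isFractionRing_tensor (A E : Type u) [CommRing A] [IsDomain A] [CommRing E] [Algebra A E]
    [Module.Flat A E] [Module.Finite A E] : IsFractionRing E (E ⊗[A] FractionRing A) := by
  have hloc : IsLocalization (Algebra.algebraMapSubmonoid E (nonZeroDivisors A))
    (E ⊗[A] FractionRing A) := inferInstance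
  haveI : IsArtinianRing (FractionRing A ⊗[A] E) := IsArtinianRing.of_finite (FractionRing A) _
  haveI : IsArtinianRing (E ⊗[A] FractionRing A) :=
    (Algebra.TensorProduct.comm A (FractionRing A) E).toRingEquiv.surjective.isArtinianRing
  refine IsLocalization.of_le (Algebra.algebraMapSubmonoid E (nonZeroDivisors A))
    (nonZeroDivisors E) ?_ ?_
  · rintro _ ⟨a, ha, rfl⟩
    have h1 : IsSMulRegular A a := (isRegular_iff_mem_nonZeroDivisors.mpr ha).left.isSMulRegular
    have h2 : IsSMulRegular E (algebraMap A E a) := IsSMulRegular.of_flat h1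
    have h3 : IsLeftRegular (algebraMap A E a) := h2
    rw [← isRegular_iff_mem_nonZeroDivisors]
    exact isLeftRegular_iff_isRegular.mp h3
  · intro r hr
    apply IsArtinianRing.isUnit_of_mem_nonZeroDivisors
    exact IsLocalization.map_nonZeroDivisors_le
      (Algebra.algebraMapSubmonoid E (nonZeroDivisors A)) _ ⟨r, hr, rfl⟩

theorem exists_algHom_productMap_bijective (A E : Type u) [CommRing A] [IsDomain A] [IsLocalRing A]
    [CommRing E] [Algebra A E] [Module.Flat A E] [Module.Finite A E]
    (hE : EGA4loc.IsEssentiallyEtale A E) :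
    ∃ jA : integralClosure A (FractionRing A) →ₐ[A] integralClosure E (FractionRing E),
      Function.Bijective (Algebra.TensorProduct.productMap jA
        (IsScalarTower.toAlgHom A E (integralClosure E (FractionRing E)))) := by
  haveI := isFractionRing_tensor A E
  have hΘ₁ := Groth.Agent.Lib.Helper98.NormEssEtale.toIntegralClosure_bijective_of_isEssentiallyEtale
    hE (FractionRing A)
  let ε : E ⊗[A] FractionRing A ≃ₐ[E] FractionRing E :=
    (FractionRing.algEquiv E (E ⊗[A] FractionRing A)).symm
  let Θ : E ⊗[A] integralClosure A (FractionRing A) →ₐ[E] integralClosure E (FractionRing E) :=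
    ε.mapIntegralClosure.toAlgHom.comp (TensorProduct.toIntegralClosure A E (FractionRing A))
  have hΘ : Function.Bijective Θ := ε.mapIntegralClosure.bijective.comp hΘ₁
  let jA : integralClosure A (FractionRing A) →ₐ[A] integralClosure E (FractionRing E) :=
    (Θ.restrictScalars A).comp Algebra.TensorProduct.includeRight
  refine ⟨jA, ?_⟩
  have hcomp : Algebra.TensorProduct.productMap jA
      (IsScalarTower.toAlgHom A E (integralClosure E (FractionRing E))) =
      (Θ.restrictScalars A).comp
        (Algebra.TensorProduct.comm A (integralClosure A (FractionRing A)) E).toAlgHom := by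
    apply Algebra.TensorProduct.ext'
    intro a' e
    rw [Algebra.TensorProduct.productMap_apply_tmul]
    change jA a' * algebraMap E _ e = Θ (e ⊗ₜ a')
    have h1 : (e ⊗ₜ[A] a' : E ⊗[A] integralClosure A (FractionRing A)) =
        e • ((1 : E) ⊗ₜ[A] a') := by
      rw [TensorProduct.smul_tmul', smul_eq_mul, mul_one]
    rw [h1, map_smul, Algebra.smul_def, mul_comm]
    rfl
  rw [hcomp]
  exact hΘ.comp (Algebra.TensorProduct.comm A (integralClosure A (FractionRing A)) E).bijective

section Field

variable {A A' E R : Type u} [CommRing A] [IsLocalRing A]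
  [CommRing A'] [IsLocalRing A'] [Algebra A A'] [IsLocalHom (algebraMap A A')]
  [Algebra.IsIntegral A A']
  [CommRing E] [IsLocalRing E] [Algebra A E] [IsLocalHom (algebraMap A E)]
  [Algebra.IsIntegral A E]
  [CommRing R] [Algebra A R] [Algebra E R] [IsScalarTower A E R] (jA : A' →ₐ[A] R)

theorem isAlgebraic_residueField : Algebra.IsAlgebraic (ResidueField A) (ResidueField A') := by
  haveI : Algebra.IsIntegral (ResidueField A) (ResidueField A') := by
    refine ⟨fun x => ?_⟩
    obtain ⟨a', rfl⟩ := residue_surjective x
    have h1 : IsIntegral A (residue A' a') :=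
      (Algebra.IsIntegral.isIntegral (R := A) a').map (IsScalarTower.toAlgHom A A' (ResidueField A'))
    exact h1.tower_top
  infer_instance

include jA in
theorem isIntegral_of_productMap_surjective
    (hsurj : Function.Surjective (Algebra.TensorProduct.productMap jA
      (IsScalarTower.toAlgHom A E R))) : Algebra.IsIntegral A R := by
  refine ⟨fun x => ?_⟩
  obtain ⟨t, rfl⟩ := hsurj x
  induction t with
  | zero => rw [map_zero]; exact isIntegral_zero
  | tmul a' e =>
    rw [Algebra.TensorProduct.productMap_apply_tmul]
    exact ((Algebra.IsIntegral.isIntegral (R := A) a').map jA).mul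
      ((Algebra.IsIntegral.isIntegral (R := A) e).map (IsScalarTower.toAlgHom A E R))
  | add x y hx hy => rw [map_add]; exact hx.add hy

include jA in
theorem comap_eq_maximalIdeal
    (hsurj : Function.Surjective (Algebra.TensorProduct.productMap jA
      (IsScalarTower.toAlgHom A E R))) (M : Ideal R) [M.IsMaximal] :
    M.comap (algebraMap E R) = maximalIdeal E ∧ M.comap (jA : A' →+* R) = maximalIdeal A' := by
  haveI := isIntegral_of_productMap_surjective jA hsurj
  haveI : Algebra.IsIntegral E R := Algebra.IsIntegral.tower_top (R := A) (S := E) (T := R)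
  constructor
  · haveI := Ideal.isMaximal_comap_of_isIntegral_of_isMaximal (R := E) M
    exact IsLocalRing.eq_maximalIdeal inferInstance
  · have h1 : ((jA : A' →+* R).comp (algebraMap A A')).IsIntegral := by
      rw [AlgHom.comp_algebraMap]
      exact algebraMap_isIntegral_iff.mpr inferInstance
    have h2 : (jA : A' →+* R).IsIntegral := RingHom.IsIntegral.tower_top _ _ h1
    haveI := Ideal.isMaximal_comap_of_isIntegral_of_isMaximal' _ h2 M
    exact IsLocalRing.eq_maximalIdeal inferInstance


include jA in
theorem pow_mem_of_card_eq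
    [FiniteDimensional (ResidueField A) (separableClosure (ResidueField A) (ResidueField A'))]
    (hsurj : Function.Surjective (Algebra.TensorProduct.productMap jA
      (IsScalarTower.toAlgHom A E R)))
    (hcard : Nat.card (separableClosure (ResidueField A) (ResidueField A') →ₐ[ResidueField A]
        ResidueField E) =
      Module.finrank (ResidueField A) (separableClosure (ResidueField A) (ResidueField A')))
    (M : Ideal R) [M.IsMaximal] (x : R ⧸ M) :
    ∃ n : ℕ, x ^ (ringExpChar (R ⧸ M)) ^ n ∈
      ((Ideal.Quotient.mk M).comp (algebraMap E R)).range := by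
  obtain ⟨hME, hMA⟩ := comap_eq_maximalIdeal jA hsurj M
  letI : Field (R ⧸ M) := Ideal.Quotient.field M
  set φE : E →+* R ⧸ M := (Ideal.Quotient.mk M).comp (algebraMap E R) with hφE
  set φA : A' →+* R ⧸ M := (Ideal.Quotient.mk M).comp (jA : A' →+* R) with hφA
  haveI : IsLocalHom φE := by
    refine ⟨fun e he => ?_⟩
    by_contra hne
    have h1 : e ∈ M.comap (algebraMap E R) := by rw [hME]; exact hne
    have h0 : φE e = 0 := Ideal.Quotient.eq_zero_iff_mem.mpr h1
    rw [h0] at he
    exact not_isUnit_zero he
  haveI : IsLocalHom φA := by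
    refine ⟨fun e he => ?_⟩
    by_contra hne
    have h1 : e ∈ M.comap (jA : A' →+* R) := by rw [hMA]; exact hne
    have h0 : φA e = 0 := Ideal.Quotient.eq_zero_iff_mem.mpr h1
    rw [h0] at he
    exact not_isUnit_zero he
  letI : Algebra (ResidueField E) (R ⧸ M) := (ResidueField.lift φE).toAlgebra
  letI : Algebra (ResidueField A) (R ⧸ M) :=
    ((ResidueField.lift φE).comp (algebraMap (ResidueField A) (ResidueField E))).toAlgebra
  haveI : IsScalarTower (ResidueField A) (ResidueField E) (R ⧸ M) :=
    IsScalarTower.of_algebraMap_eq' rfl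
  have hE : ∀ e, algebraMap (ResidueField E) (R ⧸ M) (residue E e) = φE e :=
    ResidueField.lift_residue_apply φE
  let ψ : ResidueField A' →ₐ[ResidueField A] R ⧸ M :=
    { ResidueField.lift φA with
      commutes' := by
        intro z
        obtain ⟨a, rfl⟩ := residue_surjective z
        change ResidueField.lift φA (residue A' (algebraMap A A' a)) =
          algebraMap (ResidueField E) (R ⧸ M) (residue E (algebraMap A E a))
        rw [ResidueField.lift_residue_apply, hE]
        change Ideal.Quotient.mk M (jA (algebraMap A A' a)) =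
          Ideal.Quotient.mk M (algebraMap E R (algebraMap A E a))
        rw [AlgHom.commutes, ← IsScalarTower.algebraMap_apply] }
  have hψ : ∀ a', ψ (residue A' a') = φA a' := ResidueField.lift_residue_apply φA
  -- the counting argument
  let ks := separableClosure (ResidueField A) (ResidueField A')
  let c : (ks →ₐ[ResidueField A] ResidueField E) → (ks →ₐ[ResidueField A] R ⧸ M) :=
    fun σ => (IsScalarTower.toAlgHom (ResidueField A) (ResidueField E) (R ⧸ M)).comp σ
  have hcinj : Function.Injective c := by
    intro σ₁ σ₂ h
    ext y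
    have := AlgHom.congr_fun h y
    exact (algebraMap (ResidueField E) (R ⧸ M)).injective this
  have hle : Nat.card (ks →ₐ[ResidueField A] R ⧸ M) ≤
      Nat.card (ks →ₐ[ResidueField A] ResidueField E) := by
    rw [hcard]
    exact card_algHom_le_finrank _ _ _
  have hcbij := hcinj.bijective_of_nat_card_le hle
  obtain ⟨σ, hσ⟩ := hcbij.2 (ψ.comp ks.val)
  -- exponential characteristic
  set p := ringExpChar (ResidueField A) with hp
  haveI : ExpChar (ResidueField A) p := ringExpChar.expChar _
  haveI : ExpChar (ResidueField E) p :=
    expChar_of_injective_ringHom (algebraMap (ResidueField A) (ResidueField E)).injective p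
  haveI : ExpChar ks p :=
    expChar_of_injective_ringHom (algebraMap (ResidueField A) ks).injective p
  haveI : ExpChar (R ⧸ M) p :=
    expChar_of_injective_ringHom (algebraMap (ResidueField A) (R ⧸ M)).injective p
  have hpM : ringExpChar (R ⧸ M) = p := ringExpChar.eq _ p
  haveI := isAlgebraic_residueField (A := A) (A' := A')
  haveI : IsPurelyInseparable ks (ResidueField A') :=
    separableClosure.isPurelyInseparable (ResidueField A) (ResidueField A')
  have h1 : ∀ z : ResidueField A', ψ z ∈ perfectClosure (ResidueField E) (R ⧸ M) := by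
    intro z
    obtain ⟨n, y, hy⟩ := IsPurelyInseparable.pow_mem ks p z
    rw [mem_perfectClosure_iff_pow_mem p]
    refine ⟨n, σ y, ?_⟩
    have h2 := AlgHom.congr_fun hσ y
    change algebraMap (ResidueField E) (R ⧸ M) (σ y) = ψ (y : ResidueField A') at h2
    rw [h2, ← map_pow]
    congr 1
  have h2 : ∀ r : R, Ideal.Quotient.mk M r ∈ perfectClosure (ResidueField E) (R ⧸ M) := by
    intro r
    obtain ⟨t, rfl⟩ := hsurj r
    induction t with
    | zero => rw [map_zero, map_zero]; exact zero_mem _
    | tmul a' e =>
      rw [Algebra.TensorProduct.productMap_apply_tmul, map_mul]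
      refine mul_mem ?_ ?_
      · have := h1 (residue A' a')
        rw [hψ] at this
        exact this
      · have : Ideal.Quotient.mk M (IsScalarTower.toAlgHom A E R e) = φE e := rfl
        rw [this, ← hE]
        exact IntermediateField.algebraMap_mem _ _
    | add x y hx hy => rw [map_add, map_add]; exact add_mem hx hy
  obtain ⟨r, rfl⟩ := Ideal.Quotient.mk_surjective x
  obtain ⟨n, z, hz⟩ := (mem_perfectClosure_iff_pow_mem p).mp (h2 r)
  refine ⟨n, ?_⟩
  rw [hpM, ← hz]
  obtain ⟨e, rfl⟩ := residue_surjective z
  exact ⟨e, (hE e).symm⟩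


include jA in
theorem card_eq_of_pow_mem
    [FiniteDimensional (ResidueField A) (separableClosure (ResidueField A) (ResidueField A'))]
    (hbij : Function.Bijective (Algebra.TensorProduct.productMap jA
      (IsScalarTower.toAlgHom A E R)))
    (hP : ∀ (M : Ideal R) [M.IsMaximal], ∀ x : R ⧸ M, ∃ n : ℕ,
      x ^ (ringExpChar (R ⧸ M)) ^ n ∈ ((Ideal.Quotient.mk M).comp (algebraMap E R)).range) :
    Nat.card (separableClosure (ResidueField A) (ResidueField A') →ₐ[ResidueField A]
        ResidueField E) =
      Module.finrank (ResidueField A) (separableClosure (ResidueField A) (ResidueField A')) := by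
  haveI := isAlgebraic_residueField (A := A) (A' := A')
  haveI := isIntegral_of_productMap_surjective jA hbij.2
  haveI : Algebra.IsIntegral E R := Algebra.IsIntegral.tower_top (R := A) (S := E) (T := R)
  rw [Nat.card_eq_fintype_card]
  apply AlgHom.card_of_splits
  intro s
  apply Polynomial.Splits.of_splits_map (algebraMap (ResidueField E)
    (AlgebraicClosure (ResidueField E))) (IsAlgClosed.splits _)
  intro a ha
  rw [Polynomial.map_map, ← IsScalarTower.algebraMap_eq] at ha
  have hne : (minpoly (ResidueField A) s).map (algebraMap (ResidueField A)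
      (AlgebraicClosure (ResidueField E))) ≠ 0 :=
    Polynomial.map_ne_zero (minpoly.ne_zero (Algebra.IsIntegral.isIntegral s))
  have ha0 : Polynomial.aeval a (minpoly (ResidueField A) (s : ResidueField A')) = 0 := by
    rw [← IntermediateField.minpoly_eq, Polynomial.aeval_def, ← Polynomial.eval_map]
    exact (Polynomial.mem_roots hne).mp ha
  -- an embedding of `k'` sending `s` to `a`
  obtain ⟨τ, hτ⟩ := IntermediateField.exists_algHom_of_splits_of_aeval
    (F := ResidueField A) (E := ResidueField A') (K := AlgebraicClosure (ResidueField E))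
    (fun z => ⟨Algebra.IsIntegral.isIntegral z, IsAlgClosed.splits _⟩) ha0
  -- the two maps to `Ω`
  let gE : E →ₐ[A] AlgebraicClosure (ResidueField E) :=
    IsScalarTower.toAlgHom A E (AlgebraicClosure (ResidueField E))
  let gA : A' →ₐ[A] AlgebraicClosure (ResidueField E) :=
    (τ.restrictScalars A).comp (IsScalarTower.toAlgHom A A' (ResidueField A'))
  let Θ : (A' ⊗[A] E) ≃+* R := RingEquiv.ofBijective (Algebra.TensorProduct.productMap jA
      (IsScalarTower.toAlgHom A E R)) hbij
  let Ψ : R →+* AlgebraicClosure (ResidueField E) :=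
    ((Algebra.TensorProduct.productMap gA gE : A' ⊗[A] E →ₐ[A] _) : A' ⊗[A] E →+* _).comp
      (Θ.symm : R →+* A' ⊗[A] E)
  have hΨA : ∀ a', Ψ (jA a') = τ (residue A' a') := by
    intro a'
    have h1 : Θ.symm (jA a') = a' ⊗ₜ 1 := by
      rw [RingEquiv.symm_apply_eq]
      change _ = Algebra.TensorProduct.productMap jA (IsScalarTower.toAlgHom A E R) (a' ⊗ₜ 1)
      rw [Algebra.TensorProduct.productMap_apply_tmul, map_one, mul_one]
    change (Algebra.TensorProduct.productMap gA gE) (Θ.symm (jA a')) = _
    rw [h1, Algebra.TensorProduct.productMap_apply_tmul, map_one, mul_one]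
    rfl
  have hΨE : ∀ e, Ψ (algebraMap E R e) =
      algebraMap (ResidueField E) (AlgebraicClosure (ResidueField E)) (residue E e) := by
    intro e
    have h1 : Θ.symm (algebraMap E R e) = 1 ⊗ₜ e := by
      rw [RingEquiv.symm_apply_eq]
      change _ = Algebra.TensorProduct.productMap jA (IsScalarTower.toAlgHom A E R) (1 ⊗ₜ e)
      rw [Algebra.TensorProduct.productMap_apply_tmul, map_one, one_mul]
      rfl
    change (Algebra.TensorProduct.productMap gA gE) (Θ.symm (algebraMap E R e)) = _
    rw [h1, Algebra.TensorProduct.productMap_apply_tmul, map_one, one_mul]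
    rfl
  -- the kernel is a maximal ideal
  haveI hprime : (RingHom.ker Ψ).IsPrime := RingHom.ker_isPrime Ψ
  have hcomap : (RingHom.ker Ψ).comap (algebraMap E R) = maximalIdeal E := by
    ext e
    rw [Ideal.mem_comap, RingHom.mem_ker, hΨE, map_eq_zero, residue_eq_zero_iff]
  haveI hmax : (RingHom.ker Ψ).IsMaximal := by
    apply Ideal.isMaximal_of_isIntegral_of_isMaximal_comap (R := E)
    rw [hcomap]
    infer_instance
  obtain ⟨y, hy⟩ := residue_surjective (s : ResidueField A')
  obtain ⟨n, e, he⟩ := hP (RingHom.ker Ψ) (Ideal.Quotient.mk _ (jA y))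
  -- transport to `Ω`
  have hpow : a ^ (ringExpChar (R ⧸ RingHom.ker Ψ)) ^ n =
      algebraMap (ResidueField E) (AlgebraicClosure (ResidueField E)) (residue E e) := by
    have h1 : Ideal.Quotient.mk (RingHom.ker Ψ) (algebraMap E R e) =
        Ideal.Quotient.mk (RingHom.ker Ψ) ((jA y) ^ (ringExpChar (R ⧸ RingHom.ker Ψ)) ^ n) := by
      rw [map_pow]
      exact he
    rw [Ideal.Quotient.eq, RingHom.mem_ker, map_sub, sub_eq_zero, hΨE, map_pow, hΨA, hy, hτ] at h1
    exact h1.symm
  letI : Field (R ⧸ RingHom.ker Ψ) := Ideal.Quotient.field _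
  haveI : ExpChar (R ⧸ RingHom.ker Ψ) (ringExpChar (R ⧸ RingHom.ker Ψ)) := ringExpChar.expChar _
  haveI : ExpChar (AlgebraicClosure (ResidueField E)) (ringExpChar (R ⧸ RingHom.ker Ψ)) :=
    expChar_of_injective_ringHom (RingHom.kerLift_injective Ψ) _
  haveI : ExpChar (ResidueField E) (ringExpChar (R ⧸ RingHom.ker Ψ)) :=
    RingHom.expChar (algebraMap (ResidueField E) (AlgebraicClosure (ResidueField E)))
      (algebraMap (ResidueField E) (AlgebraicClosure (ResidueField E))).injective _
  have hperf : a ∈ perfectClosure (ResidueField E) (AlgebraicClosure (ResidueField E)) := by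
    rw [mem_perfectClosure_iff_pow_mem (ringExpChar (R ⧸ RingHom.ker Ψ))]
    exact ⟨n, residue E e, hpow.symm⟩
  have hsep : a ∈ separableClosure (ResidueField E) (AlgebraicClosure (ResidueField E)) := by
    rw [mem_separableClosure_iff]
    have hs : IsSeparable (ResidueField A) (s : ResidueField A') :=
      mem_separableClosure_iff.mp s.2
    have h1 : IsSeparable (ResidueField A) a := by
      have h2 : IsIntegral (ResidueField A) a :=
        ⟨minpoly (ResidueField A) (s : ResidueField A'), minpoly.monic hs.isIntegral, ha0⟩
      exact Polynomial.Separable.of_dvd hs (minpoly.dvd _ _ ha0)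
    exact IsSeparable.tower_top (ResidueField E) h1
  have hbot : a ∈ (⊥ : IntermediateField (ResidueField E) (AlgebraicClosure (ResidueField E))) := by
    rw [← separableClosure_inf_perfectClosure]
    exact ⟨hsep, hperf⟩
  exact IntermediateField.mem_bot.mp hbot

end Field

end Groth.Agent.Lib.Helper98.MinGen
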