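import Mathlib
import Groth.Agent.Lib.Helper98.MinGenA
import Groth.Agent.Lib.Helper98.MinGenB
import Groth.Agent.Lib.Helper98.EssFTDescent
import Groth.Agent.Lib.Helper98.NormResidueB
import Groth.Agent.Lib.Helper98.GeomUnibranchFinite
import Groth.Agent.Lib.Helper98.BranchCount
import Groth.Agent.Lib.Helper36.StrictHensWE
import Groth.Agent.Lib.Helper3.HensQF
import Groth.Agent.Lib.Helper3.QFLocal
import Groth.Agent.Lib.Helper3.IntegralHensSplit
import Groth.Agent.Lib.Helper14.EssEtale
import Groth.Agent.Lib.Helper9.Hens.NoetherianHens
import Groth.Agent.S9238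

/-!
# Minimal primes of `A^sh` generated from an essentially étale local `A`-algebra (helper98)

* `finiteDimensional_separableClosure`: for a Noetherian reduced local ring `A` with local
  normalization, the separable closure of `k` in the residue field of the normalization is finite.
* `finite_of_isEssentiallyEtale_of_henselian`: essentially étale local algebras over a henselian
  local ring are finite.
* `minimalPrimes_iff_card`: EGA IV 18.8.x: for `A` henselian Noetherian local domain, `E`
  essentially étale local: minimal primes of `A^sh` generated from `E` iff `k^s` splits in `κ(E)`.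
-/

set_option autoImplicit false
set_option linter.style.haveILetI false
universe u
open TensorProduct IsLocalRing

namespace Groth.Agent.Lib.Helper98.MinGen
open Groth.Agent.Lib.Helper38

theorem finiteDimensional_separableClosure_of_finite_emb (F L : Type u) [Field F] [Field L]
    [Algebra F L] [Algebra.IsAlgebraic F L] [Finite (Field.Emb F L)] :
    FiniteDimensional F (separableClosure F L) := by
  have h1 := Field.Emb.cardinal_eq (F := F) (E := L)
  have h2 : Cardinal.mk (Field.Emb F L) < Cardinal.aleph0 := Cardinal.lt_aleph0_of_finite _
  dsimp only at h1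
  by_cases h : Cardinal.aleph0 ≤ Field.sepDegree F L
  · rw [if_pos h] at h1
    exfalso
    have h3 : Cardinal.aleph0 ≤ 2 ^ Field.sepDegree F L :=
      h.trans (Cardinal.cantor _).le
    rw [← h1] at h3
    exact absurd h2 (not_lt.mpr h3)
  · rw [not_le] at h
    exact Module.rank_lt_aleph0_iff.mp h

theorem finiteDimensional_separableClosure (A S : Type u) [CommRing A] [IsLocalRing A]
    [IsReduced A] [IsNoetherianRing A]
    [IsLocalRing (integralClosure A (FractionRing A))]
    [IsLocalHom (algebraMap A (integralClosure A (FractionRing A)))]
    [CommRing S] [IsLocalRing S] [Algebra A S] [IsLocalHom (algebraMap A S)]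
    [Hensel.IsStrictHenselization A S] :
    FiniteDimensional (ResidueField A) (separableClosure (ResidueField A)
      (ResidueField (integralClosure A (FractionRing A)))) := by
  classical
  haveI : IsNoetherianRing S :=
    (Groth.Agent.Lib.Helper9.isNoetherianRing_iff_of_isStrictHenselization A S).mp inferInstance
  haveI : Finite (minimalPrimes S) := (minimalPrimes.finite_of_isNoetherianRing S).to_subtype
  have hfinmin : (minimalPrimes A).Finite := minimalPrimes.finite_of_isNoetherianRing A
  have h1 := Groth.Agent.S9238.result A S
  unfold Brnch.numGeomBranches at h1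
  rw [if_pos hfinmin] at h1
  have h2 : ENat.card (Σ m' : MaximalSpectrum (CAlg2.normRed A), Brnch.Emb A m') < ⊤ := by
    rw [← h1, ENat.card_lt_top]
    infer_instance
  haveI : Finite (Σ m' : MaximalSpectrum (CAlg2.normRed A), Brnch.Emb A m') :=
    ENat.card_lt_top.mp h2
  -- the maximal ideal of `CAlg2.normRed A`
  let e := GeomUnibranchFinite.normEquiv A
  have hM' : ((maximalIdeal (integralClosure A (FractionRing A))).map
      (e : integralClosure A (FractionRing A) →+* CAlg2.normRed A)).IsMaximal :=
    Ideal.IsMaximal.map_bijective (e : integralClosure A (FractionRing A) →+* CAlg2.normRed A)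
      e.bijective inferInstance
  let m' : MaximalSpectrum (CAlg2.normRed A) := ⟨_, hM'⟩
  haveI : Finite (Brnch.Emb A m') :=
    Finite.of_injective (fun σ => (⟨m', σ⟩ : Σ m' : MaximalSpectrum (CAlg2.normRed A),
      Brnch.Emb A m')) (sigma_mk_injective)
  let Ψ : ResidueField (integralClosure A (FractionRing A)) ≃+* (CAlg2.normRed A ⧸ m'.asIdeal) :=
    Ideal.quotientEquiv (maximalIdeal (integralClosure A (FractionRing A))) m'.asIdeal e rfl
  have hΦ : ∀ r : A, Ψ.symm (Brnch.toResidue A m' r) =
      algebraMap (ResidueField A) (ResidueField (integralClosure A (FractionRing A)))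
        (residue A r) := by
    intro r
    rw [RingEquiv.symm_apply_eq]
    change _ = Ideal.Quotient.mk m'.asIdeal (e (algebraMap A _ r))
    rw [GeomUnibranchFinite.normEquiv_algebraMap]
    rfl
  haveI := BrnchEmb.isAlgebraic m' Ψ.symm hΦ
  have h3 := BrnchEmb.card_emb_eq m' Ψ.symm hΦ
  haveI : Finite (Field.Emb (ResidueField A)
      (ResidueField (integralClosure A (FractionRing A)))) := by
    rw [← ENat.card_lt_top, ← h3, ENat.card_lt_top]
    infer_instance
  exact finiteDimensional_separableClosure_of_finite_emb _ _

theorem finite_of_isEssentiallyEtale_of_henselian (A E : Type u) [CommRing A]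
    [HenselianLocalRing A] [CommRing E] [Algebra A E]
    (hE : EGA4loc.IsEssentiallyEtale A E) : Module.Finite A E := by
  obtain ⟨C, _, _, q, _, hC, hq, ⟨e⟩⟩ := hE
  haveI := hC
  haveI : Algebra.QuasiFinite A C := inferInstance
  have hover : q.LiesOver (maximalIdeal A) := ⟨hq.symm⟩
  haveI := Groth.Agent.Lib.Helper3.finite_localization_of_quasiFiniteAt A C q hover inferInstance
  exact Module.Finite.equiv e.symm.toLinearEquiv


theorem minimalPrimes_iff_card
    (A S E : Type u) [CommRing A] [HenselianLocalRing A] [IsDomain A] [IsNoetherianRing A]
    [IsLocalRing (integralClosure A (FractionRing A))]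
    [IsLocalHom (algebraMap A (integralClosure A (FractionRing A)))]
    [CommRing S] [IsLocalRing S] [Algebra A S] [IsLocalHom (algebraMap A S)]
    [Hensel.IsStrictHenselization A S]
    [CommRing E] [IsLocalRing E] [Algebra A E] [IsLocalHom (algebraMap A E)]
    (hE : EGA4loc.IsEssentiallyEtale A E) [Algebra E S] [IsScalarTower A E S]
    [FiniteDimensional (ResidueField A) (separableClosure (ResidueField A)
      (ResidueField (integralClosure A (FractionRing A))))] :
    (∀ Q ∈ minimalPrimes S, Q = Ideal.map (algebraMap E S) (Q.comap (algebraMap E S))) ↔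
      Nat.card (separableClosure (ResidueField A)
          (ResidueField (integralClosure A (FractionRing A))) →ₐ[ResidueField A]
          ResidueField E) =
        Module.finrank (ResidueField A)
          (separableClosure (ResidueField A)
            (ResidueField (integralClosure A (FractionRing A)))) := by
  haveI := finite_of_isEssentiallyEtale_of_henselian A E hE
  haveI : Algebra.IsIntegral A E := inferInstance
  haveI := Groth.Agent.Lib.Helper3.FracEssEtale.flat_of_isEssentiallyEtale hE
  haveI : IsNoetherianRing E := Algebra.FiniteType.isNoetherianRing A E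
  have hm : Ideal.map (algebraMap A E) (maximalIdeal A) = maximalIdeal E :=
    Groth.Agent.Lib.Helper14.map_maximalIdeal_eq_of_essEtale A E hE
  haveI : IsLocalHom (algebraMap E S) := by
    refine ⟨fun y hy => ?_⟩
    by_contra hne
    have h1 := Groth.Agent.Lib.Helper14.algHom_mem_maximalIdeal_of_essEtale A E S hE
      (IsScalarTower.toAlgHom A E S) y hne
    exact h1 hy
  obtain ⟨e⟩ := Groth.Agent.Lib.Helper98.EssFTDescent.nonempty_algEquiv_strictHenselization_of_map_maximalIdeal
    A E S hm
  haveI : Hensel.IsStrictHenselization E S :=
    Groth.Agent.Lib.Helper36.StrictHensWE.isStrictHenselization_of_algEquiv E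
      (Groth.Agent.Lib.Helper9.HensK.StrictHenselization E) S e
  haveI : Module.FaithfullyFlat E S :=
    Groth.Agent.Lib.Helper9.HensK.faithfullyFlat_of_isStrictHenselization E S
  haveI : IsReduced S := Groth.Agent.Lib.Helper98.NormResidue.isReduced_sh A S
  haveI : IsReduced E :=
    isReduced_of_injective (algebraMap E S) (FaithfulSMul.algebraMap_injective E S)
  haveI : HenselianLocalRing E :=
    Groth.Agent.Lib.Helper3.IntegralHensSplit.henselianLocalRing_of_isIntegral' A E
  haveI : Hensel.IsHenselization E E := Groth.Agent.Lib.Helper3.isHenselization_self E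
  rw [← minimalPrimes_iff_pow_mem E E S]
  obtain ⟨jA, hbij⟩ := exists_algHom_productMap_bijective A E hE
  constructor
  · intro hP
    exact card_eq_of_pow_mem jA hbij hP
  · intro hcard M hM x
    exact pow_mem_of_card_eq jA hbij.2 hcard M x

end Groth.Agent.Lib.Helper98.MinGen
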