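import Mathlib

/-!
# Ideals of minors under row operations (helper98)
-/

namespace Groth.Agent.Lib.Helper98

open Matrix

theorem det_rows_linear_combination_mem {S : Type*} [CommRing S] {r m : ℕ}
    (c : Fin r → Fin m → S) (v : Fin m → Fin r → S) (K : Ideal S)
    (h : ∀ σ : Fin r → Fin m, Function.Injective σ →
      Matrix.det (Matrix.of fun s => v (σ s)) ∈ K) :
    Matrix.det (Matrix.of fun s => ∑ j, c s j • v j) ∈ K := by
  classical
  have key : Matrix.det (Matrix.of fun s => ∑ j, c s j • v j) =
      ∑ σ : Fin r → Fin m, (∏ s, c s (σ s)) • Matrix.det (Matrix.of fun s => v (σ s)) := by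
    change (Matrix.detRowAlternating : (Fin r → S) [⋀^Fin r]→ₗ[S] S).toMultilinearMap
      (fun s => ∑ j, c s j • v j) = _
    rw [MultilinearMap.map_sum]
    refine Finset.sum_congr rfl fun σ _ => ?_
    rw [MultilinearMap.map_smul_univ]
    rfl
  rw [key]
  refine K.sum_mem fun σ _ => ?_
  by_cases hσ : Function.Injective σ
  · exact K.smul_mem _ (h σ hσ)
  · have : Matrix.det (Matrix.of fun s => v (σ s)) = 0 := by
      rw [Function.Injective] at hσ
      push Not at hσ
      obtain ⟨a, b, hab, hne⟩ := hσ
      exact Matrix.det_zero_of_row_eq hne (by funext i; simp only [Matrix.of_apply, hab])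
    rw [this, smul_zero]
    exact K.zero_mem

/-- Jacobian minors: if `g_s ∈ span (range f)` for all `s`, then every `r × r` minor of the
Jacobian matrix of `g` (w.r.t. a family of derivations) lies in the ideal generated by the
`r × r` minors of the Jacobian of `f` together with `f`. -/
theorem jacobian_minor_mem {k R : Type*} [CommRing k] [CommRing R] [Algebra k R] {n m l r : ℕ}
    (D : Fin n → Derivation k R R) (f : Fin m → R) (g : Fin l → R)
    (hg : ∀ s, g s ∈ Ideal.span (Set.range f))
    (ρ : Fin r → Fin l) (γ : Fin r → Fin n) :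
    ((Matrix.of fun (j : Fin l) (i : Fin n) => D i (g j)).submatrix ρ γ).det ∈
      Ideal.span {d : R | ∃ (ρ : Fin r → Fin m) (γ : Fin r → Fin n),
        Function.Injective ρ ∧ Function.Injective γ ∧
          d = ((Matrix.of fun (j : Fin m) (i : Fin n) => D i (f j)).submatrix ρ γ).det} ⊔
        Ideal.span (Set.range f) := by
  classical
  set K := Ideal.span {d : R | ∃ (ρ : Fin r → Fin m) (γ : Fin r → Fin n),
        Function.Injective ρ ∧ Function.Injective γ ∧
          d = ((Matrix.of fun (j : Fin m) (i : Fin n) => D i (f j)).submatrix ρ γ).det} ⊔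
        Ideal.span (Set.range f) with hK
  by_cases hγ : Function.Injective γ
  swap
  · have : ((Matrix.of fun (j : Fin l) (i : Fin n) => D i (g j)).submatrix ρ γ).det = 0 := by
      rw [Function.Injective] at hγ
      push Not at hγ
      obtain ⟨a, b, hab, hne⟩ := hγ
      exact Matrix.det_zero_of_column_eq hne (by intro s; simp only [Matrix.submatrix_apply, hab])
    rw [this]; exact K.zero_mem
  choose a ha using fun s => (Ideal.mem_span_range_iff_exists_fun).1 (hg s)
  rw [← Ideal.Quotient.eq_zero_iff_mem, RingHom.map_det]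
  have hf0 : ∀ j, Ideal.Quotient.mk K (f j) = 0 := fun j =>
    Ideal.Quotient.eq_zero_iff_mem.2 (Ideal.mem_sup_right (Ideal.subset_span ⟨j, rfl⟩))
  have hM : (Ideal.Quotient.mk K).mapMatrix
      ((Matrix.of fun (j : Fin l) (i : Fin n) => D i (g j)).submatrix ρ γ) =
      Matrix.of fun s => ∑ j, (Ideal.Quotient.mk K (a (ρ s) j)) •
        (fun i => Ideal.Quotient.mk K (D (γ i) (f j))) := by
    ext s i
    simp only [RingHom.mapMatrix_apply, Matrix.map_apply, Matrix.submatrix_apply, Matrix.of_apply,
      Finset.sum_apply, Pi.smul_apply, smul_eq_mul]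
    rw [← ha (ρ s), map_sum, map_sum]
    refine Finset.sum_congr rfl fun j _ => ?_
    rw [Derivation.leibniz, map_add, smul_eq_mul, smul_eq_mul, map_mul, map_mul, hf0,
      zero_mul, add_zero]
  rw [hM, ← Ideal.mem_bot]
  apply det_rows_linear_combination_mem
  intro σ hσ
  rw [Ideal.mem_bot]
  have : (Matrix.of fun s => (fun i => Ideal.Quotient.mk K (D (γ i) (f (σ s))))) =
      (Ideal.Quotient.mk K).mapMatrix
        ((Matrix.of fun (j : Fin m) (i : Fin n) => D i (f j)).submatrix σ γ) := by
    ext s i
    simp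
  rw [this, ← RingHom.map_det, Ideal.Quotient.eq_zero_iff_mem]
  exact Ideal.mem_sup_left (Ideal.subset_span ⟨σ, γ, hσ, hγ, rfl⟩)

end Groth.Agent.Lib.Helper98
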