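import Groth.Agent.Lib.Helper98.PowerSeriesLattice
import Groth.Agent.Lib.Helper87.Gaps

/-!
# Rank-one lattices over a unibranch curve singularity `A ⊆ k⟦X⟧` (helper98)

Every nonzero `A`-submodule `J` of `k⟦X⟧` is isomorphic to one, `M'`, with
`X^{2δ} k⟦X⟧ ⊆ M'` and `dim k⟦X⟧/M' = δ`, where `δ` is the number of gaps of the value
semigroup of `A`.
-/

set_option autoImplicit false

namespace Groth.Agent.Lib.Helper98

open PowerSeries

section main

universe u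

variable {k : Type u} [Field k] (A : Subalgebra k (PowerSeries k))

/-- Normalizing a nonzero `A`-submodule of `k⟦X⟧` so that it contains `1`. -/
theorem exists_equiv_one_mem (J : Submodule ↥A (PowerSeries k)) (hJ : J ≠ ⊥) :
    ∃ I : Submodule ↥A (PowerSeries k), (1 : PowerSeries k) ∈ I ∧ Nonempty (↥J ≃ₗ[↥A] ↥I) := by
  classical
  have hex : ∃ n : ℕ, ∃ j ∈ J, order j = n := by
    obtain ⟨j, hj, hj0⟩ := Submodule.exists_mem_ne_zero_of_ne_bot hJ
    exact ⟨(order j).toNat, j, hj, (coe_toNat_order hj0).symm⟩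
  obtain ⟨j₀, hj₀J, hj₀⟩ := Nat.find_spec hex
  have hmin : ∀ j ∈ J, ((Nat.find hex : ℕ) : ℕ∞) ≤ order j := by
    intro j hj
    by_cases h0 : j = 0
    · rw [h0, order_zero]; exact le_top
    · rw [← coe_toNat_order h0]
      exact_mod_cast Nat.find_min' hex ⟨j, hj, (coe_toNat_order h0).symm⟩
  have hj₀0 : j₀ ≠ 0 := by
    intro h
    rw [h, order_zero] at hj₀
    exact ENat.top_ne_natCast _ hj₀
  have hj₀n : j₀.order.toNat = Nat.find hex := by rw [hj₀]; rfl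
  have hdvd : ∀ j ∈ J, j₀ ∣ j := by
    intro j hj
    obtain ⟨u, hu⟩ := isUnit_divided_by_X_pow_order hj₀0
    have h1 : (X : PowerSeries k) ^ (Nat.find hex) ∣ j := by
      rw [X_pow_dvd_iff]
      intro m hm
      apply coeff_of_lt_order
      exact lt_of_lt_of_le (by exact_mod_cast hm) (hmin j hj)
    obtain ⟨j', rfl⟩ := h1
    refine ⟨↑u⁻¹ * j', ?_⟩
    conv_rhs => rw [← X_pow_order_mul_divXPowOrder (f := j₀), ← hu, hj₀n]
    rw [mul_assoc, ← mul_assoc (u : PowerSeries k), Units.mul_inv, one_mul]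
  let μ : PowerSeries k →ₗ[↥A] PowerSeries k := LinearMap.mulLeft ↥A j₀
  have hμ : ∀ f, μ f = j₀ * f := fun f => rfl
  refine ⟨J.comap μ, ?_, ⟨?_⟩⟩
  · rw [Submodule.mem_comap, hμ, mul_one]
    exact hj₀J
  · symm
    refine LinearEquiv.ofBijective (μ.restrict (q := J) (fun x hx => hx)) ⟨?_, ?_⟩
    · intro x y h
      have h' : μ x = μ y := congrArg Subtype.val h
      rw [hμ, hμ] at h'
      exact Subtype.ext (mul_left_cancel₀ hj₀0 h')
    · intro y
      obtain ⟨g, hg⟩ := hdvd y.1 y.2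
      refine ⟨⟨g, ?_⟩, Subtype.ext ?_⟩
      · rw [Submodule.mem_comap, hμ, ← hg]
        exact y.2
      · show μ g = y.1
        rw [hμ, ← hg]

theorem exists_lattice (hA : Module.Finite ↥A (PowerSeries k))
    (hbir : ∀ f : PowerSeries k, ∃ a ∈ A, a ≠ 0 ∧ a * f ∈ A) (Γ : Set ℕ)
    (hΓ : ∀ n : ℕ, n ∈ Γ ↔ ∃ f ∈ A, PowerSeries.order f = n)
    (J : Submodule ↥A (PowerSeries k)) (hJ : J ≠ ⊥) :
    ∃ M' : Submodule ↥A (PowerSeries k),
      (Ideal.span {(X : PowerSeries k) ^ (2 * Γᶜ.ncard)}).restrictScalars ↥A ≤ M' ∧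
      Nonempty (↥J ≃ₗ[↥A] ↥M') ∧
      Module.finrank k (PowerSeries k ⧸ M'.restrictScalars k) = Γᶜ.ncard := by
  classical
  obtain ⟨I, h1I, ⟨eJI⟩⟩ := exists_equiv_one_mem A J hJ
  obtain ⟨c, hc⟩ := Groth.Agent.Lib.Helper87.exists_order_bound A hA hbir
  have hsmul : ∀ a ∈ A, ∀ f ∈ I, a * f ∈ I := fun a ha f hf => I.smul_mem ⟨a, ha⟩ hf
  have hAI : ∀ a ∈ A, a ∈ I := fun a ha => by
    have := hsmul a ha 1 h1I
    rwa [mul_one] at this
  have hcI : ∀ g : PowerSeries k, (c : ℕ∞) ≤ g.order → g ∈ I.restrictScalars k :=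
    fun g hg => hAI g (hc g hg)
  obtain ⟨Δ, hΔdef⟩ : ∃ Δ : Set ℕ, Δ = {n : ℕ | ∃ f ∈ I, order f = (n : ℕ∞)} := ⟨_, rfl⟩
  have hΔ : ∀ n, n ∈ Δ ↔ ∃ f ∈ I.restrictScalars k, order f = n := fun n => by
    rw [hΔdef]; rfl
  obtain ⟨hΓfin, _⟩ := gaps_submodule (Subalgebra.toSubmodule A) c hc Γ hΓ
  obtain ⟨hΔfin, _⟩ := gaps_submodule (I.restrictScalars k) c hcI Δ hΔ
  have hΓΔ : Γ ⊆ Δ := fun n hn => by
    obtain ⟨f, hf, hfo⟩ := (hΓ n).mp hn
    exact (hΔ n).mpr ⟨f, hAI f hf, hfo⟩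
  have hd : Δᶜ.ncard ≤ Γᶜ.ncard := Set.ncard_le_ncard (Set.compl_subset_compl.mpr hΓΔ) hΓfin
  have hadd : ∀ s ∈ Γ, ∀ n ∈ Δ, s + n ∈ Δ := by
    intro s hs n hn
    obtain ⟨f, hf, hfo⟩ := (hΔ n).mp hn
    obtain ⟨a, ha, hao⟩ := (hΓ s).mp hs
    refine (hΔ _).mpr ⟨a * f, hsmul a ha f hf, ?_⟩
    rw [order_mul, hao, hfo]
    push_cast
    rfl
  have hN : ∀ n, Γᶜ.ncard + Δᶜ.ncard ≤ n → n ∈ Δ := fun n hn =>
    mem_of_ncard_compl_add_le Γ Δ hΓfin hΔfin hadd n hn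
  have hmemN : ∀ f : PowerSeries k, ((Γᶜ.ncard + Δᶜ.ncard : ℕ) : ℕ∞) ≤ f.order → f ∈ I :=
    mem_of_le_order (I.restrictScalars k) c hcI Δ hΔ _ hN
  -- the shift
  obtain ⟨e, he⟩ : ∃ e : ℕ, e = Γᶜ.ncard - Δᶜ.ncard := ⟨_, rfl⟩
  let ν : PowerSeries k →ₗ[↥A] PowerSeries k := LinearMap.mulLeft ↥A ((X : PowerSeries k) ^ e)
  have hνdef : ∀ f, ν f = (X : PowerSeries k) ^ e * f := fun f => rfl
  have hν : Function.Injective ν := fun x y h => by
    rw [hνdef, hνdef] at h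
    exact mul_left_cancel₀ (pow_ne_zero e X_ne_zero) h
  refine ⟨I.map ν, ?_, ⟨eJI.trans (Submodule.equivMapOfInjective ν hν I)⟩, ?_⟩
  · intro x hx
    rw [Submodule.restrictScalars_mem, Ideal.mem_span_singleton'] at hx
    obtain ⟨h, rfl⟩ := hx
    refine ⟨(X : PowerSeries k) ^ (Γᶜ.ncard + Δᶜ.ncard) * h, hmemN _ ?_, ?_⟩
    · rw [order_mul, order_X_pow]
      exact le_self_add
    · rw [hνdef, ← mul_assoc, ← pow_add, mul_comm]
      congr 2
      omega
  · obtain ⟨Δ', hΔ'def⟩ : ∃ Δ' : Set ℕ, Δ' = {n | e ≤ n ∧ n - e ∈ Δ} := ⟨_, rfl⟩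
    have hc' : ∀ g : PowerSeries k, ((c + e : ℕ) : ℕ∞) ≤ g.order →
        g ∈ (I.map ν).restrictScalars k := by
      intro g hg
      have h1 : (X : PowerSeries k) ^ e ∣ g := by
        rw [X_pow_dvd_iff]
        intro m hm
        apply coeff_of_lt_order
        refine lt_of_lt_of_le ?_ hg
        have : m < c + e := by omega
        exact_mod_cast this
      obtain ⟨g', rfl⟩ := h1
      refine ⟨g', hAI g' (hc g' ?_), rfl⟩
      rw [order_mul, order_X_pow] at hg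
      by_cases hg0 : g' = 0
      · rw [hg0, order_zero]; exact le_top
      · rw [← coe_toNat_order hg0] at hg ⊢
        have : c + e ≤ e + g'.order.toNat := by exact_mod_cast hg
        have : c ≤ g'.order.toNat := by omega
        exact_mod_cast this
    have hΔ' : ∀ n, n ∈ Δ' ↔ ∃ f ∈ (I.map ν).restrictScalars k, order f = n := by
      intro n
      rw [hΔ'def]
      constructor
      · rintro ⟨hen, hn⟩
        obtain ⟨f, hf, hfo⟩ := (hΔ _).mp hn
        refine ⟨ν f, ⟨f, hf, rfl⟩, ?_⟩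
        rw [hνdef, order_mul, order_X_pow, hfo]
        have : e + (n - e) = n := by omega
        exact_mod_cast this
      · rintro ⟨_, ⟨f, hf, rfl⟩, hfo⟩
        rw [hνdef, order_mul, order_X_pow] at hfo
        have hf0 : f ≠ 0 := by
          intro h0
          rw [h0, order_zero, add_top] at hfo
          exact ENat.top_ne_natCast _ hfo
        rw [← coe_toNat_order hf0] at hfo
        have hfo' : e + f.order.toNat = n := by exact_mod_cast hfo
        refine ⟨by omega, (hΔ _).mpr ⟨f, hf, ?_⟩⟩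
        rw [← coe_toNat_order hf0]
        have : f.order.toNat = n - e := by omega
        exact_mod_cast this
    obtain ⟨_, hrank⟩ := gaps_submodule ((I.map ν).restrictScalars k) (c + e) hc' Δ' hΔ'
    rw [hrank, hΔ'def, ncard_compl_shift Δ hΔfin e]
    omega

end main

end Groth.Agent.Lib.Helper98
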