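import Mathlib

set_option autoImplicit false
set_option linter.style.haveILetI false
set_option linter.unusedSectionVars false
universe u

namespace Groth.Agent.Lib.Helper98.Multicross

open PowerSeries

section Expansion

variable {k B : Type*} [Field k] [CommRing B] [Algebra k B] (r : B →ₐ[k] k) (ϖ : B)
  (hϖ : ϖ ∈ nonZeroDivisors B) (hr : ∀ b, r b = 0 ↔ ϖ ∣ b)

include hr in
theorem dvd_sub_r (b : B) : ϖ ∣ b - algebraMap k B (r b) := by
  rw [← hr, map_sub, AlgHom.commutes, Algebra.algebraMap_self, RingHom.id_apply, sub_self]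

/-- The shift `(b - r b) / ϖ`. -/
noncomputable def shift (b : B) : B := Classical.choose (dvd_sub_r r ϖ hr b)

theorem shift_spec (b : B) : b = algebraMap k B (r b) + ϖ * shift r ϖ hr b := by
  have := Classical.choose_spec (dvd_sub_r r ϖ hr b)
  unfold shift
  rw [← this]
  ring

include hϖ in
theorem shift_unique (b c : B) (c₀ : k) (h : b = algebraMap k B c₀ + ϖ * c) :
    r b = c₀ ∧ shift r ϖ hr b = c := by
  have h1 : r b = c₀ := by
    rw [h, map_add, AlgHom.commutes, Algebra.algebraMap_self, RingHom.id_apply, map_mul,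
      (hr ϖ).mpr dvd_rfl, zero_mul, add_zero]
  refine ⟨h1, ?_⟩
  have h2 := shift_spec r ϖ hr b
  rw [h1] at h2
  have h3 : ϖ * (shift r ϖ hr b - c) = 0 := by
    have : algebraMap k B c₀ + ϖ * shift r ϖ hr b = algebraMap k B c₀ + ϖ * c := by
      rw [← h2, ← h]
    linear_combination this
  have h4 := (mem_nonZeroDivisors_iff.mp hϖ).1 _ h3
  exact sub_eq_zero.mp h4

include hϖ in
theorem shift_add (b c : B) : shift r ϖ hr (b + c) = shift r ϖ hr b + shift r ϖ hr c := by
  refine (shift_unique r ϖ hϖ hr (b + c) _ (r b + r c) ?_).2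
  conv_lhs => rw [shift_spec r ϖ hr b, shift_spec r ϖ hr c]
  rw [map_add]
  ring

include hϖ in
theorem shift_smul (a : k) (b : B) : shift r ϖ hr (a • b) = a • shift r ϖ hr b := by
  refine (shift_unique r ϖ hϖ hr (a • b) _ (a * r b) ?_).2
  conv_lhs => rw [shift_spec r ϖ hr b]
  rw [map_mul, Algebra.smul_def, Algebra.smul_def]
  ring

include hϖ in
theorem shift_mul_left (b : B) : shift r ϖ hr (ϖ * b) = b ∧ r (ϖ * b) = 0 := by
  have := shift_unique r ϖ hϖ hr (ϖ * b) b 0 (by rw [map_zero, zero_add])
  exact ⟨this.2, this.1⟩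

/-- The `ϖ`-adic expansion as a power series. -/
noncomputable def expand (b : B) : PowerSeries k :=
  PowerSeries.mk fun j => r ((shift r ϖ hr)^[j] b)

theorem expand_eq (b : B) :
    expand r ϖ hr b = C (r b) + X * expand r ϖ hr (shift r ϖ hr b) := by
  ext n
  cases n with
  | zero => simp [expand]
  | succ n =>
    rw [map_add, coeff_succ_X_mul]
    simp [expand]

include hϖ in
theorem expand_add (b c : B) : expand r ϖ hr (b + c) = expand r ϖ hr b + expand r ϖ hr c := by
  ext n
  simp only [expand, coeff_mk, map_add]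
  rw [← map_add]
  congr 1
  induction n generalizing b c with
  | zero => rfl
  | succ n ih =>
    rw [Function.iterate_succ_apply, Function.iterate_succ_apply, Function.iterate_succ_apply,
      shift_add r ϖ hϖ hr, ih]

include hϖ in
theorem expand_smul (a : k) (b : B) : expand r ϖ hr (a • b) = a • expand r ϖ hr b := by
  ext n
  simp only [expand, coeff_mk, coeff_smul]
  rw [← map_smul]
  congr 1
  induction n generalizing b with
  | zero => rfl
  | succ n ih =>
    rw [Function.iterate_succ_apply, Function.iterate_succ_apply, shift_smul r ϖ hϖ hr, ih]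

include hϖ in
theorem expand_mul_left (b : B) : expand r ϖ hr (ϖ * b) = X * expand r ϖ hr b := by
  rw [expand_eq, (shift_mul_left r ϖ hϖ hr b).1, (shift_mul_left r ϖ hϖ hr b).2, map_zero,
    zero_add]

include hϖ in
theorem expand_mul (b c : B) : expand r ϖ hr (b * c) = expand r ϖ hr b * expand r ϖ hr c := by
  ext n
  induction n generalizing b c with
  | zero =>
    rw [coeff_mul]
    simp [expand]
  | succ n ih =>
    have h1 : b * c = r b • c + ϖ * (shift r ϖ hr b * c) := by
      conv_lhs => rw [shift_spec r ϖ hr b]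
      rw [Algebra.smul_def]
      ring
    have h2 : expand r ϖ hr (b * c) =
        r b • expand r ϖ hr c + X * expand r ϖ hr (shift r ϖ hr b * c) := by
      conv_lhs => rw [h1]
      rw [expand_add r ϖ hϖ hr, expand_smul r ϖ hϖ hr, expand_mul_left r ϖ hϖ hr]
    have h3 : expand r ϖ hr b * expand r ϖ hr c =
        r b • expand r ϖ hr c + X * (expand r ϖ hr (shift r ϖ hr b) * expand r ϖ hr c) := by
      conv_lhs => rw [expand_eq r ϖ hr b]
      rw [add_mul, mul_assoc, ← smul_eq_C_mul]
    rw [h2, h3, map_add, map_add, coeff_succ_X_mul, coeff_succ_X_mul, ih]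

include hϖ in
theorem expand_one : expand r ϖ hr (1 : B) = 1 := by
  have h0 := shift_unique r ϖ hϖ hr (1 : B) 0 1 (by rw [map_one, mul_zero, add_zero])
  have hz : expand r ϖ hr (0 : B) = 0 := by
    have := expand_add r ϖ hϖ hr 0 0
    rw [add_zero] at this
    exact left_eq_add.mp this
  rw [expand_eq, h0.1, h0.2, hz, mul_zero, add_zero, map_one]

/-- The expansion as an algebra homomorphism. -/
noncomputable def expandHom : B →ₐ[k] PowerSeries k :=
  AlgHom.ofLinearMap
    { toFun := expand r ϖ hr
      map_add' := expand_add r ϖ hϖ hr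
      map_smul' := expand_smul r ϖ hϖ hr }
    (expand_one r ϖ hϖ hr) (expand_mul r ϖ hϖ hr)

@[simp]
theorem expandHom_apply (b : B) : expandHom r ϖ hϖ hr b = expand r ϖ hr b := rfl

theorem constantCoeff_expand (b : B) : constantCoeff (expand r ϖ hr b) = r b := by
  rw [← coeff_zero_eq_constantCoeff_apply]
  simp [expand]

include hϖ in
theorem expand_self : expand r ϖ hr ϖ = X := by
  have := expand_mul_left r ϖ hϖ hr 1
  rw [mul_one, expand_one r ϖ hϖ hr, mul_one] at this
  exact this

include hϖ in
theorem X_pow_dvd_expand_iff (N : ℕ) (b : B) : X ^ N ∣ expand r ϖ hr b ↔ ϖ ^ N ∣ b := by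
  induction N generalizing b with
  | zero => simp
  | succ N ih =>
    constructor
    · intro h
      have h0 : r b = 0 := by
        rw [← constantCoeff_expand r ϖ hr b]
        obtain ⟨q, hq⟩ := h
        rw [hq, map_mul, map_pow, constantCoeff_X, zero_pow (Nat.succ_ne_zero N), zero_mul]
      have h1 := shift_spec r ϖ hr b
      rw [h0, map_zero, zero_add] at h1
      have h2 : X ^ N ∣ expand r ϖ hr (shift r ϖ hr b) := by
        rw [h1, expand_mul_left r ϖ hϖ hr, pow_succ'] at h
        exact (mul_dvd_mul_iff_left X_ne_zero).mp h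
      rw [h1, pow_succ']
      exact mul_dvd_mul_left ϖ ((ih _).mp h2)
    · rintro ⟨c, rfl⟩
      have : ϖ ^ (N + 1) * c = ϖ * (ϖ ^ N * c) := by rw [pow_succ']; ring
      rw [this, expand_mul_left r ϖ hϖ hr, pow_succ']
      exact mul_dvd_mul_left X ((ih _).mpr (dvd_mul_right _ _))

end Expansion

end Groth.Agent.Lib.Helper98.Multicross
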