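import Mathlib
import Groth.Agent.Lib.Helper18.ComplMap

set_option autoImplicit false
set_option linter.style.haveILetI false
set_option linter.unusedSectionVars false
universe u

namespace Groth.Agent.Lib.Helper98.Multicross

open PowerSeries IsLocalRing Function

section Abstract

variable {k A A' : Type u} [Field k] [CommRing A] [IsLocalRing A] [Algebra k A] [CommRing A']
  [Algebra A A'] [Algebra k A'] [IsScalarTower k A A']
  {ι : Type*} [Fintype ι] [Nonempty ι]
  (m' : ι → Ideal A') [hmax : ∀ i, (m' i).IsMaximal] (hne : Function.Injective m')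
  (hinj : Function.Injective (algebraMap A A'))
  (hJ : ∀ x ∈ ⨅ i, m' i, ∃ a : A, algebraMap A A' a = x)
  (hcomap : ∀ i, (m' i).comap (algebraMap A A') = maximalIdeal A)
  (hres : Function.Bijective (algebraMap k (ResidueField A)))
  (E : ι → A' →ₐ[k] PowerSeries k)
  (hE : ∀ i N a', (X : PowerSeries k) ^ N ∣ E i a' ↔ a' ∈ (m' i) ^ N)
  (π : ι → A') (hπ : ∀ i, E i (π i) = X)

include hne in
theorem pairwise_isCoprime_pow (N : ℕ) : Pairwise (IsCoprime on fun i => (m' i) ^ N) := by
  intro i j hij
  exact (Ideal.isCoprime_of_isMaximal (fun h => hij (hne h))).pow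

include hne in
theorem iInf_pow_eq (N : ℕ) : ⨅ i, (m' i) ^ N = (⨅ i, m' i) ^ N := by
  have h1 := Ideal.prod_eq_iInf_of_pairwise_isCoprime (s := Finset.univ) (J := fun i => (m' i) ^ N)
    (fun i _ j _ hij => pairwise_isCoprime_pow m' hne N hij)
  have h2 := Ideal.prod_eq_iInf_of_pairwise_isCoprime (s := Finset.univ) (J := fun i => m' i)
    (fun i _ j _ hij => by simpa using pairwise_isCoprime_pow m' hne 1 hij)
  simp only [Finset.mem_univ, iInf_pos] at h1 h2
  rw [← h1, ← h2, Finset.prod_pow]

include hJ hcomap in
theorem iInf_eq_map : ⨅ i, m' i = (maximalIdeal A).map (algebraMap A A') := by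
  apply le_antisymm
  · intro x hx
    obtain ⟨a, rfl⟩ := hJ x hx
    apply Ideal.mem_map_of_mem
    obtain ⟨i⟩ := (inferInstance : Nonempty ι)
    rw [← hcomap i, Ideal.mem_comap]
    exact (Ideal.mem_iInf.mp hx) i
  · rw [Ideal.map_le_iff_le_comap]
    intro a ha
    rw [Ideal.mem_comap, Ideal.mem_iInf]
    intro i
    rw [← hcomap i] at ha
    exact ha

include hJ hcomap in
/-- Elements of `𝔪^N A'` come from `𝔪^N` (for `N ≥ 1`). -/
theorem exists_of_mem_map_pow (N : ℕ) (x : A')
    (hx : x ∈ ((maximalIdeal A) ^ (N + 1)).map (algebraMap A A')) :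
    ∃ y ∈ (maximalIdeal A) ^ (N + 1), algebraMap A A' y = x := by
  have hJm := iInf_eq_map m' hJ hcomap
  -- `a' * image(x)` with `x ∈ 𝔪` is the image of an element of `𝔪`
  have hkey : ∀ (a' : A') (μ : A), μ ∈ maximalIdeal A → ∃ y ∈ maximalIdeal A,
      algebraMap A A' y = a' * algebraMap A A' μ := by
    intro a' μ hμ
    have h1 : a' * algebraMap A A' μ ∈ ⨅ i, m' i := by
      rw [hJm]
      exact Ideal.mul_mem_left _ _ (Ideal.mem_map_of_mem _ hμ)
    obtain ⟨y, hy⟩ := hJ _ h1
    refine ⟨y, ?_, hy⟩
    obtain ⟨i⟩ := (inferInstance : Nonempty ι)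
    rw [← hcomap i, Ideal.mem_comap, hy]
    exact (Ideal.mem_iInf.mp h1) i
  have hgen : ∀ (a' : A') (μ : A), μ ∈ (maximalIdeal A) ^ (N + 1) →
      ∃ y ∈ (maximalIdeal A) ^ (N + 1), algebraMap A A' y = a' * algebraMap A A' μ := by
    intro a' μ hμ
    rw [pow_succ'] at hμ
    induction hμ using Submodule.mul_induction_on' generalizing a' with
    | mem_mul_mem p hp q hq =>
      obtain ⟨y, hy, hyy⟩ := hkey a' p hp
      refine ⟨y * q, ?_, ?_⟩
      · rw [pow_succ']
        exact Ideal.mul_mem_mul hy hq
      · rw [map_mul, hyy, map_mul]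
        ring
    | add p hp q hq ihp ihq =>
      obtain ⟨y₁, hy₁, h₁⟩ := ihp a'
      obtain ⟨y₂, hy₂, h₂⟩ := ihq a'
      exact ⟨y₁ + y₂, Ideal.add_mem _ hy₁ hy₂, by rw [map_add, h₁, h₂, map_add, mul_add]⟩
  rw [Ideal.map] at hx
  induction hx using Submodule.span_induction with
  | mem z hz =>
    obtain ⟨μ, hμ, rfl⟩ := hz
    exact ⟨μ, hμ, rfl⟩
  | zero => exact ⟨0, Ideal.zero_mem _, map_zero _⟩
  | add p q _ _ ihp ihq =>
    obtain ⟨y₁, hy₁, h₁⟩ := ihp
    obtain ⟨y₂, hy₂, h₂⟩ := ihq
    exact ⟨y₁ + y₂, Ideal.add_mem _ hy₁ hy₂, by rw [map_add, h₁, h₂]⟩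
  | smul a' p _ ih =>
    obtain ⟨y, hy, rfl⟩ := ih
    obtain ⟨y', hy', h'⟩ := hgen a' y hy
    exact ⟨y', hy', by rw [h', smul_eq_mul]⟩

include hne hinj hJ hcomap hE in
/-- An element of `A` whose expansions are all divisible by `X^N` lies in `𝔪^N`. -/
theorem mem_pow_of_forall_dvd (N : ℕ) (a : A)
    (h : ∀ i, (X : PowerSeries k) ^ N ∣ E i (algebraMap A A' a)) : a ∈ maximalIdeal A ^ N := by
  cases N with
  | zero => simp
  | succ N =>
    have h1 : algebraMap A A' a ∈ ⨅ i, (m' i) ^ (N + 1) :=
      (Ideal.mem_iInf).mpr fun i => (hE i _ _).mp (h i)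
    rw [iInf_pow_eq m' hne, iInf_eq_map m' hJ hcomap, ← Ideal.map_pow] at h1
    obtain ⟨y, hy, hya⟩ := exists_of_mem_map_pow m' hJ hcomap N _ h1
    rwa [← hinj hya]

/-- The maps `A → k⟦X⟧`. -/
noncomputable def gHom (i : ι) : A →+* PowerSeries k :=
  (E i : A' →+* PowerSeries k).comp (algebraMap A A')

include hcomap hE in
theorem map_gHom_le (i : ι) :
    (maximalIdeal A).map (gHom E i) ≤ Ideal.span {(X : PowerSeries k)} := by
  rw [Ideal.map_le_iff_le_comap]
  intro a ha
  rw [Ideal.mem_comap, Ideal.mem_span_singleton]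
  have h1 : algebraMap A A' a ∈ (m' i) ^ 1 := by
    rw [pow_one]
    rw [← hcomap i] at ha
    exact ha
  have h2 := (hE i 1 _).mpr h1
  rwa [pow_one] at h2

/-- The components of the map from the completion. -/
noncomputable def phiComp (i : ι)
    (h : (maximalIdeal A).map (gHom E i) ≤ Ideal.span {(X : PowerSeries k)}) :
    AdicCompletion (maximalIdeal A) A →+* PowerSeries k :=
  ((AdicCompletion.ofAlgEquiv (Ideal.span {(X : PowerSeries k)})).symm :
      AdicCompletion (Ideal.span {(X : PowerSeries k)}) (PowerSeries k) →+* PowerSeries k).comp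
    (FSch.complMap (maximalIdeal A) (Ideal.span {(X : PowerSeries k)}) (gHom E i) h)

theorem phiComp_of (i : ι)
    (h : (maximalIdeal A).map (gHom E i) ≤ Ideal.span {(X : PowerSeries k)}) (a : A) :
    phiComp E i h (AdicCompletion.of (maximalIdeal A) A a) = gHom E i a := by
  unfold phiComp
  rw [RingHom.comp_apply, Groth.Agent.Lib.Helper18.complMap_of]
  exact AdicCompletion.ofAlgEquiv_symm_of _ _

/-- The key congruence. -/
theorem X_pow_dvd_phiComp_sub (i : ι)
    (h : (maximalIdeal A).map (gHom E i) ≤ Ideal.span {(X : PowerSeries k)})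
    (x : AdicCompletion (maximalIdeal A) A) (N : ℕ) (a : A)
    (ha : AdicCompletion.evalₐ (maximalIdeal A) N x = Ideal.Quotient.mk _ a) :
    (X : PowerSeries k) ^ N ∣ phiComp E i h x - gHom E i a := by
  set y := FSch.complMap (maximalIdeal A) (Ideal.span {(X : PowerSeries k)}) (gHom E i) h x with hy
  have h1 : AdicCompletion.of (Ideal.span {(X : PowerSeries k)}) (PowerSeries k)
      (phiComp E i h x) = y := by
    unfold phiComp
    rw [RingHom.comp_apply]
    exact AdicCompletion.of_ofAlgEquiv_symm _ _
  have h2 : AdicCompletion.evalₐ (Ideal.span {(X : PowerSeries k)}) N y =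
      Ideal.Quotient.mk _ (gHom E i a) := by
    rw [hy, Groth.Agent.Lib.Helper18.evalₐ_complMap, ha, Ideal.quotientMap_mk]
  rw [← h1, AdicCompletion.evalₐ_of, Ideal.Quotient.eq, Ideal.span_singleton_pow,
    Ideal.mem_span_singleton] at h2
  exact h2

include hcomap hE hres in
/-- The constant coefficient of the expansion of an element of `A` does not depend on `i`. -/
theorem exists_constantCoeff (a : A) :
    ∃ c : k, ∀ i, constantCoeff (E i (algebraMap A A' a)) = c := by
  obtain ⟨c, hc⟩ := hres.2 (residue A a)
  refine ⟨c, fun i => ?_⟩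
  have h1 : a - algebraMap k A c ∈ maximalIdeal A := by
    rw [← residue_eq_zero_iff, map_sub, sub_eq_zero, ← hc]
    rfl
  have h2 : (X : PowerSeries k) ∣ gHom E i (a - algebraMap k A c) := by
    have := map_gHom_le m' hcomap E hE i (Ideal.mem_map_of_mem _ h1)
    rwa [Ideal.mem_span_singleton] at this
  rw [X_dvd_iff] at h2
  have h3 : gHom E i (a - algebraMap k A c) =
      E i (algebraMap A A' a) - C c := by
    unfold gHom
    rw [RingHom.comp_apply, map_sub, map_sub, ← IsScalarTower.algebraMap_apply]
    congr 1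
    exact (E i).commutes c
  rw [h3, map_sub, sub_eq_zero] at h2
  rw [h2]
  exact constantCoeff_C c

include hne hinj hJ hcomap hres hE hπ in
/-- The abstract multicross theorem. -/
theorem exists_multicross :
    ∃ φ : AdicCompletion (maximalIdeal A) A →+* (ι → PowerSeries k),
      Function.Injective φ ∧
      (∀ c : k, φ (AdicCompletion.of (maximalIdeal A) A (algebraMap k A c)) =
        fun _ => algebraMap k (PowerSeries k) c) ∧
      Set.range φ = {f : ι → PowerSeries k |
        ∀ i j : ι, constantCoeff (f i) = constantCoeff (f j)} := by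
  classical
  have hle := map_gHom_le m' hcomap E hE
  let φ : AdicCompletion (maximalIdeal A) A →+* (ι → PowerSeries k) :=
    RingHom.pi fun i => phiComp E i (hle i)
  have hφ : ∀ x i, φ x i = phiComp E i (hle i) x := fun x i => rfl
  have hrep : ∀ (x : AdicCompletion (maximalIdeal A) A) (N : ℕ), ∃ a : A,
      AdicCompletion.evalₐ (maximalIdeal A) N x = Ideal.Quotient.mk _ a := fun x N =>
    ⟨_, (Ideal.Quotient.mk_surjective _).choose_spec.symm⟩
  refine ⟨φ, ?_, ?_, ?_⟩
  · -- injectivity
    rw [injective_iff_map_eq_zero]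
    intro x hx
    apply AdicCompletion.ext_evalₐ
    intro N
    obtain ⟨a, ha⟩ := hrep x N
    rw [ha, map_zero, Ideal.Quotient.eq_zero_iff_mem]
    apply mem_pow_of_forall_dvd m' hne hinj hJ hcomap E hE N a
    intro i
    have h1 := X_pow_dvd_phiComp_sub E i (hle i) x N a ha
    rw [← hφ, hx, Pi.zero_apply, zero_sub, dvd_neg] at h1
    exact h1
  · intro c
    funext i
    rw [hφ, phiComp_of]
    unfold gHom
    rw [RingHom.comp_apply, ← IsScalarTower.algebraMap_apply]
    exact (E i).commutes c
  · ext f
    simp only [Set.mem_range, Set.mem_ofPred_eq]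
    constructor
    · rintro ⟨x, rfl⟩ i j
      obtain ⟨a, ha⟩ := hrep x 1
      obtain ⟨c, hc⟩ := exists_constantCoeff m' hcomap hres E hE a
      have key : ∀ l, constantCoeff (φ x l) = c := by
        intro l
        have h1 := X_pow_dvd_phiComp_sub E l (hle l) x 1 a ha
        rw [pow_one, X_dvd_iff, map_sub, sub_eq_zero] at h1
        rw [hφ, h1]
        exact hc l
      rw [key i, key j]
    · intro hf
      obtain ⟨i₀⟩ := (inferInstance : Nonempty ι)
      set c := constantCoeff (f i₀) with hc
      -- level-wise approximation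
      have hlevel : ∀ N : ℕ, ∃ a : A, ∀ i, (X : PowerSeries k) ^ N ∣ f i - gHom E i a := by
        intro N
        cases N with
        | zero => exact ⟨0, fun i => by simp⟩
        | succ N =>
          let b : ι → A' := fun i =>
            ∑ j ∈ Finset.range (N + 1), algebraMap k A' (coeff j (f i)) * (π i) ^ j
          have hb : ∀ i, (X : PowerSeries k) ^ (N + 1) ∣ f i - E i (b i) := by
            intro i
            rw [X_pow_dvd_iff]
            intro l hl
            simp only [b, map_sum, map_mul, map_pow, hπ, AlgHom.commutes, map_sub]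
            rw [Finset.sum_eq_single l]
            · have : algebraMap k (PowerSeries k) (coeff l (f i)) = C (coeff l (f i)) := rfl
              rw [this, coeff_C_mul_X_pow, if_pos rfl, sub_self]
            · intro j _ hjl
              have : algebraMap k (PowerSeries k) (coeff j (f i)) = C (coeff j (f i)) := rfl
              rw [this, coeff_C_mul_X_pow, if_neg (Ne.symm hjl)]
            · intro hl'
              exact absurd (Finset.mem_range.mpr hl) hl'
          obtain ⟨a', ha'⟩ := Ideal.exists_forall_sub_mem_ideal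
            (pairwise_isCoprime_pow m' hne (N + 1)) b
          have ha'2 : ∀ i, (X : PowerSeries k) ^ (N + 1) ∣ f i - E i a' := by
            intro i
            have h1 := (hE i (N + 1) _).mpr (ha' i)
            rw [map_sub] at h1
            have : f i - E i a' = (f i - E i (b i)) - (E i a' - E i (b i)) := by ring
            rw [this]
            exact dvd_sub (hb i) h1
          -- `a'` comes from `A`
          have hmem : a' - algebraMap k A' c ∈ ⨅ i, m' i := by
            rw [Ideal.mem_iInf]
            intro i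
            rw [← pow_one (m' i), ← hE i 1, pow_one, X_dvd_iff, map_sub (E i), AlgHom.commutes,
              map_sub]
            have h2 : (X : PowerSeries k) ∣ f i - E i a' :=
              (dvd_pow_self X (Nat.succ_ne_zero N)).trans (ha'2 i)
            rw [X_dvd_iff, map_sub, sub_eq_zero] at h2
            rw [← h2, hf i i₀, ← hc]
            have : algebraMap k (PowerSeries k) c = C c := rfl
            rw [this, constantCoeff_C, sub_self]
          obtain ⟨a₀, ha₀⟩ := hJ _ hmem
          refine ⟨a₀ + algebraMap k A c, fun i => ?_⟩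
          have : gHom E i (a₀ + algebraMap k A c) = E i a' := by
            unfold gHom
            rw [RingHom.comp_apply, map_add, ha₀, ← IsScalarTower.algebraMap_apply, sub_add_cancel]
            rfl
          rw [this]
          exact ha'2 i
      choose a ha using hlevel
      have hcauchy : ∀ {M N : ℕ}, M ≤ N → a M ≡ a N [SMOD (maximalIdeal A ^ M • ⊤ : Submodule A A)] := by
        intro M N hMN
        rw [SModEq.sub_mem, smul_eq_mul, Ideal.mul_top]
        apply mem_pow_of_forall_dvd m' hne hinj hJ hcomap E hE M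
        intro i
        have h1 := ha M i
        have h2 := (pow_dvd_pow X hMN).trans (ha N i)
        have : E i (algebraMap A A' (a M - a N)) = (f i - gHom E i (a N)) - (f i - gHom E i (a M)) := by
          unfold gHom
          rw [map_sub, map_sub, RingHom.comp_apply, RingHom.comp_apply]
          simp only [RingHom.coe_coe]
          ring
        rw [this]
        exact dvd_sub h2 h1
      let x : AdicCompletion (maximalIdeal A) A := AdicCompletion.mk _ _ ⟨a, hcauchy⟩
      refine ⟨x, ?_⟩
      funext i
      -- `φ x i - f i` is divisible by all powers of `X`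
      have hall : ∀ N, (X : PowerSeries k) ^ N ∣ φ x i - f i := by
        intro N
        have h1 := X_pow_dvd_phiComp_sub E i (hle i) x N (a N)
          (AdicCompletion.evalₐ_mk (maximalIdeal A) N ⟨a, hcauchy⟩)
        have : φ x i - f i = (phiComp E i (hle i) x - gHom E i (a N)) - (f i - gHom E i (a N)) := by
          rw [hφ]; ring
        rw [this]
        exact dvd_sub h1 (ha N i)
      have hzero : φ x i - f i = 0 := by
        ext l
        have := (X_pow_dvd_iff.mp (hall (l + 1))) l (Nat.lt_succ_self l)
        rw [this, map_zero]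
      exact sub_eq_zero.mp hzero

end Abstract

end Groth.Agent.Lib.Helper98.Multicross
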