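import Mathlib
import Groth.Agent.Lib.Helper98.MulticrossA

set_option autoImplicit false
set_option linter.style.haveILetI false
set_option linter.unusedSectionVars false
universe u

namespace Groth.Agent.Lib.Helper98.Multicross

open PowerSeries IsLocalRing Function

section Expansion

variable {k A' : Type u} [Field k] [CommRing A'] [Algebra k A'] (m' : Ideal A') [hm : m'.IsMaximal]

theorem mem_pow_iff_algebraMap_mem (N : ℕ) (a' : A') :
    algebraMap A' (Localization.AtPrime m') a' ∈ (maximalIdeal (Localization.AtPrime m')) ^ N ↔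
      a' ∈ m' ^ N := by
  rw [← IsLocalization.AtPrime.map_eq_maximalIdeal m' (Localization.AtPrime m'), ← Ideal.map_pow]
  cases N with
  | zero => simp [Ideal.one_eq_top, Ideal.map_top]
  | succ N =>
    have hprim : (m' ^ (N + 1)).IsPrimary := by
      apply Ideal.isPrimary_of_isMaximal_radical
      rw [Ideal.radical_pow _ (Nat.succ_ne_zero N), hm.isPrime.radical]
      exact hm
    have hdisj : Disjoint (m'.primeCompl : Set A') (m' ^ (N + 1) : Ideal A') := by
      rw [Set.disjoint_left]
      intro x hx hx'
      exact hx (Ideal.pow_le_self (Nat.succ_ne_zero N) hx')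
    have h := IsLocalization.under_map_of_isPrimary_disjoint m'.primeCompl
      (Localization.AtPrime m') hprim hdisj
    conv_rhs => rw [← h]
    rfl

variable [IsDomain (Localization.AtPrime m')] [IsDiscreteValuationRing (Localization.AtPrime m')]

theorem exists_uniformizer :
    ∃ π : A', Irreducible (algebraMap A' (Localization.AtPrime m') π) := by
  obtain ⟨ϖ₀, h₀⟩ := IsDiscreteValuationRing.exists_irreducible (Localization.AtPrime m')
  obtain ⟨a', s, hs⟩ := IsLocalization.exists_mk'_eq m'.primeCompl ϖ₀
  refine ⟨a', ?_⟩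
  have h1 : algebraMap A' (Localization.AtPrime m') a' =
      ϖ₀ * algebraMap A' (Localization.AtPrime m') s := by
    rw [← hs, IsLocalization.mk'_spec]
  have hu : IsUnit (algebraMap A' (Localization.AtPrime m') s) :=
    IsLocalization.map_units (Localization.AtPrime m') s
  rw [h1]
  exact (associated_mul_unit_right ϖ₀ _ hu).irreducible h₀

include hm in
theorem exists_expansion (hres : Function.Surjective (algebraMap k (A' ⧸ m'))) :
    ∃ (E : A' →ₐ[k] PowerSeries k) (π : A'), E π = X ∧
      ∀ (N : ℕ) (a' : A'), (X : PowerSeries k) ^ N ∣ E a' ↔ a' ∈ m' ^ N := by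
  classical
  obtain ⟨π, hπ⟩ := exists_uniformizer m'
  set B := Localization.AtPrime m' with hB
  set ϖ : B := algebraMap A' B π with hϖdef
  have hϖ : ϖ ∈ nonZeroDivisors B := mem_nonZeroDivisors_of_ne_zero hπ.ne_zero
  have hspan : maximalIdeal B = Ideal.span {ϖ} :=
    (IsDiscreteValuationRing.irreducible_iff_uniformizer ϖ).mp hπ
  -- the residue field of `B` is `k`
  have hbij : Function.Bijective (algebraMap k (ResidueField B)) := by
    refine ⟨(algebraMap k (ResidueField B)).injective, fun y => ?_⟩
    obtain ⟨c, hc⟩ := hres ((IsLocalization.AtPrime.equivQuotMaximalIdeal m' B).symm y)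
    refine ⟨c, ?_⟩
    have h2 := congrArg (IsLocalization.AtPrime.equivQuotMaximalIdeal m' B) hc
    have h3 : (IsLocalization.AtPrime.equivQuotMaximalIdeal m' B)
        ((IsLocalization.AtPrime.equivQuotMaximalIdeal m' B).symm y) = y :=
      RingEquiv.apply_symm_apply _ _
    rw [h3] at h2
    rw [← h2, IsScalarTower.algebraMap_apply k B (ResidueField B),
      IsScalarTower.algebraMap_apply k A' B]
    rfl
  let e : k ≃ₐ[k] ResidueField B := AlgEquiv.ofBijective (Algebra.ofId k (ResidueField B)) hbij
  let r : B →ₐ[k] k := (e.symm : ResidueField B →ₐ[k] k).comp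
    (IsScalarTower.toAlgHom k B (ResidueField B))
  have hr : ∀ b, r b = 0 ↔ ϖ ∣ b := by
    intro b
    have : r b = e.symm (residue B b) := rfl
    rw [this, map_eq_zero_iff _ e.symm.injective, residue_eq_zero_iff, hspan,
      Ideal.mem_span_singleton]
  refine ⟨(expandHom r ϖ hϖ hr).comp (IsScalarTower.toAlgHom k A' B), π, ?_, ?_⟩
  · rw [AlgHom.comp_apply, expandHom_apply]
    exact expand_self r ϖ hϖ hr
  · intro N a'
    rw [AlgHom.comp_apply, expandHom_apply, X_pow_dvd_expand_iff r ϖ hϖ hr,
      ← mem_pow_iff_algebraMap_mem m' N a', hspan, Ideal.span_singleton_pow,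
      Ideal.mem_span_singleton]
    rfl

end Expansion

end Groth.Agent.Lib.Helper98.Multicross
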