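import Mathlib
import Groth.Agent.Lib.Helper98.MulticrossB
import Groth.Agent.Lib.Helper98.MulticrossC
import Groth.Agent.Lib.Helper98.WedgeDVR
import Groth.Agent.Lib.Helper98.DeltaBaseChangeC
import Groth.Agent.Lib.Helper98.NormalizationSemilocalA
import Groth.Agent.Lib.Helper38.Delta
import Groth.Agent.Lib.Helper38.Branch2
import Groth.Prelude.Def_Curv2
import Groth.Prelude.Def_Brnch

set_option autoImplicit false
set_option linter.style.haveILetI false
set_option linter.unusedSectionVars false
universe u

namespace Groth.Agent.Lib.Helper98.Multicross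

open PowerSeries IsLocalRing Function

/-- For a reduced ring the number of branches is the number of maximal ideals of the
normalization. -/
theorem numBranches_eq_card (A : Type u) [CommRing A] [IsLocalRing A] [IsReduced A]
    (hfinmin : (minimalPrimes A).Finite) :
    Brnch.numBranches A = ENat.card (MaximalSpectrum (integralClosure A (FractionRing A))) := by
  classical
  unfold Brnch.numBranches
  rw [if_pos hfinmin]
  have hbij : Function.Bijective (Ideal.Quotient.mk (nilradical A)) := by
    refine ⟨?_, Ideal.Quotient.mk_surjective⟩
    rw [RingHom.injective_iff_ker_eq_bot, Ideal.mk_ker, nilradical_eq_zero]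
    rfl
  let e : A ≃+* CAlg2.red A := RingEquiv.ofBijective (Ideal.Quotient.mk (nilradical A)) hbij
  obtain ⟨ψ, hψsurj, -⟩ := Groth.Agent.Lib.Helper38.exists_ringHom_integralClosure_of_ringEquiv e
  obtain ⟨ψ', hψ'surj, -⟩ :=
    Groth.Agent.Lib.Helper38.exists_ringHom_integralClosure_of_ringEquiv e.symm
  apply le_antisymm
  · refine ENat.card_le_card_of_injective
      (f := fun N : MaximalSpectrum (CAlg2.normRed A) =>
        (⟨N.asIdeal.comap ψ, Ideal.comap_isMaximal_of_surjective ψ hψsurj⟩ :
          MaximalSpectrum (integralClosure A (FractionRing A)))) ?_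
    intro N1 N2 h
    have h' : N1.asIdeal.comap ψ = N2.asIdeal.comap ψ := congrArg MaximalSpectrum.asIdeal h
    exact MaximalSpectrum.ext (Ideal.comap_injective_of_surjective ψ hψsurj h')
  · refine ENat.card_le_card_of_injective
      (f := fun N : MaximalSpectrum (integralClosure A (FractionRing A)) =>
        (⟨N.asIdeal.comap ψ', Ideal.comap_isMaximal_of_surjective ψ' hψ'surj⟩ :
          MaximalSpectrum (CAlg2.normRed A))) ?_
    intro N1 N2 h
    have h' : N1.asIdeal.comap ψ' = N2.asIdeal.comap ψ' := congrArg MaximalSpectrum.asIdeal h
    exact MaximalSpectrum.ext (Ideal.comap_injective_of_surjective ψ' hψ'surj h')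


/-- The multicross theorem. -/
theorem multicross_of_deltaInv (k : Type u) [Field k]
    (A : Type u) [CommRing A] [IsLocalRing A] [Algebra k A] [IsReduced A]
    (hdim : ringKrullDim A = 1) (hN : CAlg.IsNagata A)
    (hres : Function.Bijective (algebraMap k (IsLocalRing.ResidueField A)))
    (n : ℕ) (hn : Brnch.numBranches A = n) (hδn : Curv2.deltaInv A + 1 = n) :
    ∃ φ : AdicCompletion (IsLocalRing.maximalIdeal A) A →+* (Fin n → PowerSeries k),
      Function.Injective φ ∧
      (∀ c : k, φ (AdicCompletion.of (IsLocalRing.maximalIdeal A) A (algebraMap k A c)) =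
        fun _ => algebraMap k (PowerSeries k) c) ∧
      Set.range φ = {f : Fin n → PowerSeries k |
        ∀ i j : Fin n, PowerSeries.constantCoeff (f i) = PowerSeries.constantCoeff (f j)} := by
  classical
  haveI : IsNoetherianRing A := hN.1
  have hfin : Module.Finite A (integralClosure A (FractionRing A)) :=
    Groth.Agent.Lib.Helper38.finite_integralClosure_of_isNagata A hN
  haveI := hfin
  haveI : Finite (MaximalSpectrum (integralClosure A (FractionRing A))) :=
    Groth.Agent.Lib.Helper98.NormalizationSemilocal.finite_maximalSpectrum_integralClosure A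
  haveI : Fintype (MaximalSpectrum (integralClosure A (FractionRing A))) := Fintype.ofFinite _
  have hfinmin : (minimalPrimes A).Finite := minimalPrimes.finite_of_isNoetherianRing A
  -- the delta invariant is finite
  have hδfin : Curv2.deltaInv A ≠ ⊤ :=
    Module.length_ne_top_iff.mpr
      (Groth.Agent.Lib.Helper38.isFiniteLength_quotient_range (K := FractionRing A) hdim.le
        (integralClosure A (FractionRing A)))
  have hcard : (Fintype.card (MaximalSpectrum (integralClosure A (FractionRing A))) : ℕ∞) = n := by
    rw [← hn, numBranches_eq_card A hfinmin, ENat.card_eq_coe_fintype_card]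
  have hcard' : Fintype.card (MaximalSpectrum (integralClosure A (FractionRing A))) = n := by
    exact_mod_cast hcard
  -- the Jacobson radical of the normalization
  have hJ : (IsLocalRing.maximalIdeal A).map
      (algebraMap A (integralClosure A (FractionRing A))) ≤
      ⨅ m' : MaximalSpectrum (integralClosure A (FractionRing A)), m'.asIdeal := by
    rw [Ideal.map_le_iff_le_comap]
    intro a ha
    rw [Ideal.mem_comap, Ideal.mem_iInf]
    intro m'
    haveI := m'.isMaximal
    have h := Groth.Agent.Lib.Helper98.DeltaBaseChange.comap_eq_maximalIdeal_of_isMaximal A m'.asIdeal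
    rw [← h] at ha
    exact ha
  have hle1 := Groth.Agent.Lib.Helper98.WedgeDVR.length_quotient_le (A := A)
    (⨅ m' : MaximalSpectrum (integralClosure A (FractionRing A)), m'.asIdeal) hJ
  have hsum := Groth.Agent.Lib.Helper98.WedgeDVR.length_quotient_iInf (A := A)
    (B := integralClosure A (FractionRing A))
  have hge1 : ∀ m' : MaximalSpectrum (integralClosure A (FractionRing A)),
      1 ≤ Module.length A (integralClosure A (FractionRing A) ⧸ m'.asIdeal) := by
    intro m'
    haveI : Nontrivial (integralClosure A (FractionRing A) ⧸ m'.asIdeal) :=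
      Ideal.Quotient.nontrivial_iff.mpr m'.isMaximal.ne_top
    exact Order.one_le_iff_pos.mpr Module.length_pos
  have hδ : Curv2.deltaInv A = Module.length A (integralClosure A (FractionRing A) ⧸
      LinearMap.range (Algebra.linearMap A (integralClosure A (FractionRing A)))) := rfl
  have hchain : ∑ m' : MaximalSpectrum (integralClosure A (FractionRing A)),
      Module.length A (integralClosure A (FractionRing A) ⧸ m'.asIdeal) ≤
      Fintype.card (MaximalSpectrum (integralClosure A (FractionRing A))) := by
    rw [← hsum, hcard, ← hδn]
    exact hle1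
  have hone := Groth.Agent.Lib.Helper98.WedgeDVR.forall_eq_one_of_sum_le _ hge1 hchain
  have hge : Module.length A (integralClosure A (FractionRing A) ⧸
      LinearMap.range (Algebra.linearMap A (integralClosure A (FractionRing A)))) + 1 ≤
      Module.length A (integralClosure A (FractionRing A) ⧸
        (⨅ m' : MaximalSpectrum (integralClosure A (FractionRing A)),
          m'.asIdeal).restrictScalars A) := by
    rw [← hδ, hδn, hsum, ← hcard]
    calc ((Fintype.card (MaximalSpectrum (integralClosure A (FractionRing A))) : ℕ) : ℕ∞)
        = ∑ _m' : MaximalSpectrum (integralClosure A (FractionRing A)), (1 : ℕ∞) := by simp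
      _ ≤ _ := Finset.sum_le_sum (fun i _ => hge1 i)
  have hJle := Groth.Agent.Lib.Helper98.WedgeDVR.le_range_of_length_le (A := A)
    (⨅ m' : MaximalSpectrum (integralClosure A (FractionRing A)), m'.asIdeal) hJ hδfin hge
  -- the `k`-algebra structure on the normalization
  letI : Algebra k (integralClosure A (FractionRing A)) :=
    ((algebraMap A (integralClosure A (FractionRing A))).comp (algebraMap k A)).toAlgebra
  haveI : IsScalarTower k A (integralClosure A (FractionRing A)) :=
    IsScalarTower.of_algebraMap_eq (fun _ => rfl)
  -- the data of the abstract theorem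
  haveI : Nonempty (MaximalSpectrum (integralClosure A (FractionRing A))) := by
    obtain ⟨M, hM⟩ := Ideal.exists_maximal (integralClosure A (FractionRing A))
    exact ⟨⟨M, hM⟩⟩
  have hne : Function.Injective
      (fun m' : MaximalSpectrum (integralClosure A (FractionRing A)) => m'.asIdeal) :=
    fun m1 m2 h => MaximalSpectrum.ext h
  have hinj : Function.Injective (algebraMap A (integralClosure A (FractionRing A))) :=
    fun a b h => IsFractionRing.injective A (FractionRing A) (congrArg Subtype.val h)
  have hJ' : ∀ x ∈ ⨅ m' : MaximalSpectrum (integralClosure A (FractionRing A)), m'.asIdeal,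
      ∃ a : A, algebraMap A (integralClosure A (FractionRing A)) a = x := by
    intro x hx
    obtain ⟨a, ha⟩ := hJle (show x ∈ (⨅ m' : MaximalSpectrum (integralClosure A (FractionRing A)),
      m'.asIdeal).restrictScalars A from hx)
    exact ⟨a, ha⟩
  have hcomap : ∀ m' : MaximalSpectrum (integralClosure A (FractionRing A)),
      m'.asIdeal.comap (algebraMap A (integralClosure A (FractionRing A))) = maximalIdeal A := by
    intro m'
    haveI := m'.isMaximal
    exact Groth.Agent.Lib.Helper98.DeltaBaseChange.comap_eq_maximalIdeal_of_isMaximal A m'.asIdeal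
  have hexp : ∀ m' : MaximalSpectrum (integralClosure A (FractionRing A)),
      ∃ (E : integralClosure A (FractionRing A) →ₐ[k] PowerSeries k)
        (π : integralClosure A (FractionRing A)), E π = X ∧
        ∀ (N : ℕ) (a' : integralClosure A (FractionRing A)),
          (X : PowerSeries k) ^ N ∣ E a' ↔ a' ∈ m'.asIdeal ^ N := by
    intro m'
    haveI := m'.isMaximal
    obtain ⟨hdom, hdvr⟩ :=
      Groth.Agent.Lib.Helper98.DeltaBaseChange.isDiscreteValuationRing_localization_integralClosure
        A hdim hfin m'.asIdeal
    haveI := hdom
    haveI := hdvr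
    apply exists_expansion m'.asIdeal
    intro y
    obtain ⟨a, ha⟩ := Groth.Agent.Lib.Helper98.WedgeDVR.surjective_of_length_eq_one (A := A)
      m'.asIdeal (hone m') y
    obtain ⟨c, hc⟩ := hres.2 (residue A a)
    refine ⟨c, ?_⟩
    rw [← ha]
    have h1 : a - algebraMap k A c ∈ maximalIdeal A := by
      rw [← residue_eq_zero_iff, map_sub, sub_eq_zero, ← hc]
      rfl
    rw [← hcomap m', Ideal.mem_comap, ← Ideal.Quotient.eq_zero_iff_mem, map_sub, map_sub, sub_eq_zero] at h1
    rw [RingHom.comp_apply, h1]
    rfl
  choose E π hπ hE using hexp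
  obtain ⟨φ, hφinj, hφk, hφrange⟩ := exists_multicross
    (fun m' : MaximalSpectrum (integralClosure A (FractionRing A)) => m'.asIdeal)
    (hmax := fun m' : MaximalSpectrum (integralClosure A (FractionRing A)) => m'.isMaximal) hne hinj hJ' hcomap hres E hE π hπ
  -- transport to `Fin n`
  let e : MaximalSpectrum (integralClosure A (FractionRing A)) ≃ Fin n :=
    Fintype.equivFinOfCardEq hcard'
  refine ⟨RingHom.pi fun j => (Pi.evalRingHom _ (e.symm j)).comp φ, ?_, ?_, ?_⟩
  · intro x y hxy
    apply hφinj
    funext i
    have := congrFun hxy (e i)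
    simpa using this
  · intro c
    funext j
    have := congrFun (hφk c) (e.symm j)
    simpa using this
  · ext f
    simp only [Set.mem_range, Set.mem_ofPred_eq]
    constructor
    · rintro ⟨x, rfl⟩ i j
      have hx : φ x ∈ Set.range φ := ⟨x, rfl⟩
      rw [hφrange] at hx
      exact hx (e.symm i) (e.symm j)
    · intro hf
      have hx : (fun i => f (e i)) ∈ Set.range φ := by
        rw [hφrange]
        intro i j
        exact hf (e i) (e j)
      obtain ⟨x, hx⟩ := hx
      refine ⟨x, ?_⟩
      funext j
      have := congrFun hx (e.symm j)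
      simpa using this

end Groth.Agent.Lib.Helper98.Multicross
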