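import Mathlib

set_option autoImplicit false
set_option linter.style.haveILetI false
set_option linter.unusedSectionVars false
universe u

namespace Groth.Agent.Lib.Helper98.Multicross

open Function Finsupp

section Axis

variable {σ : Type*} {k : Type*} [CommRing k]

/-- Restriction of a multivariate power series to the `i`-th axis. -/
noncomputable def axis (i : σ) (f : MvPowerSeries σ k) : PowerSeries k :=
  PowerSeries.mk fun d => MvPowerSeries.coeff (single i d) f

@[simp]
theorem coeff_axis (i : σ) (d : ℕ) (f : MvPowerSeries σ k) :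
    PowerSeries.coeff d (axis i f) = MvPowerSeries.coeff (single i d) f := by
  simp [axis]

theorem constantCoeff_axis (i : σ) (f : MvPowerSeries σ k) :
    PowerSeries.constantCoeff (axis i f) = MvPowerSeries.constantCoeff f := by
  rw [← PowerSeries.coeff_zero_eq_constantCoeff_apply, coeff_axis, single_zero]
  rfl

theorem axis_add (i : σ) (f g : MvPowerSeries σ k) : axis i (f + g) = axis i f + axis i g := by
  ext d
  simp

theorem axis_mul (i : σ) (f g : MvPowerSeries σ k) : axis i (f * g) = axis i f * axis i g := by
  classical
  ext d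
  rw [coeff_axis, MvPowerSeries.coeff_mul, PowerSeries.coeff_mul, antidiagonal_single,
    Finset.sum_map]
  refine Finset.sum_congr rfl fun p _ => ?_
  simp

theorem axis_C (i : σ) (c : k) : axis i (MvPowerSeries.C c : MvPowerSeries σ k) = PowerSeries.C c := by
  classical
  ext d
  rw [coeff_axis, MvPowerSeries.coeff_C, PowerSeries.coeff_C]
  simp [single_eq_zero]

theorem axis_one (i : σ) : axis i (1 : MvPowerSeries σ k) = 1 := by
  have := axis_C (σ := σ) i (1 : k)
  simpa using this

theorem axis_X_self (i : σ) : axis i (MvPowerSeries.X i : MvPowerSeries σ k) = PowerSeries.X := by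
  classical
  ext d
  rw [coeff_axis, MvPowerSeries.coeff_X, PowerSeries.coeff_X]
  by_cases hd : d = 1
  · subst hd; simp
  · rw [if_neg hd, if_neg]
    intro h'
    have := congrArg (fun f => f i) h'
    simp at this
    exact hd this

theorem axis_X_of_ne {i j : σ} (h : j ≠ i) :
    axis i (MvPowerSeries.X j : MvPowerSeries σ k) = 0 := by
  classical
  ext d
  rw [coeff_axis, MvPowerSeries.coeff_X, map_zero, if_neg]
  intro h'
  have := congrArg (fun f => f j) h'
  simp [h.symm] at this

/-- The `i`-th axis restriction as an algebra map. -/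
noncomputable def axisHom (i : σ) : MvPowerSeries σ k →ₐ[k] PowerSeries k where
  toFun := axis i
  map_one' := axis_one i
  map_mul' := axis_mul i
  map_zero' := by ext d; simp
  map_add' := axis_add i
  commutes' c := axis_C i c

@[simp] theorem axisHom_apply (i : σ) (f : MvPowerSeries σ k) : axisHom i f = axis i f := rfl

end Axis


section MonomialIdeal

variable {σ : Type*} {k : Type*} [CommRing k]

/-- A power series all of whose monomials are divisible by one of finitely many given monomials
lies in the ideal generated by these monomials. -/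
theorem mem_span_monomial_of_forall (S : Finset (σ →₀ ℕ)) (f : MvPowerSeries σ k)
    (hf : ∀ μ, MvPowerSeries.coeff μ f ≠ 0 → ∃ s ∈ S, s ≤ μ) :
    f ∈ Ideal.span ((fun s => MvPowerSeries.monomial s (1 : k)) '' (S : Set (σ →₀ ℕ))) := by
  classical
  by_cases hS : S.Nonempty
  swap
  · rw [Finset.not_nonempty_iff_eq_empty] at hS
    have : f = 0 := by
      ext μ
      by_contra h
      obtain ⟨s, hs, -⟩ := hf μ h
      rw [hS] at hs
      exact absurd hs (Finset.notMem_empty s)
    rw [this]
    exact Ideal.zero_mem _
  obtain ⟨s₀, hs₀⟩ := hS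
  let sel : (σ →₀ ℕ) → (σ →₀ ℕ) := fun μ =>
    if h : ∃ s ∈ S, s ≤ μ then h.choose else s₀
  have hsel : ∀ μ, MvPowerSeries.coeff μ f ≠ 0 → sel μ ∈ S ∧ sel μ ≤ μ := by
    intro μ h
    have h' := hf μ h
    simp only [sel, dif_pos h']
    exact h'.choose_spec
  let hfun : (σ →₀ ℕ) → MvPowerSeries σ k := fun s ν =>
    if sel (ν + s) = s then MvPowerSeries.coeff (ν + s) f else 0
  have hdecomp : f = ∑ s ∈ S, MvPowerSeries.monomial s (1 : k) * hfun s := by
    ext μ
    rw [map_sum]
    simp only [MvPowerSeries.coeff_monomial_mul, one_mul]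
    by_cases h : MvPowerSeries.coeff μ f = 0
    · rw [h]
      symm
      apply Finset.sum_eq_zero
      intro s _
      split_ifs with h1
      · show (if sel (μ - s + s) = s then MvPowerSeries.coeff (μ - s + s) f else 0) = 0
        rw [tsub_add_cancel_of_le h1, h, ite_self]
      · rfl
    · obtain ⟨h1, h2⟩ := hsel μ h
      rw [Finset.sum_eq_single (sel μ)]
      · rw [if_pos h2]
        show _ = (if sel (μ - sel μ + sel μ) = sel μ then
          MvPowerSeries.coeff (μ - sel μ + sel μ) f else 0)
        rw [tsub_add_cancel_of_le h2, if_pos rfl]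
      · intro s _ hs
        split_ifs with h3
        · show (if sel (μ - s + s) = s then MvPowerSeries.coeff (μ - s + s) f else 0) = 0
          rw [tsub_add_cancel_of_le h3, if_neg (Ne.symm hs)]
        · rfl
      · intro h3
        exact absurd h1 h3
  rw [hdecomp]
  apply Ideal.sum_mem
  intro s hs
  apply Ideal.mul_mem_right
  apply Ideal.subset_span
  exact ⟨s, hs, rfl⟩

end MonomialIdeal


section MultiAxis

variable {σ : Type*} {k : Type*} [CommRing k]

/-- All axis restrictions together. -/
noncomputable def multiAxis : MvPowerSeries σ k →ₐ[k] (σ → PowerSeries k) :=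
  AlgHom.pi fun i => axisHom i

@[simp] theorem multiAxis_apply (f : MvPowerSeries σ k) (i : σ) : multiAxis f i = axis i f := rfl

theorem range_multiAxis :
    Set.range (multiAxis : MvPowerSeries σ k → (σ → PowerSeries k)) =
      {g : σ → PowerSeries k | ∀ i j : σ,
        PowerSeries.constantCoeff (g i) = PowerSeries.constantCoeff (g j)} := by
  classical
  ext g
  simp only [Set.mem_range, Set.mem_ofPred_eq]
  constructor
  · rintro ⟨f, rfl⟩ i j
    rw [multiAxis_apply, multiAxis_apply, constantCoeff_axis, constantCoeff_axis]
  · intro hg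
    rcases isEmpty_or_nonempty σ with hσ | ⟨⟨i₀⟩⟩
    · exact ⟨0, funext fun i => (hσ.false i).elim⟩
    · let f : MvPowerSeries σ k := fun μ =>
        if μ = 0 then PowerSeries.constantCoeff (g i₀)
        else ∑ i ∈ μ.support, if μ = single i (μ i) then PowerSeries.coeff (μ i) (g i) else 0
      refine ⟨f, funext fun i => ?_⟩
      ext d
      rw [multiAxis_apply, coeff_axis]
      show f (single i d) = _
      by_cases hd : d = 0
      · subst hd
        simp only [f, single_zero, if_pos]
        rw [PowerSeries.coeff_zero_eq_constantCoeff_apply]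
        exact hg i₀ i
      · have h1 : single i d ≠ 0 := by
          rw [Ne, single_eq_zero]; exact hd
        simp only [f, if_neg h1, support_single _ hd, Finset.sum_singleton, single_eq_same,
          if_pos]

theorem X_mul_X_mem_ker_multiAxis {i j : σ} (h : i ≠ j) :
    (MvPowerSeries.X i * MvPowerSeries.X j : MvPowerSeries σ k) ∈
      RingHom.ker (multiAxis : MvPowerSeries σ k →ₐ[k] (σ → PowerSeries k)) := by
  rw [RingHom.mem_ker]
  funext l
  rw [multiAxis_apply, axis_mul, Pi.zero_apply]
  by_cases hl : i = l
  · subst hl
    rw [axis_X_of_ne (Ne.symm h), mul_zero]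
  · rw [axis_X_of_ne hl, zero_mul]

theorem ker_multiAxis [Finite σ] [Nonempty σ] :
    RingHom.ker (multiAxis : MvPowerSeries σ k →ₐ[k] (σ → PowerSeries k)) =
      Ideal.span {f : MvPowerSeries σ k |
        ∃ i j : σ, i ≠ j ∧ f = MvPowerSeries.X i * MvPowerSeries.X j} := by
  classical
  haveI := Fintype.ofFinite σ
  apply le_antisymm
  · intro f hf
    rw [RingHom.mem_ker] at hf
    have hax : ∀ i d, MvPowerSeries.coeff (single i d) f = 0 := by
      intro i d
      have := congrFun hf i
      rw [multiAxis_apply, Pi.zero_apply] at this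
      rw [← coeff_axis, this, map_zero]
    let S : Finset (σ →₀ ℕ) :=
      (Finset.univ.filter fun p : σ × σ => p.1 ≠ p.2).image fun p => single p.1 1 + single p.2 1
    have hmem := mem_span_monomial_of_forall S f (by
      intro μ hμ
      have hcard : 1 < μ.support.card := by
        by_contra hle
        push Not at hle
        rcases Nat.lt_or_ge μ.support.card 1 with h0 | h1
        · have : μ = 0 := by
            rw [← Finsupp.support_eq_empty, ← Finset.card_eq_zero]
            omega
          obtain ⟨i⟩ := (inferInstance : Nonempty σ)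
          apply hμ
          rw [this, ← single_zero i]
          exact hax i 0
        · have h1' : μ.support.card = 1 := le_antisymm hle h1
          obtain ⟨i, hi⟩ := Finset.card_eq_one.mp h1'
          have : μ = single i (μ i) := by
            rw [← Finsupp.support_subset_singleton, hi]
          apply hμ
          rw [this]
          exact hax i _
      obtain ⟨i, hi, j, hj, hij⟩ := Finset.one_lt_card.mp hcard
      refine ⟨single i 1 + single j 1, ?_, ?_⟩
      · simp only [S, Finset.mem_image, Finset.mem_filter, Finset.mem_univ, true_and]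
        exact ⟨(i, j), hij, rfl⟩
      · intro l
        rw [Finsupp.mem_support_iff] at hi hj
        simp only [Finsupp.coe_add, Pi.add_apply, single_apply]
        by_cases h1 : i = l
        · subst h1
          rw [if_pos rfl, if_neg (Ne.symm hij)]
          omega
        · rw [if_neg h1]
          by_cases h2 : j = l
          · subst h2
            rw [if_pos rfl]
            omega
          · rw [if_neg h2]
            omega)
    refine Ideal.span_mono ?_ hmem
    rintro _ ⟨s, hs, rfl⟩
    simp only [S, Finset.coe_image, Set.mem_image, Finset.mem_coe, Finset.mem_filter,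
      Finset.mem_univ, true_and] at hs
    obtain ⟨p, hp, rfl⟩ := hs
    refine ⟨p.1, p.2, hp, ?_⟩
    rw [MvPowerSeries.X_def, MvPowerSeries.X_def, MvPowerSeries.monomial_mul_monomial, one_mul]
  · rw [Ideal.span_le]
    rintro _ ⟨i, j, hij, rfl⟩
    exact X_mul_X_mem_ker_multiAxis hij

/-- The induced map on the quotient by the cross ideal. -/
noncomputable def crossHom (σ : Type*) (k : Type*) [CommRing k] :
    (MvPowerSeries σ k ⧸ Ideal.span {f : MvPowerSeries σ k |
        ∃ i j : σ, i ≠ j ∧ f = MvPowerSeries.X i * MvPowerSeries.X j}) →+* (σ → PowerSeries k) :=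
  Ideal.Quotient.lift _ (multiAxis : MvPowerSeries σ k →ₐ[k] (σ → PowerSeries k)).toRingHom (by
    intro f hf
    have hle : Ideal.span {f : MvPowerSeries σ k |
        ∃ i j : σ, i ≠ j ∧ f = MvPowerSeries.X i * MvPowerSeries.X j} ≤
        RingHom.ker (multiAxis : MvPowerSeries σ k →ₐ[k] (σ → PowerSeries k)) := by
      rw [Ideal.span_le]
      rintro _ ⟨i, j, hij, rfl⟩
      exact X_mul_X_mem_ker_multiAxis hij
    exact hle hf)

theorem crossHom_mk (f : MvPowerSeries σ k) :
    crossHom σ k (Ideal.Quotient.mk _ f) = multiAxis f := rfl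

theorem crossHom_C (c : k) :
    crossHom σ k (Ideal.Quotient.mk _ (MvPowerSeries.C c)) = fun _ => PowerSeries.C c := by
  rw [crossHom_mk]
  funext i
  rw [multiAxis_apply, axis_C]

theorem range_crossHom :
    Set.range (crossHom σ k) =
      {g : σ → PowerSeries k | ∀ i j : σ,
        PowerSeries.constantCoeff (g i) = PowerSeries.constantCoeff (g j)} := by
  rw [← range_multiAxis]
  ext g
  constructor
  · rintro ⟨x, rfl⟩
    obtain ⟨f, rfl⟩ := Ideal.Quotient.mk_surjective x
    exact ⟨f, rfl⟩
  · rintro ⟨f, rfl⟩
    exact ⟨Ideal.Quotient.mk _ f, rfl⟩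

theorem crossHom_injective [Finite σ] [Nonempty σ] : Function.Injective (crossHom σ k) := by
  rw [injective_iff_map_eq_zero]
  intro x hx
  obtain ⟨f, rfl⟩ := Ideal.Quotient.mk_surjective x
  rw [crossHom_mk] at hx
  rw [Ideal.Quotient.eq_zero_iff_mem, ← ker_multiAxis, RingHom.mem_ker]
  exact hx

end MultiAxis

end Groth.Agent.Lib.Helper98.Multicross
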