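import Mathlib
import Groth.Agent.Lib.Helper98.NormInFrac

set_option autoImplicit false
set_option linter.style.haveILetI false
set_option linter.unusedSectionVars false
universe u

namespace Groth.Agent.Lib.Helper98.Multicross

open Function

section NormPi

variable {R : Type*} [CommRing R] {ι : Type*} [Finite ι] (D : ι → Type*) [∀ i, CommRing (D i)]
  [∀ i, IsDomain (D i)] [∀ i, IsIntegrallyClosed (D i)]
  (φ : R →+* (∀ i, D i)) (hφ : Function.Injective φ) (hint : φ.IsIntegral)
  (t : R) (ht : ∀ i, φ t i ≠ 0) (hcond : ∀ p : ∀ i, D i, ∃ r, φ r = φ t * p)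

include hφ ht hcond in
theorem apply_ne_zero_of_mem_nonZeroDivisors {s : R} (hs : s ∈ nonZeroDivisors R) (i : ι) :
    φ s i ≠ 0 := by
  classical
  intro h0
  obtain ⟨r, hr⟩ := hcond (Pi.single i 1)
  have h1 : φ (r * s) = 0 := by
    rw [map_mul, hr]
    funext j
    simp only [Pi.mul_apply, Pi.zero_apply]
    by_cases hj : j = i
    · subst hj; rw [h0, mul_zero]
    · rw [Pi.single_eq_of_ne hj, mul_zero, zero_mul]
  have h2 : r * s = 0 := hφ (by rw [h1, map_zero])
  have h3 : r = 0 := (mem_nonZeroDivisors_iff_right.mp hs) r h2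
  rw [h3, map_zero] at hr
  have h4 := congrFun hr i
  simp only [Pi.zero_apply, Pi.mul_apply, Pi.single_eq_same, mul_one] at h4
  exact ht i h4.symm

include hφ ht in
theorem mem_nonZeroDivisors_of_forall_ne_zero : t ∈ nonZeroDivisors R := by
  rw [mem_nonZeroDivisors_iff_right]
  intro r hr
  apply hφ
  rw [map_zero]
  funext i
  have := congrFun (congrArg φ hr) i
  rw [map_mul, map_zero, Pi.mul_apply, Pi.zero_apply] at this
  exact (mul_eq_zero.mp this).resolve_right (ht i)

include hφ hint ht hcond in
/-- The normalization of a ring finite and birational under a finite product of integrally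
closed domains. -/
theorem exists_ringEquiv_integralClosure_pi :
    ∃ e : integralClosure R (FractionRing R) ≃+* (∀ i, D i),
      ∀ r, e (algebraMap R _ r) = φ r := by
  classical
  haveI := Fintype.ofFinite ι
  let j : (∀ i, D i) →+* (∀ i, FractionRing (D i)) :=
    RingHom.pi fun i => (algebraMap (D i) (FractionRing (D i))).comp (Pi.evalRingHom D i)
  have hj : ∀ p i, j p i = algebraMap (D i) (FractionRing (D i)) (p i) := fun p i => rfl
  have hjinj : Function.Injective j := by
    intro p q hpq
    funext i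
    exact IsFractionRing.injective (D i) (FractionRing (D i)) (by rw [← hj, ← hj, hpq])
  letI : Algebra R (∀ i, FractionRing (D i)) := (j.comp φ).toAlgebra
  have halg : ∀ r, algebraMap R (∀ i, FractionRing (D i)) r = j (φ r) := fun r => rfl
  have hu : ∀ r : nonZeroDivisors R, IsUnit (algebraMap R (∀ i, FractionRing (D i)) r) := by
    intro s
    rw [Pi.isUnit_iff]
    intro i
    rw [halg, hj, isUnit_iff_ne_zero, Ne, map_eq_zero_iff _ (IsFractionRing.injective _ _)]
    exact apply_ne_zero_of_mem_nonZeroDivisors D φ hφ t ht hcond s.2 i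
  have hinj : Function.Injective (algebraMap R (∀ i, FractionRing (D i))) :=
    hjinj.comp hφ
  have hW : ∀ x, x ∈ j.range ↔ IsIntegral R x ∧
      ∃ s ∈ nonZeroDivisors R, ∃ r : R, algebraMap R (∀ i, FractionRing (D i)) s * x =
        algebraMap R (∀ i, FractionRing (D i)) r := by
    intro x
    constructor
    · rintro ⟨p, rfl⟩
      refine ⟨?_, t, mem_nonZeroDivisors_of_forall_ne_zero D φ hφ t ht, ?_⟩
      · have h1 : φ.IsIntegralElem p := hint p
        obtain ⟨P, hP, hP0⟩ := h1
        refine ⟨P, hP, ?_⟩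
        show Polynomial.eval₂ (j.comp φ) (j p) P = 0
        rw [← Polynomial.hom_eval₂, hP0, map_zero]
      · obtain ⟨r, hr⟩ := hcond p
        exact ⟨r, by rw [halg, halg, hr, map_mul]⟩
    · rintro ⟨hx, -⟩
      have hcomp : ∀ i, ∃ d : D i, algebraMap (D i) (FractionRing (D i)) d = x i := by
        intro i
        apply IsIntegrallyClosed.algebraMap_eq_of_integral
        obtain ⟨P, hP, hP0⟩ := hx
        refine ⟨P.map ((Pi.evalRingHom D i).comp φ), hP.map _, ?_⟩
        rw [Polynomial.eval₂_map]
        have h2 := congrArg (Pi.evalRingHom (fun i => FractionRing (D i)) i) hP0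
        rw [Polynomial.hom_eval₂, map_zero] at h2
        exact h2
      choose d hd using hcomp
      exact ⟨d, funext fun i => by rw [hj, hd]⟩
  obtain ⟨e₀, he₀⟩ := Groth.Agent.Lib.Helper98.NormInFrac.exists_ringEquiv_integralClosure hu hinj
    j.range hW
  let e₁ : (∀ i, D i) ≃+* j.range := RingEquiv.ofBijective j.rangeRestrict
    ⟨fun p q h => hjinj (congrArg Subtype.val h), j.rangeRestrict_surjective⟩
  refine ⟨e₀.trans e₁.symm, fun r => ?_⟩
  rw [RingEquiv.trans_apply, RingEquiv.symm_apply_eq]
  apply Subtype.ext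
  rw [he₀]
  show _ = j (φ r)
  rw [← halg]
  exact Groth.Agent.Lib.Helper98.NormInFrac.fracLift_algebraMap hu r

end NormPi


section MaxSpecPi

variable {ι : Type*} [Finite ι] (D : ι → Type*) [∀ i, CommRing (D i)] [∀ i, IsLocalRing (D i)]

/-- The maximal ideals of a finite product of local rings. -/
theorem nonempty_maximalSpectrum_pi_equiv : Nonempty (ι ≃ MaximalSpectrum (∀ i, D i)) := by
  classical
  haveI := Fintype.ofFinite ι
  let f : ι → MaximalSpectrum (∀ i, D i) := fun i =>
    ⟨(IsLocalRing.maximalIdeal (D i)).comap (Pi.evalRingHom D i),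
      Ideal.comap_isMaximal_of_surjective _ (Function.surjective_eval i)⟩
  have hf : ∀ i (p : ∀ i, D i), p ∈ (f i).asIdeal ↔ p i ∈ IsLocalRing.maximalIdeal (D i) :=
    fun i p => Iff.rfl
  refine ⟨Equiv.ofBijective f ⟨?_, ?_⟩⟩
  · intro i j hij
    by_contra hne
    have h1 : (Pi.single i 1 : ∀ i, D i) ∈ (f j).asIdeal := by
      rw [hf, Pi.single_eq_of_ne (Ne.symm hne)]
      exact Ideal.zero_mem _
    rw [← hij, hf, Pi.single_eq_same] at h1
    exact (IsLocalRing.maximalIdeal (D i)).ne_top_iff_one.mp
      (IsLocalRing.maximalIdeal.isMaximal (D i)).ne_top h1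
  · intro M
    by_contra hcon
    have hex : ∀ i, ∃ p ∈ M.asIdeal, p i ∉ IsLocalRing.maximalIdeal (D i) := by
      intro i
      by_contra hi
      push Not at hi
      apply hcon
      refine ⟨i, ?_⟩
      have hle : M.asIdeal ≤ (f i).asIdeal := fun p hp => (hf i p).mpr (hi p hp)
      exact MaximalSpectrum.ext (M.isMaximal.eq_of_le (f i).isMaximal.ne_top hle).symm
    choose p hpM hp using hex
    have hmem : (∑ i, Pi.single i 1 * p i : ∀ i, D i) ∈ M.asIdeal :=
      Ideal.sum_mem _ fun i _ => Ideal.mul_mem_left _ _ (hpM i)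
    have hunit : IsUnit (∑ i, Pi.single i 1 * p i : ∀ i, D i) := by
      rw [Pi.isUnit_iff]
      intro l
      rw [Finset.sum_apply, Finset.sum_eq_single l]
      · rw [Pi.mul_apply, Pi.single_eq_same, one_mul]
        have := hp l
        rwa [IsLocalRing.mem_maximalIdeal, mem_nonunits_iff, not_not] at this
      · intro i _ hil
        rw [Pi.mul_apply, Pi.single_eq_of_ne (Ne.symm hil), zero_mul]
      · intro h
        exact absurd (Finset.mem_univ l) h
    exact M.isMaximal.ne_top (Ideal.eq_top_of_isUnit_mem _ hmem hunit)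

end MaxSpecPi

end Groth.Agent.Lib.Helper98.Multicross
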