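import Mathlib
import Groth.Agent.Lib.Helper98.MulticrossF
import Groth.Agent.Lib.Helper98.MulticrossD
import Groth.Prelude.Def_Curv2
import Groth.Prelude.Def_Brnch

set_option autoImplicit false
set_option linter.style.haveILetI false
set_option linter.unusedSectionVars false
universe u

namespace Groth.Agent.Lib.Helper98.Multicross

open Function PowerSeries

section MC

variable {R : Type u} [CommRing R] {ι : Type*} [Fintype ι] [Nonempty ι] {k : Type*} [Field k]
  (φ : R →+* (ι → PowerSeries k)) (hφ : Function.Injective φ)
  (hrange : Set.range φ = {g : ι → PowerSeries k | ∀ i j : ι,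
    constantCoeff (g i) = constantCoeff (g j)})

include hrange in
theorem exists_apply_eq (g : ι → PowerSeries k)
    (hg : ∀ i j : ι, constantCoeff (g i) = constantCoeff (g j)) : ∃ r, φ r = g := by
  have : g ∈ Set.range φ := by rw [hrange]; exact hg
  exact this

include hrange in
theorem constantCoeff_apply_eq (r : R) (i j : ι) :
    constantCoeff (φ r i) = constantCoeff (φ r j) := by
  have : φ r ∈ Set.range φ := ⟨r, rfl⟩
  rw [hrange] at this
  exact this i j

include hrange in
theorem exists_apply_eq_const (f : PowerSeries k) : ∃ r, φ r = fun _ => f :=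
  exists_apply_eq φ hrange _ fun _ _ => rfl

include hrange in
theorem isIntegral_of_range : φ.IsIntegral := by
  classical
  intro p
  have hp : p = ∑ i, Pi.single i 1 * (fun _ => p i) := by
    funext l
    rw [Finset.sum_apply, Finset.sum_eq_single l]
    · rw [Pi.mul_apply, Pi.single_eq_same, one_mul]
    · intro i _ hil
      rw [Pi.mul_apply, Pi.single_eq_of_ne (Ne.symm hil), zero_mul]
    · intro h
      exact absurd (Finset.mem_univ l) h
  rw [hp]
  haveI : Nontrivial R := φ.domain_nontrivial
  letI := φ.toAlgebra
  show IsIntegral R _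
  refine IsIntegral.sum _ fun i _ => IsIntegral.mul ?_ ?_
  · refine ⟨Polynomial.X ^ 2 - Polynomial.X, ?_, ?_⟩
    · exact Polynomial.monic_X_pow_sub (by
        rw [Polynomial.degree_X]; exact_mod_cast (by norm_num : (1 : ℕ) < 2))
    · simp only [Polynomial.eval₂_sub, Polynomial.eval₂_pow, Polynomial.eval₂_X]
      rw [sub_eq_zero, pow_two, ← Pi.single_mul, one_mul]
  · obtain ⟨r, hr⟩ := exists_apply_eq_const φ hrange (p i)
    rw [← hr]
    exact isIntegral_algebraMap

include hφ hrange in
/-- The normalization of a multicross ring. -/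
theorem exists_ringEquiv_integralClosure_multicross :
    ∃ e : integralClosure R (FractionRing R) ≃+* (ι → PowerSeries k),
      ∀ r, e (algebraMap R _ r) = φ r := by
  obtain ⟨t, ht⟩ := exists_apply_eq_const φ hrange (X : PowerSeries k)
  refine exists_ringEquiv_integralClosure_pi (fun _ : ι => PowerSeries k) φ hφ
    (isIntegral_of_range φ hrange) t ?_ ?_
  · intro i
    rw [ht]
    exact X_ne_zero
  · intro p
    apply exists_apply_eq φ hrange
    intro i j
    rw [ht]
    simp

include hφ hrange in
/-- The δ-invariant of a multicross ring with `n` branches is `n - 1`. -/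
theorem deltaInv_add_one_of_multicross : Curv2.deltaInv R + 1 = Fintype.card ι := by
  classical
  obtain ⟨e, he⟩ := exists_ringEquiv_integralClosure_multicross φ hφ hrange
  -- the constant coefficient
  obtain ⟨i₀⟩ := (inferInstance : Nonempty ι)
  let c : R →+* k := (constantCoeff (R := k)).comp
    ((Pi.evalRingHom (fun _ : ι => PowerSeries k) i₀).comp φ)
  have hc : ∀ r i, constantCoeff (φ r i) = c r := fun r i =>
    constantCoeff_apply_eq φ hrange r i i₀
  have hcsurj : Function.Surjective c := by
    intro a
    obtain ⟨r, hr⟩ := exists_apply_eq_const φ hrange (C a : PowerSeries k)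
    refine ⟨r, ?_⟩
    rw [← hc r i₀, hr, constantCoeff_C]
  letI algk : Algebra R k := c.toAlgebra
  have halgk : ∀ r, algebraMap R k r = c r := fun r => rfl
  let q : integralClosure R (FractionRing R) →ₗ[R] (ι → k) :=
    { toFun := fun x i => constantCoeff (e x i)
      map_add' := fun x y => by funext i; simp
      map_smul' := fun r x => by
        funext i
        rw [Algebra.smul_def, map_mul, he, Pi.mul_apply, map_mul, hc, RingHom.id_apply,
          Pi.smul_apply, Algebra.smul_def, halgk] }
  have hq : ∀ x i, q x i = constantCoeff (e x i) := fun x i => rfl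
  let Δ : Submodule k (ι → k) := Submodule.span k {fun _ => (1 : k)}
  have hΔ : ∀ v : ι → k, v ∈ Δ ↔ ∀ i j, v i = v j := by
    intro v
    rw [Submodule.mem_span_singleton]
    constructor
    · rintro ⟨a, rfl⟩ i j
      rfl
    · intro hv
      refine ⟨v i₀, ?_⟩
      funext i
      rw [Pi.smul_apply, smul_eq_mul, mul_one]
      exact hv i₀ i
  let g : integralClosure R (FractionRing R) →ₗ[R] ((ι → k) ⧸ Δ.restrictScalars R) :=
    (Δ.restrictScalars R).mkQ ∘ₗ q
  have hgsurj : Function.Surjective g := by
    apply (Submodule.mkQ_surjective _).comp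
    intro v
    obtain ⟨x, hx⟩ := e.surjective (fun i => C (v i))
    exact ⟨x, funext fun i => by rw [hq, hx, constantCoeff_C]⟩
  have hgker : LinearMap.ker g =
      LinearMap.range (Algebra.linearMap R (integralClosure R (FractionRing R))) := by
    ext x
    rw [LinearMap.mem_ker, LinearMap.comp_apply, Submodule.mkQ_apply, Submodule.Quotient.mk_eq_zero,
      Submodule.restrictScalars_mem, hΔ, LinearMap.mem_range]
    constructor
    · intro hp
      obtain ⟨r, hr⟩ := exists_apply_eq φ hrange (e x) hp
      refine ⟨r, ?_⟩
      apply e.injective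
      rw [Algebra.linearMap_apply, he, hr]
    · rintro ⟨r, rfl⟩ i j
      rw [hq, hq, Algebra.linearMap_apply, he]
      exact constantCoeff_apply_eq φ hrange r i j
  have h2 : Curv2.deltaInv R = Module.length R ((ι → k) ⧸ Δ.restrictScalars R) :=
    ((Submodule.quotEquivOfEq _ _ hgker.symm).trans
      (g.quotKerEquivOfSurjective hgsurj)).length_eq
  have h3 : Module.length R ((ι → k) ⧸ Δ.restrictScalars R) =
      Module.length k ((ι → k) ⧸ Δ) := by
    rw [(Submodule.Quotient.restrictScalarsEquiv R Δ).length_eq]
    exact Module.length_eq_of_surjective hcsurj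
  have h4 : Module.finrank k ((ι → k) ⧸ Δ) + 1 = Fintype.card ι := by
    have h5 := Submodule.finrank_quotient_add_finrank Δ
    have h6 : Module.finrank k Δ = 1 := by
      apply finrank_span_singleton
      intro h
      have := congrFun h i₀
      simp at this
    rw [h6, Module.finrank_pi] at h5
    exact h5
  rw [h2, h3, Module.length_eq_finrank, ← h4]
  push_cast
  rfl

include hφ in
theorem isReduced_of_multicross : IsReduced R := isReduced_of_injective φ hφ

include hφ in
theorem finite_minimalPrimes_of_multicross : (minimalPrimes R).Finite := by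
  classical
  let P : ι → Ideal R := fun i =>
    RingHom.ker ((Pi.evalRingHom (fun _ : ι => PowerSeries k) i).comp φ)
  haveI hP : ∀ i, (P i).IsPrime := fun i => RingHom.ker_isPrime _
  apply Set.Finite.subset (Set.finite_range P)
  intro 𝔭 h𝔭
  have hprime : 𝔭.IsPrime := h𝔭.1.1
  have hle : ∏ i, P i ≤ 𝔭 := by
    refine le_trans Ideal.prod_le_inf ?_
    intro r hr
    have : r = 0 := by
      apply hφ
      rw [map_zero]
      funext i
      have := (Submodule.mem_finsetInf.mp hr) i (Finset.mem_univ i)
      exact this
    rw [this]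
    exact Ideal.zero_mem _
  obtain ⟨i, -, hi⟩ := (Ideal.IsPrime.prod_le hprime).mp hle
  exact ⟨i, le_antisymm hi (h𝔭.2 ⟨hP i, bot_le⟩ hi)⟩

/-- A ring isomorphism induces a bijection of maximal spectra. -/
noncomputable def maximalSpectrumEquiv {A B : Type*} [CommRing A] [CommRing B] (e : A ≃+* B) :
    MaximalSpectrum A ≃ MaximalSpectrum B where
  toFun M := ⟨M.asIdeal.comap (e.symm : B →+* A),
    haveI := M.isMaximal
    Ideal.comap_isMaximal_of_surjective _ e.symm.surjective⟩
  invFun N := ⟨N.asIdeal.comap (e : A →+* B),
    haveI := N.isMaximal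
    Ideal.comap_isMaximal_of_surjective _ e.surjective⟩
  left_inv M := by
    apply MaximalSpectrum.ext
    ext x
    change e.symm (e x) ∈ M.asIdeal ↔ x ∈ M.asIdeal
    rw [RingEquiv.symm_apply_apply]
  right_inv N := by
    apply MaximalSpectrum.ext
    ext x
    change e (e.symm x) ∈ N.asIdeal ↔ x ∈ N.asIdeal
    rw [RingEquiv.apply_symm_apply]

include hφ hrange in
/-- The number of branches of a multicross ring. -/
theorem numBranches_of_multicross [IsLocalRing R] :
    Brnch.numBranches R = Fintype.card ι := by
  haveI := isReduced_of_multicross φ hφ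
  rw [numBranches_eq_card R (finite_minimalPrimes_of_multicross φ hφ)]
  obtain ⟨e, -⟩ := exists_ringEquiv_integralClosure_multicross φ hφ hrange
  obtain ⟨e'⟩ := nonempty_maximalSpectrum_pi_equiv (fun _ : ι => PowerSeries k)
  rw [ENat.card_congr ((maximalSpectrumEquiv e).trans e'.symm), ENat.card_eq_coe_fintype_card]

end MC

end Groth.Agent.Lib.Helper98.Multicross
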