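import Mathlib
import Groth.Agent.Lib.Helper98.MulticrossE
import Groth.Agent.Lib.Helper98.MulticrossG
import Groth.Agent.Lib.Helper29.AdicLocal
import Groth.Agent.S9241
import Groth.Agent.S7654

set_option autoImplicit false
set_option linter.style.haveILetI false
set_option linter.unusedSectionVars false
universe u

namespace Groth.Agent.Lib.Helper98.Multicross

open Function IsLocalRing

/-- The cross ring in zero variables is a field. -/
theorem ringKrullDim_cross_zero (k : Type u) [Field k] :
    ringKrullDim (MvPowerSeries (Fin 0) k ⧸ Ideal.span {f : MvPowerSeries (Fin 0) k |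
      ∃ i j : Fin 0, i ≠ j ∧ f = MvPowerSeries.X i * MvPowerSeries.X j}) = 0 := by
  have hbot : Ideal.span {f : MvPowerSeries (Fin 0) k |
      ∃ i j : Fin 0, i ≠ j ∧ f = MvPowerSeries.X i * MvPowerSeries.X j} = ⊥ := by
    rw [Ideal.span_eq_bot]
    rintro _ ⟨i, -⟩
    exact i.elim0
  have hbij : Function.Bijective (MvPowerSeries.constantCoeff (σ := Fin 0) (R := k)) := by
    refine ⟨?_, fun c => ⟨MvPowerSeries.C c, MvPowerSeries.constantCoeff_C c⟩⟩
    intro f g hfg
    ext μ
    have : μ = 0 := Subsingleton.elim _ _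
    rw [this]
    exact hfg
  let e₁ : (MvPowerSeries (Fin 0) k ⧸ Ideal.span {f : MvPowerSeries (Fin 0) k |
      ∃ i j : Fin 0, i ≠ j ∧ f = MvPowerSeries.X i * MvPowerSeries.X j}) ≃+* MvPowerSeries (Fin 0) k :=
    (Ideal.quotEquivOfEq hbot).trans (RingEquiv.quotientBot _)
  let e₂ : MvPowerSeries (Fin 0) k ≃+* k := RingEquiv.ofBijective _ hbij
  rw [ringKrullDim_eq_of_ringEquiv (e₁.trans e₂)]
  exact ringKrullDim_eq_zero_of_field k

/-- The algebraic core of the converse: a completion isomorphic to the cross ring forces the number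
of branches and the δ-invariant. -/
theorem numBranches_and_deltaInv_of_completion_equiv (k : Type u) [Field k]
    (A : Type u) [CommRing A] [IsLocalRing A] [IsReduced A]
    (hdim : ringKrullDim A = 1) (hN : CAlg.IsNagata A) (n : ℕ)
    (e : AdicCompletion (maximalIdeal A) A ≃+*
      (MvPowerSeries (Fin n) k ⧸ Ideal.span {f : MvPowerSeries (Fin n) k |
        ∃ i j : Fin n, i ≠ j ∧ f = MvPowerSeries.X i * MvPowerSeries.X j})) :
    Brnch.numBranches A = n ∧ Curv2.deltaInv A + 1 = n := by
  haveI : IsNoetherianRing A := hN.1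
  have hdimc : ringKrullDim (AdicCompletion (maximalIdeal A) A) = 1 := by
    rw [(Groth.Agent.Lib.Helper29.ringKrullDim_adicCompletion_eq_and_isRegularLocalRing_iff A
      (maximalIdeal A) (Ideal.IsMaximal.ne_top inferInstance)).1, hdim]
  rcases Nat.eq_zero_or_pos n with hn | hn
  · subst hn
    exfalso
    rw [ringKrullDim_eq_of_ringEquiv e, ringKrullDim_cross_zero] at hdimc
    exact zero_ne_one hdimc
  · haveI : Nonempty (Fin n) := ⟨⟨0, hn⟩⟩
    let φ : AdicCompletion (maximalIdeal A) A →+* (Fin n → PowerSeries k) :=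
      (crossHom (Fin n) k).comp (e : AdicCompletion (maximalIdeal A) A →+* _)
    have hφ : Function.Injective φ := crossHom_injective.comp e.injective
    have hrange : Set.range φ = {g : Fin n → PowerSeries k | ∀ i j : Fin n,
        PowerSeries.constantCoeff (g i) = PowerSeries.constantCoeff (g j)} := by
      rw [← range_crossHom]
      ext g
      constructor
      · rintro ⟨x, rfl⟩
        exact ⟨e x, rfl⟩
      · rintro ⟨y, rfl⟩
        exact ⟨e.symm y, by simp [φ]⟩
    have h1 := numBranches_of_multicross φ hφ hrange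
    have h2 := deltaInv_add_one_of_multicross φ hφ hrange
    rw [Fintype.card_fin] at h1 h2
    refine ⟨?_, ?_⟩
    · rw [← (Groth.Agent.S9241.result A hdim).1]
      exact h1
    · rw [← (Groth.Agent.S7654.result A hN hdim).2.2]
      exact h2

end Groth.Agent.Lib.Helper98.Multicross
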