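import Mathlib
import Groth.Agent.Lib.Helper98.MulticrossG

set_option autoImplicit false
set_option linter.style.haveILetI false
set_option linter.unusedSectionVars false
universe u

namespace Groth.Agent.Lib.Helper98.Multicross

open Function PowerSeries IsLocalRing

section MC

variable {R : Type u} [CommRing R] {ι : Type*} [Fintype ι] [Nonempty ι] {k : Type*} [Field k]
  (φ : R →+* (ι → PowerSeries k)) (hφ : Function.Injective φ)
  (hrange : Set.range φ = {g : ι → PowerSeries k | ∀ i j : ι,
    constantCoeff (g i) = constantCoeff (g j)})

include hφ hrange in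
theorem isUnit_iff_of_multicross (r : R) (i : ι) :
    IsUnit r ↔ constantCoeff (φ r i) ≠ 0 := by
  constructor
  · intro h
    have h1 : IsUnit (φ r i) := (Pi.isUnit_iff.mp (h.map φ)) i
    exact (PowerSeries.isUnit_iff_constantCoeff.mp h1).ne_zero
  · intro h
    have hu : ∀ j, IsUnit (φ r j) := by
      intro j
      rw [PowerSeries.isUnit_iff_constantCoeff, isUnit_iff_ne_zero,
        constantCoeff_apply_eq φ hrange r j i]
      exact h
    choose u hu using hu
    obtain ⟨s, hs⟩ := exists_apply_eq φ hrange (fun j => ((u j)⁻¹ : (PowerSeries k)ˣ)) (by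
      intro j l
      have hj : constantCoeff (φ r j) * constantCoeff (((u j)⁻¹ : (PowerSeries k)ˣ) : PowerSeries k) = 1 := by
        rw [← map_mul, ← hu j, Units.mul_inv, map_one]
      have hl : constantCoeff (φ r l) * constantCoeff (((u l)⁻¹ : (PowerSeries k)ˣ) : PowerSeries k) = 1 := by
        rw [← map_mul, ← hu l, Units.mul_inv, map_one]
      rw [constantCoeff_apply_eq φ hrange r l j] at hl
      have hne : constantCoeff (φ r j) ≠ 0 := by
        intro h0
        rw [h0, zero_mul] at hj
        exact zero_ne_one hj
      exact mul_left_cancel₀ hne (hj.trans hl.symm))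
    have h1 : r * s = 1 := by
      apply hφ
      rw [map_mul, map_one, hs]
      funext j
      rw [Pi.mul_apply, Pi.one_apply, ← hu j, Units.mul_inv]
    exact IsUnit.of_mul_eq_one _ h1

include hφ hrange in
theorem mem_maximalIdeal_iff_of_multicross [IsLocalRing R] (r : R) (i : ι) :
    r ∈ maximalIdeal R ↔ constantCoeff (φ r i) = 0 := by
  rw [mem_maximalIdeal, mem_nonunits_iff, isUnit_iff_of_multicross φ hφ hrange r i, not_not]

include hφ hrange in
/-- The embedding dimension of a multicross ring with `n` branches is `n`. -/
theorem spanFinrank_maximalIdeal_of_multicross [IsLocalRing R] :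
    (maximalIdeal R).spanFinrank = Fintype.card ι := by
  classical
  obtain ⟨i₀⟩ := (inferInstance : Nonempty ι)
  have hmem := mem_maximalIdeal_iff_of_multicross φ hφ hrange
  -- generators
  have hex : ∀ i : ι, ∃ t : R, φ t = Pi.single i (X : PowerSeries k) := by
    intro i
    apply exists_apply_eq φ hrange
    intro j l
    by_cases hj : j = i
    · by_cases hl : l = i
      · rw [hj, hl]
      · rw [hj, Pi.single_eq_same, Pi.single_eq_of_ne hl, map_zero, constantCoeff_X]
    · by_cases hl : l = i
      · rw [hl, Pi.single_eq_same, Pi.single_eq_of_ne hj, map_zero, constantCoeff_X]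
      · rw [Pi.single_eq_of_ne hj, Pi.single_eq_of_ne hl]
  choose t ht using hex
  have htmem : ∀ i, t i ∈ maximalIdeal R := by
    intro i
    rw [hmem _ i₀, ht]
    by_cases h : i₀ = i
    · rw [h, Pi.single_eq_same, constantCoeff_X]
    · rw [Pi.single_eq_of_ne h, map_zero]
  have hspan : maximalIdeal R = Ideal.span (Set.range t) := by
    apply le_antisymm
    · intro r hr
      have hdvd : ∀ i, ∃ h : PowerSeries k, φ r i = X * h := by
        intro i
        have := (hmem r i).mp hr
        rw [← PowerSeries.X_dvd_iff] at this
        exact this
      choose h hh using hdvd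
      have hs : ∀ i, ∃ s : R, φ s = fun _ => h i := fun i => exists_apply_eq_const φ hrange (h i)
      choose s hs using hs
      have hr' : r = ∑ i, s i * t i := by
        apply hφ
        rw [map_sum]
        funext l
        rw [Finset.sum_apply, Finset.sum_eq_single l]
        · rw [map_mul, Pi.mul_apply, hs, ht, Pi.single_eq_same, hh, mul_comm]
        · intro i _ hil
          rw [map_mul, Pi.mul_apply, ht, Pi.single_eq_of_ne (Ne.symm hil), mul_zero]
        · intro hl
          exact absurd (Finset.mem_univ l) hl
      rw [hr']
      exact Ideal.sum_mem _ fun i _ => Ideal.mul_mem_left _ _ (Ideal.subset_span ⟨i, rfl⟩)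
    · rw [Ideal.span_le]
      rintro _ ⟨i, rfl⟩
      exact htmem i
  apply le_antisymm
  · rw [hspan]
    refine (Submodule.spanFinrank_span_le_ncard_of_finite (Set.finite_range t)).trans ?_
    rw [← Set.image_univ]
    refine (Set.ncard_image_le Set.finite_univ).trans ?_
    rw [Set.ncard_univ, Nat.card_eq_fintype_card]
  · have hfg : (maximalIdeal R).FG := by
      rw [hspan]
      exact ⟨Finset.univ.image t, by rw [Finset.coe_image, Finset.coe_univ, Set.image_univ]⟩
    obtain ⟨S, hScard, hSspan⟩ := Submodule.FG.exists_span_finset_card_eq_spanFinrank hfg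
    -- the linear part
    let lam : R → (ι → k) := fun r i => coeff 1 (φ r i)
    have hlam_add : ∀ a b, lam (a + b) = lam a + lam b := by
      intro a b
      funext i
      simp [lam]
    have hlam_mul : ∀ a b, b ∈ maximalIdeal R →
        lam (a * b) = constantCoeff (φ a i₀) • lam b := by
      intro a b hb
      funext i
      simp only [lam, Pi.smul_apply, smul_eq_mul, map_mul, Pi.mul_apply]
      rw [PowerSeries.coeff_mul, Finset.Nat.antidiagonal_succ, Finset.sum_cons]
      simp only [Finset.Nat.antidiagonal_zero, Finset.map_singleton, Finset.sum_singleton,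
        Function.Embedding.prodMap, Function.Embedding.coeFn_mk, Prod.map_apply,
        Function.Embedding.refl_apply, Nat.succ_eq_add_one, zero_add]
      rw [PowerSeries.coeff_zero_eq_constantCoeff_apply, PowerSeries.coeff_zero_eq_constantCoeff_apply,
        (hmem b i).mp hb, mul_zero, add_zero, constantCoeff_apply_eq φ hrange a i i₀]
    let V : Submodule k (ι → k) := Submodule.span k (lam '' (S : Set R))
    have hV : ∀ r ∈ maximalIdeal R, lam r ∈ V := by
      intro r hr
      rw [← hSspan] at hr
      induction hr using Submodule.span_induction with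
      | mem x hx => exact Submodule.subset_span ⟨x, hx, rfl⟩
      | zero =>
        have : lam 0 = 0 := by funext i; simp [lam]
        rw [this]; exact Submodule.zero_mem _
      | add x y _ _ hx hy =>
        rw [hlam_add]; exact Submodule.add_mem _ hx hy
      | smul a x hx ih =>
        rw [smul_eq_mul, hlam_mul a x (by rw [← hSspan]; exact hx)]
        exact Submodule.smul_mem _ _ ih
    have hVtop : V = ⊤ := by
      rw [eq_top_iff]
      intro v _
      obtain ⟨r, hr⟩ := exists_apply_eq φ hrange (fun i => C (v i) * X) (by
        intro i j; simp)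
      have hrm : r ∈ maximalIdeal R := by
        rw [hmem r i₀, hr]; simp
      have : lam r = v := by
        funext i
        simp only [lam, hr]
        rw [PowerSeries.coeff_C_mul, PowerSeries.coeff_one_X, mul_one]
      rw [← this]
      exact hV r hrm
    have h1 : Module.finrank k V ≤ (S.image lam).card := by
      have := finrank_span_finset_le_card (R := k) (S.image lam)
      rwa [Finset.coe_image] at this
    rw [hVtop, finrank_top, Module.finrank_pi] at h1
    rw [← hScard]
    exact h1.trans Finset.card_image_le

end MC

end Groth.Agent.Lib.Helper98.Multicross
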