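import Mathlib
import Groth.Agent.Lib.Helper98.MulticrossD
import Groth.Agent.Lib.Helper98.MulticrossH
import Groth.Agent.Lib.Helper98.MulticrossI

set_option autoImplicit false
set_option linter.style.haveILetI false
set_option linter.unusedSectionVars false
universe u

namespace Groth.Agent.Lib.Helper98.Multicross

open Function IsLocalRing

/-- The algebraic core: δ = m - 1 iff the completion is the cross ring; and then the embedding
dimension is `m`. -/
theorem deltaInv_iff_completion_equiv (k : Type u) [Field k] [IsSepClosed k]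
    (A : Type u) [CommRing A] [IsLocalRing A] [Algebra k A] [IsReduced A]
    (hdim : ringKrullDim A = 1) (hN : CAlg.IsNagata A)
    (hres : Function.Bijective (algebraMap k (IsLocalRing.ResidueField A)))
    (m : ℕ) (hm : Brnch.numBranches A = m) :
    (Curv2.deltaInv A + 1 = m ↔
      ∃ e : AdicCompletion (maximalIdeal A) A ≃+*
          (MvPowerSeries (Fin m) k ⧸ Ideal.span {f : MvPowerSeries (Fin m) k |
            ∃ i j : Fin m, i ≠ j ∧ f = MvPowerSeries.X i * MvPowerSeries.X j}),
        ∀ c : k, e (algebraMap A (AdicCompletion (maximalIdeal A) A) (algebraMap k A c)) =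
          Ideal.Quotient.mk _ (MvPowerSeries.C c)) ∧
    (Curv2.deltaInv A + 1 = m →
      Module.finrank (IsLocalRing.ResidueField A) (IsLocalRing.CotangentSpace A) = m) := by
  haveI : IsNoetherianRing A := hN.1
  have hmpos : Curv2.deltaInv A + 1 = m → Nonempty (Fin m) := by
    intro h
    rcases Nat.eq_zero_or_pos m with h0 | h0
    · subst h0
      simp at h
    · exact ⟨⟨0, h0⟩⟩
  refine ⟨⟨fun hδ => ?_, fun ⟨e, _⟩ => ?_⟩, fun hδ => ?_⟩
  · haveI := hmpos hδ
    obtain ⟨φ, hφ, hφk, hrange⟩ := multicross_of_deltaInv k A hdim hN hres m hm hδ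
    set ψ := crossHom (Fin m) k with hψ
    have hψinj : Function.Injective ψ := crossHom_injective
    have hr : φ.range = ψ.range := by
      ext g
      rw [RingHom.mem_range, RingHom.mem_range]
      have h1 : g ∈ Set.range φ ↔ g ∈ Set.range ψ := by rw [hrange, hψ, range_crossHom]
      exact h1
    let e₁ : AdicCompletion (maximalIdeal A) A ≃+* φ.range :=
      RingEquiv.ofBijective φ.rangeRestrict
        ⟨fun x y h => hφ (congrArg Subtype.val h), φ.rangeRestrict_surjective⟩
    let e₂ : (MvPowerSeries (Fin m) k ⧸ Ideal.span {f : MvPowerSeries (Fin m) k |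
        ∃ i j : Fin m, i ≠ j ∧ f = MvPowerSeries.X i * MvPowerSeries.X j}) ≃+* ψ.range :=
      RingEquiv.ofBijective ψ.rangeRestrict
        ⟨fun x y h => hψinj (congrArg Subtype.val h), ψ.rangeRestrict_surjective⟩
    refine ⟨e₁.trans ((RingEquiv.subringCongr hr).trans e₂.symm), fun c => ?_⟩
    rw [RingEquiv.trans_apply, RingEquiv.trans_apply, RingEquiv.symm_apply_eq]
    apply Subtype.ext
    show φ _ = ψ _
    rw [AdicCompletion.algebraMap_apply, Algebra.algebraMap_self, RingHom.id_apply, hφk, hψ, crossHom_C]
    rfl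
  · exact (numBranches_and_deltaInv_of_completion_equiv k A hdim hN m e).2
  · haveI := hmpos hδ
    obtain ⟨φ, hφ, -, hrange⟩ := multicross_of_deltaInv k A hdim hN hres m hm hδ
    have h1 := spanFinrank_maximalIdeal_of_multicross φ hφ hrange
    rw [AdicCompletion.spanFinrank_maximalIdeal_eq, Fintype.card_fin,
      IsLocalRing.spanFinrank_maximalIdeal_eq_finrank_cotangentSpace] at h1
    exact h1

end Groth.Agent.Lib.Helper98.Multicross
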