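import Mathlib

set_option autoImplicit false
set_option linter.style.haveILetI false
set_option linter.unusedSectionVars false
universe u

namespace Groth.Agent.Lib.Helper98.Multicross

open Function Order TopologicalSpace

section Topology

variable {X : Type*} [TopologicalSpace X]

theorem coheight_le_of_irreducibleComponents (d : ℕ)
    (h : ∀ Z ∈ irreducibleComponents X, topologicalKrullDim Z ≤ d) (x : X) :
    @coheight X (specializationPreorder X) x ≤ d := by
  letI : Preorder X := specializationPreorder X
  apply coheight_le
  intro p _
  set η := p.last with hη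
  set Z := irreducibleComponent η with hZ
  have hZmem : Z ∈ irreducibleComponents X := irreducibleComponent_mem_irreducibleComponents η
  have hZcl : IsClosed Z := isClosed_irreducibleComponent
  have hmem : ∀ i, p i ∈ Z := by
    intro i
    have h1 : p i ≤ η := p.monotone (Fin.le_last i)
    have h2 : η ⤳ p i := h1
    exact h2.mem_closed hZcl mem_irreducibleComponent
  let W : Fin (p.length + 1) → IrreducibleCloseds Z := fun i =>
    ⟨closure {⟨p i, hmem i⟩}, isIrreducible_singleton.closure, isClosed_closure⟩
  have hWle : ∀ i j, W i ≤ W j ↔ p i ≤ p j := by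
    intro i j
    show closure {(⟨p i, hmem i⟩ : Z)} ⊆ closure {(⟨p j, hmem j⟩ : Z)} ↔ p j ⤳ p i
    rw [← specializes_iff_closure_subset, subtype_specializes_iff]
  have hW : StrictMono W := by
    intro i j hij
    have h1 : p i < p j := p.strictMono hij
    rw [lt_iff_le_not_ge] at h1 ⊢
    exact ⟨(hWle i j).mpr h1.1, fun h => h1.2 ((hWle j i).mp h)⟩
  have h3 := LTSeries.length_le_krullDim (LTSeries.mk p.length W hW)
  have h4 : ((p.length : ℕ∞) : WithBot ℕ∞) ≤ (d : WithBot ℕ∞) := by
    refine le_trans ?_ (h Z hZmem)
    exact h3
  exact_mod_cast h4

theorem coheight_eq_one_of_isClosed [QuasiSober X]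
    (hequi : ∀ Z ∈ irreducibleComponents X, topologicalKrullDim Z = 1) (x : X)
    (hx : IsClosed ({x} : Set X)) : @coheight X (specializationPreorder X) x = 1 := by
  letI : Preorder X := specializationPreorder X
  apply le_antisymm
  · exact_mod_cast coheight_le_of_irreducibleComponents 1 (fun Z hZ => (hequi Z hZ).le) x
  · rw [Order.one_le_iff_pos, coheight_pos]
    intro hmax
    set Z := irreducibleComponent x with hZ
    have hZmem : Z ∈ irreducibleComponents X := irreducibleComponent_mem_irreducibleComponents x
    have hZcl : IsClosed Z := isClosed_irreducibleComponent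
    have hZirr : IsIrreducible Z := isIrreducible_irreducibleComponent
    obtain ⟨η, hη⟩ := QuasiSober.sober hZirr hZcl
    have hxZ : x ∈ Z := mem_irreducibleComponent
    have h1 : η ⤳ x := by
      rw [specializes_iff_mem_closure, hη.def]
      exact hxZ
    have h2 : x ⤳ η := hmax (show x ≤ η from h1)
    have h3 : η = x := by
      have := h2.mem_closed hx rfl
      exact this
    have hZeq : Z = {x} := by
      rw [← hη.def, h3, hx.closure_eq]
    haveI : Subsingleton Z := by
      rw [hZeq]
      exact (Set.subsingleton_singleton).coe_sort
    have h4 := topologicalKrullDim_zero_of_discreteTopology Z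
    rw [hequi Z hZmem] at h4
    exact absurd h4 (by decide)

end Topology

end Groth.Agent.Lib.Helper98.Multicross
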