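import Mathlib
import Groth.Agent.Lib.Helper98.MulticrossK
import Groth.Agent.Lib.Helper38.FieldNagata
import Groth.Agent.Lib.Helper48.NagataLocal
import Groth.Agent.Lib.Helper20.NodeCritModel
import Groth.Prelude.Def_Curv2
import Groth.Prelude.Def_CurvBase

set_option autoImplicit false
set_option linter.style.haveILetI false
set_option linter.unusedSectionVars false
universe u

namespace Groth.Agent.Lib.Helper98.Multicross

open Function Order TopologicalSpace AlgebraicGeometry CategoryTheory IsLocalRing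

theorem ringKrullDim_stalk_eq_one (X : Scheme.{u})
    (hequi : ∀ Z ∈ irreducibleComponents (X : Type u), topologicalKrullDim Z = 1)
    (x : X) (hx : IsClosed ({x} : Set X)) : ringKrullDim (X.presheaf.stalk x) = 1 := by
  rw [ringKrullDim_stalk_eq_coheight]
  have h := coheight_eq_one_of_isClosed hequi x hx
  have h' : coheight x = 1 := h
  rw [h']
  rfl

theorem isNagata_stalk (k : Type u) [Field k] (X : Scheme.{u}) [X.Over (Spec (CommRingCat.of k))]
    [LocallyOfFiniteType (X ↘ Spec (CommRingCat.of k))] (x : X) :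
    CAlg.IsNagata (X.presheaf.stalk x) := by
  obtain ⟨U, hU, hxU, -⟩ := exists_isAffineOpen_mem_and_subset (x := x) (U := ⊤) trivial
  have h1 := Groth.Agent.Lib.Helper38.FieldNagata.isNagata_affineOpens k (X ↘ Spec (CommRingCat.of k)) ⟨U, hU⟩
  letI : Algebra Γ(X, U) (X.presheaf.stalk x) :=
    TopCat.Presheaf.algebra_section_stalk X.presheaf (⟨x, hxU⟩ : U)
  haveI : IsLocalization.AtPrime (X.presheaf.stalk x) (hU.primeIdealOf ⟨x, hxU⟩).asIdeal :=
    hU.isLocalization_stalk ⟨x, hxU⟩
  exact Groth.Agent.Lib.Helper48.isNagata_of_isLocalization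
    (hU.primeIdealOf ⟨x, hxU⟩).asIdeal.primeCompl _ h1

/-- An affine model of the local ring at a closed point. -/
theorem exists_affine_model (k : Type u) [Field k] (X : Scheme.{u})
    [X.Over (Spec (CommRingCat.of k))]
    [LocallyOfFiniteType (X ↘ Spec (CommRingCat.of k))] (x : X) (hx : IsClosed ({x} : Set X)) :
    ∃ (R : Type u) (_ : CommRing R) (_ : Algebra k R) (_ : Algebra.FiniteType k R)
      (𝔭 : Ideal R) (_ : 𝔭.IsMaximal),
      ∃ e : X.presheaf.stalk x ≃+* Localization.AtPrime 𝔭,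
        ∀ c : k, e (Curv2.stalkMap k X x c) = algebraMap R _ (algebraMap k R c) := by
  let q := X ↘ Spec (CommRingCat.of k)
  obtain ⟨U, hU, hxU, -⟩ := exists_isAffineOpen_mem_and_subset (x := x) (U := ⊤) trivial
  let φA : CommRingCat.of k ⟶ Γ(X, U) := Spec.preimage (hU.fromSpec ≫ q)
  letI : Algebra k Γ(X, U) := φA.hom.toAlgebra
  have ha : hU.fromSpec ≫ q = Spec.map (CommRingCat.ofHom (algebraMap k Γ(X, U))) :=
    (Spec.map_preimage _).symm
  have hft : Algebra.FiniteType k Γ(X, U) := by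
    have h1 : LocallyOfFiniteType (hU.fromSpec ≫ q) := inferInstance
    rw [ha, HasRingHomProperty.Spec_iff (P := @LocallyOfFiniteType)] at h1
    exact h1
  have hx' : x ∈ Set.range hU.fromSpec := by
    rw [hU.range_fromSpec]; exact hxU
  obtain ⟨𝔭, rfl⟩ := hx'
  obtain ⟨e, he⟩ := Groth.Agent.Lib.Helper20.NodeCrit.chart_stalk_model k q Γ(X, U)
    (algebraMap k Γ(X, U)) hU.fromSpec ha 𝔭
  have hmax : 𝔭.asIdeal.IsMaximal := by
    have h1 : IsClosed ({𝔭} : Set (Spec (CommRingCat.of Γ(X, U)))) := by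
      have h2 := hx.preimage hU.fromSpec.continuous
      have h3 : hU.fromSpec ⁻¹' {hU.fromSpec 𝔭} = {𝔭} := by
        ext w
        simp only [Set.mem_preimage, Set.mem_singleton_iff]
        exact hU.fromSpec.isOpenEmbedding.injective.eq_iff
      rwa [h3] at h2
    exact (PrimeSpectrum.isClosed_singleton_iff_isMaximal _).mp h1
  exact ⟨Γ(X, U), inferInstance, inferInstance, hft, 𝔭.asIdeal, hmax, e, fun c => he c⟩

/-- Over an algebraically closed field, the local ring of a finite type algebra at a maximal ideal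
has residue field `k`. -/
theorem exists_sub_mem_maximalIdeal_localization (k : Type u) [Field k] [IsAlgClosed k]
    (R : Type u) [CommRing R] [Algebra k R] [Algebra.FiniteType k R] (𝔭 : Ideal R) [h𝔭 : 𝔭.IsMaximal]
    (y : Localization.AtPrime 𝔭) :
    ∃ c : k, y - algebraMap R (Localization.AtPrime 𝔭) (algebraMap k R c) ∈
      maximalIdeal (Localization.AtPrime 𝔭) := by
  letI : Field (R ⧸ 𝔭) := Ideal.Quotient.field 𝔭
  haveI : Algebra.FiniteType k (R ⧸ 𝔭) :=
    Algebra.FiniteType.of_surjective (Ideal.Quotient.mkₐ k 𝔭) (Ideal.Quotient.mkₐ_surjective k 𝔭)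
  haveI : Module.Finite k (R ⧸ 𝔭) := finite_of_finite_type_of_isJacobsonRing k (R ⧸ 𝔭)
  haveI : Algebra.IsIntegral k (R ⧸ 𝔭) := Algebra.IsIntegral.of_finite k (R ⧸ 𝔭)
  have hsurj : Function.Surjective (algebraMap k (R ⧸ 𝔭)) :=
    (IsAlgClosed.algebraMap_bijective_of_isIntegral (k := k) (K := R ⧸ 𝔭)).2
  obtain ⟨z, hz⟩ := (IsLocalization.AtPrime.equivQuotMaximalIdeal 𝔭
    (Localization.AtPrime 𝔭)).surjective (Ideal.Quotient.mk _ y)
  obtain ⟨c, hc⟩ := hsurj z
  refine ⟨c, ?_⟩
  rw [← Ideal.Quotient.eq, ← hz, ← hc]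
  rfl

theorem bijective_algebraMap_residueField_stalk (k : Type u) [Field k] [IsAlgClosed k]
    (X : Scheme.{u}) [X.Over (Spec (CommRingCat.of k))]
    [LocallyOfFiniteType (X ↘ Spec (CommRingCat.of k))] (x : X) (hx : IsClosed ({x} : Set X)) :
    letI := (Curv2.stalkMap k X x).toAlgebra
    Function.Bijective (algebraMap k (ResidueField (X.presheaf.stalk x))) := by
  letI := (Curv2.stalkMap k X x).toAlgebra
  refine ⟨(algebraMap k (ResidueField (X.presheaf.stalk x))).injective, fun y => ?_⟩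
  obtain ⟨a, rfl⟩ := residue_surjective y
  obtain ⟨R, _, _, _, 𝔭, h𝔭, e, he⟩ := exists_affine_model k X x hx
  obtain ⟨c, hc⟩ := exists_sub_mem_maximalIdeal_localization k R 𝔭 (e a)
  refine ⟨c, ?_⟩
  rw [← he c, ← map_sub] at hc
  have h1 : a - Curv2.stalkMap k X x c ∈ maximalIdeal (X.presheaf.stalk x) := by
    rw [mem_maximalIdeal, mem_nonunits_iff] at hc ⊢
    intro hu
    exact hc (hu.map e)
  rw [← residue_eq_zero_iff, map_sub, sub_eq_zero] at h1
  rw [h1]
  rfl

end Groth.Agent.Lib.Helper98.Multicross
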