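import Mathlib.RingTheory.Kaehler.Basic
import Mathlib.RingTheory.Derivation.Basic
import Mathlib.Algebra.Polynomial.Derivation
import Mathlib.Algebra.MvPolynomial.CommRing
import Mathlib.Algebra.MvPolynomial.Eval
import Mathlib.RingTheory.Ideal.Quotient.Operations
import Mathlib.Algebra.CharZero.Defs

/-!
The coordinate ring `k[X, Y]/(XY)` of a node: restriction to the two branches.
-/

set_option autoImplicit false
universe u

namespace Groth.Agent.Lib.Helper98

open MvPolynomial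

/-- If `d a = 0` in the Kähler differentials, every derivation pulled back along an algebra map
vanishes on `a`. -/
theorem derivation_comp_eq_zero_of_D_eq_zero {R A B : Type*} [CommRing R] [CommRing A] [CommRing B]
    [Algebra R A] [Algebra R B] (f : A →ₐ[R] B) (d : Derivation R B B) (a : A)
    (h : KaehlerDifferential.D R A a = 0) : d (f a) = 0 := by
  letI : Algebra A B := f.toRingHom.toAlgebra
  haveI : IsScalarTower R A B := IsScalarTower.of_algebraMap_eq (fun r => (f.commutes r).symm)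
  let D' : Derivation R A B := d.compAlgebraMap A
  have h1 : D' a = d (f a) := rfl
  rw [← h1, ← Derivation.liftKaehlerDifferential_comp_D D' a, h, map_zero]

variable (k : Type u) [Field k]

/-- the ideal `(XY)`. -/
noncomputable abbrev nodeIdeal : Ideal (MvPolynomial (Fin 2) k) :=
  Ideal.span {(MvPolynomial.X 0 * MvPolynomial.X 1 : MvPolynomial (Fin 2) k)}

/-- `p ↦ p(T, 0)`. -/
noncomputable def nodeP₀ : MvPolynomial (Fin 2) k →ₐ[k] Polynomial k :=
  aeval ![Polynomial.X, 0]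

/-- `p ↦ p(0, T)`. -/
noncomputable def nodeP₁ : MvPolynomial (Fin 2) k →ₐ[k] Polynomial k :=
  aeval ![0, Polynomial.X]

/-- `p ↦ p(X, 0)`. -/
noncomputable def nodeE₀ : MvPolynomial (Fin 2) k →ₐ[k] MvPolynomial (Fin 2) k :=
  aeval ![X 0, 0]

/-- `p ↦ p(0, Y)`. -/
noncomputable def nodeE₁ : MvPolynomial (Fin 2) k →ₐ[k] MvPolynomial (Fin 2) k :=
  aeval ![0, X 1]

theorem nodeE₀_eq : nodeE₀ k = (Polynomial.aeval (X 0 : MvPolynomial (Fin 2) k)).comp (nodeP₀ k) := by
  apply MvPolynomial.algHom_ext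
  intro i
  fin_cases i <;> simp [nodeE₀, nodeP₀]

theorem nodeE₁_eq : nodeE₁ k = (Polynomial.aeval (X 1 : MvPolynomial (Fin 2) k)).comp (nodeP₁ k) := by
  apply MvPolynomial.algHom_ext
  intro i
  fin_cases i <;> simp [nodeE₁, nodeP₁]

theorem sub_nodeE₀ (q : MvPolynomial (Fin 2) k) : ∃ s, q - nodeE₀ k q = X 1 * s := by
  induction q using MvPolynomial.induction_on with
  | C a => exact ⟨0, by simp [nodeE₀]⟩
  | add p q hp hq =>
    obtain ⟨s, hs⟩ := hp
    obtain ⟨t, ht⟩ := hq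
    exact ⟨s + t, by rw [map_add, mul_add, ← hs, ← ht]; ring⟩
  | mul_X p i hp =>
    obtain ⟨s, hs⟩ := hp
    fin_cases i
    · refine ⟨X 0 * s, ?_⟩
      have : nodeE₀ k (X 0) = X 0 := by simp [nodeE₀]
      simp only [Fin.zero_eta, map_mul, this]
      calc p * X 0 - nodeE₀ k p * X 0 = (p - nodeE₀ k p) * X 0 := by ring
        _ = X 1 * (X 0 * s) := by rw [hs]; ring
    · refine ⟨p, ?_⟩
      have : nodeE₀ k (X 1) = 0 := by simp [nodeE₀]
      simp only [Fin.mk_one, map_mul, this, mul_zero, sub_zero]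
      ring

theorem sub_nodeE₁ (q : MvPolynomial (Fin 2) k) : ∃ s, q - nodeE₁ k q = X 0 * s := by
  induction q using MvPolynomial.induction_on with
  | C a => exact ⟨0, by simp [nodeE₁]⟩
  | add p q hp hq =>
    obtain ⟨s, hs⟩ := hp
    obtain ⟨t, ht⟩ := hq
    exact ⟨s + t, by rw [map_add, mul_add, ← hs, ← ht]; ring⟩
  | mul_X p i hp =>
    obtain ⟨s, hs⟩ := hp
    fin_cases i
    · refine ⟨p, ?_⟩
      have : nodeE₁ k (X 0) = 0 := by simp [nodeE₁]
      simp only [Fin.zero_eta, map_mul, this, mul_zero, sub_zero]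
      ring
    · refine ⟨X 1 * s, ?_⟩
      have : nodeE₁ k (X 1) = X 1 := by simp [nodeE₁]
      simp only [Fin.mk_one, map_mul, this]
      calc p * X 1 - nodeE₁ k p * X 1 = (p - nodeE₁ k p) * X 1 := by ring
        _ = X 0 * (X 1 * s) := by rw [hs]; ring

/-- decomposition `p = p(X,0) + p(0,Y) - p(0,0) + XY s`. -/
theorem node_decomp (p : MvPolynomial (Fin 2) k) :
    ∃ s, p = nodeE₁ k p + nodeE₀ k p - nodeE₀ k (nodeE₁ k p) + X 0 * X 1 * s := by
  obtain ⟨r, hr⟩ := sub_nodeE₁ k p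
  obtain ⟨s, hs⟩ := sub_nodeE₀ k r
  refine ⟨s, ?_⟩
  have h0 : nodeE₀ k (X 0) = (X 0 : MvPolynomial (Fin 2) k) := by simp [nodeE₀]
  have h1 : nodeE₀ k (p - nodeE₁ k p) = X 0 * nodeE₀ k r := by rw [hr, map_mul, h0]
  rw [map_sub] at h1
  have h2 : X 0 * X 1 * s = X 0 * (r - nodeE₀ k r) := by rw [hs]; ring
  rw [h2, mul_sub, ← hr, ← h1]
  ring

theorem nodeIdeal_le_ker₀ : nodeIdeal k ≤ RingHom.ker (nodeP₀ k).toRingHom := by
  rw [Ideal.span_le, Set.singleton_subset_iff]
  simp [nodeP₀, RingHom.mem_ker]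

theorem nodeIdeal_le_ker₁ : nodeIdeal k ≤ RingHom.ker (nodeP₁ k).toRingHom := by
  rw [Ideal.span_le, Set.singleton_subset_iff]
  simp [nodeP₁, RingHom.mem_ker]

/-- restriction to the first branch. -/
noncomputable def nodeπ₀ : (MvPolynomial (Fin 2) k ⧸ nodeIdeal k) →ₐ[k] Polynomial k :=
  Ideal.Quotient.liftₐ (nodeIdeal k) (nodeP₀ k) (fun a ha => nodeIdeal_le_ker₀ k ha)

/-- restriction to the second branch. -/
noncomputable def nodeπ₁ : (MvPolynomial (Fin 2) k ⧸ nodeIdeal k) →ₐ[k] Polynomial k :=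
  Ideal.Quotient.liftₐ (nodeIdeal k) (nodeP₁ k) (fun a ha => nodeIdeal_le_ker₁ k ha)

theorem nodeπ₀_mk (p : MvPolynomial (Fin 2) k) :
    nodeπ₀ k (Ideal.Quotient.mk (nodeIdeal k) p) = nodeP₀ k p := by
  rw [nodeπ₀, Ideal.Quotient.liftₐ_apply, Ideal.Quotient.lift_mk]; rfl

theorem nodeπ₁_mk (p : MvPolynomial (Fin 2) k) :
    nodeπ₁ k (Ideal.Quotient.mk (nodeIdeal k) p) = nodeP₁ k p := by
  rw [nodeπ₁, Ideal.Quotient.liftₐ_apply, Ideal.Quotient.lift_mk]; rfl

theorem node_kaehler_D_eq_zero_iff [CharZero k] (P : MvPolynomial (Fin 2) k ⧸ nodeIdeal k) :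
    KaehlerDifferential.D k (MvPolynomial (Fin 2) k ⧸ nodeIdeal k) P = 0 ↔
      P ∈ Set.range (algebraMap k (MvPolynomial (Fin 2) k ⧸ nodeIdeal k)) := by
  constructor
  · intro h
    obtain ⟨p, rfl⟩ := Ideal.Quotient.mk_surjective P
    have h0 : Polynomial.derivative (nodeP₀ k p) = 0 := by
      have := derivation_comp_eq_zero_of_D_eq_zero (nodeπ₀ k) Polynomial.derivative'
        (Ideal.Quotient.mk (nodeIdeal k) p) h
      rw [nodeπ₀_mk] at this
      exact this
    have h1 : Polynomial.derivative (nodeP₁ k p) = 0 := by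
      have := derivation_comp_eq_zero_of_D_eq_zero (nodeπ₁ k) Polynomial.derivative'
        (Ideal.Quotient.mk (nodeIdeal k) p) h
      rw [nodeπ₁_mk] at this
      exact this
    have hc0 : nodeP₀ k p = Polynomial.C ((nodeP₀ k p).coeff 0) :=
      Polynomial.eq_C_of_natDegree_eq_zero (Polynomial.derivative_eq_zero.1 h0)
    have hc1 : nodeP₁ k p = Polynomial.C ((nodeP₁ k p).coeff 0) :=
      Polynomial.eq_C_of_natDegree_eq_zero (Polynomial.derivative_eq_zero.1 h1)
    set c₀ := (nodeP₀ k p).coeff 0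
    set c₁ := (nodeP₁ k p).coeff 0
    have he0 : nodeE₀ k p = C c₀ := by
      rw [nodeE₀_eq, AlgHom.comp_apply, hc0, Polynomial.aeval_C]; rfl
    have he1 : nodeE₁ k p = C c₁ := by
      rw [nodeE₁_eq, AlgHom.comp_apply, hc1, Polynomial.aeval_C]; rfl
    obtain ⟨s, hs⟩ := node_decomp k p
    rw [he0, he1] at hs
    have he01 : nodeE₀ k (C c₁ : MvPolynomial (Fin 2) k) = C c₁ := by simp [nodeE₀]
    rw [he01] at hs
    refine ⟨c₀, ?_⟩
    have : p - C c₀ ∈ nodeIdeal k := by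
      rw [Ideal.mem_span_singleton]
      exact ⟨s, by rw [hs]; ring⟩
    have e : algebraMap k (MvPolynomial (Fin 2) k ⧸ nodeIdeal k) c₀ =
        Ideal.Quotient.mk (nodeIdeal k) (C c₀) := rfl
    rw [e]
    exact ((Ideal.Quotient.mk_eq_mk_iff_sub_mem _ _).2 this).symm
  · rintro ⟨c, rfl⟩
    exact Derivation.map_algebraMap _ c

end Groth.Agent.Lib.Helper98
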