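import Groth.Agent.Lib.Helper98.NodeAlg

/-!
`d : A → Ω_{A/k}` is not surjective for the node `A = k[X,Y]/(XY)`: the form `x dy` is not exact.
We use the derivation of `A` into the 3-dimensional module `N = k e₁ ⊕ k e₂ ⊕ k w` with
`x e₂ = w = - y e₁`.
-/

set_option autoImplicit false
universe u

namespace Groth.Agent.Lib.Helper98

open MvPolynomial

variable (k : Type u) [Field k]

/-- the node algebra. -/
abbrev NodeA : Type u := MvPolynomial (Fin 2) k ⧸ nodeIdeal k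

/-- constant coefficient. -/
noncomputable def nodeε (a : NodeA k) : k := (nodeπ₀ k a).coeff 0
/-- `x`-coefficient. -/
noncomputable def nodeδ₁ (a : NodeA k) : k := (nodeπ₀ k a).coeff 1
/-- `y`-coefficient. -/
noncomputable def nodeδ₂ (a : NodeA k) : k := (nodeπ₁ k a).coeff 1

theorem nodeε_eq' (a : NodeA k) : nodeε k a = (nodeπ₁ k a).coeff 0 := by
  obtain ⟨p, rfl⟩ := Ideal.Quotient.mk_surjective a
  rw [nodeε, nodeπ₀_mk, nodeπ₁_mk, Polynomial.coeff_zero_eq_aeval_zero,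
    Polynomial.coeff_zero_eq_aeval_zero]
  have : (Polynomial.aeval (0 : k)).comp (nodeP₀ k) = (Polynomial.aeval (0 : k)).comp (nodeP₁ k) := by
    apply MvPolynomial.algHom_ext
    intro i
    fin_cases i <;> simp [nodeP₀, nodeP₁]
  exact congrArg (fun f : MvPolynomial (Fin 2) k →ₐ[k] k => f p) this

@[simp] theorem nodeε_one : nodeε k 1 = 1 := by simp [nodeε]
@[simp] theorem nodeδ₁_one : nodeδ₁ k 1 = 0 := by simp [nodeδ₁, Polynomial.coeff_one]
@[simp] theorem nodeδ₂_one : nodeδ₂ k 1 = 0 := by simp [nodeδ₂, Polynomial.coeff_one]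
@[simp] theorem nodeε_zero : nodeε k 0 = 0 := by simp [nodeε]
@[simp] theorem nodeδ₁_zero : nodeδ₁ k 0 = 0 := by simp [nodeδ₁]
@[simp] theorem nodeδ₂_zero : nodeδ₂ k 0 = 0 := by simp [nodeδ₂]
theorem nodeε_add (a b : NodeA k) : nodeε k (a + b) = nodeε k a + nodeε k b := by simp [nodeε]
theorem nodeδ₁_add (a b : NodeA k) : nodeδ₁ k (a + b) = nodeδ₁ k a + nodeδ₁ k b := by simp [nodeδ₁]
theorem nodeδ₂_add (a b : NodeA k) : nodeδ₂ k (a + b) = nodeδ₂ k a + nodeδ₂ k b := by simp [nodeδ₂]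
theorem nodeε_smul (c : k) (a : NodeA k) : nodeε k (c • a) = c * nodeε k a := by simp [nodeε]
theorem nodeδ₁_smul (c : k) (a : NodeA k) : nodeδ₁ k (c • a) = c * nodeδ₁ k a := by simp [nodeδ₁]
theorem nodeδ₂_smul (c : k) (a : NodeA k) : nodeδ₂ k (c • a) = c * nodeδ₂ k a := by simp [nodeδ₂]
theorem nodeε_mul (a b : NodeA k) : nodeε k (a * b) = nodeε k a * nodeε k b := by
  simp [nodeε, Polynomial.mul_coeff_zero]
theorem nodeδ₁_mul (a b : NodeA k) :
    nodeδ₁ k (a * b) = nodeε k a * nodeδ₁ k b + nodeδ₁ k a * nodeε k b := by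
  simp [nodeε, nodeδ₁, Polynomial.mul_coeff_one]
theorem nodeδ₂_mul (a b : NodeA k) :
    nodeδ₂ k (a * b) = nodeε k a * nodeδ₂ k b + nodeδ₂ k a * nodeε k b := by
  rw [nodeε_eq', nodeε_eq']
  simp [nodeδ₂, Polynomial.mul_coeff_one]

/-- the module `N`. -/
structure NodeN : Type u where
  e₁ : k
  e₂ : k
  w : k

namespace NodeN

variable {k}

@[ext] theorem ext' {m n : NodeN k} (h1 : m.e₁ = n.e₁) (h2 : m.e₂ = n.e₂) (h3 : m.w = n.w) :
    m = n := by
  cases m; cases n; simp_all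

/-- equivalence with a triple product. -/
def equivProd : NodeN k ≃ k × k × k where
  toFun n := (n.e₁, n.e₂, n.w)
  invFun t := ⟨t.1, t.2.1, t.2.2⟩
  left_inv _ := rfl
  right_inv _ := rfl

instance : Zero (NodeN k) := ⟨⟨0, 0, 0⟩⟩
instance : Add (NodeN k) := ⟨fun m n => ⟨m.e₁ + n.e₁, m.e₂ + n.e₂, m.w + n.w⟩⟩
instance : Neg (NodeN k) := ⟨fun m => ⟨-m.e₁, -m.e₂, -m.w⟩⟩
instance : Sub (NodeN k) := ⟨fun m n => ⟨m.e₁ - n.e₁, m.e₂ - n.e₂, m.w - n.w⟩⟩
instance : SMul ℕ (NodeN k) := ⟨fun c m => ⟨c • m.e₁, c • m.e₂, c • m.w⟩⟩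
instance : SMul ℤ (NodeN k) := ⟨fun c m => ⟨c • m.e₁, c • m.e₂, c • m.w⟩⟩
instance : SMul k (NodeN k) := ⟨fun c m => ⟨c * m.e₁, c * m.e₂, c * m.w⟩⟩

instance : AddCommGroup (NodeN k) :=
  equivProd.injective.addCommGroup equivProd rfl (fun _ _ => rfl) (fun _ => rfl) (fun _ _ => rfl)
    (fun _ _ => rfl) (fun _ _ => rfl)

@[simp] theorem zero_e₁ : (0 : NodeN k).e₁ = 0 := rfl
@[simp] theorem zero_e₂ : (0 : NodeN k).e₂ = 0 := rfl
@[simp] theorem zero_w : (0 : NodeN k).w = 0 := rfl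
@[simp] theorem add_e₁ (m n : NodeN k) : (m + n).e₁ = m.e₁ + n.e₁ := rfl
@[simp] theorem add_e₂ (m n : NodeN k) : (m + n).e₂ = m.e₂ + n.e₂ := rfl
@[simp] theorem add_w (m n : NodeN k) : (m + n).w = m.w + n.w := rfl
@[simp] theorem smul_e₁ (c : k) (m : NodeN k) : (c • m).e₁ = c * m.e₁ := rfl
@[simp] theorem smul_e₂ (c : k) (m : NodeN k) : (c • m).e₂ = c * m.e₂ := rfl
@[simp] theorem smul_w (c : k) (m : NodeN k) : (c • m).w = c * m.w := rfl

instance : Module k (NodeN k) where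
  one_smul m := by ext <;> simp
  mul_smul a b m := by ext <;> simp [mul_assoc]
  smul_zero a := by ext <;> simp
  smul_add a m n := by ext <;> simp [mul_add]
  add_smul a b m := by ext <;> simp [add_mul]
  zero_smul m := by ext <;> simp

noncomputable instance : SMul (NodeA k) (NodeN k) :=
  ⟨fun a m => ⟨nodeε k a * m.e₁, nodeε k a * m.e₂,
    nodeε k a * m.w + nodeδ₁ k a * m.e₂ - nodeδ₂ k a * m.e₁⟩⟩

@[simp] theorem asmul_e₁ (a : NodeA k) (m : NodeN k) : (a • m).e₁ = nodeε k a * m.e₁ := rfl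
@[simp] theorem asmul_e₂ (a : NodeA k) (m : NodeN k) : (a • m).e₂ = nodeε k a * m.e₂ := rfl
@[simp] theorem asmul_w (a : NodeA k) (m : NodeN k) :
    (a • m).w = nodeε k a * m.w + nodeδ₁ k a * m.e₂ - nodeδ₂ k a * m.e₁ := rfl

noncomputable instance : Module (NodeA k) (NodeN k) where
  one_smul m := by ext <;> simp
  mul_smul a b m := by
    ext
    · simp [nodeε_mul, mul_assoc]
    · simp [nodeε_mul, mul_assoc]
    · simp only [asmul_w, asmul_e₁, asmul_e₂, nodeε_mul, nodeδ₁_mul, nodeδ₂_mul]; ring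
  smul_zero a := by ext <;> simp
  smul_add a m n := by
    ext
    · simp [mul_add]
    · simp [mul_add]
    · simp only [asmul_w, add_w, add_e₁, add_e₂]; ring
  add_smul a b m := by
    ext
    · simp [nodeε_add, add_mul]
    · simp [nodeε_add, add_mul]
    · simp only [asmul_w, add_w, nodeε_add, nodeδ₁_add, nodeδ₂_add]; ring
  zero_smul m := by ext <;> simp

instance : IsScalarTower k (NodeA k) (NodeN k) where
  smul_assoc c a m := by
    ext
    · simp [nodeε_smul, mul_assoc]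
    · simp [nodeε_smul, mul_assoc]
    · simp only [asmul_w, smul_w, nodeε_smul, nodeδ₁_smul, nodeδ₂_smul]; ring

end NodeN

/-- the derivation `f ↦ f_x(0) e₁ + f_y(0) e₂`. -/
noncomputable def nodeDer : Derivation k (NodeA k) (NodeN k) where
  toFun f := ⟨nodeδ₁ k f, nodeδ₂ k f, 0⟩
  map_add' f g := by ext <;> simp [nodeδ₁_add, nodeδ₂_add]
  map_smul' c f := by ext <;> simp [nodeδ₁_smul, nodeδ₂_smul]
  map_one_eq_zero' := by ext <;> simp
  leibniz' f g := by
    ext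
    · simp [nodeδ₁_mul]; ring
    · simp [nodeδ₂_mul]; ring
    · simp; ring

@[simp] theorem nodeDer_apply_e₁ (f : NodeA k) : (nodeDer k f).e₁ = nodeδ₁ k f := rfl
@[simp] theorem nodeDer_apply_e₂ (f : NodeA k) : (nodeDer k f).e₂ = nodeδ₂ k f := rfl
@[simp] theorem nodeDer_apply_w (f : NodeA k) : (nodeDer k f).w = 0 := rfl

theorem node_D_not_surjective :
    ¬ Function.Surjective (KaehlerDifferential.D k (NodeA k)) := by
  intro hsurj
  let x : NodeA k := Ideal.Quotient.mk _ (X 0)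
  let y : NodeA k := Ideal.Quotient.mk _ (X 1)
  obtain ⟨f, hf⟩ := hsurj (x • KaehlerDifferential.D k (NodeA k) y)
  have h := congrArg (nodeDer k).liftKaehlerDifferential hf
  rw [map_smul, Derivation.liftKaehlerDifferential_comp_D,
    Derivation.liftKaehlerDifferential_comp_D] at h
  have h2 := congrArg NodeN.w h
  have hx0 : nodeε k x = 0 := by simp [nodeε, x, nodeπ₀_mk, nodeP₀]
  have hx1 : nodeδ₁ k x = 1 := by simp [nodeδ₁, x, nodeπ₀_mk, nodeP₀]
  have hy2 : nodeδ₂ k y = 1 := by simp [nodeδ₂, y, nodeπ₁_mk, nodeP₁]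
  have hy1 : nodeδ₁ k y = 0 := by simp [nodeδ₁, y, nodeπ₀_mk, nodeP₀]
  simp only [NodeN.asmul_w, nodeDer_apply_w, nodeDer_apply_e₁, nodeDer_apply_e₂, hx0, hx1, hy2,
    hy1] at h2
  simp at h2

end Groth.Agent.Lib.Helper98
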