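import Mathlib
import Groth.Agent.Lib.Helper98.HensGaloisD
import Groth.Agent.Lib.Helper98.GeomUnibranchFinite
import Groth.Agent.Lib.Helper98.HensInd
import Groth.Agent.S16430
import Groth.Agent.Lib.Helper89.EssEt
import Groth.Agent.Lib.Helper3.HensQF
import Groth.Agent.Lib.Helper9.Hens.NoetherianHens

set_option autoImplicit false
set_option linter.style.haveILetI false
set_option linter.unusedSectionVars false
universe u

namespace Groth.Agent.Lib.Helper98.NoethSub

open IsLocalRing Groth.Agent.Lib.Helper98.HensGalois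

section Enlarge

variable (A : Type u) [CommRing A] [HenselianLocalRing A] [IsNoetherianRing A]
  (T : Type u) [CommRing T] [HenselianLocalRing T] [Algebra A T] [IsLocalHom (algebraMap A T)]
  [Algebra.IsSeparable (ResidueField A) (ResidueField T)]

/-- A finite étale local `A`-algebra mapping to `T` with prescribed (finite) residue field. -/
theorem exists_etale_of_intermediateField (N : IntermediateField (ResidueField A) (ResidueField T))
    [FiniteDimensional (ResidueField A) N] :
    ∃ (E : Type u) (_ : CommRing E) (_ : IsLocalRing E) (_ : Algebra A E)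
      (_ : IsLocalHom (algebraMap A E)) (ψ : E →ₐ[A] T)
      (eN : ResidueField E ≃ₐ[ResidueField A] N),
      Module.Finite A E ∧ Algebra.Etale A E ∧
        ∀ x : E, residue T (ψ x) = (eN (residue E x) : ResidueField T) := by
  haveI : Algebra.IsSeparable (ResidueField A) N :=
    Algebra.isSeparable_tower_bot_of_isSeparable (ResidueField A) N (ResidueField T)
  obtain ⟨E, _, _, _, _, hfin, het, ⟨eN⟩⟩ := Groth.Agent.S16430.result A N
  let α : ResidueField E →ₐ[ResidueField A] ResidueField T := N.val.comp eN.toAlgHom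
  obtain ⟨ψ, hψ⟩ := exists_algHom_lift (A := A) (E := E) (B := T) α
  exact ⟨E, inferInstance, inferInstance, inferInstance, inferInstance, ψ, eN, hfin, het, hψ⟩

/-- Two finite étale local algebras mapping to `T` are dominated by a third. -/
theorem exists_common_enlargement {E₁ E₂ : Type u} [CommRing E₁] [IsLocalRing E₁] [Algebra A E₁]
    [IsLocalHom (algebraMap A E₁)] [Module.Finite A E₁] [Algebra.Etale A E₁]
    [CommRing E₂] [IsLocalRing E₂] [Algebra A E₂]
    [IsLocalHom (algebraMap A E₂)] [Module.Finite A E₂] [Algebra.Etale A E₂]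
    (φ₁ : E₁ →ₐ[A] T) (φ₂ : E₂ →ₐ[A] T) :
    ∃ (E : Type u) (_ : CommRing E) (_ : IsLocalRing E) (_ : Algebra A E)
      (_ : IsLocalHom (algebraMap A E)) (ψ : E →ₐ[A] T),
      Module.Finite A E ∧ Algebra.Etale A E ∧ φ₁.range ≤ ψ.range ∧ φ₂.range ≤ ψ.range := by
  haveI : IsLocalHom φ₁.toRingHom := isLocalHom_algHom φ₁
  haveI : IsLocalHom φ₂.toRingHom := isLocalHom_algHom φ₂
  haveI : Module.Finite (ResidueField A) (ResidueField E₁) :=
    Module.Finite.of_restrictScalars_finite A _ _
  haveI : Module.Finite (ResidueField A) (ResidueField E₂) :=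
    Module.Finite.of_restrictScalars_finite A _ _
  let α₁ : ResidueField E₁ →ₐ[ResidueField A] ResidueField T := residueAlgHom φ₁
  let α₂ : ResidueField E₂ →ₐ[ResidueField A] ResidueField T := residueAlgHom φ₂
  let N : IntermediateField (ResidueField A) (ResidueField T) := α₁.fieldRange ⊔ α₂.fieldRange
  haveI : FiniteDimensional (ResidueField A) α₁.fieldRange := by
    have h : Module.Finite (ResidueField A) (LinearMap.range α₁.toLinearMap) := inferInstance
    exact h
  haveI : FiniteDimensional (ResidueField A) α₂.fieldRange := by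
    have h : Module.Finite (ResidueField A) (LinearMap.range α₂.toLinearMap) := inferInstance
    exact h
  haveI : FiniteDimensional (ResidueField A) N := IntermediateField.finiteDimensional_sup _ _
  obtain ⟨E, _, _, _, _, ψ, eN, hfin, het, hψ⟩ := exists_etale_of_intermediateField A T N
  haveI : HenselianLocalRing E := henselian_of_finite A E
  have h₁ : ∀ x, α₁ x ∈ N := fun x =>
    (le_sup_left : α₁.fieldRange ≤ N) ⟨x, rfl⟩
  have h₂ : ∀ x, α₂ x ∈ N := fun x =>
    (le_sup_right : α₂.fieldRange ≤ N) ⟨x, rfl⟩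
  let β₁ : ResidueField E₁ →ₐ[ResidueField A] ResidueField E :=
    eN.symm.toAlgHom.comp (α₁.codRestrict N.toSubalgebra h₁)
  let β₂ : ResidueField E₂ →ₐ[ResidueField A] ResidueField E :=
    eN.symm.toAlgHom.comp (α₂.codRestrict N.toSubalgebra h₂)
  obtain ⟨χ₁, hχ₁⟩ := exists_algHom_lift (A := A) (E := E₁) (B := E) β₁
  obtain ⟨χ₂, hχ₂⟩ := exists_algHom_lift (A := A) (E := E₂) (B := E) β₂
  have hcomp₁ : ψ.comp χ₁ = φ₁ := by
    apply algHom_ext_of_residue
    intro x
    change residue T (ψ (χ₁ x)) = residue T (φ₁ x)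
    rw [hψ, hχ₁, ← residueAlgHom_residue φ₁ x]
    change ((eN (eN.symm _) : N) : ResidueField T) = _
    rw [AlgEquiv.apply_symm_apply]
    rfl
  have hcomp₂ : ψ.comp χ₂ = φ₂ := by
    apply algHom_ext_of_residue
    intro x
    change residue T (ψ (χ₂ x)) = residue T (φ₂ x)
    rw [hψ, hχ₂, ← residueAlgHom_residue φ₂ x]
    change ((eN (eN.symm _) : N) : ResidueField T) = _
    rw [AlgEquiv.apply_symm_apply]
    rfl
  refine ⟨E, inferInstance, inferInstance, inferInstance, inferInstance, ψ, hfin, het, ?_, ?_⟩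
  · rintro _ ⟨x, rfl⟩
    exact ⟨χ₁ x, AlgHom.congr_fun hcomp₁ x⟩
  · rintro _ ⟨x, rfl⟩
    exact ⟨χ₂ x, AlgHom.congr_fun hcomp₂ x⟩

/-- Every residue class of `T` is hit by a finite étale local algebra. -/
theorem exists_etale_residue (z : ResidueField T) :
    ∃ (E : Type u) (_ : CommRing E) (_ : IsLocalRing E) (_ : Algebra A E)
      (_ : IsLocalHom (algebraMap A E)) (ψ : E →ₐ[A] T),
      Module.Finite A E ∧ Algebra.Etale A E ∧ ∃ e : E, residue T (ψ e) = z := by
  let N : IntermediateField (ResidueField A) (ResidueField T) :=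
    IntermediateField.adjoin (ResidueField A) {z}
  haveI : FiniteDimensional (ResidueField A) N :=
    IntermediateField.adjoin.finiteDimensional (Algebra.IsIntegral.isIntegral z)
  obtain ⟨E, _, _, _, _, ψ, eN, hfin, het, hψ⟩ := exists_etale_of_intermediateField A T N
  obtain ⟨e, he⟩ := residue_surjective (eN.symm ⟨z, IntermediateField.mem_adjoin_simple_self _ z⟩)
  refine ⟨E, inferInstance, inferInstance, inferInstance, inferInstance, ψ, hfin, het, e, ?_⟩
  rw [hψ, he, AlgEquiv.apply_symm_apply]

end Enlarge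


section Unr

variable (A S : Type u) [CommRing A] [HenselianLocalRing A] [IsNoetherianRing A]
  [CommRing S] [IsLocalRing S] [Algebra A S] [IsLocalHom (algebraMap A S)]
  [Hensel.IsStrictHenselization A S] (D : Subalgebra A S)

theorem henselianLocalRing_sub : HenselianLocalRing D := by
  haveI := GeomUnibranchFinite.isLocalRing_sub D
  haveI := GeomUnibranchFinite.isIntegral_base_sub D
  exact Groth.Agent.Lib.Helper3.IntegralHensSplit.henselianLocalRing_of_isIntegral' A D

variable [HenselianLocalRing D]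

theorem isLocalHom_algebraMap_sub : IsLocalHom (algebraMap A D) := by
  haveI := GeomUnibranchFinite.isIntegral_sub D
  exact Groth.Agent.Lib.Helper3.EssEtaleSub.isLocalHom_algebraMap_subalgebra D

variable [IsLocalHom (algebraMap A D)]

theorem isSeparable_residueField_sub :
    Algebra.IsSeparable (ResidueField A) (ResidueField D) := by
  haveI := GeomUnibranchFinite.isIntegral_sub D
  haveI : IsSepClosure (ResidueField A) (ResidueField S) :=
    Hensel.IsStrictHenselization.isSepClosure
  haveI : Algebra.IsSeparable (ResidueField A) (ResidueField S) :=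
    IsSepClosure.separable
  exact Algebra.isSeparable_tower_bot_of_isSeparable (ResidueField A) (ResidueField D)
    (ResidueField S)

variable [Algebra.IsSeparable (ResidueField A) (ResidueField D)]

/-- The union of the images of all finite étale local `A`-algebras mapping to `D`. -/
def unrCarrier : Set S :=
  {x | ∃ (E : Type u) (_ : CommRing E) (_ : IsLocalRing E) (_ : Algebra A E)
      (_ : IsLocalHom (algebraMap A E)) (_ : Module.Finite A E) (_ : Algebra.Etale A E)
      (φ : E →ₐ[A] D), x ∈ (D.val.comp φ).range}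

theorem algebraMap_mem_unrCarrier (a : A) : algebraMap A S a ∈ unrCarrier A S D := by
  refine ⟨A, inferInstance, inferInstance, inferInstance, ?_, inferInstance, inferInstance,
    Algebra.ofId A D, ⟨a, ?_⟩⟩
  · exact ⟨fun a ha => ha⟩
  · rfl

theorem exists_common_of_mem_unrCarrier {x y : S} (hx : x ∈ unrCarrier A S D)
    (hy : y ∈ unrCarrier A S D) :
    ∃ (E : Type u) (_ : CommRing E) (_ : IsLocalRing E) (_ : Algebra A E)
      (_ : IsLocalHom (algebraMap A E)) (_ : Module.Finite A E) (_ : Algebra.Etale A E)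
      (φ : E →ₐ[A] D), x ∈ (D.val.comp φ).range ∧ y ∈ (D.val.comp φ).range := by
  obtain ⟨E₁, _, _, _, _, _, _, φ₁, e₁, rfl⟩ := hx
  obtain ⟨E₂, _, _, _, _, _, _, φ₂, e₂, rfl⟩ := hy
  obtain ⟨E, _, _, _, _, ψ, hfin, het, h1, h2⟩ := exists_common_enlargement A D φ₁ φ₂
  obtain ⟨f₁, hf₁⟩ := h1 ⟨e₁, rfl⟩
  obtain ⟨f₂, hf₂⟩ := h2 ⟨e₂, rfl⟩
  refine ⟨E, inferInstance, inferInstance, inferInstance, inferInstance, hfin, het, ψ,
    ⟨f₁, ?_⟩, ⟨f₂, ?_⟩⟩
  · change ((ψ f₁ : D) : S) = ((φ₁ e₁ : D) : S)
    exact congrArg Subtype.val hf₁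
  · change ((ψ f₂ : D) : S) = ((φ₂ e₂ : D) : S)
    exact congrArg Subtype.val hf₂

/-- The maximal ind-étale `A`-subalgebra of `D`. -/
def unr : Subalgebra A S where
  carrier := unrCarrier A S D
  mul_mem' := by
    intro x y hx hy
    obtain ⟨E, i1, i2, i3, i4, i5, i6, φ, hx', hy'⟩ := exists_common_of_mem_unrCarrier A S D hx hy
    exact ⟨E, i1, i2, i3, i4, i5, i6, φ, mul_mem hx' hy'⟩
  add_mem' := by
    intro x y hx hy
    obtain ⟨E, i1, i2, i3, i4, i5, i6, φ, hx', hy'⟩ := exists_common_of_mem_unrCarrier A S D hx hy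
    exact ⟨E, i1, i2, i3, i4, i5, i6, φ, add_mem hx' hy'⟩
  algebraMap_mem' := algebraMap_mem_unrCarrier A S D

theorem mem_unr_iff (x : S) : x ∈ unr A S D ↔ x ∈ unrCarrier A S D := Iff.rfl

theorem unr_le : unr A S D ≤ D := by
  rintro x ⟨E, _, _, _, _, _, _, φ, e, rfl⟩
  exact (φ e).2

/-- Every element of `unr` lies in an essentially étale local subalgebra contained in `unr`. -/
theorem exists_essEtale_of_mem_unr {x : S} (hx : x ∈ unr A S D) :
    ∃ E' : Subalgebra A S, x ∈ E' ∧ E' ≤ unr A S D ∧ EGA4loc.IsEssentiallyEtale A E' := by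
  obtain ⟨E, _, _, _, _, _, _, φ, hx'⟩ := hx
  haveI : Module.Flat A S := Groth.Agent.Lib.Helper9.HensK.flat_of_isStrictHenselization A S
  refine ⟨(D.val.comp φ).range, hx', ?_, ?_⟩
  · intro y hy
    exact ⟨E, inferInstance, inferInstance, inferInstance, inferInstance, inferInstance,
      inferInstance, φ, hy⟩
  · have hinj : Function.Injective (D.val.comp φ) := injective_algHom (D.val.comp φ)
    exact Groth.Agent.Lib.Helper89.isEssentiallyEtale_of_algEquiv
      (AlgEquiv.ofInjective (D.val.comp φ) hinj).symm (isEssentiallyEtale_of_etale A E)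

/-- `unr` has the same residue field as `D`. -/
theorem exists_sub_mem_maximalIdeal (d : D) :
    ∃ β : D, (β : S) ∈ unr A S D ∧ d - β ∈ maximalIdeal D := by
  obtain ⟨E, _, _, _, _, ψ, hfin, het, e, he⟩ := exists_etale_residue A D (residue D d)
  refine ⟨ψ e, ⟨E, inferInstance, inferInstance, inferInstance, inferInstance, hfin, het, ψ,
    ⟨e, rfl⟩⟩, ?_⟩
  rw [← residue_eq_zero_iff, map_sub, he, sub_self]


theorem isStrictHenselization_unr [HenselianLocalRing (unr A S D)]
    [IsLocalHom (algebraMap (unr A S D) S)] :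
    Hensel.IsStrictHenselization (unr A S D) S := by
  haveI : Hensel.IsHenselization (unr A S D) (unr A S D) :=
    Groth.Agent.Lib.Helper3.isHenselization_self _
  refine Groth.Agent.Lib.Helper98.HensInd.isStrictHenselization_of_indEssEtale A S (unr A S D)
    (unr A S D) Subtype.val_injective ?_
  intro x
  obtain ⟨E', hxE', hE'le, hE'⟩ := exists_essEtale_of_mem_unr A S D x.2
  refine ⟨E', hxE', ?_, hE'⟩
  intro y hy
  exact ⟨⟨y, hE'le hy⟩, rfl⟩

theorem isNoetherianRing_unr [HenselianLocalRing (unr A S D)]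
    [IsLocalHom (algebraMap (unr A S D) S)] : IsNoetherianRing (unr A S D) := by
  haveI := isStrictHenselization_unr A S D
  haveI : IsNoetherianRing S :=
    (Groth.Agent.Lib.Helper9.isNoetherianRing_iff_of_isStrictHenselization A S).mp inferInstance
  exact (Groth.Agent.Lib.Helper9.isNoetherianRing_iff_of_isStrictHenselization (unr A S D) S).mpr
    inferInstance

end Unr

end Groth.Agent.Lib.Helper98.NoethSub
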