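import Mathlib

set_option autoImplicit false
set_option linter.style.haveILetI false
set_option linter.unusedSectionVars false
universe u

namespace Groth.Agent.Lib.Helper98.NoethSub

section Comp

variable {D : Type u} [CommRing D] [IsReduced D]

theorem eq_zero_of_forall_mem_minimalPrimes {z : D} (h : ∀ q ∈ minimalPrimes D, z ∈ q) : z = 0 := by
  have h1 : z ∈ sInf (minimalPrimes D) := by
    rw [Ideal.mem_sInf]
    exact fun {q} hq => h q hq
  have h2 : sInf (minimalPrimes D) = nilradical D := by
    unfold minimalPrimes nilradical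
    exact Ideal.sInf_minimalPrimes
  rw [h2, nilradical_eq_zero] at h1
  exact h1

theorem mem_nonZeroDivisors_of_forall_notMem {x : D} (h : ∀ q ∈ minimalPrimes D, x ∉ q) :
    x ∈ nonZeroDivisors D := by
  rw [mem_nonZeroDivisors_iff_right]
  intro z hz
  apply eq_zero_of_forall_mem_minimalPrimes
  intro q hq
  have hqp : q.IsPrime := hq.1.1
  have : z * x ∈ q := hz ▸ q.zero_mem
  exact (hqp.mem_or_mem this).resolve_right (h q hq)

theorem notMem_of_mem_nonZeroDivisors {x : D} (hx : x ∈ nonZeroDivisors D) {q : Ideal D}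
    (hq : q ∈ minimalPrimes D) : x ∉ q := fun h =>
  (Set.disjoint_left.mp (Ideal.disjoint_nonZeroDivisors_of_mem_minimalPrimes hq)) h hx

/-- Separating elements for a minimal prime of a reduced ring with finitely many minimal primes. -/
theorem exists_separating (hfin : (minimalPrimes D).Finite) {q : Ideal D}
    (hq : q ∈ minimalPrimes D) :
    ∃ e u : D, e ∉ q ∧ u ∈ q ∧ (∀ q' ∈ minimalPrimes D, q' ≠ q → e ∈ q' ∧ u ∉ q') := by
  classical
  have hqp : q.IsPrime := hq.1.1
  let s : Finset (Ideal D) := hfin.toFinset.erase q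
  have hs : ∀ q', q' ∈ s ↔ q' ∈ minimalPrimes D ∧ q' ≠ q := by
    intro q'
    simp only [s, Finset.mem_erase, Set.Finite.mem_toFinset]
    tauto
  have hne : ∀ q' ∈ s, ¬ q' ≤ q ∧ ¬ q ≤ q' := by
    intro q' hq'
    obtain ⟨h1, h2⟩ := (hs q').mp hq'
    constructor
    · intro hle
      exact h2 (le_antisymm hle (hq.2 ⟨h1.1.1, bot_le⟩ hle))
    · intro hle
      exact h2 (le_antisymm (h1.2 ⟨hqp, bot_le⟩ hle) hle)
  -- `e`
  have he : ¬ (s.inf id ≤ q) := by
    intro hle
    obtain ⟨q', hq', hle'⟩ := (Ideal.IsPrime.inf_le' hqp).mp hle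
    exact (hne q' hq').1 hle'
  obtain ⟨e, hes, heq⟩ := Set.not_subset.mp he
  -- `u`
  have hu : ¬ ((q : Set D) ⊆ ⋃ q' ∈ (s : Set (Ideal D)), (q' : Set D)) := by
    intro hsub
    have hprime : ∀ q' ∈ s, q'.IsPrime := fun q' hq' => ((hs q').mp hq').1.1.1
    obtain ⟨q', hq', hle⟩ := (Ideal.subset_union_prime (s := s) (f := id) q q
      (fun q' hq' _ _ => hprime q' hq')).mp hsub
    exact (hne q' hq').2 hle
  obtain ⟨u, huq, hus⟩ := Set.not_subset.mp hu
  refine ⟨e, u, heq, huq, fun q' hq' hqq' => ⟨?_, ?_⟩⟩
  · have h1 : s.inf id ≤ id q' := Finset.inf_le ((hs q').mpr ⟨hq', hqq'⟩)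
    exact h1 hes
  · intro huq'
    apply hus
    simp only [Set.mem_iUnion]
    exact ⟨q', (hs q').mpr ⟨hq', hqq'⟩, huq'⟩

end Comp


section Lift

variable {D : Type u} [CommRing D] [IsReduced D] {K : Type u} [Field K] (π : D →+* K)
  (hπ : RingHom.ker π ∈ minimalPrimes D)

include hπ in
theorem isUnit_map_of_mem_nonZeroDivisors (d : nonZeroDivisors D) : IsUnit (π d) := by
  rw [isUnit_iff_ne_zero]
  intro h
  exact notMem_of_mem_nonZeroDivisors d.2 hπ (RingHom.mem_ker.mpr h)

/-- The map from the total ring of fractions to the field `K`, for a map `D → K` whose kernel is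
a minimal prime. -/
noncomputable def compLift : FractionRing D →+* K :=
  IsLocalization.lift (M := nonZeroDivisors D) (isUnit_map_of_mem_nonZeroDivisors π hπ)

theorem compLift_algebraMap (d : D) : compLift π hπ (algebraMap D (FractionRing D) d) = π d :=
  IsLocalization.lift_eq _ d

theorem compLift_mk' (n : D) (d : nonZeroDivisors D) :
    compLift π hπ (IsLocalization.mk' (FractionRing D) n d) = π n / π d := by
  rw [eq_div_iff (isUnit_map_of_mem_nonZeroDivisors π hπ d).ne_zero,
    ← compLift_algebraMap π hπ (d : D), ← map_mul, IsLocalization.mk'_spec,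
    compLift_algebraMap]

variable (hfin : (minimalPrimes D).Finite)

include hfin in
theorem exists_compLift_eq_inv (x : FractionRing D) (hx : compLift π hπ x ≠ 0) :
    ∃ y : FractionRing D, compLift π hπ y = (compLift π hπ x)⁻¹ := by
  obtain ⟨e, u, heq, huq, hsep⟩ := exists_separating hfin hπ
  obtain ⟨n, d, rfl⟩ := IsLocalization.exists_mk'_eq (nonZeroDivisors D) x
  rw [compLift_mk'] at hx ⊢
  have hqp : (RingHom.ker π).IsPrime := hπ.1.1
  have hn : π n ≠ 0 := fun h => hx (by rw [h, zero_div])
  have he : π e ≠ 0 := fun h => heq (RingHom.mem_ker.mpr h)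
  have hu : π u = 0 := RingHom.mem_ker.mp huq
  have hn' : n * e + u ∈ nonZeroDivisors D := by
    apply mem_nonZeroDivisors_of_forall_notMem
    intro q' hq'
    by_cases hqq : q' = RingHom.ker π
    · subst hqq
      intro h
      rw [RingHom.mem_ker, map_add, map_mul, hu, add_zero] at h
      exact mul_ne_zero hn he h
    · obtain ⟨h1, h2⟩ := hsep q' hq' hqq
      intro h
      exact h2 ((Ideal.add_mem_iff_right q' (Ideal.mul_mem_left q' n h1)).mp h)
  refine ⟨IsLocalization.mk' (FractionRing D) ((d : D) * e) ⟨n * e + u, hn'⟩, ?_⟩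
  rw [compLift_mk']
  simp only [map_add, map_mul, hu, add_zero]
  rw [inv_div]
  field_simp

include hfin in
theorem exists_isIntegral_compLift_eq (x : FractionRing D) (f : Polynomial D) (hf : f.Monic)
    (hfx : Polynomial.eval₂ π (compLift π hπ x) f = 0) :
    ∃ y : FractionRing D, IsIntegral D y ∧ compLift π hπ y = compLift π hπ x := by
  obtain ⟨e, u, heq, huq, hsep⟩ := exists_separating hfin hπ
  have hqp : (RingHom.ker π).IsPrime := hπ.1.1
  have he : π e ≠ 0 := fun h => heq (RingHom.mem_ker.mpr h)
  have hu : π u = 0 := RingHom.mem_ker.mp huq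
  have heu : e + u ∈ nonZeroDivisors D := by
    apply mem_nonZeroDivisors_of_forall_notMem
    intro q' hq'
    by_cases hqq : q' = RingHom.ker π
    · subst hqq
      intro h
      rw [RingHom.mem_ker, map_add, hu, add_zero] at h
      exact he h
    · obtain ⟨h1, h2⟩ := hsep q' hq' hqq
      intro h
      exact h2 ((Ideal.add_mem_iff_right q' h1).mp h)
  have hmul : ∀ z ∈ RingHom.ker π, e * z = 0 := by
    intro z hz
    apply eq_zero_of_forall_mem_minimalPrimes
    intro q' hq'
    by_cases hqq : q' = RingHom.ker π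
    · subst hqq
      exact Ideal.mul_mem_left _ e hz
    · exact Ideal.mul_mem_right _ _ (hsep q' hq' hqq).1
  set ε : FractionRing D := IsLocalization.mk' (FractionRing D) e ⟨e + u, heu⟩ with hε
  have hεid : IsIdempotentElem ε := by
    change ε * ε = ε
    rw [hε, ← IsLocalization.mk'_mul, IsLocalization.mk'_eq_iff_eq]
    congr 1
    have h0 : e * u = 0 := hmul u huq
    change (e + u) * (e * e) = (e + u) * (e + u) * e
    linear_combination (-(e + u)) * h0
  have hεK : compLift π hπ ε = 1 := by
    rw [hε, compLift_mk']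
    simp only [map_add, hu, add_zero]
    exact div_self he
  -- `ε` kills the kernel of `compLift`
  have hker : ∀ w : FractionRing D, compLift π hπ w = 0 → ε * w = 0 := by
    intro w hw
    obtain ⟨n, d, rfl⟩ := IsLocalization.exists_mk'_eq (nonZeroDivisors D) w
    rw [compLift_mk', div_eq_zero_iff] at hw
    have hn : n ∈ RingHom.ker π :=
      hw.resolve_right (isUnit_map_of_mem_nonZeroDivisors π hπ d).ne_zero
    rw [hε, ← IsLocalization.mk'_mul, hmul n hn, IsLocalization.mk'_zero]
  -- polynomial identity
  have hpoly : ∀ g : Polynomial D, ε * Polynomial.aeval (ε * x) g = ε * Polynomial.aeval x g := by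
    intro g
    induction g using Polynomial.induction_on' with
    | add p q hp hq => rw [map_add, map_add, mul_add, mul_add, hp, hq]
    | monomial i a =>
      rw [Polynomial.aeval_monomial, Polynomial.aeval_monomial, mul_pow]
      have h1 : ε * ε ^ i = ε := by
        rw [← pow_succ', hεid.pow_succ_eq]
      calc ε * (algebraMap D (FractionRing D) a * (ε ^ i * x ^ i))
          = algebraMap D (FractionRing D) a * ((ε * ε ^ i) * x ^ i) := by ring
        _ = ε * (algebraMap D (FractionRing D) a * x ^ i) := by rw [h1]; ring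
  refine ⟨ε * x, ⟨Polynomial.X * f, Polynomial.monic_X.mul hf, ?_⟩, ?_⟩
  · rw [← Polynomial.aeval_def, map_mul, Polynomial.aeval_X]
    have h2 : compLift π hπ (Polynomial.aeval x f) = 0 := by
      rw [← hfx, Polynomial.aeval_def, Polynomial.hom_eval₂]
      congr 1
      ext d
      exact compLift_algebraMap π hπ d
    calc ε * x * Polynomial.aeval (ε * x) f = x * (ε * Polynomial.aeval (ε * x) f) := by ring
      _ = x * (ε * Polynomial.aeval x f) := by rw [hpoly]
      _ = 0 := by rw [hker _ h2, mul_zero]
  · rw [map_mul, hεK, one_mul]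

end Lift


section ResMap

variable {D : Type u} [CommRing D] [IsReduced D] {K : Type u} [Field K] (π : D →+* K)
  (hπ : RingHom.ker π ∈ minimalPrimes D) (hfin : (minimalPrimes D).Finite)

/-- The restriction of `compLift` to the normalization. -/
noncomputable def normLift : integralClosure D (FractionRing D) →+* K :=
  (compLift π hπ).comp (algebraMap (integralClosure D (FractionRing D)) (FractionRing D))

theorem normLift_algebraMap (d : D) :
    normLift π hπ (algebraMap D (integralClosure D (FractionRing D)) d) = π d :=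
  compLift_algebraMap π hπ d

include hfin in
/-- A ring mapping to `K` with integral image inside the image of the total ring of fractions
maps to the residue field of any maximal ideal of the normalization containing the kernel. -/
theorem exists_ringHom_residue (M : Ideal (integralClosure D (FractionRing D))) [M.IsMaximal]
    (hM : RingHom.ker (normLift π hπ) ≤ M)
    {C : Type u} [CommRing C] (j : C →+* K) (h1 : ∀ c, j c ∈ (compLift π hπ).range)
    (h2 : ∀ c, ∃ f : Polynomial D, f.Monic ∧ Polynomial.eval₂ π (j c) f = 0) :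
    ∃ μ : C →+* M.ResidueField, ∀ (c : C) (y : integralClosure D (FractionRing D)),
      normLift π hπ y = j c →
        μ c = algebraMap (integralClosure D (FractionRing D)) M.ResidueField y := by
  have hsurj : ∀ c, j c ∈ (normLift π hπ).range := by
    intro c
    obtain ⟨x, hx⟩ := h1 c
    obtain ⟨f, hf, hfc⟩ := h2 c
    rw [← hx] at hfc
    obtain ⟨y, hy, hyx⟩ := exists_isIntegral_compLift_eq π hπ hfin x f hf hfc
    exact ⟨⟨y, hy⟩, hyx.trans hx⟩
  let ρ : integralClosure D (FractionRing D) →+* M.ResidueField :=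
    algebraMap (integralClosure D (FractionRing D)) M.ResidueField
  have hker : RingHom.ker (normLift π hπ).rangeRestrict ≤ RingHom.ker ρ := by
    intro y hy
    rw [RingHom.mem_ker] at hy ⊢
    have h3 : normLift π hπ y = 0 := congrArg Subtype.val hy
    exact (Ideal.algebraMap_residueField_eq_zero).mpr (hM (RingHom.mem_ker.mpr h3))
  let μ₀ : (normLift π hπ).range →+* M.ResidueField :=
    RingHom.liftOfSurjective (normLift π hπ).rangeRestrict
      (normLift π hπ).rangeRestrict_surjective ⟨ρ, hker⟩
  have hμ₀ : ∀ y, μ₀ ((normLift π hπ).rangeRestrict y) = ρ y := fun y =>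
    RingHom.liftOfRightInverse_comp_apply _ _ _ ⟨ρ, hker⟩ y
  refine ⟨μ₀.comp (j.codRestrict (normLift π hπ).range hsurj), fun c y hy => ?_⟩
  rw [RingHom.comp_apply, ← hμ₀ y]
  congr 1
  exact Subtype.ext hy.symm

end ResMap

end Groth.Agent.Lib.Helper98.NoethSub
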