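import Mathlib
import Groth.Agent.Lib.Helper98.NoethSubA
import Groth.Agent.Lib.Helper98.NoethSubB
import Groth.Agent.Lib.Helper98.HensGaloisJ
import Groth.Agent.Lib.Helper98.HensTower
import Groth.Agent.Lib.Helper98.NormResidueB

set_option autoImplicit false
set_option linter.style.haveILetI false
set_option linter.unusedSectionVars false
universe u

namespace Groth.Agent.Lib.Helper98.NoethSub

open IsLocalRing Groth.Agent.Lib.Helper98.HensGalois

section Basic

variable (R S T : Type u) [CommRing R] [HenselianLocalRing R] [IsNoetherianRing R]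
  [CommRing S] [IsLocalRing S] [Algebra R S] [IsLocalHom (algebraMap R S)]
  [Hensel.IsStrictHenselization R S]
  [CommRing T] [Algebra R T] [Algebra T S] [IsScalarTower R T S]
  (hinj : Function.Injective (algebraMap T S))

include R

theorem isIntegral_top : Algebra.IsIntegral T S := by
  haveI := isIntegral_of_isStrictHenselization R S
  exact Algebra.IsIntegral.tower_top (R := R)

include hinj in
theorem isIntegral_bot : Algebra.IsIntegral R T := by
  haveI := isIntegral_of_isStrictHenselization R S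
  constructor
  intro t
  have h1 : IsIntegral R (algebraMap T S t) := Algebra.IsIntegral.isIntegral _
  exact (isIntegral_algHom_iff (IsScalarTower.toAlgHom R T S) hinj).mp h1

include hinj in
theorem comap_mem_minimalPrimes_mid {Q : Ideal S} (hQ : Q ∈ minimalPrimes S) :
    Q.comap (algebraMap T S) ∈ minimalPrimes T := by
  haveI : Module.Flat R S := Groth.Agent.Lib.Helper9.HensK.flat_of_isStrictHenselization R S
  haveI := isIntegral_bot R S T hinj
  haveI : Q.IsPrime := hQ.1.1
  have hp : Q.comap (algebraMap R S) ∈ minimalPrimes R := HensTower.comap_mem_minimalPrimes hQ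
  refine ⟨⟨inferInstance, bot_le⟩, ?_⟩
  rintro q' ⟨hq', -⟩ hle
  by_contra hnle
  obtain ⟨x, hxq, hxq'⟩ := Set.not_subset.mp hnle
  have hlt := Ideal.comap_lt_comap_of_integral_mem_sdiff (R := R) hle ⟨hxq, hxq'⟩
    (Algebra.IsIntegral.isIntegral x)
  have heq : (Q.comap (algebraMap T S)).comap (algebraMap R T) = Q.comap (algebraMap R S) := by
    rw [Ideal.comap_comap, ← IsScalarTower.algebraMap_eq]
  rw [heq] at hlt
  have hge := hp.2 ⟨(Ideal.comap_isPrime (algebraMap R T) q'), bot_le⟩ hlt.le
  exact (not_le_of_gt hlt) hge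

include hinj in
theorem finite_minimalPrimes_mid : (minimalPrimes T).Finite := by
  haveI : IsNoetherianRing S :=
    (Groth.Agent.Lib.Helper9.isNoetherianRing_iff_of_isStrictHenselization R S).mp inferInstance
  haveI := isIntegral_top R S T
  have hfinS : (minimalPrimes S).Finite := minimalPrimes.finite_of_isNoetherianRing S
  refine (hfinS.image (Ideal.comap (algebraMap T S))).subset ?_
  intro q hq
  haveI : q.IsPrime := hq.1.1
  have hker : Ideal.comap (algebraMap T S) ⊥ ≤ q := by
    rw [← RingHom.ker_eq_comap_bot, (RingHom.injective_iff_ker_eq_bot _).mp hinj]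
    exact bot_le
  obtain ⟨P, -, hP, hPq⟩ := Ideal.exists_ideal_over_prime_of_isIntegral q (⊥ : Ideal S) hker
  obtain ⟨Q, hQ, hQP⟩ := Ideal.exists_minimalPrimes_le (bot_le : (⊥ : Ideal S) ≤ P)
  refine ⟨Q, hQ, ?_⟩
  haveI : Q.IsPrime := hQ.1.1
  have hle : Q.comap (algebraMap T S) ≤ q := hPq ▸ Ideal.comap_mono hQP
  exact le_antisymm hle (hq.2 ⟨inferInstance, bot_le⟩ hle)

end Basic


section Core

variable (R S T : Type u) [CommRing R] [HenselianLocalRing R] [IsNoetherianRing R]
  [CommRing S] [IsLocalRing S] [IsReduced S] [Algebra R S] [IsLocalHom (algebraMap R S)]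
  [Hensel.IsStrictHenselization R S]
  [CommRing T] [IsLocalRing T] [IsReduced T] [Algebra R T] [Algebra T S] [IsScalarTower R T S]
  (hinj : Function.Injective (algebraMap T S))
  (hres : ∀ x : T, ∃ r : R, x - algebraMap R T r ∈ maximalIdeal T)
  (Q : Ideal S) [Q.IsPrime] (hQ : Q ∈ minimalPrimes S)

/-- The map `T → Frac (S/Q)`. -/
noncomputable def piQ : T →+* FractionRing (S ⧸ Q) :=
  (algebraMap (S ⧸ Q) (FractionRing (S ⧸ Q))).comp
    ((Ideal.Quotient.mk Q).comp (algebraMap T S))

theorem piQ_apply (x : T) : piQ S T Q x =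
    algebraMap (S ⧸ Q) (FractionRing (S ⧸ Q)) (Ideal.Quotient.mk Q (algebraMap T S x)) := rfl

theorem ker_piQ : RingHom.ker (piQ S T Q) = Q.comap (algebraMap T S) := by
  ext x
  rw [RingHom.mem_ker, Ideal.mem_comap, piQ_apply,
    map_eq_zero_iff _ (IsFractionRing.injective (S ⧸ Q) (FractionRing (S ⧸ Q))),
    Ideal.Quotient.eq_zero_iff_mem]

theorem piQ_algebraMap (r : R) : piQ S T Q (algebraMap R T r) =
    algebraMap R (FractionRing (S ⧸ Q)) r := by
  rw [piQ_apply, ← IsScalarTower.algebraMap_apply R T S,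
    IsScalarTower.algebraMap_apply R (S ⧸ Q) (FractionRing (S ⧸ Q))]
  rfl

include R hinj hQ in
theorem ker_piQ_mem_minimalPrimes : RingHom.ker (piQ S T Q) ∈ minimalPrimes T := by
  rw [ker_piQ]
  exact comap_mem_minimalPrimes_mid R S T hinj hQ


include R hinj hQ in
/-- The image of the total ring of fractions of `T` in `Frac (S/Q)` is a subfield. -/
theorem exists_subfield_range :
    ∃ Λ : Subfield (FractionRing (S ⧸ Q)), ∀ x, x ∈ Λ ↔
      x ∈ (compLift (piQ S T Q) (ker_piQ_mem_minimalPrimes R S T hinj Q hQ)).range := by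
  have hfin := finite_minimalPrimes_mid R S T hinj
  refine ⟨{ toSubring := (compLift (piQ S T Q) (ker_piQ_mem_minimalPrimes R S T hinj Q hQ)).range
            inv_mem' := ?_ }, fun x => Iff.rfl⟩
  rintro _ ⟨y, rfl⟩
  by_cases h0 : compLift (piQ S T Q) (ker_piQ_mem_minimalPrimes R S T hinj Q hQ) y = 0
  · rw [h0, inv_zero]
    exact ⟨0, map_zero _⟩
  · exact exists_compLift_eq_inv _ _ hfin y h0

include R hinj hQ in
theorem exists_normLift_eq
    (t : Finset (FractionRing (S ⧸ Q))) (ht : ∀ x ∈ t, x ∈ Set.range (piQ S T Q))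
    (c : interSubalgebra R S Q t) :
    ∃ y : integralClosure T (FractionRing T),
      normLift (piQ S T Q) (ker_piQ_mem_minimalPrimes R S T hinj Q hQ) y =
        algebraMap (S ⧸ Q) (FractionRing (S ⧸ Q)) (c : S ⧸ Q) := by
  have hfin := finite_minimalPrimes_mid R S T hinj
  obtain ⟨Λ, hΛ⟩ := exists_subfield_range R S T hinj Q hQ
  have h1 : algebraMap (S ⧸ Q) (FractionRing (S ⧸ Q)) (c : S ⧸ Q) ∈
      (compLift (piQ S T Q) (ker_piQ_mem_minimalPrimes R S T hinj Q hQ)).range := by
    rw [← hΛ]
    have hc := (mem_interSubalgebra R S Q t (c : S ⧸ Q)).mp c.2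
    refine (Subfield.closure_le.mpr ?_) hc
    rintro x (⟨r, rfl⟩ | hx)
    · rw [SetLike.mem_coe, hΛ]
      exact ⟨algebraMap T (FractionRing T) (algebraMap R T r), by
        rw [compLift_algebraMap, piQ_algebraMap]⟩
    · obtain ⟨z, rfl⟩ := ht x hx
      rw [SetLike.mem_coe, hΛ]
      exact ⟨algebraMap T (FractionRing T) z, compLift_algebraMap _ _ z⟩
  obtain ⟨x, hx⟩ := h1
  haveI := finite_interSubalgebra R S Q t
  obtain ⟨g, hg, hgc⟩ := Algebra.IsIntegral.isIntegral (R := R) c
  have hfc : Polynomial.eval₂ (piQ S T Q)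
      (compLift (piQ S T Q) (ker_piQ_mem_minimalPrimes R S T hinj Q hQ) x)
      (g.map (algebraMap R T)) = 0 := by
    rw [hx, Polynomial.eval₂_map]
    have h3 : (piQ S T Q).comp (algebraMap R T) =
        ((algebraMap (S ⧸ Q) (FractionRing (S ⧸ Q))).comp
          (interSubalgebra R S Q t).val.toRingHom).comp
          (algebraMap R (interSubalgebra R S Q t)) := by
      ext r
      rw [RingHom.comp_apply, piQ_algebraMap]
      rfl
    rw [h3]
    have h4 := Polynomial.hom_eval₂ g (algebraMap R (interSubalgebra R S Q t))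
      ((algebraMap (S ⧸ Q) (FractionRing (S ⧸ Q))).comp
        (interSubalgebra R S Q t).val.toRingHom) c
    rw [hgc, map_zero] at h4
    exact h4.symm
  obtain ⟨y, hy, hyx⟩ := exists_isIntegral_compLift_eq _ _ hfin x _ (hg.map _) hfc
  exact ⟨⟨y, hy⟩, hyx.trans hx⟩

include R hinj hQ in
theorem exists_resHom (M : Ideal (integralClosure T (FractionRing T))) [M.IsMaximal]
    (hM : RingHom.ker (normLift (piQ S T Q) (ker_piQ_mem_minimalPrimes R S T hinj Q hQ)) ≤ M)
    (t : Finset (FractionRing (S ⧸ Q))) (ht : ∀ x ∈ t, x ∈ Set.range (piQ S T Q)) :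
    ∃ μ : interSubalgebra R S Q t →+* M.ResidueField,
      ∀ (c : interSubalgebra R S Q t) (y : integralClosure T (FractionRing T)),
        normLift (piQ S T Q) (ker_piQ_mem_minimalPrimes R S T hinj Q hQ) y =
          algebraMap (S ⧸ Q) (FractionRing (S ⧸ Q)) (c : S ⧸ Q) →
        μ c = algebraMap (integralClosure T (FractionRing T)) M.ResidueField y := by
  have hfin := finite_minimalPrimes_mid R S T hinj
  obtain ⟨Λ, hΛ⟩ := exists_subfield_range R S T hinj Q hQ
  let j : interSubalgebra R S Q t →+* FractionRing (S ⧸ Q) :=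
    (algebraMap (S ⧸ Q) (FractionRing (S ⧸ Q))).comp (interSubalgebra R S Q t).val.toRingHom
  have h1 : ∀ c, j c ∈ (compLift (piQ S T Q) (ker_piQ_mem_minimalPrimes R S T hinj Q hQ)).range := by
    intro c
    rw [← hΛ]
    have hc := (mem_interSubalgebra R S Q t (c : S ⧸ Q)).mp c.2
    refine (Subfield.closure_le.mpr ?_) hc
    rintro x (⟨r, rfl⟩ | hx)
    · rw [SetLike.mem_coe, hΛ]
      exact ⟨algebraMap T (FractionRing T) (algebraMap R T r), by
        rw [compLift_algebraMap, piQ_algebraMap]⟩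
    · obtain ⟨z, rfl⟩ := ht x hx
      rw [SetLike.mem_coe, hΛ]
      exact ⟨algebraMap T (FractionRing T) z, compLift_algebraMap _ _ z⟩
  have h2 : ∀ c, ∃ f : Polynomial T, f.Monic ∧ Polynomial.eval₂ (piQ S T Q) (j c) f = 0 := by
    intro c
    haveI := finite_interSubalgebra R S Q t
    obtain ⟨g, hg, hgc⟩ := Algebra.IsIntegral.isIntegral (R := R) c
    refine ⟨g.map (algebraMap R T), hg.map _, ?_⟩
    rw [Polynomial.eval₂_map]
    have h3 : (piQ S T Q).comp (algebraMap R T) = j.comp (algebraMap R (interSubalgebra R S Q t)) := by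
      ext r
      rw [RingHom.comp_apply, piQ_algebraMap]
      rfl
    rw [h3, ← Polynomial.hom_eval₂, hgc, map_zero]
  exact exists_ringHom_residue _ _ hfin M hM j h1 h2


end Core

end Groth.Agent.Lib.Helper98.NoethSub
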