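import Mathlib
import Groth.Agent.Lib.Helper98.NoethSubC

set_option autoImplicit false
set_option linter.style.haveILetI false
set_option linter.unusedSectionVars false
universe u

namespace Groth.Agent.Lib.Helper98.NoethSub

open IsLocalRing Groth.Agent.Lib.Helper98.HensGalois

section Sep

theorem isSeparable_of_unramified {R B L : Type u} [CommRing R] [IsLocalRing R] [CommRing B]
    [IsLocalRing B] [Algebra R B] [IsLocalHom (algebraMap R B)] [Module.Finite R B]
    [Algebra.FormallyUnramified R B] [Field L] (μ : B →+* L) [IsLocalHom μ] (k₀ : Subfield L)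
    (hk : ∀ r : R, μ (algebraMap R B r) ∈ k₀) (c : B) : IsSeparable k₀ (μ c) := by
  let g₀ : R →+* k₀ := (μ.comp (algebraMap R B)).codRestrict k₀ hk
  haveI : IsLocalHom g₀ := by
    constructor
    intro r hr
    have h1 : (g₀ r : L) ≠ 0 := by
      intro h0
      have : g₀ r = 0 := Subtype.ext h0
      rw [this] at hr
      exact not_isUnit_zero hr
    have h2 : IsUnit (μ (algebraMap R B r)) := isUnit_iff_ne_zero.mpr h1
    exact isUnit_of_map_unit (algebraMap R B) r (isUnit_of_map_unit μ _ h2)
  let gb : ResidueField R →+* k₀ := ResidueField.lift g₀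
  let μb : ResidueField B →+* L := ResidueField.lift μ
  have hcomp : μb.comp (algebraMap (ResidueField R) (ResidueField B)) =
      (algebraMap k₀ L).comp gb := by
    apply Ideal.Quotient.ringHom_ext
    ext r
    rfl
  have hsep : (minpoly (ResidueField R) (residue B c)).Separable :=
    Algebra.IsSeparable.isSeparable (ResidueField R) (residue B c)
  have hq : ((minpoly (ResidueField R) (residue B c)).map gb).Separable := hsep.map
  have hroot : Polynomial.aeval (μ c) ((minpoly (ResidueField R) (residue B c)).map gb) = 0 := by
    rw [Polynomial.aeval_def, Polynomial.eval₂_map, ← hcomp]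
    have h1 : μ c = μb (residue B c) := (ResidueField.lift_residue_apply μ c).symm
    rw [h1, ← Polynomial.hom_eval₂, ← Polynomial.aeval_def, minpoly.aeval, map_zero]
  exact hq.of_dvd (minpoly.dvd _ _ hroot)

end Sep

section Mono

variable (A S : Type u) [CommRing A] [HenselianLocalRing A] [IsNoetherianRing A]
    [CommRing S] [IsLocalRing S] [Algebra A S] [IsLocalHom (algebraMap A S)]
    [Hensel.IsStrictHenselization A S] (Q : Ideal S) [Q.IsPrime]

theorem interSubalgebra_mono {t t' : Finset (FractionRing (S ⧸ Q))} (h : t ⊆ t') :
    interSubalgebra A S Q t ≤ interSubalgebra A S Q t' := by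
  intro x hx
  rw [mem_interSubalgebra] at hx ⊢
  refine Subfield.closure_mono ?_ hx
  exact Set.union_subset_union_right _ (Finset.coe_subset.mpr h)

end Mono



section ResField

variable {T : Type u} [CommRing T] [IsLocalRing T]
  (M : Ideal (integralClosure T (FractionRing T))) [M.IsMaximal]

/-- The map `T → κ(M)`. -/
noncomputable def resT : T →+* M.ResidueField :=
  (algebraMap (integralClosure T (FractionRing T)) M.ResidueField).comp
    (algebraMap T (integralClosure T (FractionRing T)))

theorem resT_apply (x : T) : resT M x =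
    algebraMap (integralClosure T (FractionRing T)) M.ResidueField
      (algebraMap T (integralClosure T (FractionRing T)) x) := rfl

theorem resT_eq_zero_iff (x : T) : resT M x = 0 ↔ x ∈ maximalIdeal T := by
  rw [resT_apply, Ideal.algebraMap_residueField_eq_zero]
  have hmax : (M.comap (algebraMap T (integralClosure T (FractionRing T)))).IsMaximal :=
    Ideal.isMaximal_comap_of_isIntegral_of_isMaximal M
  rw [← IsLocalRing.eq_maximalIdeal hmax, Ideal.mem_comap]

theorem mem_closure_range_resT_iff {R : Type u} [CommRing R] [Algebra R T]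
    (hres : ∀ x : T, ∃ r : R, x - algebraMap R T r ∈ maximalIdeal T) (c : M.ResidueField) :
    c ∈ Subfield.closure (Set.range (resT M)) ↔ ∃ r : R, resT M (algebraMap R T r) = c := by
  haveI : IsLocalHom (resT M) := ⟨fun x hx => by
    by_contra hnu
    have h0 := (resT_eq_zero_iff M x).mpr ((mem_maximalIdeal x).mpr hnu)
    rw [h0] at hx
    exact not_isUnit_zero hx⟩
  have hrange : Set.range (resT M) =
      ((ResidueField.lift (resT M)).fieldRange : Set M.ResidueField) := by
    ext y
    constructor
    · rintro ⟨d, rfl⟩
      exact ⟨residue T d, ResidueField.lift_residue_apply (resT M) d⟩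
    · rintro ⟨c, rfl⟩
      obtain ⟨d, rfl⟩ := residue_surjective c
      exact ⟨d, (ResidueField.lift_residue_apply (resT M) d).symm⟩
  have hk : Subfield.closure (Set.range (resT M)) = (ResidueField.lift (resT M)).fieldRange := by
    rw [hrange]
    exact Subfield.closure_eq _
  rw [hk, ← SetLike.mem_coe, ← hrange]
  constructor
  · rintro ⟨t, rfl⟩
    obtain ⟨r, hr⟩ := hres t
    refine ⟨r, ?_⟩
    have h0 := (resT_eq_zero_iff M _).mpr hr
    rw [map_sub, sub_eq_zero] at h0
    exact h0.symm
  · rintro ⟨r, rfl⟩
    exact ⟨_, rfl⟩

end ResField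

end Groth.Agent.Lib.Helper98.NoethSub
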