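import Mathlib
import Groth.Agent.Lib.Helper98.NoethSubD

set_option autoImplicit false
set_option linter.style.haveILetI false
set_option linter.unusedSectionVars false
universe u

namespace Groth.Agent.Lib.Helper98.NoethSub

open IsLocalRing Groth.Agent.Lib.Helper98.HensGalois

section Core2

variable (R S T : Type u) [CommRing R] [HenselianLocalRing R] [IsNoetherianRing R]
  [CommRing S] [IsLocalRing S] [IsReduced S] [Algebra R S] [IsLocalHom (algebraMap R S)]
  [Hensel.IsStrictHenselization R S]
  [CommRing T] [IsLocalRing T] [IsReduced T] [Algebra R T] [Algebra T S] [IsScalarTower R T S]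
  (hinj : Function.Injective (algebraMap T S))
  (hres : ∀ x : T, ∃ r : R, x - algebraMap R T r ∈ maximalIdeal T)
  (Q : Ideal S) [Q.IsPrime] (hQ : Q ∈ minimalPrimes S)
  (M : Ideal (integralClosure T (FractionRing T))) [M.IsMaximal]
  (t : Finset (FractionRing (S ⧸ Q)))

/-- The characterising property of the residue maps `μ`. -/
def IsResHom (μ : interSubalgebra R S Q t →+* M.ResidueField) : Prop :=
  ∀ (c : interSubalgebra R S Q t) (y : integralClosure T (FractionRing T)),
    normLift (piQ S T Q) (ker_piQ_mem_minimalPrimes R S T hinj Q hQ) y =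
      algebraMap (S ⧸ Q) (FractionRing (S ⧸ Q)) (c : S ⧸ Q) →
    μ c = algebraMap (integralClosure T (FractionRing T)) M.ResidueField y

variable {R S T Q M t} {hinj hQ}

include S in
theorem algebraMap_mem_maximalIdeal_mid {r : R} (hr : r ∈ maximalIdeal R) :
    algebraMap R T r ∈ maximalIdeal T := by
  rw [mem_maximalIdeal, mem_nonunits_iff]
  intro hu
  have h1 : IsUnit (algebraMap R S r) := by
    rw [IsScalarTower.algebraMap_apply R T S]
    exact hu.map _
  exact (mem_nonunits_iff.mp ((mem_maximalIdeal r).mp hr))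
    (isUnit_of_map_unit (algebraMap R S) r h1)

theorem IsResHom.algebraMap_apply {μ : interSubalgebra R S Q t →+* M.ResidueField}
    (hμ : IsResHom R S T hinj Q hQ M t μ) (r : R) :
    μ (algebraMap R (interSubalgebra R S Q t) r) = resT M (algebraMap R T r) := by
  refine hμ _ (algebraMap T _ (algebraMap R T r)) ?_
  rw [normLift_algebraMap, piQ_algebraMap, Subalgebra.coe_algebraMap,
    ← IsScalarTower.algebraMap_apply R (S ⧸ Q) (FractionRing (S ⧸ Q))]

theorem IsResHom.eq_zero_iff {μ : interSubalgebra R S Q t →+* M.ResidueField}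
    (hμ : IsResHom R S T hinj Q hQ M t μ) (c : interSubalgebra R S Q t) :
    μ c = 0 ↔ c ∈ (maximalIdeal R).map (algebraMap R (interSubalgebra R S Q t)) := by
  letI := isLocalRing_interSubalgebra R S Q t
  rw [map_maximalIdeal_interSubalgebra R S Q t]
  constructor
  · intro h0
    rw [mem_maximalIdeal, mem_nonunits_iff]
    intro hu
    have := hu.map μ
    rw [h0] at this
    exact not_isUnit_zero this
  · intro hc
    rw [← map_maximalIdeal_interSubalgebra R S Q t] at hc
    have hle : (maximalIdeal R).map (algebraMap R (interSubalgebra R S Q t)) ≤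
        RingHom.ker μ := by
      rw [Ideal.map_le_iff_le_comap]
      intro r hr
      rw [Ideal.mem_comap, RingHom.mem_ker, hμ.algebraMap_apply, resT_eq_zero_iff]
      exact algebraMap_mem_maximalIdeal_mid (S := S) hr
    exact RingHom.mem_ker.mp (hle hc)


include hres in
theorem IsResHom.mem_separableClosure {μ : interSubalgebra R S Q t →+* M.ResidueField}
    (hμ : IsResHom R S T hinj Q hQ M t μ) (c : interSubalgebra R S Q t) :
    μ c ∈ separableClosure (Subfield.closure (Set.range (resT M))) M.ResidueField := by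
  letI := isLocalRing_interSubalgebra R S Q t
  haveI := isLocalHom_algebraMap_interSubalgebra R S Q t
  haveI := finite_interSubalgebra R S Q t
  haveI := formallyUnramified_interSubalgebra R S Q t
  haveI : IsLocalHom μ := by
    constructor
    intro c hc
    by_contra hnu
    have h1 : c ∈ maximalIdeal (interSubalgebra R S Q t) := (mem_maximalIdeal c).mpr hnu
    rw [← map_maximalIdeal_interSubalgebra R S Q t] at h1
    rw [(hμ.eq_zero_iff c).mpr h1] at hc
    exact not_isUnit_zero hc
  rw [mem_separableClosure_iff]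
  refine isSeparable_of_unramified (R := R) μ _ ?_ c
  intro r
  rw [hμ.algebraMap_apply, mem_closure_range_resT_iff M hres]
  exact ⟨r, rfl⟩

theorem IsResHom.compat {t' : Finset (FractionRing (S ⧸ Q))} (htt' : t ⊆ t')
    (ht : ∀ x ∈ t, x ∈ Set.range (piQ S T Q))
    {μ : interSubalgebra R S Q t →+* M.ResidueField}
    (hμ : IsResHom R S T hinj Q hQ M t μ)
    {μ' : interSubalgebra R S Q t' →+* M.ResidueField}
    (hμ' : IsResHom R S T hinj Q hQ M t' μ') (c : interSubalgebra R S Q t) :
    μ' (Subalgebra.inclusion (interSubalgebra_mono R S Q htt') c) = μ c := by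
  obtain ⟨y, hy⟩ := exists_normLift_eq R S T hinj Q hQ t ht c
  rw [hμ c y hy]
  have hy' : normLift (piQ S T Q) (ker_piQ_mem_minimalPrimes R S T hinj Q hQ) y =
      algebraMap (S ⧸ Q) (FractionRing (S ⧸ Q))
        ((Subalgebra.inclusion (interSubalgebra_mono R S Q htt') c :
          interSubalgebra R S Q t') : S ⧸ Q) := by
    rw [Subalgebra.coe_inclusion]
    exact hy
  exact hμ' _ y hy'

include hres in
/-- The image of `μ` as a subspace over the residue field of `T`. -/
def IsResHom.range {μ : interSubalgebra R S Q t →+* M.ResidueField}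
    (hμ : IsResHom R S T hinj Q hQ M t μ) :
    Submodule (Subfield.closure (Set.range (resT M))) M.ResidueField where
  carrier := Set.range μ
  add_mem' := by
    rintro _ _ ⟨a, rfl⟩ ⟨b, rfl⟩
    exact ⟨a + b, map_add _ _ _⟩
  zero_mem' := ⟨0, map_zero _⟩
  smul_mem' := by
    rintro ⟨a, ha⟩ _ ⟨c, rfl⟩
    obtain ⟨r, hr⟩ := (mem_closure_range_resT_iff M hres a).mp ha
    refine ⟨algebraMap R _ r * c, ?_⟩
    rw [map_mul, hμ.algebraMap_apply, hr, Subfield.smul_def, smul_eq_mul]

theorem IsResHom.mem_range {μ : interSubalgebra R S Q t →+* M.ResidueField}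
    (hμ : IsResHom R S T hinj Q hQ M t μ) (z : M.ResidueField) :
    z ∈ hμ.range hres ↔ ∃ c, μ c = z := Iff.rfl

theorem IsResHom.range_le {μ : interSubalgebra R S Q t →+* M.ResidueField}
    (hμ : IsResHom R S T hinj Q hQ M t μ) :
    hμ.range hres ≤ Subalgebra.toSubmodule
      (separableClosure (Subfield.closure (Set.range (resT M))) M.ResidueField).toSubalgebra := by
  rintro _ ⟨c, rfl⟩
  exact hμ.mem_separableClosure hres c


/-- Nakayama step: if the images of `μ'` and `μ` coincide then the subalgebras coincide. -/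
theorem IsResHom.le_of_range_le {t' : Finset (FractionRing (S ⧸ Q))} (htt' : t ⊆ t')
    (ht : ∀ x ∈ t, x ∈ Set.range (piQ S T Q))
    {μ : interSubalgebra R S Q t →+* M.ResidueField}
    (hμ : IsResHom R S T hinj Q hQ M t μ)
    {μ' : interSubalgebra R S Q t' →+* M.ResidueField}
    (hμ' : IsResHom R S T hinj Q hQ M t' μ')
    (hle : ∀ c', ∃ c, μ c = μ' c') :
    interSubalgebra R S Q t' ≤ interSubalgebra R S Q t := by
  have hfg : (Subalgebra.toSubmodule (interSubalgebra R S Q t')).FG :=
    Module.Finite.iff_fg.mp (finite_interSubalgebra R S Q t')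
  have key : Subalgebra.toSubmodule (interSubalgebra R S Q t') ≤
      Subalgebra.toSubmodule (interSubalgebra R S Q t) := by
    refine Submodule.le_of_le_smul_of_le_jacobson_bot (I := maximalIdeal R) hfg
      (IsLocalRing.maximalIdeal_le_jacobson ⊥) ?_
    intro x hx
    obtain ⟨c, hc⟩ := hle ⟨x, hx⟩
    set z : interSubalgebra R S Q t' :=
      ⟨x, hx⟩ - Subalgebra.inclusion (interSubalgebra_mono R S Q htt') c with hz
    have hz0 : μ' z = 0 := by
      rw [hz, map_sub, hμ.compat htt' ht hμ', hc, sub_self]
    have hzm := (hμ'.eq_zero_iff z).mp hz0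
    have h4 : Submodule.map (interSubalgebra R S Q t').val.toLinearMap
        (maximalIdeal R • (⊤ : Submodule R (interSubalgebra R S Q t'))) =
        maximalIdeal R • Subalgebra.toSubmodule (interSubalgebra R S Q t') := by
      rw [Submodule.map_smul'', Submodule.map_top]
      congr 1
      ext y
      simp
    have hz' : (z : S ⧸ Q) ∈
        maximalIdeal R • Subalgebra.toSubmodule (interSubalgebra R S Q t') := by
      rw [← h4]
      refine ⟨z, ?_, rfl⟩
      rw [Ideal.smul_top_eq_map]
      exact hzm
    refine Submodule.mem_sup.mpr ⟨(c : S ⧸ Q), c.2, (z : S ⧸ Q), hz', ?_⟩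
    rw [hz, Subalgebra.coe_sub, Subalgebra.coe_inclusion]
    ring
  exact key


variable (R S T hinj Q hQ)

include R hinj hres hQ in
theorem exists_finset_forall_mem
    (H : ∀ (M : Ideal (integralClosure T (FractionRing T))) [M.IsMaximal],
      FiniteDimensional (Subfield.closure (Set.range ((algebraMap (integralClosure T (FractionRing T)) M.ResidueField).comp (algebraMap T (integralClosure T (FractionRing T))))))
        (separableClosure (Subfield.closure (Set.range ((algebraMap (integralClosure T (FractionRing T)) M.ResidueField).comp (algebraMap T (integralClosure T (FractionRing T)))))) M.ResidueField)) :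
    ∃ τ₀ : Finset (FractionRing (S ⧸ Q)), ∀ x : T,
      Ideal.Quotient.mk Q (algebraMap T S x) ∈ interSubalgebra R S Q τ₀ := by
  classical
  have hπ := ker_piQ_mem_minimalPrimes R S T hinj Q hQ
  -- choose `M`
  obtain ⟨M, hMmax, hM⟩ := Ideal.exists_le_maximal _
    (RingHom.ker_ne_top (normLift (piQ S T Q) hπ))
  haveI := hMmax
  haveI hfd : FiniteDimensional (Subfield.closure (Set.range (resT M)))
      (separableClosure (Subfield.closure (Set.range (resT M))) M.ResidueField) := H M
  haveI hfd' : FiniteDimensional (Subfield.closure (Set.range (resT M)))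
      (Subalgebra.toSubmodule (separableClosure (Subfield.closure (Set.range (resT M)))
        M.ResidueField).toSubalgebra) := hfd
  -- the admissible finsets and their residue maps
  let P : Finset (FractionRing (S ⧸ Q)) → Prop := fun t => ∀ x ∈ t, x ∈ Set.range (piQ S T Q)
  have hex : ∀ t, P t → ∃ μ : interSubalgebra R S Q t →+* M.ResidueField,
      IsResHom R S T hinj Q hQ M t μ := fun t ht => exists_resHom R S T hinj Q hQ M hM t ht
  choose μ hμ using hex
  -- the set of dimensions
  let s : Set ℕ := {n | ∃ t, ∃ ht : P t, Module.finrank (Subfield.closure (Set.range (resT M)))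
    ((hμ t ht).range hres) = n}
  have hne : s.Nonempty := ⟨_, ∅, fun x hx => absurd hx (Finset.notMem_empty x), rfl⟩
  have hbdd : BddAbove s := by
    refine ⟨Module.finrank (Subfield.closure (Set.range (resT M)))
      (Subalgebra.toSubmodule (separableClosure (Subfield.closure (Set.range (resT M)))
        M.ResidueField).toSubalgebra), ?_⟩
    rintro _ ⟨t, ht, rfl⟩
    exact Submodule.finrank_mono ((hμ t ht).range_le hres)
  obtain ⟨t₀, ht₀, hmax⟩ := Nat.sSup_mem hne hbdd
  refine ⟨t₀, fun x => ?_⟩
  -- enlarge by `x`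
  have ht₁ : P (insert (piQ S T Q x) t₀) := by
    intro z hz
    rcases Finset.mem_insert.mp hz with rfl | hz
    · exact ⟨x, rfl⟩
    · exact ht₀ z hz
  have hsub : t₀ ⊆ insert (piQ S T Q x) t₀ := Finset.subset_insert _ _
  have hle : (hμ t₀ ht₀).range hres ≤ (hμ _ ht₁).range hres := by
    rintro _ ⟨c, rfl⟩
    exact ⟨_, (hμ t₀ ht₀).compat hsub ht₀ (hμ _ ht₁) c⟩
  haveI : FiniteDimensional (Subfield.closure (Set.range (resT M)))
      ((hμ _ ht₁).range hres) :=
    Submodule.finiteDimensional_of_le ((hμ _ ht₁).range_le hres)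
  have hrk : Module.finrank (Subfield.closure (Set.range (resT M))) ((hμ _ ht₁).range hres) ≤
      Module.finrank (Subfield.closure (Set.range (resT M))) ((hμ t₀ ht₀).range hres) := by
    rw [hmax]
    exact le_csSup hbdd ⟨_, ht₁, rfl⟩
  have heq := Submodule.eq_of_le_of_finrank_le hle hrk
  have hBle := (hμ t₀ ht₀).le_of_range_le hsub ht₀ (hμ _ ht₁) (fun c' => by
    have h1 : μ _ ht₁ c' ∈ (hμ _ ht₁).range hres := ⟨c', rfl⟩
    rw [← heq] at h1
    exact h1)
  apply hBle
  rw [mem_interSubalgebra]
  refine Subfield.subset_closure (Or.inr ?_)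
  rw [Finset.coe_insert]
  exact Set.mem_insert _ _

end Core2
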