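import Mathlib
import Groth.Agent.Lib.Helper98.NoethSubE

set_option autoImplicit false
set_option linter.style.haveILetI false
set_option linter.unusedSectionVars false
universe u

namespace Groth.Agent.Lib.Helper98.NoethSub

open IsLocalRing Groth.Agent.Lib.Helper98.HensGalois

section Assembly

variable (R S T : Type u) [CommRing R] [HenselianLocalRing R] [IsNoetherianRing R]
  [CommRing S] [IsLocalRing S] [IsReduced S] [Algebra R S] [IsLocalHom (algebraMap R S)]
  [Hensel.IsStrictHenselization R S]
  [CommRing T] [IsLocalRing T] [IsReduced T] [Algebra R T] [Algebra T S] [IsScalarTower R T S]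
  (hinj : Function.Injective (algebraMap T S))
  (hres : ∀ x : T, ∃ r : R, x - algebraMap R T r ∈ maximalIdeal T)

include hinj hres in
theorem finite_of_forall_finiteDimensional
    (H : ∀ (M : Ideal (integralClosure T (FractionRing T))) [M.IsMaximal],
      FiniteDimensional (Subfield.closure (Set.range ((algebraMap (integralClosure T (FractionRing T)) M.ResidueField).comp (algebraMap T (integralClosure T (FractionRing T))))))
        (separableClosure (Subfield.closure (Set.range ((algebraMap (integralClosure T (FractionRing T)) M.ResidueField).comp (algebraMap T (integralClosure T (FractionRing T)))))) M.ResidueField)) :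
    Module.Finite R T := by
  classical
  haveI : IsNoetherianRing S :=
    (Groth.Agent.Lib.Helper9.isNoetherianRing_iff_of_isStrictHenselization R S).mp inferInstance
  have hfinS : (minimalPrimes S).Finite := minimalPrimes.finite_of_isNoetherianRing S
  haveI : Finite (minimalPrimes S) := hfinS.to_subtype
  haveI hprime : ∀ Q : minimalPrimes S, Q.1.IsPrime := fun Q => Q.2.1.1
  choose τ hτ using fun Q : minimalPrimes S =>
    exists_finset_forall_mem R S T hinj hres Q.1 Q.2 H
  haveI : ∀ Q : minimalPrimes S, Module.Finite R
      (Subalgebra.toSubmodule (interSubalgebra R S Q.1 (τ Q))) :=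
    fun Q => finite_interSubalgebra R S Q.1 (τ Q)
  let Φ : T →ₗ[R] (∀ Q : minimalPrimes S,
      Subalgebra.toSubmodule (interSubalgebra R S Q.1 (τ Q))) :=
    LinearMap.pi (fun Q => LinearMap.codRestrict _
      (((Ideal.Quotient.mkₐ R Q.1).toLinearMap).comp (IsScalarTower.toAlgHom R T S).toLinearMap)
      (hτ Q))
  have hΦ : Function.Injective Φ := by
    rw [injective_iff_map_eq_zero]
    intro x hx
    apply hinj
    rw [map_zero]
    apply eq_zero_of_forall_mem_minimalPrimes
    intro Q hQ
    have h1 := congrFun hx ⟨Q, hQ⟩
    have h2 : Ideal.Quotient.mk Q (algebraMap T S x) = 0 := congrArg Subtype.val h1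
    exact Ideal.Quotient.eq_zero_iff_mem.mp h2
  exact Module.Finite.of_injective Φ hΦ

end Assembly

section Sub

variable (A S : Type u) [CommRing A] [HenselianLocalRing A] [IsNoetherianRing A] [IsReduced A]
  [CommRing S] [IsLocalRing S] [Algebra A S] [IsLocalHom (algebraMap A S)]
  [Hensel.IsStrictHenselization A S] (D : Subalgebra A S)

set_option synthInstance.maxHeartbeats 400000 in
set_option maxHeartbeats 1600000 in
theorem isNoetherianRing_sub_of_forall_finiteDimensional
    (H : ∀ (M : Ideal (integralClosure D (FractionRing D))) [M.IsMaximal],
        FiniteDimensional (Subfield.closure (Set.range ((algebraMap (integralClosure D (FractionRing D)) M.ResidueField).comp (algebraMap D (integralClosure D (FractionRing D)))))) (separableClosure (Subfield.closure (Set.range ((algebraMap (integralClosure D (FractionRing D)) M.ResidueField).comp (algebraMap D (integralClosure D (FractionRing D)))))) M.ResidueField)) :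
    IsNoetherianRing D := by
  haveI := henselianLocalRing_sub A S D
  haveI := isLocalHom_algebraMap_sub A S D
  haveI := isSeparable_residueField_sub A S D
  haveI := henselianLocalRing_sub A S (unr A S D)
  haveI := GeomUnibranchFinite.isIntegral_sub (unr A S D)
  haveI : IsLocalHom (algebraMap (unr A S D) S) := inferInstance
  haveI := isStrictHenselization_unr A S D
  haveI := isNoetherianRing_unr A S D
  haveI : IsReduced S := NormResidue.isReduced_sh A S
  haveI : IsReduced D := isReduced_of_injective D.val Subtype.val_injective
  letI : Algebra (unr A S D) D := (Subalgebra.inclusion (unr_le A S D)).toRingHom.toAlgebra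
  haveI : IsScalarTower (unr A S D) D S := IsScalarTower.of_algebraMap_eq (fun x => rfl)
  have hres : ∀ x : D, ∃ r : unr A S D, x - algebraMap (unr A S D) D r ∈ maximalIdeal D := by
    intro x
    obtain ⟨β, hβ, hxβ⟩ := exists_sub_mem_maximalIdeal A S D x
    refine ⟨⟨(β : S), hβ⟩, ?_⟩
    have : algebraMap (unr A S D) D ⟨(β : S), hβ⟩ = β := Subtype.ext rfl
    rw [this]
    exact hxβ
  haveI hfin : Module.Finite (unr A S D) D :=
    finite_of_forall_finiteDimensional (unr A S D) S D Subtype.val_injective hres H
  exact isNoetherian_of_tower (unr A S D)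
    (isNoetherian_of_isNoetherianRing_of_finite (unr A S D) D)

end Sub

end Groth.Agent.Lib.Helper98.NoethSub
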