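import Mathlib
import Groth.Agent.Lib.Helper98.MinGenC

set_option autoImplicit false
set_option linter.style.haveILetI false
set_option linter.unusedSectionVars false
universe u

namespace Groth.Agent.Lib.Helper98.NoethSub

open IsLocalRing Groth.Agent.Lib.Helper38 Groth.Agent.Lib.Helper9 Groth.Agent.Lib.Helper9.HensK
  Groth.Agent.Lib.Helper98.GeomUnibranchFinite

section Forward

variable (D : Type u) [CommRing D] [IsLocalRing D] [IsReduced D] [IsNoetherianRing D]

/-- For a Noetherian reduced local ring, the separable closure of the residue field in the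
residue field of any maximal ideal of the normalization is finite. -/
theorem finiteDimensional_separableClosure_of_isNoetherianRing
    (M : Ideal (integralClosure D (FractionRing D))) [hMmax : M.IsMaximal] :
    FiniteDimensional (Subfield.closure (Set.range ((algebraMap (integralClosure D (FractionRing D)) M.ResidueField).comp (algebraMap D (integralClosure D (FractionRing D))))))
      (separableClosure (Subfield.closure (Set.range ((algebraMap (integralClosure D (FractionRing D)) M.ResidueField).comp (algebraMap D (integralClosure D (FractionRing D)))))) M.ResidueField) := by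
  classical
  let S := StrictHenselization D
  haveI : IsNoetherianRing S :=
    (Groth.Agent.Lib.Helper9.isNoetherianRing_iff_of_isStrictHenselization D S).mp inferInstance
  haveI : Finite (minimalPrimes S) := (minimalPrimes.finite_of_isNoetherianRing S).to_subtype
  have hfinmin : (minimalPrimes D).Finite := minimalPrimes.finite_of_isNoetherianRing D
  have h1 := Groth.Agent.S9238.result D S
  unfold Brnch.numGeomBranches at h1
  rw [if_pos hfinmin] at h1
  have h2 : ENat.card (Σ m' : MaximalSpectrum (CAlg2.normRed D), Brnch.Emb D m') < ⊤ := by
    rw [← h1, ENat.card_lt_top]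
    infer_instance
  haveI : Finite (Σ m' : MaximalSpectrum (CAlg2.normRed D), Brnch.Emb D m') :=
    ENat.card_lt_top.mp h2
  -- the maximal ideal of `CAlg2.normRed D`
  let m' : MaximalSpectrum (CAlg2.normRed D) :=
    ⟨M.comap ((normEquiv D).symm : CAlg2.normRed D →+* integralClosure D (FractionRing D)),
      Ideal.comap_isMaximal_of_surjective _ (normEquiv D).symm.surjective⟩
  have hM : M = m'.asIdeal.comap
      (normEquiv D : integralClosure D (FractionRing D) →+* CAlg2.normRed D) := by
    ext x
    simp only [m', Ideal.mem_comap]
    change _ ↔ (normEquiv D).symm (normEquiv D x) ∈ M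
    rw [RingEquiv.symm_apply_apply]
  haveI : Finite (Brnch.Emb D m') :=
    Finite.of_injective (fun σ => (⟨m', σ⟩ : Σ m' : MaximalSpectrum (CAlg2.normRed D),
      Brnch.Emb D m')) (sigma_mk_injective)
  haveI := m'.isMaximal
  let B := integralClosure D (FractionRing D)
  let e : B ≃+* CAlg2.normRed D := normEquiv D
  let L := M.ResidueField
  let f : D →+* L := (algebraMap B L).comp (algebraMap D B)
  have hm'M : m'.asIdeal = M.map (e : B →+* CAlg2.normRed D) := by
    rw [hM]
    exact (Ideal.map_comap_of_surjective (e : B →+* CAlg2.normRed D) e.surjective _).symm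
  let Φ₁ : (B ⧸ M) ≃+* (CAlg2.normRed D ⧸ m'.asIdeal) := Ideal.quotientEquiv M m'.asIdeal e hm'M
  let Φ₂ : (B ⧸ M) ≃+* L := RingEquiv.ofBijective (algebraMap (B ⧸ M) L)
    (Ideal.bijective_algebraMap_quotient_residueField M)
  let Φ : (CAlg2.normRed D ⧸ m'.asIdeal) ≃+* L := Φ₁.symm.trans Φ₂
  have hΦf : ∀ d : D, Φ (Brnch.toResidue D m' d) = f d := by
    intro d
    have h1 : Brnch.toResidue D m' d = Φ₁ (Ideal.Quotient.mk M (algebraMap D B d)) := by
      change _ = Ideal.Quotient.mk m'.asIdeal (e (algebraMap D B d))
      rw [normEquiv_algebraMap]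
      rfl
    rw [h1]
    rw [RingEquiv.trans_apply, RingEquiv.symm_apply_apply]
    have h3 := IsScalarTower.algebraMap_apply (integralClosure D (FractionRing D))
      (integralClosure D (FractionRing D) ⧸ M) M.ResidueField
      (algebraMap D (integralClosure D (FractionRing D)) d)
    exact h3.symm
  haveI hloc := WedgeDVR.isLocalHom_toResidue D m'
  haveI : IsLocalHom f := by
    constructor
    intro d hd
    rw [← hΦf d] at hd
    have h2 : IsUnit (Brnch.toResidue D m' d) := by
      have := hd.map Φ.symm
      rwa [RingEquiv.symm_apply_apply] at this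
    exact hloc.map_nonunit d h2
  letI : Algebra (ResidueField D) L := (ResidueField.lift f).toAlgebra
  have hΦ : ∀ r : D, Φ (Brnch.toResidue D m' r) =
      algebraMap (ResidueField D) L (residue D r) := by
    intro r
    rw [hΦf r]
    exact (ResidueField.lift_residue_apply f r).symm
  haveI halg := BrnchEmb.isAlgebraic m' Φ hΦ
  have h3 := BrnchEmb.card_emb_eq m' Φ hΦ
  haveI : Finite (Field.Emb (ResidueField D) L) := by
    rw [← ENat.card_lt_top, ← h3, ENat.card_lt_top]
    infer_instance
  -- the subfield
  let F₀ : Subfield L := (algebraMap (ResidueField D) L).fieldRange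
  have hrange : Set.range f = (F₀ : Set L) := by
    ext y
    constructor
    · rintro ⟨d, rfl⟩
      exact ⟨residue D d, ResidueField.lift_residue_apply f d⟩
    · rintro ⟨c, rfl⟩
      obtain ⟨d, rfl⟩ := residue_surjective c
      exact ⟨d, (ResidueField.lift_residue_apply f d).symm⟩
  have hk : Subfield.closure (Set.range f) = F₀ := by
    rw [hrange]
    exact Subfield.closure_eq F₀
  change FiniteDimensional (Subfield.closure (Set.range f))
    (separableClosure (Subfield.closure (Set.range f)) L)
  rw [hk]
  letI : Algebra (ResidueField D) F₀ := (algebraMap (ResidueField D) L).rangeRestrictField.toAlgebra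
  haveI : IsScalarTower (ResidueField D) F₀ L := IsScalarTower.of_algebraMap_eq (fun _ => rfl)
  haveI : Algebra.IsAlgebraic F₀ L := Algebra.IsAlgebraic.tower_top (K := ResidueField D) F₀
  haveI : Finite (Field.Emb F₀ L) :=
    Finite.of_injective (fun σ : L →ₐ[F₀] AlgebraicClosure L => σ.restrictScalars (ResidueField D))
      (AlgHom.restrictScalars_injective (ResidueField D))
  exact MinGen.finiteDimensional_separableClosure_of_finite_emb F₀ L

end Forward

end Groth.Agent.Lib.Helper98.NoethSub
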