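import Mathlib
import Groth.Agent.Lib.Helper98.NormEssEtale

/-!
# Normalization of subrings `D` of `S = A^sh` with `D^sh = S` (helper98)

* `isLocalization_fractionRing_sub`: the total ring of fractions of any subalgebra of `S` is obtained by inverting
  the non-zero-divisors of `A`.
* `normSub`, `toNormSub`: the normalization of a subalgebra of `S` inside `Frac S`.
* `productMap_injective`: `A' ⊗_A D → D'` is injective for flat `D`.
-/

set_option autoImplicit false
set_option linter.style.haveILetI false
set_option linter.unusedSectionVars false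
universe u
namespace Groth.Agent.Lib.Helper98.NormResidue

open IsLocalRing TensorProduct Groth.Agent.Lib.Helper9 Groth.Agent.Lib.Helper9.HensK
  Groth.Agent.Lib.Helper3.FracEssEtale Groth.Agent.Lib.Helper98.NormInFrac

section GeneralLoc
variable (A S : Type u) [CommRing A] [IsLocalRing A] [IsReduced A] [IsNoetherianRing A]
  [CommRing S] [IsLocalRing S] [Algebra A S] [IsLocalHom (algebraMap A S)]
  [Hensel.IsStrictHenselization A S] (D : Subalgebra A S)

/-- The total ring of fractions of any subalgebra of `S = A^sh` is obtained by inverting the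
non-zero-divisors of `A`. -/
theorem isLocalization_fractionRing_sub : IsLocalization (imNZD A D) (FractionRing D) := by
  classical
  haveI : Module.Flat A S := flat_of_isStrictHenselization A S
  have hmin : (minimalPrimes A).Finite := minimalPrimes.finite_of_isNoetherianRing A
  have hcov := isEtaleCoveredFin_of_isStrictHenselization A S
  refine (IsLocalization.iff_of_le_of_exists_dvd (imNZD A D) (nonZeroDivisors D)
    (Groth.Agent.Lib.Helper3.FracSub.imNZD_le_of_subalgebra D) ?_).mpr inferInstance
  intro d hd
  -- the subalgebra generated by `d`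
  have hdS : (d : S) ∈ nonZeroDivisors S :=
    Groth.Agent.Lib.Helper3.FracSub.mem_nonZeroDivisors_of_subalgebra hmin hcov D d hd
  obtain ⟨E₀, _, _, _, φ, hφ⟩ :=
    Groth.Agent.Lib.Helper3.FracSub.exists_locLift_of_finset hcov ({(d : S)} : Finset S)
  obtain ⟨_, hE⟩ := Groth.Agent.Lib.Helper3.EssEtaleSub.range_locLift_spec φ
  set E : Subalgebra A S := (Groth.Agent.Lib.Helper3.EssEtaleSub.locLift φ).range with hEdef
  haveI := quasiFinite_of_isEssentiallyEtale hE
  haveI := flat_of_isEssentiallyEtale hE
  have hlocE : IsLocalization (imNZD A E) (FractionRing E) := isLocalization_fractionRing A E hmin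
  have hfinE : FinOverFrac A (FractionRing E) := finOverFrac_of_quasiFinite A E hmin _
  let D₀ : Subalgebra A S := Algebra.adjoin A {(d : S)}
  have hD₀E : D₀ ≤ E := Algebra.adjoin_le (by
    intro x hx
    rw [Set.mem_singleton_iff] at hx
    rw [hx]
    exact hφ _ (by simp))
  have hD₀D : D₀ ≤ D := Algebra.adjoin_le (by
    intro x hx
    rw [Set.mem_singleton_iff] at hx
    rw [hx]
    exact d.2)
  have hfin₀ : FinOverFrac A (Localization (imNZD A D₀)) :=
    Groth.Agent.Lib.Helper3.FracSub.finOverFrac_of_le hmin D₀ E hD₀E hlocE hfinE _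
  let d₀ : D₀ := ⟨(d : S), Algebra.subset_adjoin (Set.mem_singleton _)⟩
  have hd₀ : d₀ ∈ nonZeroDivisors D₀ := by
    rw [mem_nonZeroDivisors_iff_right]
    intro x hx
    have h2 : (x : S) * (d : S) = 0 := congrArg Subtype.val hx
    exact Subtype.ext ((mem_nonZeroDivisors_iff_right.mp hdS) _ h2)
  obtain ⟨m, ⟨a, ha, rfl⟩, c, hc⟩ := exists_dvd_of_finOverFrac A D₀ hmin _ hfin₀ d₀ hd₀
  refine ⟨algebraMap A D a, ⟨a, ha, rfl⟩, ⟨(c : S), hD₀D c.2⟩, ?_⟩
  apply Subtype.ext
  have := congrArg (fun z : D₀ => (z : S)) hc
  exact this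

end GeneralLoc


end Groth.Agent.Lib.Helper98.NormResidue

namespace Groth.Agent.Lib.Helper98.NormStrict

open IsLocalRing TensorProduct Groth.Agent.Lib.Helper9 Groth.Agent.Lib.Helper9.HensK
  Groth.Agent.Lib.Helper3.FracEssEtale Groth.Agent.Lib.Helper98.NormInFrac
  Groth.Agent.Lib.Helper98.NormResidue Groth.Agent.Lib.Helper98.NormEssEtale
  Groth.Agent.Lib.Helper3.EssEtaleSub

section LocLift
variable {A S E₀ : Type u} [CommRing A] [IsLocalRing A] [CommRing S] [IsLocalRing S] [Algebra A S]
  [IsLocalHom (algebraMap A S)] [CommRing E₀] [Algebra A E₀] (φ : E₀ →ₐ[A] S)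

theorem isLocalHom_algebraMap_range_locLift :
    IsLocalHom (algebraMap (locLift φ).range S) := by
  constructor
  intro x hx
  obtain ⟨c, hc, h⟩ := exists_inv_mem_range_locLift φ x.1 x.2 hx
  exact IsUnit.of_mul_eq_one ⟨c, hc⟩ (Subtype.ext h)

end LocLift

section Concrete
variable (A S : Type u) [CommRing A] [IsLocalRing A] [IsReduced A] [IsNoetherianRing A]
  [CommRing S] [IsLocalRing S] [Algebra A S] [IsLocalHom (algebraMap A S)]
  [Hensel.IsStrictHenselization A S] (D : Subalgebra A S)

/-- The normalization of a subalgebra `E` of `S`, as a subalgebra of `Frac S`. -/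
noncomputable def normSub : Subalgebra A (FractionRing S) :=
  (integralClosure D (FractionRing S)).restrictScalars A ⊓
    ((tensorToFrac A S D).range).restrictScalars A

theorem mem_normSub_iff (x : FractionRing S) :
    x ∈ normSub A S D ↔ (IsIntegral D x ∧
      ∃ a ∈ nonZeroDivisors A, ∃ d ∈ D,
        algebraMap A (FractionRing S) a * x = algebraMap S (FractionRing S) d) := by
  unfold normSub
  rw [Algebra.mem_inf, Subalgebra.mem_restrictScalars, Subalgebra.mem_restrictScalars,
    mem_integralClosure_iff, mem_range_tensorToFrac_iff]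

/-- The inclusion of `D` into its normalization. -/
noncomputable def toNormSub : D →ₐ[A] normSub A S D :=
  (IsScalarTower.toAlgHom A D (FractionRing S)).codRestrict _ (fun d => by
    rw [mem_normSub_iff]
    refine ⟨isIntegral_algebraMap, 1, one_mem _, d, d.2, ?_⟩
    rw [map_one, one_mul]
    rfl)

theorem toNormSub_coe (d : D) :
    ((toNormSub A S D d : normSub A S D) : FractionRing S) = algebraMap S (FractionRing S) d :=
  rfl

variable (A' D' : Subalgebra A (FractionRing S))
  (hA' : ∀ x : (FractionRing S), x ∈ A' ↔ (IsIntegral A x ∧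
      ∃ a ∈ nonZeroDivisors A, ∃ b : A, algebraMap A (FractionRing S) a * x = algebraMap A (FractionRing S) b))
  (hD' : ∀ x : (FractionRing S), x ∈ D' ↔ (IsIntegral D x ∧
      ∃ a ∈ nonZeroDivisors A, ∃ d ∈ D, algebraMap A (FractionRing S) a * x = algebraMap S (FractionRing S) d))
  (hle : A' ≤ D') (ι : D →ₐ[A] D') (hι : ∀ d : D, (ι d : (FractionRing S)) = algebraMap S (FractionRing S) d)

include hA' in
theorem le_normSub : A' ≤ normSub A S D := by
  intro x hx
  obtain ⟨hint, a, ha, b, hab⟩ := (hA' x).mp hx
  rw [mem_normSub_iff]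
  refine ⟨hint.tower_top, a, ha, algebraMap A S b, Subalgebra.algebraMap_mem D b, ?_⟩
  rw [hab, IsScalarTower.algebraMap_apply A S (FractionRing S)]

include hι in
theorem productMap_coe_tmul (x : A') (d : D) :
    ((Algebra.TensorProduct.productMap (Subalgebra.inclusion hle) ι (x ⊗ₜ[A] d) : D') :
      FractionRing S) = (x : FractionRing S) * algebraMap S (FractionRing S) d := by
  rw [Algebra.TensorProduct.productMap_apply_tmul, Subalgebra.coe_mul, hι]
  rfl

include hA' hι in
/-- For a flat subalgebra `D`, the map `A' ⊗_A D → D'` is injective. -/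
theorem productMap_injective [Module.Flat A D] :
    Function.Injective (Algebra.TensorProduct.productMap (Subalgebra.inclusion hle) ι) := by
  obtain ⟨eA, heA⟩ := exists_algEquiv_base A S A' hA'
  have hΨ := TensorProduct.toIntegralClosure_injective_of_flat (R := A) (S := D)
    (B := FractionRing A)
  let κ : D ⊗[A] integralClosure A (FractionRing A) ≃ₐ[A] A' ⊗[A] D :=
    (Algebra.TensorProduct.congr AlgEquiv.refl eA).trans (Algebra.TensorProduct.comm A D A')
  let Θ := Algebra.TensorProduct.productMap (Subalgebra.inclusion hle) ι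
  have hc : ∀ t : D ⊗[A] integralClosure A (FractionRing A),
      ((Θ (κ t) : D') : FractionRing S) =
        tensorToFrac A S D ((TensorProduct.toIntegralClosure A D (FractionRing A) t :
          integralClosure D (D ⊗[A] FractionRing A)) : D ⊗[A] FractionRing A) := by
    intro t
    induction t with
    | zero => simp
    | add x y hx hy =>
      rw [map_add, map_add, map_add, Subalgebra.coe_add, hx, hy, Subalgebra.coe_add, map_add]
    | tmul d x =>
      have h1 : κ (d ⊗ₜ x) = eA x ⊗ₜ d := by
        simp [κ]
      rw [h1]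
      change (((Subalgebra.inclusion hle (eA x)) * ι d : D') : FractionRing S) = _
      rw [Subalgebra.coe_mul, hι]
      have h2 : ((TensorProduct.toIntegralClosure A D (FractionRing A) (d ⊗ₜ x) :
          integralClosure D (D ⊗[A] FractionRing A)) : D ⊗[A] FractionRing A) =
          d ⊗ₜ (x : FractionRing A) := by
        simp [TensorProduct.toIntegralClosure]
      rw [h2, tensorToFrac_tmul, mul_comm, ← heA]
      rfl
  have hinj : Function.Injective (fun t => Θ (κ t)) := by
    intro t₁ t₂ h
    have h' : ((Θ (κ t₁) : D') : FractionRing S) = ((Θ (κ t₂) : D') : FractionRing S) :=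
      congrArg Subtype.val h
    rw [hc, hc] at h'
    exact hΨ (Subtype.ext (tensorToFrac_injective A S D h'))
  have : (Θ : A' ⊗[A] D → D') = (fun t => Θ (κ t)) ∘ κ.symm := by
    ext t
    simp
  rw [show (Algebra.TensorProduct.productMap (Subalgebra.inclusion hle) ι : A' ⊗[A] D → D') =
    (fun t => Θ (κ t)) ∘ κ.symm from this]
  exact hinj.comp κ.symm.injective


include hA' in
/-- Common denominators for finitely many elements of `A'`. -/
theorem exists_common_denominator {X : Type*} (T : Finset (A' × X)) :
    ∃ b ∈ nonZeroDivisors A, ∀ mn ∈ T, ∃ c : A,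
      algebraMap A (FractionRing S) b * (mn.1 : FractionRing S) = algebraMap A (FractionRing S) c := by
  classical
  induction T using Finset.induction_on with
  | empty => exact ⟨1, one_mem _, fun mn hmn => absurd hmn (Finset.notMem_empty _)⟩
  | insert mn₀ T _ ih =>
    obtain ⟨b, hb, hbT⟩ := ih
    obtain ⟨-, a₀, ha₀, b₀, hab₀⟩ := (hA' mn₀.1).mp mn₀.1.2
    refine ⟨a₀ * b, mul_mem ha₀ hb, fun mn hmn => ?_⟩
    rcases Finset.mem_insert.mp hmn with rfl | hmn
    · refine ⟨b * b₀, ?_⟩
      rw [map_mul, map_mul, ← hab₀]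
      ring
    · obtain ⟨c, hc⟩ := hbT mn hmn
      refine ⟨a₀ * c, ?_⟩
      rw [map_mul, map_mul, ← hc]
      ring


end Concrete

end Groth.Agent.Lib.Helper98.NormStrict
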