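import Mathlib
import Groth.Agent.Lib.Helper98.NormStrictA

/-!
# `A' ⊗_A D → D'` is bijective when `S = A^sh` is faithfully flat over `D` (helper98)
-/

set_option autoImplicit false
set_option linter.style.haveILetI false
set_option linter.unusedSectionVars false
universe u
namespace Groth.Agent.Lib.Helper98.NormStrict

open IsLocalRing TensorProduct Groth.Agent.Lib.Helper9 Groth.Agent.Lib.Helper9.HensK
  Groth.Agent.Lib.Helper3.FracEssEtale Groth.Agent.Lib.Helper98.NormInFrac
  Groth.Agent.Lib.Helper98.NormResidue Groth.Agent.Lib.Helper98.NormEssEtale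
  Groth.Agent.Lib.Helper3.EssEtaleSub

section Concrete
variable (A S : Type u) [CommRing A] [IsLocalRing A] [IsReduced A] [IsNoetherianRing A]
  [CommRing S] [IsLocalRing S] [Algebra A S] [IsLocalHom (algebraMap A S)]
  [Hensel.IsStrictHenselization A S] (D : Subalgebra A S)
variable (A' D' : Subalgebra A (FractionRing S))
  (hA' : ∀ x : (FractionRing S), x ∈ A' ↔ (IsIntegral A x ∧
      ∃ a ∈ nonZeroDivisors A, ∃ b : A, algebraMap A (FractionRing S) a * x = algebraMap A (FractionRing S) b))
  (hD' : ∀ x : (FractionRing S), x ∈ D' ↔ (IsIntegral D x ∧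
      ∃ a ∈ nonZeroDivisors A, ∃ d ∈ D, algebraMap A (FractionRing S) a * x = algebraMap S (FractionRing S) d))
  (hle : A' ≤ D') (ι : D →ₐ[A] D') (hι : ∀ d : D, (ι d : (FractionRing S)) = algebraMap S (FractionRing S) d)

include hA' in
/-- Every element of the normalization of `D` is an `S`-linear combination of elements of `A'`. -/
theorem exists_sum_of_mem_normSub (y : FractionRing S) (hy : y ∈ normSub A S D) :
    ∃ (X : Type u) (T : Finset (A' × X)) (σ : X → S),
      y = ∑ mn ∈ T, (mn.1 : FractionRing S) * algebraMap S (FractionRing S) (σ mn.2) := by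
  classical
  haveI hflat : Module.Flat A S := flat_of_isStrictHenselization A S
  have hcov := isEtaleCoveredFin_of_isStrictHenselization A S
  obtain ⟨hint, a, ha, d, hd, hay⟩ := (mem_normSub_iff A S D y).mp hy
  obtain ⟨p, hpmonic, hp⟩ := hint
  obtain ⟨E₀, _, _, _, φ, hφ⟩ := Groth.Agent.Lib.Helper3.FracSub.exists_locLift_of_finset hcov
    (insert d (p.coeffs.image (fun c : D => (c : S))))
  obtain ⟨_, hE⟩ := range_locLift_spec φ
  haveI := isLocalHom_algebraMap_range_locLift φ
  set E : Subalgebra A S := (locLift φ).range with hEdef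
  have hdE : d ∈ E := hφ _ (Finset.mem_insert_self _ _)
  have hcoeff : ∀ n, ((p.coeff n : D) : S) ∈ E := by
    intro n
    by_cases h0 : p.coeff n = 0
    · rw [h0]
      exact zero_mem _
    · exact hφ _ (Finset.mem_insert_of_mem
        (Finset.mem_image_of_mem _ (Polynomial.coeff_mem_coeffs h0)))
  -- `y` is integral over `E`
  have hintE : IsIntegral E y := by
    have hlifts : p.map (algebraMap D S) ∈ Polynomial.lifts (algebraMap E S) := by
      rw [Polynomial.lifts_iff_coeff_lifts]
      intro n
      rw [Polynomial.coeff_map]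
      exact ⟨⟨_, hcoeff n⟩, rfl⟩
    obtain ⟨q, hq, -, hqmonic⟩ :=
      Polynomial.lifts_and_degree_eq_and_monic hlifts (hpmonic.map _)
    refine ⟨q, hqmonic, ?_⟩
    rw [IsScalarTower.algebraMap_eq E S (FractionRing S), ← Polynomial.eval₂_map, hq,
      Polynomial.eval₂_map, ← IsScalarTower.algebraMap_eq]
    exact hp
  have hyE : y ∈ normSub A S E := by
    rw [mem_normSub_iff]
    exact ⟨hintE, a, ha, d, hdE, hay⟩
  have hbij := productMap_bijective A S E A' (normSub A S E) hA' (mem_normSub_iff A S E)
    (le_normSub A S E A' hA') (toNormSub A S E) (toNormSub_coe A S E) hE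
  obtain ⟨t, ht⟩ := hbij.2 ⟨y, hyE⟩
  obtain ⟨T, hT⟩ := TensorProduct.exists_finset t
  refine ⟨E, T, fun e => (e : S), ?_⟩
  have h1 := congrArg (fun z : normSub A S E => (z : FractionRing S)) ht
  simp only at h1
  rw [← h1, hT, map_sum, AddSubmonoidClass.coe_finsetSum]
  refine Finset.sum_congr rfl (fun mn _ => ?_)
  exact productMap_coe_tmul A S E A' (normSub A S E) (le_normSub A S E A' hA') (toNormSub A S E)
    (toNormSub_coe A S E) mn.1 mn.2

include hA' hD' hι in
/-- Descent: if `S` is faithfully flat over `D`, then `A' ⊗_A D → D'` is surjective. -/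
theorem productMap_surjective [Module.FaithfullyFlat D S] :
    Function.Surjective (Algebra.TensorProduct.productMap (Subalgebra.inclusion hle) ι) := by
  classical
  intro y
  obtain ⟨hint, a, ha, d, hd, hay⟩ := (hD' y.1).mp y.2
  have hyN : y.1 ∈ normSub A S D := (mem_normSub_iff A S D y.1).mpr ⟨hint, a, ha, d, hd, hay⟩
  obtain ⟨X, T, σ, hyT⟩ := exists_sum_of_mem_normSub A S D A' hA' y.1 hyN
  obtain ⟨b, hb, hbT⟩ := exists_common_denominator A S A' hA' T
  choose! c hc using hbT
  -- the key identity in `S`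
  have hinjS : Function.Injective (algebraMap S (FractionRing S)) :=
    IsFractionRing.injective S (FractionRing S)
  have hS : algebraMap A S b * d = ∑ mn ∈ T, σ mn.2 * algebraMap A S (a * c mn) := by
    apply hinjS
    rw [map_mul, ← IsScalarTower.algebraMap_apply A S (FractionRing S), ← hay, map_sum, hyT,
      Finset.mul_sum, Finset.mul_sum]
    refine Finset.sum_congr rfl (fun mn hmn => ?_)
    rw [map_mul, ← IsScalarTower.algebraMap_apply A S (FractionRing S), map_mul, ← hc mn hmn]
    ring
  -- the ideal of `D`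
  let v : T → D := fun i => algebraMap A D (a * c i.1)
  let 𝔟 : Ideal D := Ideal.span (Set.range v)
  let bd : D := algebraMap A D b * ⟨d, hd⟩
  have hmem : bd ∈ (𝔟.map (algebraMap D S)).comap (algebraMap D S) := by
    rw [Ideal.mem_comap]
    change algebraMap A S b * d ∈ _
    rw [hS]
    refine Ideal.sum_mem _ (fun mn hmn => ?_)
    apply Ideal.mul_mem_left
    have : algebraMap A S (a * c mn) = algebraMap D S (v ⟨mn, hmn⟩) := rfl
    rw [this]
    exact Ideal.mem_map_of_mem _ (Ideal.subset_span ⟨⟨mn, hmn⟩, rfl⟩)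
  rw [Ideal.comap_map_eq_self_of_faithfullyFlat] at hmem
  obtain ⟨dd, hdd⟩ := (Ideal.mem_span_range_iff_exists_fun).mp hmem
  refine ⟨∑ i : T, (i.1.1 : A') ⊗ₜ[A] dd i, Subtype.ext ?_⟩
  rw [map_sum, AddSubmonoidClass.coe_finsetSum]
  have hunit : IsUnit (algebraMap A (FractionRing S) (a * b)) :=
    isUnit_algebraMap_base A S ⟨a * b, mul_mem ha hb⟩
  apply hunit.mul_left_cancel
  have h1 : algebraMap A (FractionRing S) (a * b) * (y : FractionRing S) =
      algebraMap S (FractionRing S) (bd : S) := by
    change _ = algebraMap S (FractionRing S) (algebraMap A S b * d)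
    rw [map_mul, map_mul, ← IsScalarTower.algebraMap_apply A S (FractionRing S), ← hay]
    ring
  rw [h1, ← hdd, Finset.mul_sum]
  have h2 : ((∑ i : T, dd i * v i : D) : S) = ∑ i : T, ((dd i : D) : S) * ((v i : D) : S) := by
    rw [AddSubmonoidClass.coe_finsetSum]
    rfl
  rw [h2, map_sum]
  refine Finset.sum_congr rfl (fun i _ => ?_)
  rw [productMap_coe_tmul A S D A' D' hle ι hι]
  have h3 : ((v i : D) : S) = algebraMap A S (a * c i.1) := rfl
  rw [h3, map_mul (algebraMap S (FractionRing S)),
    ← IsScalarTower.algebraMap_apply A S (FractionRing S), map_mul (algebraMap A (FractionRing S)) a (c i.1),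
    ← hc i.1 i.2, map_mul (algebraMap A (FractionRing S)) a b]
  ring

end Concrete

end Groth.Agent.Lib.Helper98.NormStrict
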