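import Mathlib
import Groth.Agent.Lib.Helper98.NormStrictB
import Groth.Agent.Lib.Helper9.Hens.FibreRing
import Groth.Agent.Lib.Helper9.FlatDescent

/-!
# The residue fields of the normalization of `D ⊆ S = A^sh` with `D^sh = S` (helper98)

* `jacobson_tensor_eq'`: Jacobson radical of `A' ⊗_A D` when all `M (A' ⊗_A D)` are radical.
* `isRadical_map_of_isMaximal`: these ideals are radical when `S` is faithfully flat over `D` (`S` ind-étale over `A`).
* `residue_of_isStrictHenselization`: the residue-field-product formula for `D` with `D^sh = S`.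
-/

set_option autoImplicit false
set_option linter.style.haveILetI false
set_option linter.unusedSectionVars false
universe u
namespace Groth.Agent.Lib.Helper98.NormStrict

open IsLocalRing TensorProduct Groth.Agent.Lib.Helper9 Groth.Agent.Lib.Helper9.HensK
  Groth.Agent.Lib.Helper3.FracEssEtale Groth.Agent.Lib.Helper98.NormInFrac
  Groth.Agent.Lib.Helper98.NormResidue Groth.Agent.Lib.Helper98.NormEssEtale
  Groth.Agent.Lib.Helper3.EssEtaleSub

section Jac
variable {A A' D : Type*} [CommRing A] [IsLocalRing A] [CommRing A'] [Algebra A A']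
  [Algebra.IsIntegral A A'] [CommRing D] [IsLocalRing D] [Algebra A D]
variable (hm : Ideal.map (algebraMap A D) (maximalIdeal A) = maximalIdeal D)

include hm in
theorem jacobson_le_map_of_isMaximal' [IsLocalHom (algebraMap A D)] (M : Ideal A') [hM : M.IsMaximal]
    (hrad : (M.map (algebraMap A' (A' ⊗[A] D))).IsRadical) :
    Ideal.jacobson (⊥ : Ideal (A' ⊗[A] D)) ≤ M.map (algebraMap A' (A' ⊗[A] D)) := by
  rw [← hrad.radical, Ideal.radical_eq_sInf]
  apply le_sInf
  rintro P ⟨hMP, hP⟩
  haveI := hP
  have hMA : M.comap (algebraMap A A') = maximalIdeal A := by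
    haveI : (M.comap (algebraMap A A')).IsMaximal :=
      Ideal.isMaximal_comap_of_isIntegral_of_isMaximal (R := A) (S := A') M
    exact IsLocalRing.eq_maximalIdeal inferInstance
  let p := P.comap (Algebra.TensorProduct.includeRight : D →ₐ[A] A' ⊗[A] D).toRingHom
  haveI : p.IsPrime := Ideal.comap_isPrime _ _
  have hp : maximalIdeal D ≤ p := by
    rw [← hm, Ideal.map_le_iff_le_comap]
    intro a ha
    rw [Ideal.mem_comap, Ideal.mem_comap]
    apply hMP
    have h1 : (Algebra.TensorProduct.includeRight : D →ₐ[A] A' ⊗[A] D).toRingHom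
        (algebraMap A D a) = algebraMap A' (A' ⊗[A] D) (algebraMap A A' a) := by
      simp [Algebra.algebraMap_eq_smul_one, Algebra.TensorProduct.one_def]
    rw [h1]
    apply Ideal.mem_map_of_mem
    rw [← hMA] at ha
    exact ha
  have hpmax : p.IsMaximal := by
    have : p = maximalIdeal D :=
      ((maximalIdeal.isMaximal D).eq_of_le (Ideal.IsPrime.ne_top inferInstance) hp).symm
    rw [this]
    exact maximalIdeal.isMaximal D
  haveI : P.IsMaximal :=
    Ideal.isMaximal_of_isIntegral_of_isMaximal_comap'
      (Algebra.TensorProduct.includeRight : D →ₐ[A] A' ⊗[A] D).toRingHom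
      isIntegral_includeRight P hpmax
  exact (Ideal.jacobson_mono bot_le).trans (le_of_eq Ideal.jacobson_eq_self_of_isMaximal)

include hm in
theorem jacobson_le_map_jacobson' [IsLocalHom (algebraMap A D)]
    (hrad : ∀ M : Ideal A', M.IsMaximal → (M.map (algebraMap A' (A' ⊗[A] D))).IsRadical)
    (hfin : {M : Ideal A' | M.IsMaximal}.Finite) :
    Ideal.jacobson (⊥ : Ideal (A' ⊗[A] D)) ≤
      (Ideal.jacobson (⊥ : Ideal A')).map (algebraMap A' (A' ⊗[A] D)) := by
  classical
  have hJ : Ideal.jacobson (⊥ : Ideal A') = ⨅ M ∈ hfin.toFinset, M := by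
    change sInf {J : Ideal A' | ⊥ ≤ J ∧ J.IsMaximal} = _
    rw [sInf_eq_iInf]
    apply le_antisymm
    · apply le_iInf₂
      intro M hM
      exact iInf₂_le M ⟨bot_le, by simpa using hM⟩
    · apply le_iInf₂
      rintro M ⟨-, hM⟩
      exact iInf₂_le M (by simpa using hM)
  have hcop : (hfin.toFinset : Set (Ideal A')).Pairwise (Function.onFun IsCoprime id) := by
    intro M₁ h₁ M₂ h₂ hne
    haveI : M₁.IsMaximal := by simpa using h₁
    haveI : M₂.IsMaximal := by simpa using h₂
    change IsCoprime M₁ M₂
    exact Ideal.isCoprime_of_isMaximal hne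
  have hcop' : (hfin.toFinset : Set (Ideal A')).Pairwise
      (Function.onFun IsCoprime (fun M => M.map (algebraMap A' (A' ⊗[A] D)))) := by
    intro M₁ h₁ M₂ h₂ hne
    have h := hcop h₁ h₂ hne
    change IsCoprime M₁ M₂ at h
    change IsCoprime (M₁.map _) (M₂.map _)
    rw [Ideal.isCoprime_iff_sup_eq] at h ⊢
    rw [← Ideal.map_sup, h, Ideal.map_top]
  have h1 : ∏ M ∈ hfin.toFinset, (id M : Ideal A') = ⨅ M ∈ hfin.toFinset, M :=
    Ideal.prod_eq_iInf_of_pairwise_isCoprime hcop
  have h2 := Ideal.prod_eq_iInf_of_pairwise_isCoprime hcop'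
  rw [hJ, ← h1]
  have h3 : (∏ M ∈ hfin.toFinset, (id M : Ideal A')).map (algebraMap A' (A' ⊗[A] D)) =
      ∏ M ∈ hfin.toFinset, M.map (algebraMap A' (A' ⊗[A] D)) :=
    map_prod (Ideal.mapHom (algebraMap A' (A' ⊗[A] D))) _ _
  rw [h3, h2]
  apply le_iInf₂
  intro M hM
  haveI : M.IsMaximal := by simpa using hM
  exact jacobson_le_map_of_isMaximal' hm M (hrad M inferInstance)

include hm in
/-- The Jacobson radical of `A' ⊗_A D` for `A'` integral semilocal over `A` and `D` local with
`m_A D = m_D`, when all `M (A' ⊗_A D)` are radical. -/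
theorem jacobson_tensor_eq' [IsLocalHom (algebraMap A D)]
    (hrad : ∀ M : Ideal A', M.IsMaximal → (M.map (algebraMap A' (A' ⊗[A] D))).IsRadical)
    (hfin : {M : Ideal A' | M.IsMaximal}.Finite) :
    Ideal.jacobson (⊥ : Ideal (A' ⊗[A] D)) =
      (Ideal.jacobson (⊥ : Ideal A')).map
        (Algebra.TensorProduct.includeLeft : A' →ₐ[A] A' ⊗[A] D) ⊔
      (maximalIdeal D).map (Algebra.TensorProduct.includeRight : D →ₐ[A] A' ⊗[A] D) := by
  apply le_antisymm
  · exact (jacobson_le_map_jacobson' hm hrad hfin).trans le_sup_left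
  · exact sup_le_jacobson hm

end Jac

section Reduced
variable {A S : Type u} [CommRing A] [CommRing S] [Algebra A S] (D : Subalgebra A S)

/-- Faithfully flat maps are universally injective. -/
theorem map_val_injective_of_faithfullyFlat [Module.FaithfullyFlat D S] (F : Type u) [CommRing F]
    [Algebra A F] :
    Function.Injective (Algebra.TensorProduct.map (AlgHom.id A F) D.val : F ⊗[A] D →ₐ[A] F ⊗[A] S) := by
  have h1 : Function.Injective (TensorProduct.mk D S (D ⊗[A] F) 1) :=
    Module.FaithfullyFlat.tensorProduct_mk_injective (A := D) (B := S) (D ⊗[A] F)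
  have key : ∀ z : F ⊗[A] D,
      (Algebra.TensorProduct.map (AlgHom.id A F) D.val z : F ⊗[A] S) =
        TensorProduct.comm A S F
          (TensorProduct.AlgebraTensorModule.cancelBaseChange A D D S F
            (TensorProduct.mk D S (D ⊗[A] F) 1 (TensorProduct.comm A F D z))) := by
    intro z
    induction z with
    | zero => simp
    | add x y hx hy => simp only [map_add, hx, hy]
    | tmul f d =>
      simp [TensorProduct.AlgebraTensorModule.cancelBaseChange_tmul, Algebra.smul_def]
  intro z₁ z₂ h
  rw [key, key] at h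
  have h2 := (TensorProduct.comm A S F).injective h
  have h3 := (TensorProduct.AlgebraTensorModule.cancelBaseChange A D D S F).injective h2
  exact (TensorProduct.comm A F D).injective (h1 h3)

theorem isReduced_tensor_of_field [Module.FaithfullyFlat D S] (hcov : IsEtaleCoveredFin A S)
    (F : Type u) [Field F] [Algebra A F] : IsReduced (F ⊗[A] D) := by
  have h1 : IsEtaleCovered F (F ⊗[A] S) := IsEtaleCoveredFin.isEtaleCovered_baseChange hcov F
  haveI h2 : IsReduced (F ⊗[A] S) := IsEtaleCovered.isReduced_of_field h1
  exact isReduced_of_injective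
    (Algebra.TensorProduct.map (AlgHom.id A F) D.val : F ⊗[A] D →ₐ[A] F ⊗[A] S)
    (map_val_injective_of_faithfullyFlat D F)

theorem isRadical_map_of_isMaximal [Module.FaithfullyFlat D S] (hcov : IsEtaleCoveredFin A S)
    (A' : Type u) [CommRing A'] [Algebra A A'] (M : Ideal A') [hM : M.IsMaximal] :
    (M.map (algebraMap A' (A' ⊗[A] D))).IsRadical := by
  letI := Ideal.Quotient.field M
  haveI := isReduced_tensor_of_field D hcov (A' ⧸ M)
  rw [Ideal.isRadical_iff_quotient_reduced]
  exact isReduced_of_injective
    (Algebra.TensorProduct.quotientTensorEquiv (R := A) A D A' M).symm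
    (Algebra.TensorProduct.quotientTensorEquiv (R := A) A D A' M).symm.injective

end Reduced

section Concrete
variable (A S : Type u) [CommRing A] [IsLocalRing A] [IsReduced A] [IsNoetherianRing A]
  [CommRing S] [IsLocalRing S] [Algebra A S] [IsLocalHom (algebraMap A S)]
  [Hensel.IsStrictHenselization A S] (D : Subalgebra A S)
  [IsLocalRing D] [IsLocalHom (algebraMap D S)]
  (A' D' : Subalgebra A (FractionRing S))
  (hA' : ∀ x : (FractionRing S), x ∈ A' ↔ (IsIntegral A x ∧
      ∃ a ∈ nonZeroDivisors A, ∃ b : A, algebraMap A (FractionRing S) a * x = algebraMap A (FractionRing S) b))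
  (hD' : ∀ x : (FractionRing S), x ∈ D' ↔ (IsIntegral D x ∧
      ∃ a ∈ nonZeroDivisors A, ∃ d ∈ D, algebraMap A (FractionRing S) a * x = algebraMap S (FractionRing S) d))
  (hle : A' ≤ D') (ι : D →ₐ[A] D') (hι : ∀ d : D, (ι d : (FractionRing S)) = algebraMap S (FractionRing S) d)

include A in
theorem map_maximalIdeal_sub [Hensel.IsStrictHenselization D S] :
    Ideal.map (algebraMap A D) (maximalIdeal A) = maximalIdeal D := by
  haveI : Module.FaithfullyFlat D S := Groth.Agent.S0539.result D S
  have h1 : (maximalIdeal A).map (algebraMap A S) = maximalIdeal S :=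
    map_maximalIdeal_of_isStrictHenselization A S
  have h2 : (maximalIdeal D).map (algebraMap D S) = maximalIdeal S :=
    map_maximalIdeal_of_isStrictHenselization D S
  rw [← Ideal.comap_map_eq_self_of_faithfullyFlat (B := S) (maximalIdeal D), h2, ← h1,
    IsScalarTower.algebraMap_eq A D S, ← Ideal.map_map,
    Ideal.comap_map_eq_self_of_faithfullyFlat]

include hA' hD' hι in
theorem productMap_bijective_of_isStrictHenselization [Hensel.IsStrictHenselization D S] :
    Function.Bijective (Algebra.TensorProduct.productMap (Subalgebra.inclusion hle) ι) := by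
  haveI : Module.FaithfullyFlat D S := Groth.Agent.S0539.result D S
  haveI : Module.Flat A S := flat_of_isStrictHenselization A S
  haveI : Module.Flat A D := flat_of_faithfullyFlat_of_flat_comp A D S
  exact ⟨productMap_injective A S D A' D' hA' hle ι hι,
    productMap_surjective A S D A' D' hA' hD' hle ι hι⟩

include hA' hD' hι in
/-- If `S` is also a strict henselization of the local subalgebra `D`, then the residue field
products of the normalizations are as expected. -/
theorem residue_of_isStrictHenselization [Hensel.IsStrictHenselization D S] :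
    {N : Ideal D' | N.IsMaximal}.Finite ∧
      Function.Surjective ((Ideal.Quotient.mkₐ A (Ideal.jacobson (⊥ : Ideal D'))).comp
          (Algebra.TensorProduct.productMap (Subalgebra.inclusion hle) ι)) ∧
      RingHom.ker ((Ideal.Quotient.mkₐ A (Ideal.jacobson (⊥ : Ideal D'))).comp
          (Algebra.TensorProduct.productMap (Subalgebra.inclusion hle) ι)) =
          (Ideal.jacobson (⊥ : Ideal A')).map
              (Algebra.TensorProduct.includeLeft : A' →ₐ[A] A' ⊗[A] D) ⊔
            (maximalIdeal D).map
              (Algebra.TensorProduct.includeRight : D →ₐ[A] A' ⊗[A] D) := by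
  haveI : IsNoetherianRing S :=
    (isNoetherianRing_iff_of_isStrictHenselization A S).mp inferInstance
  haveI : IsNoetherianRing D :=
    (isNoetherianRing_iff_of_isStrictHenselization D S).mpr inferInstance
  haveI : Module.FaithfullyFlat D S := Groth.Agent.S0539.result D S
  haveI : Module.Flat A S := flat_of_isStrictHenselization A S
  have hcov := isEtaleCoveredFin_of_isStrictHenselization A S
  haveI hADloc : IsLocalHom (algebraMap A D) :=
    Groth.Agent.Lib.Helper3.EssEtaleSub.isLocalHom_algebraMap_subalgebra D
  have hm : Ideal.map (algebraMap A D) (maximalIdeal A) = maximalIdeal D :=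
    map_maximalIdeal_sub A S D
  haveI : IsReduced S := isReduced_sh A S
  haveI : IsReduced D := isReduced_of_injective D.val Subtype.val_injective
  have hloc : IsLocalization (imNZD A D) (FractionRing D) := isLocalization_fractionRing_sub A S D
  obtain ⟨eD, -⟩ := exists_equiv_sub A S D D' hD' ι hι hloc
  obtain ⟨eA, -⟩ := exists_equiv_base A S A' hA'
  haveI := Groth.Agent.Lib.Helper98.NormalizationSemilocal.finite_maximalSpectrum_integralClosure D
  haveI := Groth.Agent.Lib.Helper98.NormalizationSemilocal.finite_maximalSpectrum_integralClosure A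
  haveI : Finite (MaximalSpectrum D') :=
    Groth.Agent.Lib.Helper98.NormalizationSemilocal.finite_maximalSpectrum_of_ringEquiv eD.symm
  haveI : Finite (MaximalSpectrum A') :=
    Groth.Agent.Lib.Helper98.NormalizationSemilocal.finite_maximalSpectrum_of_ringEquiv eA.symm
  have hΘ := productMap_bijective_of_isStrictHenselization A S D A' D' hA' hD' hle ι hι
  haveI := isIntegral_base A S A' hA'
  have hrad : ∀ M : Ideal A', M.IsMaximal →
      (M.map (algebraMap A' (A' ⊗[A] D))).IsRadical := fun M hM =>
    isRadical_map_of_isMaximal D hcov A' M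
  have hJ := jacobson_tensor_eq' (A := A) (A' := A') (D := D) hm hrad finite_setOf_isMaximal
  refine ⟨finite_setOf_isMaximal, ?_, ?_⟩
  · exact (Ideal.Quotient.mkₐ_surjective A _).comp hΘ.2
  · rw [← hJ]
    ext t
    rw [RingHom.mem_ker]
    change Ideal.Quotient.mk _ (Algebra.TensorProduct.productMap (Subalgebra.inclusion hle) ι t) = 0 ↔ _
    rw [Ideal.Quotient.eq_zero_iff_mem]
    exact mem_jacobson_bot_iff_of_bijective ((Algebra.TensorProduct.productMap
      (Subalgebra.inclusion hle) ι : A' ⊗[A] D →ₐ[A] D') : A' ⊗[A] D →+* D') hΘ t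

include hA' hD' hι in
/-- Conversely the residue-field-product formula implies that `S` is a strict henselization of
`D` (no finiteness hypothesis on the fraction ring needed). -/
theorem isStrictHenselization_of_residue
    (hsurj : Function.Surjective ((Ideal.Quotient.mkₐ A (Ideal.jacobson (⊥ : Ideal D'))).comp
          (Algebra.TensorProduct.productMap (Subalgebra.inclusion hle) ι)))
    (hker : RingHom.ker ((Ideal.Quotient.mkₐ A (Ideal.jacobson (⊥ : Ideal D'))).comp
          (Algebra.TensorProduct.productMap (Subalgebra.inclusion hle) ι)) =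
          (Ideal.jacobson (⊥ : Ideal A')).map
              (Algebra.TensorProduct.includeLeft : A' →ₐ[A] A' ⊗[A] D) ⊔
            (maximalIdeal D).map
              (Algebra.TensorProduct.includeRight : D →ₐ[A] A' ⊗[A] D)) :
    Hensel.IsStrictHenselization D S :=
  isStrictHenselization_sub_of_residue A S D A' D' hA' hD' hle ι hι
    (isLocalization_fractionRing_sub A S D) hsurj hker

end Concrete

end Groth.Agent.Lib.Helper98.NormStrict
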