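import Groth.Agent.Lib.Helper98.Superficial

/-!
# Bases inside generating submodules over semi-local rings (helper98)

`B` local with infinite residue field, `A` a semi-local `B`-algebra, `M` finite free over `A` and
`N ⊆ M` a `B`-submodule generating `M` over `A`: then `N` contains an `A`-basis of `M`.
-/

set_option autoImplicit false
universe u v

namespace Groth.Agent.Lib.Helper98

open TensorProduct

section nakayama

variable {A : Type u} [CommRing A] {M : Type v} [AddCommGroup M] [Module A M]

/-- Nakayama over all maximal ideals: a submodule `L` of a finite module with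
`L + P M = M` for all maximal `P` is everything. -/
theorem eq_top_of_forall_maximal_sup_smul_eq_top [Module.Finite A M] (L : Submodule A M)
    (h : ∀ P : Ideal A, P.IsMaximal → L ⊔ P • (⊤ : Submodule A M) = ⊤) : L = ⊤ := by
  by_contra hL
  haveI : Nontrivial (M ⧸ L) := Submodule.Quotient.nontrivial_iff.mpr hL
  have hann : Module.annihilator A (M ⧸ L) ≠ ⊤ := by
    intro h1
    rw [Module.annihilator_eq_top_iff] at h1
    exact not_subsingleton (M ⧸ L) h1
  obtain ⟨P, hP, hle⟩ := Ideal.exists_le_maximal _ hann
  have htop : (⊤ : Submodule A (M ⧸ L)) ≤ P • (⊤ : Submodule A (M ⧸ L)) := by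
    intro q _
    obtain ⟨m, rfl⟩ := Submodule.Quotient.mk_surjective L q
    have hm : m ∈ L ⊔ P • (⊤ : Submodule A M) := by rw [h P hP]; trivial
    obtain ⟨l, hl, p, hp, rfl⟩ := Submodule.mem_sup.mp hm
    have h1 : Submodule.Quotient.mk (p := L) (l + p) = L.mkQ p := by
      rw [Submodule.Quotient.mk_add, (Submodule.Quotient.mk_eq_zero L).mpr hl, zero_add]
      rfl
    rw [h1]
    have h2 : L.mkQ p ∈ (P • (⊤ : Submodule A M)).map L.mkQ := Submodule.mem_map_of_mem hp
    rw [Submodule.map_smul''] at h2
    exact Submodule.smul_mono le_rfl le_top h2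
  obtain ⟨r, hr1, hr0⟩ := Submodule.exists_sub_one_mem_and_smul_eq_zero_of_fg_of_le_smul P
    (⊤ : Submodule A (M ⧸ L)) Module.Finite.fg_top htop
  have hrann : r ∈ Module.annihilator A (M ⧸ L) := by
    rw [Module.mem_annihilator]
    exact fun q => hr0 q trivial
  have h1 : (1 : A) ∈ P := by
    have := P.sub_mem (hle hrann) hr1
    rwa [sub_sub_cancel] at this
  exact hP.ne_top ((Ideal.eq_top_iff_one _).mpr h1)

/-- The fibre of a free module at a maximal ideal has the expected dimension. -/
theorem finrank_quotient_smul_top_of_free [Module.Free A M] [Module.Finite A M] (P : Ideal A)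
    [P.IsMaximal] :
    letI : Field (A ⧸ P) := Ideal.Quotient.field P
    Module.finrank (A ⧸ P) (M ⧸ P • (⊤ : Submodule A M)) = Module.finrank A M := by
  letI : Field (A ⧸ P) := Ideal.Quotient.field P
  haveI : Nontrivial A := nontrivial_of_ne (0 : A) 1 fun h =>
    (inferInstance : P.IsMaximal).ne_top ((Ideal.eq_top_iff_one _).2 (h ▸ P.zero_mem))
  let e : (A ⧸ P) ⊗[A] M ≃ₗ[A ⧸ P] M ⧸ P • (⊤ : Submodule A M) :=
    (quotTensorEquivQuotSMul M P).extendScalarsOfSurjective Ideal.Quotient.mk_surjective
  rw [← e.finrank_eq, Module.finrank_baseChange]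

end nakayama

section fibre

variable {A : Type u} [CommRing A] {M : Type v} [AddCommGroup M] [Module A M]

/-- Linear independence of the images of a family in the fibre `M / P M` over the field
`A / P`. -/
def FibreIndep (P : Ideal A) [P.IsMaximal] {ι : Type*} (b : ι → M) : Prop :=
  letI : Field (A ⧸ P) := Ideal.Quotient.field P
  LinearIndependent (A ⧸ P) (fun t => (P • (⊤ : Submodule A M)).mkQ (b t))

theorem span_quotient_eq (P : Ideal A) [P.IsMaximal] (s : Set (M ⧸ P • (⊤ : Submodule A M))) :
    letI : Field (A ⧸ P) := Ideal.Quotient.field P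
    (Submodule.span (A ⧸ P) s).restrictScalars A = Submodule.span A s := by
  letI : Field (A ⧸ P) := Ideal.Quotient.field P
  exact Submodule.restrictScalars_span A (A ⧸ P) Ideal.Quotient.mk_surjective s

theorem fibreIndep_empty (P : Ideal A) [P.IsMaximal] (b : Fin 0 → M) : FibreIndep P b := by
  letI : Field (A ⧸ P) := Ideal.Quotient.field P
  exact linearIndependent_empty_type

theorem FibreIndep.snoc {P : Ideal A} [P.IsMaximal] {j : ℕ} {b : Fin j → M}
    (hb : FibreIndep P b) (x : M)
    (hx : (P • (⊤ : Submodule A M)).mkQ x ∉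
      Submodule.span A (Set.range fun t => (P • (⊤ : Submodule A M)).mkQ (b t))) :
    FibreIndep P (Fin.snoc b x : Fin (j + 1) → M) := by
  letI : Field (A ⧸ P) := Ideal.Quotient.field P
  have h1 : (fun t => (P • (⊤ : Submodule A M)).mkQ ((Fin.snoc b x : Fin (j + 1) → M) t)) =
      (Fin.snoc (fun t => (P • (⊤ : Submodule A M)).mkQ (b t))
        ((P • (⊤ : Submodule A M)).mkQ x) : Fin (j + 1) → _) := by
    funext t
    refine Fin.lastCases ?_ (fun i => ?_) t
    · simp only [Fin.snoc_last]
    · simp only [Fin.snoc_castSucc]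
  unfold FibreIndep
  rw [h1, linearIndependent_finSnoc]
  refine ⟨hb, ?_⟩
  intro hmem
  apply hx
  rw [← span_quotient_eq P, Submodule.restrictScalars_mem]
  exact hmem

theorem FibreIndep.sup_eq_top [Module.Free A M] [Module.Finite A M] {P : Ideal A} [P.IsMaximal]
    {b : Fin (Module.finrank A M) → M} (hb : FibreIndep P b) :
    Submodule.span A (Set.range b) ⊔ P • (⊤ : Submodule A M) = ⊤ := by
  letI : Field (A ⧸ P) := Ideal.Quotient.field P
  have h1 : Submodule.span (A ⧸ P)
      (Set.range fun t => (P • (⊤ : Submodule A M)).mkQ (b t)) = ⊤ := by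
    apply LinearIndependent.span_eq_top_of_card_eq_finrank' hb
    rw [Fintype.card_fin]
    exact (finrank_quotient_smul_top_of_free P).symm
  have h2 : Submodule.span A
      (Set.range fun t => (P • (⊤ : Submodule A M)).mkQ (b t)) = ⊤ := by
    rw [← span_quotient_eq P, h1]
    rfl
  have h3 : (Submodule.span A (Set.range b)).map (P • (⊤ : Submodule A M)).mkQ = ⊤ := by
    rw [Submodule.map_span, ← Set.range_comp]
    exact h2
  rw [sup_comm]
  exact (Submodule.map_mkQ_eq_top _ _).mp h3

theorem span_fibre_ne_top [Module.Free A M] [Module.Finite A M] (P : Ideal A) [P.IsMaximal]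
    {j : ℕ} (hj : j < Module.finrank A M) (b : Fin j → M) :
    Submodule.span A (Set.range fun t => (P • (⊤ : Submodule A M)).mkQ (b t)) ≠ ⊤ := by
  letI : Field (A ⧸ P) := Ideal.Quotient.field P
  intro h
  have h1 : Submodule.span (A ⧸ P)
      (Set.range fun t => (P • (⊤ : Submodule A M)).mkQ (b t)) = ⊤ := by
    apply Submodule.restrictScalars_injective A
    rw [span_quotient_eq P, h]
    rfl
  have h2 := finrank_range_le_card (R := A ⧸ P)
    (fun t => (P • (⊤ : Submodule A M)).mkQ (b t))
  rw [Set.finrank, h1, finrank_top, finrank_quotient_smul_top_of_free P, Fintype.card_fin] at h2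
  omega

end fibre

section basis

variable {B : Type u} {A : Type v} {M : Type v} [CommRing B] [CommRing A] [IsLocalRing B]
  [Infinite (IsLocalRing.ResidueField B)] [Algebra B A]
  [AddCommGroup M] [Module A M] [Module B M] [IsScalarTower B A M]

theorem exists_fibreIndep [Finite (MaximalSpectrum A)] [Module.Free A M] [Module.Finite A M]
    (N' : Submodule B M) (hN'fg : N'.FG) (hN' : Submodule.span A (N' : Set M) = ⊤) :
    ∀ j ≤ Module.finrank A M, ∃ b : Fin j → M, (∀ t, b t ∈ N') ∧
      ∀ P : MaximalSpectrum A, FibreIndep P.asIdeal b := by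
  classical
  haveI : Fintype (MaximalSpectrum A) := Fintype.ofFinite _
  haveI : Module.Finite B N' := Module.Finite.iff_fg.mpr hN'fg
  intro j
  induction j with
  | zero =>
    intro _
    exact ⟨Fin.elim0, fun t => t.elim0, fun P => fibreIndep_empty _ _⟩
  | succ j ih =>
    intro hj
    obtain ⟨b, hbN, hb⟩ := ih (by omega)
    let W : MaximalSpectrum A → Submodule B N' := fun P =>
      Submodule.comap
        (((P.asIdeal • (⊤ : Submodule A M)).mkQ.restrictScalars B).comp N'.subtype)
        ((Submodule.span A
          (Set.range fun t => (P.asIdeal • (⊤ : Submodule A M)).mkQ (b t))).restrictScalars B)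
    have hWmem : ∀ (P : MaximalSpectrum A) (x : N'), x ∈ W P ↔
        (P.asIdeal • (⊤ : Submodule A M)).mkQ x.1 ∈ Submodule.span A
          (Set.range fun t => (P.asIdeal • (⊤ : Submodule A M)).mkQ (b t)) :=
      fun _ _ => Iff.rfl
    have hW : ∀ P ∈ (Finset.univ : Finset (MaximalSpectrum A)), W P ≠ ⊤ := by
      intro P _ h
      apply span_fibre_ne_top P.asIdeal (show j < Module.finrank A M by omega) b
      rw [eq_top_iff]
      have hle : Submodule.span A (N' : Set M) ≤
          Submodule.comap (P.asIdeal • (⊤ : Submodule A M)).mkQ (Submodule.span A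
            (Set.range fun t => (P.asIdeal • (⊤ : Submodule A M)).mkQ (b t))) := by
        rw [Submodule.span_le]
        intro x hx
        have : (⟨x, hx⟩ : N') ∈ W P := by rw [h]; trivial
        exact (hWmem P _).1 this
      rw [hN'] at hle
      intro q _
      obtain ⟨m, rfl⟩ := Submodule.mkQ_surjective _ q
      exact hle trivial
    obtain ⟨x, hx⟩ := exists_notMem_of_forall_ne_top (R := B) Finset.univ W hW
    refine ⟨Fin.snoc b x.1, ?_, fun P =>
      (hb P).snoc x.1 ((hWmem P x).not.mp (hx P (Finset.mem_univ P)))⟩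
    intro t
    refine Fin.lastCases ?_ (fun i => ?_) t
    · simp only [Fin.snoc_last]
      exact x.2
    · simp only [Fin.snoc_castSucc]
      exact hbN i

/-- **Bases inside generating submodules.** -/
theorem exists_basis_mem_of_span_eq_top [Finite (MaximalSpectrum A)] [Module.Free A M]
    [Module.Finite A M] (N : Submodule B M) (hN : Submodule.span A (N : Set M) = ⊤) :
    ∃ b : Module.Basis (Fin (Module.finrank A M)) A M, ∀ i, b i ∈ N := by
  classical
  obtain ⟨G, hG⟩ := (Module.Finite.fg_top : (⊤ : Submodule A M).FG)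
  have hex : ∀ g ∈ G, ∃ T : Finset M, (T : Set M) ⊆ N ∧ g ∈ Submodule.span A (T : Set M) := by
    intro g _
    have hg : g ∈ Submodule.span A (N : Set M) := by rw [hN]; trivial
    exact Submodule.mem_span_finite_of_mem_span hg
  choose! T hTN hgT using hex
  have hN'N : Submodule.span B (↑(G.biUnion T) : Set M) ≤ N := by
    rw [Submodule.span_le]
    intro x hx
    obtain ⟨g, hg, hxg⟩ := Finset.mem_biUnion.mp hx
    exact hTN g hg hxg
  have hN'fg : (Submodule.span B (↑(G.biUnion T) : Set M)).FG :=
    Submodule.fg_span (Finset.finite_toSet _)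
  have hN' : Submodule.span A
      ((Submodule.span B (↑(G.biUnion T) : Set M) : Submodule B M) : Set M) = ⊤ := by
    rw [eq_top_iff, ← hG, Submodule.span_le]
    intro g hg
    refine Submodule.span_mono ?_ (hgT g hg)
    intro x hx
    exact Submodule.subset_span (Finset.mem_biUnion.mpr ⟨g, hg, hx⟩)
  obtain ⟨b, hbN', hb⟩ := exists_fibreIndep _ hN'fg hN' (Module.finrank A M) le_rfl
  have hspan : Submodule.span A (Set.range b) = ⊤ := by
    apply eq_top_of_forall_maximal_sup_smul_eq_top
    intro P hP
    exact (hb ⟨P, hP⟩).sup_eq_top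
  refine ⟨basisOfTopLeSpanOfCardEqFinrank b hspan.ge (Fintype.card_fin _), fun i => ?_⟩
  rw [coe_basisOfTopLeSpanOfCardEqFinrank]
  exact hN'N (hbN' i)

end basis

end Groth.Agent.Lib.Helper98
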