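import Groth.Agent.Lib.Helper98.TorsionFreeGens
import Groth.Agent.Lib.Helper98.TorsionFreeEmbed
import Groth.Agent.Lib.Helper98.SemilocalBasis

/-!
# The normalization of a one-dimensional local domain is a semi-local PID (helper98)
-/

set_option autoImplicit false
universe u v

namespace Groth.Agent.Lib.Helper98

open IsLocalRing TensorProduct

section primes

variable (O : Type u) [CommRing O] [IsDomain O] [IsLocalRing O]
  (B : Type v) [CommRing B] [IsDedekindDomain B] [Algebra O B] [Algebra.IsIntegral O B]

theorem finite_setOf_isPrime_of_integral (hm : maximalIdeal O ≠ ⊥)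
    (hinj : Function.Injective (algebraMap O B)) : {I : Ideal B | I.IsPrime}.Finite := by
  classical
  have hI0 : (maximalIdeal O).map (algebraMap O B) ≠ ⊥ := by
    obtain ⟨y, hy, hy0⟩ := Submodule.exists_mem_ne_zero_of_ne_bot hm
    intro h
    have : algebraMap O B y ∈ (maximalIdeal O).map (algebraMap O B) := Ideal.mem_map_of_mem _ hy
    rw [h, Ideal.mem_bot] at this
    exact hy0 (hinj (by rw [this, map_zero]))
  have hfin := Ideal.finite_factors hI0
  refine ((hfin.image fun v => v.asIdeal).insert ⊥).subset ?_
  intro P hP
  have hP' : P.IsPrime := hP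
  by_cases hP0 : P = ⊥
  · exact Set.mem_insert_iff.mpr (Or.inl hP0)
  · refine Set.mem_insert_iff.mpr (Or.inr ⟨⟨P, hP', hP0⟩, ?_, rfl⟩)
    have hPmax : P.IsMaximal := hP'.isMaximal hP0
    have h1 : (P.comap (algebraMap O B)).IsMaximal :=
      Ideal.isMaximal_comap_of_isIntegral_of_isMaximal P
    have h2 : P.comap (algebraMap O B) = maximalIdeal O := IsLocalRing.eq_maximalIdeal h1
    show P ∣ (maximalIdeal O).map (algebraMap O B)
    rw [Ideal.dvd_iff_le, Ideal.map_le_iff_le_comap, h2]

end primes

section normalization

variable (O : Type u) [CommRing O] [IsDomain O] [IsNoetherianRing O] [IsLocalRing O]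
  (K : Type u) [Field K] [Algebra O K] [IsFractionRing O K]

theorem maximalIdeal_ne_bot_of_dim_one (hdim : ringKrullDim O = 1) : maximalIdeal O ≠ ⊥ := by
  intro h
  have hf : IsField O := IsLocalRing.isField_iff_maximalIdeal_eq.mpr h
  have := ringKrullDim_eq_zero_of_isField hf
  rw [hdim] at this
  exact absurd this (by norm_num)

theorem algebraMap_integralClosure_injective :
    Function.Injective (algebraMap O (integralClosure O K)) := by
  have h := IsFractionRing.injective O K
  rw [IsScalarTower.algebraMap_eq O (integralClosure O K) K, RingHom.coe_comp] at h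
  exact Function.Injective.of_comp h

theorem finite_setOf_isPrime_integralClosure (hdim : ringKrullDim O = 1)
    [Module.Finite O (integralClosure O K)] :
    {I : Ideal (integralClosure O K) | I.IsPrime}.Finite := by
  haveI : Ring.KrullDimLE 1 O := by rw [Ring.krullDimLE_iff, hdim]; rfl
  haveI := isDedekindDomain_integralClosure O K
  exact finite_setOf_isPrime_of_integral O (integralClosure O K)
    (maximalIdeal_ne_bot_of_dim_one O hdim) (algebraMap_integralClosure_injective O K)

theorem isPrincipalIdealRing_integralClosure (hdim : ringKrullDim O = 1)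
    [Module.Finite O (integralClosure O K)] : IsPrincipalIdealRing (integralClosure O K) := by
  haveI : Ring.KrullDimLE 1 O := by rw [Ring.krullDimLE_iff, hdim]; rfl
  haveI := isDedekindDomain_integralClosure O K
  exact IsPrincipalIdealRing.of_finite_primes (finite_setOf_isPrime_integralClosure O K hdim)

theorem finite_maximalSpectrum_integralClosure (hdim : ringKrullDim O = 1)
    [Module.Finite O (integralClosure O K)] : Finite (MaximalSpectrum (integralClosure O K)) := by
  have h := finite_setOf_isPrime_integralClosure O K hdim
  haveI : Finite {I : Ideal (integralClosure O K) | I.IsPrime} := h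
  exact Finite.of_injective
    (fun P : MaximalSpectrum (integralClosure O K) =>
      (⟨P.asIdeal, P.isMaximal.isPrime⟩ : {I : Ideal (integralClosure O K) | I.IsPrime}))
    (fun P Q hPQ => MaximalSpectrum.ext (congrArg Subtype.val hPQ))

end normalization

end Groth.Agent.Lib.Helper98
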