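import Mathlib

set_option autoImplicit false
set_option linter.style.haveILetI false
universe u

namespace Groth.Agent.Lib.Helper98.TotalFractionEtale

open IsLocalRing

/-- In a reduced ring, an element outside all minimal primes is a non-zero-divisor. -/
theorem mem_nonZeroDivisors_of_forall_notMem_minimalPrimes {A : Type*} [CommRing A] [IsReduced A]
    (x : A) (hx : ∀ p ∈ minimalPrimes A, x ∉ p) : x ∈ nonZeroDivisors A := by
  rw [mem_nonZeroDivisors_iff_right]
  intro y hy
  have hnil : y ∈ nilradical A := by
    rw [nilradical, ← Ideal.sInf_minimalPrimes, Ideal.mem_sInf]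
    intro p hp
    have : y * x ∈ p := by rw [hy]; exact p.zero_mem
    exact (hp.1.1.mem_or_mem this).resolve_right (hx p hp)
  rwa [nilradical_eq_zero, Ideal.zero_eq_bot, Ideal.mem_bot] at hnil

/-- A prime of a reduced ring with finitely many minimal primes which consists of zero divisors is
a minimal prime. -/
theorem mem_minimalPrimes_of_disjoint_nonZeroDivisors {A : Type*} [CommRing A] [IsReduced A]
    (hmin : (minimalPrimes A).Finite) (p : Ideal A) [hp : p.IsPrime]
    (hdis : Disjoint (p : Set A) (nonZeroDivisors A : Set A)) : p ∈ minimalPrimes A := by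
  classical
  have hsub : (p : Set A) ⊆ ⋃ q ∈ (hmin.toFinset : Set (Ideal A)), (q : Set A) := by
    intro x hx
    by_contra hcon
    simp only [Set.Finite.coe_toFinset, Set.mem_iUnion, SetLike.mem_coe, exists_prop, not_exists,
      not_and] at hcon
    exact Set.disjoint_left.mp hdis hx
      (mem_nonZeroDivisors_of_forall_notMem_minimalPrimes x hcon)
  obtain ⟨q, hq, hpq⟩ := (Ideal.subset_union_prime (f := fun q : Ideal A => q) ⊥ ⊥
    (fun q hq _ _ => (hmin.mem_toFinset.mp hq).1.1)).mp hsub
  have hq' : q ∈ minimalPrimes A := hmin.mem_toFinset.mp hq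
  have : q ≤ p := hq'.2 ⟨hp, bot_le⟩ hpq
  rwa [le_antisymm hpq this]

/-- The total ring of fractions of a reduced ring with finitely many minimal primes is Artinian
(a finite product of fields). -/
theorem isArtinianRing_fractionRing (A : Type*) [CommRing A] [IsReduced A]
    (hmin : (minimalPrimes A).Finite) : IsArtinianRing (FractionRing A) := by
  classical
  let K := FractionRing A
  have hcomap : ∀ P : Ideal K, P.IsPrime → P.comap (algebraMap A K) ∈ minimalPrimes A := by
    intro P hP
    apply mem_minimalPrimes_of_disjoint_nonZeroDivisors hmin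
    rw [Set.disjoint_left]
    intro x hx hxS
    have hu : IsUnit (algebraMap A K x) := IsLocalization.map_units K ⟨x, hxS⟩
    exact hP.ne_top (Ideal.eq_top_of_isUnit_mem _ hx hu)
  have hmc : ∀ P : Ideal K, (P.comap (algebraMap A K)).map (algebraMap A K) = P :=
    fun P => IsLocalization.map_under (nonZeroDivisors A) K P
  have hmax : ∀ P : Ideal K, P.IsPrime → P.IsMaximal := by
    intro P hP
    obtain ⟨M, hM, hle⟩ := Ideal.exists_le_maximal P hP.ne_top
    have h1 := hcomap P hP
    have h2 := hcomap M hM.isPrime
    have h3 : M.comap (algebraMap A K) ≤ P.comap (algebraMap A K) :=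
      h2.2 ⟨h1.1.1, bot_le⟩ (Ideal.comap_mono hle)
    have h4 : M ≤ P := by
      rw [← hmc M, ← hmc P]; exact Ideal.map_mono h3
    rwa [le_antisymm hle h4]
  haveI : Finite (MaximalSpectrum K) := by
    haveI : Finite (minimalPrimes A) := hmin
    let φ : MaximalSpectrum K → minimalPrimes A :=
      fun M => ⟨M.asIdeal.comap (algebraMap A K), hcomap M.asIdeal M.isMaximal.isPrime⟩
    refine Finite.of_injective φ ?_
    intro M N hMN
    have : M.asIdeal.comap (algebraMap A K) = N.asIdeal.comap (algebraMap A K) :=
      congrArg Subtype.val hMN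
    ext1
    rw [← hmc M.asIdeal, ← hmc N.asIdeal, this]
  have hinf : ⨅ M : MaximalSpectrum K, M.asIdeal = ⊥ := by
    rw [eq_bot_iff]
    intro x hx
    rw [Ideal.mem_iInf] at hx
    have hnil : x ∈ nilradical K := by
      rw [nilradical_eq_sInf, Ideal.mem_sInf]
      intro P hP
      exact hx ⟨P, hmax P hP⟩
    rwa [nilradical_eq_zero, Ideal.zero_eq_bot] at hnil
  let e1 : (K ⧸ ⨅ M : MaximalSpectrum K, M.asIdeal) ≃+* ∀ M : MaximalSpectrum K, K ⧸ M.asIdeal :=
    Ideal.quotientInfRingEquivPiQuotient (fun M : MaximalSpectrum K => M.asIdeal)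
      (fun M N hMN => MaximalSpectrum.isCoprime_of_ne hMN)
  haveI : ∀ M : MaximalSpectrum K, IsArtinianRing (K ⧸ M.asIdeal) := by
    intro M
    letI : Field (K ⧸ M.asIdeal) := Ideal.Quotient.field M.asIdeal
    infer_instance
  haveI : IsArtinianRing (K ⧸ ⨅ M : MaximalSpectrum K, M.asIdeal) := e1.symm.isArtinianRing
  let e2 : (K ⧸ ⨅ M : MaximalSpectrum K, M.asIdeal) ≃+* K :=
    (Ideal.quotEquivOfEq hinf).trans (RingEquiv.quotientBot K)
  exact e2.isArtinianRing

/-- Over a reduced ring with finitely many minimal primes, every non-zero-divisor of a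
quasi-finite algebra divides the image of a non-zero-divisor of the base. -/
theorem exists_mul_eq_algebraMap_of_mem_nonZeroDivisors {A : Type*} [CommRing A] [IsReduced A]
    (hmin : (minimalPrimes A).Finite) {E : Type*} [CommRing E] [Algebra A E]
    [Algebra.QuasiFinite A E] (e : E) (he : e ∈ nonZeroDivisors E) :
    ∃ a ∈ nonZeroDivisors A, e ∣ algebraMap A E a := by
  let T : Submonoid E := (nonZeroDivisors A).map (algebraMap A E)
  by_contra hcon
  have hdisj : Disjoint ((Ideal.span {e} : Ideal E) : Set E) (T : Set E) := by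
    rw [Set.disjoint_left]
    rintro x hx ⟨a, ha, rfl⟩
    exact hcon ⟨a, ha, Ideal.mem_span_singleton.mp hx⟩
  obtain ⟨P, hP, heP, hPT⟩ := Ideal.exists_le_prime_disjoint (Ideal.span {e}) T hdisj
  have hp : P.under A ∈ minimalPrimes A := by
    apply mem_minimalPrimes_of_disjoint_nonZeroDivisors hmin
    rw [Set.disjoint_left]
    intro x hx hxS
    exact Set.disjoint_left.mp hPT hx ⟨x, hxS, rfl⟩
  obtain ⟨P₀, hP₀, hle⟩ := Ideal.exists_minimalPrimes_le (bot_le : (⊥ : Ideal E) ≤ P)
  haveI := hP₀.1.1
  have hunder : P₀.under A = P.under A := by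
    apply le_antisymm (Ideal.comap_mono hle)
    exact hp.2 ⟨inferInstance, bot_le⟩ (Ideal.comap_mono hle)
  have hPP : P₀ = P := Algebra.QuasiFinite.eq_of_le_of_under_eq (R := A) P₀ P hle hunder
  have heP' : e ∈ P₀ := hPP ▸ heP (Ideal.subset_span rfl)
  exact notMem_nonZeroDivisors_of_mem_mem_minimalPrimes heP' hP₀ he

/-- The total ring of fractions of a flat quasi-finite algebra `E` over a reduced ring `A` with
finitely many minimal primes is the localization of `E` at the non-zero-divisors of `A`. -/
theorem isLocalization_map_nonZeroDivisors {A : Type*} [CommRing A] [IsReduced A]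
    (hmin : (minimalPrimes A).Finite) {E : Type*} [CommRing E] [Algebra A E]
    [Algebra.QuasiFinite A E] [Module.Flat A E] :
    IsLocalization ((nonZeroDivisors A).map (algebraMap A E)) (FractionRing E) := by
  have hle : (nonZeroDivisors A).map (algebraMap A E) ≤ nonZeroDivisors E := by
    rintro _ ⟨a, ha, rfl⟩
    have hreg : IsSMulRegular E a := Module.Flat.isSMulRegular_of_nonZeroDivisors ha
    rw [mem_nonZeroDivisors_iff_right]
    intro y hy
    apply hreg
    show a • y = a • (0 : E)
    rw [smul_zero, Algebra.smul_def, mul_comm]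
    exact hy
  refine (IsLocalization.iff_of_le_of_exists_dvd _ (nonZeroDivisors E) hle ?_).mpr inferInstance
  intro e he
  obtain ⟨a, ha, hdvd⟩ := exists_mul_eq_algebraMap_of_mem_nonZeroDivisors hmin e he
  exact ⟨algebraMap A E a, ⟨a, ha, rfl⟩, hdvd⟩

/-- The total ring of fractions of a flat quasi-finite algebra over a reduced ring `A` with
finitely many minimal primes is "finite over the total ring of fractions of `A`". -/
theorem exists_finset_span_fractionRing {A : Type u} [CommRing A] [IsReduced A]
    (hmin : (minimalPrimes A).Finite) {E : Type u} [CommRing E] [Algebra A E]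
    [Algebra.QuasiFinite A E] [Module.Flat A E] :
    ∃ t : Finset (FractionRing E), ∀ x : FractionRing E, ∃ a ∈ nonZeroDivisors A,
      algebraMap A (FractionRing E) a * x ∈ Submodule.span A (t : Set (FractionRing E)) := by
  classical
  let K := FractionRing A
  let F := FractionRing E
  have hunit : ∀ y : nonZeroDivisors A, IsUnit (algebraMap A F y) := by
    intro y
    haveI := isLocalization_map_nonZeroDivisors (A := A) hmin (E := E)
    rw [IsScalarTower.algebraMap_apply A E F]
    exact IsLocalization.map_units F
      (⟨algebraMap A E y, ⟨y, y.2, rfl⟩⟩ : (nonZeroDivisors A).map (algebraMap A E))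
  let ψ : K →+* F := IsLocalization.lift (M := nonZeroDivisors A) (g := algebraMap A F) hunit
  letI : Algebra K F := ψ.toAlgebra
  haveI : IsScalarTower A K F := IsScalarTower.of_algebraMap_eq (fun x => by
    show algebraMap A F x = ψ (algebraMap A K x)
    rw [IsLocalization.lift_eq])
  haveI : IsArtinianRing K := isArtinianRing_fractionRing A hmin
  haveI : Algebra.QuasiFinite K F := Algebra.QuasiFinite.of_restrictScalars A K F
  haveI : Module.Finite K F := Module.Finite.of_quasiFinite
  obtain ⟨t, ht⟩ := (Module.Finite.fg_top : (⊤ : Submodule K F).FG)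
  refine ⟨t, fun x => ?_⟩
  have hx : x ∈ Submodule.span K (t : Set F) := by rw [ht]; trivial
  induction hx using Submodule.span_induction with
  | mem y hy => exact ⟨1, one_mem _, by rw [map_one, one_mul]; exact Submodule.subset_span hy⟩
  | zero => exact ⟨1, one_mem _, by rw [mul_zero]; exact zero_mem _⟩
  | add y z _ _ hy hz =>
    obtain ⟨a, ha, hay⟩ := hy
    obtain ⟨b, hb, hbz⟩ := hz
    refine ⟨a * b, mul_mem ha hb, ?_⟩
    have : algebraMap A F (a * b) * (y + z) =
        b • (algebraMap A F a * y) + a • (algebraMap A F b * z) := by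
      rw [Algebra.smul_def, Algebra.smul_def, map_mul]; ring
    rw [this]
    exact add_mem (Submodule.smul_mem _ _ hay) (Submodule.smul_mem _ _ hbz)
  | smul k y _ hy =>
    obtain ⟨a, ha, hay⟩ := hy
    obtain ⟨⟨c, s⟩, hcs⟩ := IsLocalization.surj (nonZeroDivisors A) k
    simp only at hcs
    refine ⟨s * a, mul_mem s.2 ha, ?_⟩
    have : algebraMap A F ((s : A) * a) * (k • y) = c • (algebraMap A F a * y) := by
      rw [Algebra.smul_def k y, Algebra.smul_def c, map_mul]
      have h1 : algebraMap K F k * algebraMap A F (s : A) = algebraMap A F c := by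
        rw [IsScalarTower.algebraMap_apply A K F, IsScalarTower.algebraMap_apply A K F, ← map_mul,
          hcs]
      rw [← h1]; ring
    rw [this]
    exact Submodule.smul_mem _ _ hay

end Groth.Agent.Lib.Helper98.TotalFractionEtale
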