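import Mathlib
import Groth.Agent.Lib.Helper9.Hens.Reduced
import Groth.Agent.Lib.Helper98.TotalFractionEtale

/-!
# Semilocality of `L ⊓ (integral closure)` (helper98)

* `isIntegral_residue`: residue fields of an integral `E`-algebra `X` are integral over `A` when the
  residue field of the local ring `E` is algebraic over `A` (in the monic-polynomial form `hres`).
* `core`: for `A`-subalgebras `C = L ⊓ X` of `F` with `X` integral over a local ring `E`, `X` semilocal,
  and `L` closed under inverses of units of `F`: the maximal ideals of `C` are exactly the contractions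
  of those of `X` (in particular finitely many).
* `exists_monic_aeval_mem_maximalIdeal`: `hres` for quasi-finite local homs of local rings.
* `exists_inv_mem_of_isUnit`: an `A`-subalgebra of `Frac E` containing the inverses of the
  non-zero-divisors of `A` is closed under inverses of units of `Frac E` (`E` flat quasi-finite over
  the reduced ring `A` with finitely many minimal primes).
-/

set_option autoImplicit false
set_option linter.style.haveILetI false
universe u

open TensorProduct

namespace Groth.Agent.Lib.Helper98.NormalizationSemilocal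

section Residue

theorem isIntegral_residue {A E X : Type*} [CommRing A] [CommRing E] [IsLocalRing E] [CommRing X]
    [Algebra A E] (ρ : A →+* X) (j : E →+* X) (hj : j.IsIntegral)
    (hρ : j.comp (algebraMap A E) = ρ)
    (hres : ∀ e : E, ∃ g : Polynomial A, g.Monic ∧
      Polynomial.aeval e g ∈ IsLocalRing.maximalIdeal E)
    (M : Ideal X) [M.IsMaximal] : ((Ideal.Quotient.mk M).comp ρ).IsIntegral := by
  have hq : (M.comap j).IsMaximal := Ideal.isMaximal_comap_of_isIntegral_of_isMaximal' j hj M
  have hq' : M.comap j = IsLocalRing.maximalIdeal E := IsLocalRing.eq_maximalIdeal hq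
  let ρ₁ : A →+* E ⧸ M.comap j := (Ideal.Quotient.mk (M.comap j)).comp (algebraMap A E)
  have h₁ : ρ₁.IsIntegral := by
    intro z
    obtain ⟨e, rfl⟩ := Ideal.Quotient.mk_surjective z
    obtain ⟨g, hg, hge⟩ := hres e
    refine ⟨g, hg, ?_⟩
    have : Polynomial.eval₂ ρ₁ (Ideal.Quotient.mk (M.comap j) e) g =
        Ideal.Quotient.mk (M.comap j) (Polynomial.eval₂ (algebraMap A E) e g) := by
      rw [Polynomial.hom_eval₂]
    rw [this, Ideal.Quotient.eq_zero_iff_mem, hq']
    exact hge
  have h₂ : (Ideal.quotientMap M j le_rfl).IsIntegral := RingHom.IsIntegral.quotient j hj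
  have h₃ := RingHom.IsIntegral.trans ρ₁ (Ideal.quotientMap M j le_rfl) h₁ h₂
  have h₄ : (Ideal.quotientMap M j le_rfl).comp ρ₁ = (Ideal.Quotient.mk M).comp ρ := by
    ext a
    simp only [ρ₁, RingHom.comp_apply, Ideal.quotientMap_mk]
    rw [← hρ]; rfl
  rwa [h₄] at h₃

end Residue


section Core

variable {A E F : Type*} [CommRing A] [CommRing E] [IsLocalRing E] [CommRing F]
  [Algebra A E] [Algebra E F] [Algebra A F] [IsScalarTower A E F]

theorem core
    (hres : ∀ e : E, ∃ g : Polynomial A, g.Monic ∧
      Polynomial.aeval e g ∈ IsLocalRing.maximalIdeal E)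
    (X : Subalgebra A F) (hXint : ∀ x ∈ X, IsIntegral E x) (hEX : ∀ e : E, algebraMap E F e ∈ X)
    [Finite (MaximalSpectrum X)]
    (L : Subalgebra A F) (hLinv : ∀ c ∈ L, IsUnit c → ∃ d ∈ L, c * d = 1)
    (C : Subalgebra A F) (hCL : C ≤ L) (hCX : C ≤ X) (hC : ∀ x, x ∈ L → x ∈ X → x ∈ C) :
    {N : Ideal C | N.IsMaximal}.Finite ∧
    ∀ N : Ideal C, N.IsMaximal ↔
      ∃ M : Ideal X, M.IsMaximal ∧ N = M.comap (Subalgebra.inclusion hCX) := by
  classical
  let j : E →+* X := (algebraMap E F).codRestrict X hEX
  have hj : j.IsIntegral := by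
    intro x
    obtain ⟨p, hp, hpx⟩ := hXint x.1 x.2
    refine ⟨p, hp, ?_⟩
    apply Subtype.ext
    have h1 : (X.val : X →+* F) (Polynomial.eval₂ j x p) =
        Polynomial.eval₂ ((X.val : X →+* F).comp j) ((X.val : X →+* F) x) p :=
      Polynomial.hom_eval₂ p j (X.val : X →+* F) x
    have h2 : ((X.val : X →+* F).comp j) = algebraMap E F := by
      ext e; rfl
    rw [h2] at h1
    change (X.val : X →+* F) (Polynomial.eval₂ j x p) = 0
    rw [h1]
    exact hpx
  have hjA : j.comp (algebraMap A E) = algebraMap A X := by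
    ext a
    change algebraMap E F (algebraMap A E a) = algebraMap A F a
    rw [← IsScalarTower.algebraMap_apply]
  let incl : C →ₐ[A] X := Subalgebra.inclusion hCX
  -- maximality of contractions
  have hmax : ∀ M : Ideal X, M.IsMaximal → (M.comap incl).IsMaximal := by
    intro M hM
    have hint := isIntegral_residue (algebraMap A X) j hj hjA hres M
    let g : C →+* X ⧸ M := (Ideal.Quotient.mk M).comp (incl : C →+* X)
    have hgA : g.comp (algebraMap A C) = (Ideal.Quotient.mk M).comp (algebraMap A X) := by
      ext a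
      simp only [g, RingHom.comp_apply]
      rw [RingHom.coe_coe, incl.commutes]
    have hg : g.IsIntegral := RingHom.IsIntegral.tower_top (algebraMap A C) g (hgA ▸ hint)
    have hbot : (⊥ : Ideal (X ⧸ M)).IsMaximal := (Ideal.bot_quotient_isMaximal_iff M).mpr hM
    have h := Ideal.isMaximal_comap_of_isIntegral_of_isMaximal' g hg ⊥
    have heq : (⊥ : Ideal (X ⧸ M)).comap g = M.comap incl := by
      change (⊥ : Ideal (X ⧸ M)).comap ((Ideal.Quotient.mk M).comp (incl : C →+* X)) = _
      rw [← Ideal.comap_comap, ← RingHom.ker_eq_comap_bot, Ideal.mk_ker]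
      rfl
    rwa [heq] at h
  -- units
  have hunit : ∀ c : C, (∀ M : Ideal X, M.IsMaximal → incl c ∉ M) → IsUnit c := by
    intro c hc
    have hu : IsUnit (incl c) := by
      by_contra hnu
      obtain ⟨M, hM, hcM⟩ := exists_max_ideal_of_mem_nonunits hnu
      exact hc M hM hcM
    obtain ⟨d, hd⟩ := hu.exists_right_inv
    have hF : (c : F) * (d : F) = 1 := congrArg Subtype.val hd
    have huF : IsUnit (c : F) := IsUnit.of_mul_eq_one _ hF
    obtain ⟨d', hd'L, hd'⟩ := hLinv c (hCL c.2) huF
    have hdd : (d : F) = d' := by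
      calc (d : F) = (d : F) * ((c : F) * d') := by rw [hd', mul_one]
        _ = ((c : F) * d) * d' := by ring
        _ = d' := by rw [hF, one_mul]
    have hdC : (d : F) ∈ C := hC _ (hdd ▸ hd'L) d.2
    exact IsUnit.of_mul_eq_one ⟨(d : F), hdC⟩ (Subtype.ext hF)
  -- every maximal ideal is a contraction
  have hall : ∀ N : Ideal C, N.IsMaximal →
      ∃ M : Ideal X, M.IsMaximal ∧ N = M.comap incl := by
    intro N hN
    by_contra hcon
    push Not at hcon
    have hnle : ∀ M : MaximalSpectrum X, ¬ N ≤ M.asIdeal.comap incl := by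
      intro M hle
      have := hmax M.asIdeal M.isMaximal
      exact hcon M.asIdeal M.isMaximal (hN.eq_of_le this.ne_top hle)
    have hex : ∃ c ∈ N, ∀ M : MaximalSpectrum X, c ∉ M.asIdeal.comap incl := by
      rcases isEmpty_or_nonempty (MaximalSpectrum X) with hE | ⟨⟨a₀⟩⟩
      · exact ⟨0, N.zero_mem, fun M => (hE.false M).elim⟩
      · haveI := Fintype.ofFinite (MaximalSpectrum X)
        have hsub := (Ideal.subset_union_prime (s := (Finset.univ : Finset (MaximalSpectrum X)))
          (f := fun M => M.asIdeal.comap incl) a₀ a₀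
          (fun M _ _ _ => Ideal.comap_isPrime _ _) (I := N)).not.mpr (by
            push Not
            intro M _
            exact hnle M)
        rw [Set.not_subset] at hsub
        obtain ⟨c, hcN, hc⟩ := hsub
        refine ⟨c, hcN, fun M hM => hc ?_⟩
        simp only [Finset.coe_univ, Set.mem_univ, Set.iUnion_true, Set.mem_iUnion]
        exact ⟨M, hM⟩
    obtain ⟨c, hcN, hc⟩ := hex
    have : IsUnit c := hunit c (fun M hM hcM => hc ⟨M, hM⟩ hcM)
    exact hN.ne_top (Ideal.eq_top_of_isUnit_mem N hcN this)
  refine ⟨?_, fun N => ⟨hall N, ?_⟩⟩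
  · refine Set.Finite.subset
      (Set.finite_range fun M : MaximalSpectrum X => M.asIdeal.comap incl) ?_
    intro N hN
    obtain ⟨M, hM, rfl⟩ := hall N hN
    exact ⟨⟨M, hM⟩, rfl⟩
  · rintro ⟨M, hM, rfl⟩
    exact hmax M hM

end Core


theorem exists_monic_aeval_mem_maximalIdeal {A E : Type u} [CommRing A] [IsLocalRing A]
    [CommRing E] [IsLocalRing E] [Algebra A E] [IsLocalHom (algebraMap A E)]
    [Algebra.QuasiFinite A E] (e : E) :
    ∃ g : Polynomial A, g.Monic ∧ Polynomial.aeval e g ∈ IsLocalRing.maximalIdeal E := by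
  let m := IsLocalRing.maximalIdeal A
  letI : Field (A ⧸ m) := Ideal.Quotient.field m
  have hqf : Algebra.QuasiFinite (A ⧸ m) ((A ⧸ m) ⊗[A] E) := inferInstance
  have hfin : Module.Finite (A ⧸ m) ((A ⧸ m) ⊗[A] E) := Module.Finite.of_quasiFinite
  have hint : IsIntegral (A ⧸ m) ((1 : A ⧸ m) ⊗ₜ[A] e) := Algebra.IsIntegral.isIntegral _
  obtain ⟨p, hp, hpe⟩ := hint
  have hpl : p ∈ Polynomial.lifts (Ideal.Quotient.mk m) := by
    rw [Polynomial.mem_lifts]
    exact Polynomial.map_surjective _ Ideal.Quotient.mk_surjective p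
  obtain ⟨g, hg, -, hgm⟩ := Polynomial.lifts_and_natDegree_eq_and_monic hpl hp
  refine ⟨g, hgm, ?_⟩
  have h0 : (1 : A ⧸ m) ⊗ₜ[A] (Polynomial.aeval e g) = 0 := by
    have h1 : (1 : A ⧸ m) ⊗ₜ[A] (Polynomial.aeval e g) =
        Polynomial.aeval ((1 : A ⧸ m) ⊗ₜ[A] e) g := by
      have := Polynomial.aeval_algHom_apply
        (Algebra.TensorProduct.includeRight : E →ₐ[A] (A ⧸ m) ⊗[A] E) e g
      simpa using this.symm
    rw [h1, Polynomial.aeval_def, IsScalarTower.algebraMap_eq A (A ⧸ m) ((A ⧸ m) ⊗[A] E),
      ← Polynomial.eval₂_map]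
    have : Polynomial.map (algebraMap A (A ⧸ m)) g = p := hg
    rw [this]
    exact hpe
  have h2 := Groth.Agent.Lib.Helper9.mem_map_of_one_tmul_eq_zero m _ h0
  have hle : m.map (algebraMap A E) ≤ IsLocalRing.maximalIdeal E := by
    rw [Ideal.map_le_iff_le_comap]
    exact (IsLocalRing.maximalIdeal_comap (algebraMap A E)).ge
  exact hle h2


open Groth.Agent.Lib.Helper98.TotalFractionEtale in
theorem exists_inv_mem_of_isUnit {A : Type u} [CommRing A] [IsReduced A]
    (hmin : (minimalPrimes A).Finite) {E : Type u} [CommRing E] [Algebra A E]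
    [Algebra.QuasiFinite A E] [Module.Flat A E] (L : Subalgebra A (FractionRing E))
    (hL : ∀ s ∈ nonZeroDivisors A, ∃ y ∈ L, algebraMap A (FractionRing E) s * y = 1)
    (c : FractionRing E) (hc : c ∈ L) (hu : IsUnit c) : ∃ d ∈ L, c * d = 1 := by
  classical
  let K := FractionRing A
  let F := FractionRing E
  have hunit : ∀ y : nonZeroDivisors A, IsUnit (algebraMap A F y) := by
    intro y
    haveI := isLocalization_map_nonZeroDivisors (A := A) hmin (E := E)
    rw [IsScalarTower.algebraMap_apply A E F]
    exact IsLocalization.map_units F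
      (⟨algebraMap A E y, ⟨y, y.2, rfl⟩⟩ : (nonZeroDivisors A).map (algebraMap A E))
  let ψ : K →+* F := IsLocalization.lift (M := nonZeroDivisors A) (g := algebraMap A F) hunit
  letI : Algebra K F := ψ.toAlgebra
  haveI : IsScalarTower A K F := IsScalarTower.of_algebraMap_eq (fun x => by
    show algebraMap A F x = ψ (algebraMap A K x)
    rw [IsLocalization.lift_eq])
  haveI : IsArtinianRing K := isArtinianRing_fractionRing A hmin
  haveI : Algebra.QuasiFinite K F := Algebra.QuasiFinite.of_restrictScalars A K F
  haveI : Module.Finite K F := Module.Finite.of_quasiFinite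
  let LK : Subalgebra K F :=
    { L.toSubsemiring with
      algebraMap_mem' := by
        intro k
        obtain ⟨⟨a, s⟩, hcs⟩ := IsLocalization.surj (nonZeroDivisors A) k
        simp only at hcs
        obtain ⟨y, hyL, hy⟩ := hL s s.2
        have h1 : algebraMap K F k * algebraMap A F (s : A) = algebraMap A F a := by
          rw [IsScalarTower.algebraMap_apply A K F, IsScalarTower.algebraMap_apply A K F,
            ← map_mul, hcs]
        have h2 : algebraMap K F k = algebraMap A F a * y := by
          calc algebraMap K F k = algebraMap K F k * (algebraMap A F (s : A) * y) := by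
                rw [hy, mul_one]
            _ = algebraMap A F a * y := by rw [← mul_assoc, h1]
        show algebraMap K F k ∈ L
        rw [h2]
        exact mul_mem (L.algebraMap_mem a) hyL }
  haveI : IsNoetherianRing K := inferInstance
  haveI : IsNoetherian K F := isNoetherian_of_isNoetherianRing_of_finite K F
  haveI : Module.Finite K LK :=
    Module.Finite.of_injective LK.val.toLinearMap Subtype.val_injective
  haveI : IsArtinianRing LK := IsArtinianRing.of_finite K LK
  let c' : LK := ⟨c, hc⟩
  have hnzd : c' ∈ nonZeroDivisors LK := by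
    rw [mem_nonZeroDivisors_iff_right]
    intro x hx
    have h1 : (x : F) * c = 0 := congrArg Subtype.val hx
    have h2 : (x : F) = 0 := by
      obtain ⟨d, hd⟩ := hu.exists_right_inv
      calc (x : F) = (x : F) * c * d := by rw [mul_assoc, hd, mul_one]
        _ = 0 := by rw [h1, zero_mul]
    exact Subtype.ext h2
  have hu' : IsUnit c' := IsArtinianRing.isUnit_of_mem_nonZeroDivisors hnzd
  obtain ⟨d, hd⟩ := hu'.exists_right_inv
  exact ⟨d.1, d.2, congrArg Subtype.val hd⟩


end Groth.Agent.Lib.Helper98.NormalizationSemilocal
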