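import Mathlib.RingTheory.Etale.Basic
import Mathlib.RingTheory.Ideal.Quotient.Operations
import Mathlib.RingTheory.Unramified.Finite
import Mathlib.RingTheory.Localization.Away.Basic
import Mathlib.Algebra.Ring.GeomSum

/-!
Étale neighbourhoods of a pair `(A, I)`: étale `A`-algebras `A'` with `A/I → A'/IA'` bijective.
-/

set_option autoImplicit false
universe u

namespace Groth.Agent.Lib.Helper98

open TensorProduct

variable {A : Type u} [CommRing A] (I : Ideal A)

/-- the comparison map `A/I → A'/IA'`. -/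
abbrev pairMap (A' : Type u) [CommRing A'] [Algebra A A'] :
    A ⧸ I →+* A' ⧸ I.map (algebraMap A A') :=
  Ideal.quotientMap (I.map (algebraMap A A')) (algebraMap A A') Ideal.le_comap_map

variable {I}
variable {A' : Type u} [CommRing A'] [Algebra A A']

theorem pairMap_surjective_iff :
    Function.Surjective (pairMap I A') ↔
      ∀ b : A', ∃ a : A, b - algebraMap A A' a ∈ I.map (algebraMap A A') := by
  constructor
  · intro h b
    obtain ⟨x, hx⟩ := h (Ideal.Quotient.mk _ b)
    obtain ⟨a, rfl⟩ := Ideal.Quotient.mk_surjective x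
    refine ⟨a, ?_⟩
    rw [← Ideal.Quotient.mk_eq_mk_iff_sub_mem]
    rw [Ideal.quotientMap_mk] at hx
    exact hx.symm
  · intro h x
    obtain ⟨b, rfl⟩ := Ideal.Quotient.mk_surjective x
    obtain ⟨a, ha⟩ := h b
    refine ⟨Ideal.Quotient.mk _ a, ?_⟩
    rw [Ideal.quotientMap_mk]
    exact ((Ideal.Quotient.mk_eq_mk_iff_sub_mem _ _).2 ha).symm

theorem algHom_quot_apply_eq_zero (ρ : A' →ₐ[A] A ⧸ I) (b : A')
    (hb : b ∈ I.map (algebraMap A A')) : ρ b = 0 := by
  have : I.map (algebraMap A A') ≤ RingHom.ker ρ.toRingHom := by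
    rw [Ideal.map_le_iff_le_comap]
    intro i hi
    rw [Ideal.mem_comap, RingHom.mem_ker]
    change ρ (algebraMap A A' i) = 0
    rw [ρ.commutes, Ideal.Quotient.algebraMap_eq]
    exact Ideal.Quotient.eq_zero_iff_mem.2 hi
  exact this hb

theorem pairMap_injective_of_algHom (ρ : A' →ₐ[A] A ⧸ I) : Function.Injective (pairMap I A') := by
  rw [injective_iff_map_eq_zero]
  intro x hx
  obtain ⟨a, rfl⟩ := Ideal.Quotient.mk_surjective x
  rw [Ideal.quotientMap_mk, Ideal.Quotient.eq_zero_iff_mem] at hx
  have := algHom_quot_apply_eq_zero ρ _ hx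
  rw [ρ.commutes, Ideal.Quotient.algebraMap_eq] at this
  exact this

/-- the retraction `A' → A/I` attached to a neighbourhood. -/
noncomputable def pairRetract (h : Function.Bijective (pairMap I A')) : A' →ₐ[A] A ⧸ I :=
  { ((RingEquiv.ofBijective (pairMap I A') h).symm : _ →+* A ⧸ I).comp
      (Ideal.Quotient.mk (I.map (algebraMap A A'))) with
    commutes' := by
      intro a
      simp only [RingHom.toMonoidHom_eq_coe, OneHom.toFun_eq_coe, MonoidHom.toOneHom_coe,
        MonoidHom.coe_coe, RingHom.coe_comp, RingHom.coe_coe, Function.comp_apply]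
      rw [RingEquiv.symm_apply_eq, RingEquiv.ofBijective_apply, Ideal.Quotient.algebraMap_eq,
        Ideal.quotientMap_mk] }

theorem algHom_quot_ext (h : Function.Surjective (pairMap I A')) (ρ ρ' : A' →ₐ[A] A ⧸ I) :
    ρ = ρ' := by
  ext b
  obtain ⟨a, ha⟩ := pairMap_surjective_iff.1 h b
  have h1 := algHom_quot_apply_eq_zero ρ _ ha
  have h2 := algHom_quot_apply_eq_zero ρ' _ ha
  rw [map_sub, ρ.commutes, sub_eq_zero] at h1
  rw [map_sub, ρ'.commutes, sub_eq_zero] at h2
  rw [h1, h2]

theorem mem_map_of_algHom {B C : Type u} [CommRing B] [CommRing C] [Algebra A B] [Algebra A C]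
    (f : B →ₐ[A] C) (b : B) (hb : b ∈ I.map (algebraMap A B)) :
    f b ∈ I.map (algebraMap A C) := by
  have h1 : (I.map (algebraMap A B)).map f.toRingHom = I.map (algebraMap A C) := by
    rw [Ideal.map_map]
    congr 1
    exact f.comp_algebraMap
  rw [← h1]
  exact Ideal.mem_map_of_mem _ hb


section Directed

variable (A₁ A₂ : Type u) [CommRing A₁] [Algebra A A₁] [CommRing A₂] [Algebra A A₂]

/-- the tensor product of two neighbourhoods is a neighbourhood. -/
theorem pairMap_tensor_bijective
    (h₁ : Function.Bijective (pairMap I A₁)) (h₂ : Function.Bijective (pairMap I A₂)) :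
    Function.Bijective (pairMap I (A₁ ⊗[A] A₂)) := by
  constructor
  · exact pairMap_injective_of_algHom
      (Algebra.TensorProduct.productMap (pairRetract h₁) (pairRetract h₂))
  · rw [pairMap_surjective_iff]
    intro t
    induction t using TensorProduct.induction_on with
    | zero => exact ⟨0, by simp⟩
    | tmul x y =>
      obtain ⟨a₁, ha₁⟩ := pairMap_surjective_iff.1 h₁.2 x
      obtain ⟨a₂, ha₂⟩ := pairMap_surjective_iff.1 h₂.2 y
      refine ⟨a₁ * a₂, ?_⟩
      have e0 : algebraMap A (A₁ ⊗[A] A₂) (a₁ * a₂) =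
          (algebraMap A A₁ a₁) ⊗ₜ[A] (algebraMap A A₂ a₂) := by
        rw [Algebra.algebraMap_eq_smul_one, Algebra.algebraMap_eq_smul_one a₁,
          Algebra.algebraMap_eq_smul_one a₂, ← smul_tmul', tmul_smul, smul_smul,
          Algebra.TensorProduct.one_def]
      have e : x ⊗ₜ[A] y - algebraMap A (A₁ ⊗[A] A₂) (a₁ * a₂) =
          (x - algebraMap A A₁ a₁) ⊗ₜ[A] y + algebraMap A A₁ a₁ ⊗ₜ[A] (y - algebraMap A A₂ a₂) := by
        rw [e0, sub_tmul, tmul_sub]
        abel
      have m1 : (x - algebraMap A A₁ a₁) ⊗ₜ[A] y ∈ I.map (algebraMap A (A₁ ⊗[A] A₂)) := by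
        have : (x - algebraMap A A₁ a₁) ⊗ₜ[A] y =
            (Algebra.TensorProduct.includeLeft (R := A) (S := A) (A := A₁) (B := A₂)
              (x - algebraMap A A₁ a₁)) * (1 ⊗ₜ y) := by
          rw [Algebra.TensorProduct.includeLeft_apply, Algebra.TensorProduct.tmul_mul_tmul,
            mul_one, one_mul]
        rw [this]
        exact Ideal.mul_mem_right _ _ (mem_map_of_algHom _ _ ha₁)
      have m2 : algebraMap A A₁ a₁ ⊗ₜ[A] (y - algebraMap A A₂ a₂) ∈
          I.map (algebraMap A (A₁ ⊗[A] A₂)) := by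
        have : algebraMap A A₁ a₁ ⊗ₜ[A] (y - algebraMap A A₂ a₂) =
            (algebraMap A A₁ a₁ ⊗ₜ 1) *
              (Algebra.TensorProduct.includeRight (R := A) (A := A₁) (B := A₂)
                (y - algebraMap A A₂ a₂)) := by
          rw [Algebra.TensorProduct.includeRight_apply, Algebra.TensorProduct.tmul_mul_tmul,
            mul_one, one_mul]
        rw [this]
        exact Ideal.mul_mem_left _ _ (mem_map_of_algHom _ _ ha₂)
      rw [e]
      exact Ideal.add_mem _ m1 m2
    | add t s ht hs =>
      obtain ⟨a, ha⟩ := ht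
      obtain ⟨b, hb⟩ := hs
      refine ⟨a + b, ?_⟩
      have : t + s - algebraMap A (A₁ ⊗[A] A₂) (a + b) =
          (t - algebraMap A _ a) + (s - algebraMap A _ b) := by
        rw [map_add]; abel
      rw [this]
      exact Ideal.add_mem _ ha hb

end Directed


section Coequalizer

variable (A₁ A₂ : Type u) [CommRing A₁] [Algebra A A₁] [CommRing A₂] [Algebra A A₂]
  [Algebra.Etale A A₁]

/-- two maps between neighbourhoods are equalized by a localization which is again a neighbourhood. -/
theorem exists_away_coequalizer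
    (h₁ : Function.Bijective (pairMap I A₁)) (h₂ : Function.Bijective (pairMap I A₂))
    (f g : A₁ →ₐ[A] A₂) :
    ∃ u : A₂, Function.Bijective (pairMap I (Localization.Away u)) ∧
      (IsScalarTower.toAlgHom A A₂ (Localization.Away u)).comp f =
        (IsScalarTower.toAlgHom A A₂ (Localization.Away u)).comp g := by
  set e : A₁ ⊗[A] A₁ := Algebra.FormallyUnramified.elem A A₁ with he
  set φ : A₁ ⊗[A] A₁ →ₐ[A] A₂ := Algebra.TensorProduct.productMap f g with hφ
  set u : A₂ := φ e with hu
  refine ⟨u, ?_, ?_⟩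
  swap
  · -- the two composites agree
    ext x
    have F1 : g x * u = f x * u := by
      have := congrArg φ (Algebra.FormallyUnramified.one_tmul_mul_elem (R := A) (S := A₁) x)
      rw [map_mul, map_mul] at this
      simpa [hφ] using this
    have hunit : IsUnit (algebraMap A₂ (Localization.Away u) u) :=
      IsLocalization.map_units (Localization.Away u) (⟨u, Submonoid.mem_powers u⟩ : Submonoid.powers u)
    have := congrArg (algebraMap A₂ (Localization.Away u)) F1
    rw [map_mul, map_mul] at this
    exact (hunit.mul_left_inj.1 this).symm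
  · set ρ₁ := pairRetract h₁
    set ρ₂ := pairRetract h₂
    -- `ρ₂ u = 1`
    have F3 : ρ₂ u = 1 := by
      have e1 : ρ₂.comp φ = Algebra.TensorProduct.productMap (ρ₂.comp f) (ρ₂.comp g) := by
        apply Algebra.TensorProduct.ext'
        intro a b
        simp [hφ]
      have e2 : ρ₂.comp f = ρ₁ := algHom_quot_ext h₁.2 _ _
      have e3 : ρ₂.comp g = ρ₁ := algHom_quot_ext h₁.2 _ _
      have e4 : Algebra.TensorProduct.productMap ρ₁ ρ₁ = ρ₁.comp (Algebra.TensorProduct.lmul' A) := by
        apply Algebra.TensorProduct.ext'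
        intro a b
        simp
      have : ρ₂ u = (ρ₂.comp φ) e := rfl
      rw [this, e1, e2, e3, e4, AlgHom.comp_apply, he, Algebra.FormallyUnramified.lmul_elem, map_one]
    have hunits : ∀ y : Submonoid.powers u, IsUnit (ρ₂ y) := by
      rintro ⟨_, n, rfl⟩
      simp [F3]
    let ρ₃ : Localization.Away u →ₐ[A] A ⧸ I := IsLocalization.liftAlgHom (M := Submonoid.powers u) hunits
    refine ⟨pairMap_injective_of_algHom ρ₃, ?_⟩
    rw [pairMap_surjective_iff]
    -- `u ≡ 1`
    have F4 : u - 1 ∈ I.map (algebraMap A A₂) := by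
      obtain ⟨c, hc⟩ := pairMap_surjective_iff.1 h₂.2 u
      have h0 := algHom_quot_apply_eq_zero ρ₂ _ hc
      rw [map_sub, F3, ρ₂.commutes, Ideal.Quotient.algebraMap_eq] at h0
      have hc1 : c - 1 ∈ I := by
        rw [← Ideal.Quotient.mk_eq_mk_iff_sub_mem, map_one]
        exact (sub_eq_zero.1 h0).symm
      have : u - 1 = (u - algebraMap A A₂ c) + algebraMap A A₂ (c - 1) := by
        rw [map_sub, map_one]; abel
      rw [this]
      exact Ideal.add_mem _ hc (Ideal.mem_map_of_mem _ hc1)
    set hh : A₂ →ₐ[A] Localization.Away u := IsScalarTower.toAlgHom A A₂ (Localization.Away u)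
    have F5 : algebraMap A₂ (Localization.Away u) u - 1 ∈
        I.map (algebraMap A (Localization.Away u)) := by
      have := mem_map_of_algHom (I := I) hh _ F4
      rwa [map_sub, map_one] at this
    intro z
    obtain ⟨⟨x, ⟨_, n, rfl⟩⟩, hz⟩ := IsLocalization.surj (Submonoid.powers u) z
    obtain ⟨a, ha⟩ := pairMap_surjective_iff.1 h₂.2 x
    refine ⟨a, ?_⟩
    have hx := mem_map_of_algHom (I := I) hh _ ha
    rw [map_sub, hh.commutes] at hx
    have hpow : (algebraMap A₂ (Localization.Away u) u) ^ n - 1 ∈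
        I.map (algebraMap A (Localization.Away u)) := by
      obtain ⟨w, hw⟩ := sub_dvd_pow_sub_pow (algebraMap A₂ (Localization.Away u) u) 1 n
      rw [one_pow] at hw
      rw [hw]
      exact Ideal.mul_mem_right _ _ F5
    have key : z - algebraMap A (Localization.Away u) a =
        (hh x - algebraMap A (Localization.Away u) a) -
          z * ((algebraMap A₂ (Localization.Away u) u) ^ n - 1) := by
      have : hh x = z * (algebraMap A₂ (Localization.Away u) u) ^ n := by
        rw [← map_pow]; exact hz.symm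
      rw [this]; ring
    rw [key]
    exact Ideal.sub_mem _ hx (Ideal.mul_mem_left _ _ hpow)

end Coequalizer

end Groth.Agent.Lib.Helper98
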