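import Mathlib.LinearAlgebra.FiniteDimensional.Lemmas
import Mathlib.LinearAlgebra.FiniteDimensional.Basic
import Mathlib.LinearAlgebra.Dimension.Finrank
import Mathlib.LinearAlgebra.Quotient.Basic
import Mathlib.LinearAlgebra.Dimension.Constructions

/-!
Pencils of linear maps `f₀ + t f₁ : V → W`, `dim V = dim W`: if `dim V' ≤ dim W'` for every
sub-pencil `(V', W')`, then `f₀ + t f₁` is bijective for all but finitely many `t`.
-/

set_option autoImplicit false
universe u v w

namespace Groth.Agent.Lib.Helper98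

open Module Function

variable {K : Type u} [Field K]

/-- Semistability of a pencil with `dim V = dim W`. -/
def PencilSS {V : Type v} {W : Type w} [AddCommGroup V] [Module K V] [AddCommGroup W] [Module K W]
    (f₀ f₁ : V →ₗ[K] W) : Prop :=
  ∀ (V' : Submodule K V) (W' : Submodule K W), V'.map f₀ ≤ W' → V'.map f₁ ≤ W' →
    ¬ (V' = ⊥ ∧ W' = ⊥) → ¬ (V' = ⊤ ∧ W' = ⊤) → finrank K V' ≤ finrank K W'

/-- The values of `t` for which `f₀ + t f₁` is not bijective. -/
def badSet {V : Type v} {W : Type w} [AddCommGroup V] [Module K V] [AddCommGroup W] [Module K W]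
    (f₀ f₁ : V →ₗ[K] W) : Set K := {t | ¬ Bijective (f₀ + t • f₁)}

section
variable {V : Type v} {W : Type w} [AddCommGroup V] [Module K V] [AddCommGroup W] [Module K W]
  (f₀ f₁ : V →ₗ[K] W) (V' : Submodule K V) (W' : Submodule K W)
  (h₀ : V'.map f₀ ≤ W') (h₁ : V'.map f₁ ≤ W')

theorem mem_of_map_le {f : V →ₗ[K] W} (h : V'.map f ≤ W') : ∀ x ∈ V', f x ∈ W' :=
  fun x hx => h ⟨x, hx, rfl⟩

theorem le_comap_of_map_le {f : V →ₗ[K] W} (h : V'.map f ≤ W') : V' ≤ W'.comap f :=
  fun x hx => h ⟨x, hx, rfl⟩

include h₀ h₁ in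
theorem pencilSS_restrict (hss : PencilSS f₀ f₁) (hne : V' ≠ ⊤) :
    PencilSS (f₀.restrict (mem_of_map_le V' W' h₀)) (f₁.restrict (mem_of_map_le V' W' h₁)) := by
  intro V'' W'' hm₀ hm₁ hbot htop
  have key := hss (V''.map V'.subtype) (W''.map W'.subtype) ?_ ?_ ?_ ?_
  · rwa [Submodule.finrank_map_subtype_eq, Submodule.finrank_map_subtype_eq] at key
  · rintro _ ⟨_, ⟨x, hx, rfl⟩, rfl⟩
    exact ⟨_, hm₀ ⟨x, hx, rfl⟩, rfl⟩
  · rintro _ ⟨_, ⟨x, hx, rfl⟩, rfl⟩
    exact ⟨_, hm₁ ⟨x, hx, rfl⟩, rfl⟩
  · rintro ⟨ha, hb⟩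
    apply hbot
    exact ⟨Submodule.map_injective_of_injective V'.injective_subtype
        (by rw [ha, Submodule.map_bot]),
      Submodule.map_injective_of_injective W'.injective_subtype
        (by rw [hb, Submodule.map_bot])⟩
  · rintro ⟨ha, -⟩
    apply hne
    rw [eq_top_iff, ← ha]
    exact Submodule.map_subtype_le V' V''

include h₀ h₁ in
theorem pencilSS_mapQ [FiniteDimensional K V] [FiniteDimensional K W] (hss : PencilSS f₀ f₁)
    (hne : V' ≠ ⊥) (hdim : finrank K V' = finrank K W') :
    PencilSS (V'.mapQ W' f₀ (le_comap_of_map_le V' W' h₀))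
      (V'.mapQ W' f₁ (le_comap_of_map_le V' W' h₁)) := by
  intro V'' W'' hm₀ hm₁ hbot htop
  have hdimV : finrank K (V''.comap V'.mkQ) = finrank K V'' + finrank K V' := by
    let φ : (V''.comap V'.mkQ) →ₗ[K] V ⧸ V' := V'.mkQ ∘ₗ (V''.comap V'.mkQ).subtype
    have hr : LinearMap.range φ = V'' := by
      rw [LinearMap.range_comp, Submodule.range_subtype,
        Submodule.map_comap_eq_of_surjective (Submodule.mkQ_surjective V')]
    have hk : LinearMap.ker φ = Submodule.comap (V''.comap V'.mkQ).subtype V' := by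
      rw [LinearMap.ker_comp, Submodule.ker_mkQ]
    have hle : V' ≤ V''.comap V'.mkQ := by
      intro x hx
      rw [Submodule.mem_comap, Submodule.mkQ_apply, (Submodule.Quotient.mk_eq_zero V').2 hx]
      exact Submodule.zero_mem _
    have := LinearMap.finrank_range_add_finrank_ker φ
    rw [hr, hk, (Submodule.comapSubtypeEquivOfLe hle).finrank_eq] at this
    exact this.symm
  have hdimW : finrank K (W''.comap W'.mkQ) = finrank K W'' + finrank K W' := by
    let φ : (W''.comap W'.mkQ) →ₗ[K] W ⧸ W' := W'.mkQ ∘ₗ (W''.comap W'.mkQ).subtype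
    have hr : LinearMap.range φ = W'' := by
      rw [LinearMap.range_comp, Submodule.range_subtype,
        Submodule.map_comap_eq_of_surjective (Submodule.mkQ_surjective W')]
    have hk : LinearMap.ker φ = Submodule.comap (W''.comap W'.mkQ).subtype W' := by
      rw [LinearMap.ker_comp, Submodule.ker_mkQ]
    have hle : W' ≤ W''.comap W'.mkQ := by
      intro x hx
      rw [Submodule.mem_comap, Submodule.mkQ_apply, (Submodule.Quotient.mk_eq_zero W').2 hx]
      exact Submodule.zero_mem _
    have := LinearMap.finrank_range_add_finrank_ker φ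
    rw [hr, hk, (Submodule.comapSubtypeEquivOfLe hle).finrank_eq] at this
    exact this.symm
  have key := hss (V''.comap V'.mkQ) (W''.comap W'.mkQ) ?_ ?_ ?_ ?_
  · rw [hdimV, hdimW, hdim] at key
    exact Nat.le_of_add_le_add_right key
  · rintro _ ⟨x, hx, rfl⟩
    have hx' : V'.mkQ x ∈ V'' := hx
    change W'.mkQ (f₀ x) ∈ W''
    have := hm₀ ⟨_, hx', rfl⟩
    simpa using this
  · rintro _ ⟨x, hx, rfl⟩
    have hx' : V'.mkQ x ∈ V'' := hx
    change W'.mkQ (f₁ x) ∈ W''
    have := hm₁ ⟨_, hx', rfl⟩
    simpa using this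
  · rintro ⟨ha, -⟩
    apply hne
    rw [eq_bot_iff, ← ha]
    intro x hx
    rw [Submodule.mem_comap, Submodule.mkQ_apply, (Submodule.Quotient.mk_eq_zero V').2 hx]
    exact Submodule.zero_mem _
  · rintro ⟨ha, hb⟩
    apply htop
    constructor
    · rw [← Submodule.map_comap_eq_of_surjective (Submodule.mkQ_surjective V') V'', ha,
        Submodule.map_top, Submodule.range_mkQ]
    · rw [← Submodule.map_comap_eq_of_surjective (Submodule.mkQ_surjective W') W'', hb,
        Submodule.map_top, Submodule.range_mkQ]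

include h₀ h₁ in
theorem badSet_subset [FiniteDimensional K V] [FiniteDimensional K W]
    (hVW : finrank K V = finrank K W) :
    badSet f₀ f₁ ⊆
      badSet (f₀.restrict (mem_of_map_le V' W' h₀)) (f₁.restrict (mem_of_map_le V' W' h₁)) ∪
      badSet (V'.mapQ W' f₀ (le_comap_of_map_le V' W' h₀))
        (V'.mapQ W' f₁ (le_comap_of_map_le V' W' h₁)) := by
  intro t ht
  by_contra hcon
  rw [Set.mem_union, not_or] at hcon
  obtain ⟨hg, hh⟩ := hcon
  simp only [badSet, Set.mem_setOf_eq, not_not] at hg hh
  apply ht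
  have hinj : Injective (f₀ + t • f₁) := by
    rw [injective_iff_map_eq_zero]
    intro x hx
    have hxV : x ∈ V' := by
      have : (V'.mapQ W' f₀ (le_comap_of_map_le V' W' h₀) +
          t • V'.mapQ W' f₁ (le_comap_of_map_le V' W' h₁)) (V'.mkQ x) = 0 := by
        simp only [LinearMap.add_apply, LinearMap.smul_apply, Submodule.mkQ_apply,
          Submodule.mapQ_apply]
        rw [← Submodule.Quotient.mk_smul, ← Submodule.Quotient.mk_add]
        have : f₀ x + t • f₁ x = 0 := hx
        rw [this, Submodule.Quotient.mk_zero]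
      have h0 := hh.1 (this.trans (map_zero _).symm)
      rwa [Submodule.mkQ_apply, Submodule.Quotient.mk_eq_zero] at h0
    have : (f₀.restrict (mem_of_map_le V' W' h₀) + t • f₁.restrict (mem_of_map_le V' W' h₁))
        ⟨x, hxV⟩ = 0 := by
      apply Subtype.ext
      exact hx
    have h0 := hg.1 (this.trans (map_zero _).symm)
    exact congrArg Subtype.val h0
  exact ⟨hinj, (LinearMap.injective_iff_surjective_of_finrank_eq_finrank hVW).1 hinj⟩

end

/-- non-bijective gives a nonzero kernel vector. -/
theorem exists_ne_zero_of_not_bijective {V : Type v} {W : Type w} [AddCommGroup V] [Module K V]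
    [AddCommGroup W] [Module K W] [FiniteDimensional K V] [FiniteDimensional K W]
    (hVW : finrank K V = finrank K W) (f : V →ₗ[K] W) (hf : ¬ Bijective f) :
    ∃ v : V, v ≠ 0 ∧ f v = 0 := by
  have hninj : ¬ Injective f := fun hinj =>
    hf ⟨hinj, (LinearMap.injective_iff_surjective_of_finrank_eq_finrank hVW).1 hinj⟩
  rw [← LinearMap.ker_eq_bot] at hninj
  obtain ⟨v, hv, hv0⟩ := Submodule.exists_mem_ne_zero_of_ne_bot hninj
  exact ⟨v, hv0, hv⟩

theorem badSet_finite : ∀ (k : ℕ) (V : Type v) (W : Type w) [AddCommGroup V] [Module K V]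
    [AddCommGroup W] [Module K W] [FiniteDimensional K V] [FiniteDimensional K W]
    (f₀ f₁ : V →ₗ[K] W), finrank K V = k → finrank K W = k → PencilSS f₀ f₁ →
    (badSet f₀ f₁).Finite := by
  intro k
  induction k using Nat.strong_induction_on with
  | _ k ih =>
  intro V W _ _ _ _ _ _ f₀ f₁ hV hW hss
  have hVW : finrank K V = finrank K W := hV.trans hW.symm
  -- a bad `t` gives a sub-pencil of type `(1, ≤ 1)`
  have hline : ∀ t ∈ badSet f₀ f₁, ∃ v : V, v ≠ 0 ∧ f₀ v + t • f₁ v = 0 := by
    intro t ht
    obtain ⟨v, hv, hv0⟩ := exists_ne_zero_of_not_bijective hVW _ ht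
    exact ⟨v, hv, hv0⟩
  by_cases hA : ∃ (V' : Submodule K V) (W' : Submodule K W), V'.map f₀ ≤ W' ∧ V'.map f₁ ≤ W' ∧
      finrank K V' = finrank K W' ∧ 0 < finrank K V' ∧ finrank K V' < k
  · obtain ⟨V', W', h₀, h₁, hdim, hpos, hlt⟩ := hA
    have hVne_top : V' ≠ ⊤ := by
      rintro rfl
      rw [finrank_top, hV] at hlt
      exact lt_irrefl _ hlt
    have hVne_bot : V' ≠ ⊥ := by
      rintro rfl
      rw [finrank_bot] at hpos
      exact lt_irrefl _ hpos
    have hfin1 := ih (finrank K V') hlt V' W' _ _ rfl hdim.symm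
      (pencilSS_restrict f₀ f₁ V' W' h₀ h₁ hss hVne_top)
    have hq1 : finrank K (V ⧸ V') = k - finrank K V' := by
      have := Submodule.finrank_quotient_add_finrank V'
      omega
    have hq2 : finrank K (W ⧸ W') = k - finrank K V' := by
      have := Submodule.finrank_quotient_add_finrank W'
      omega
    have hfin2 := ih (k - finrank K V') (by omega) (V ⧸ V') (W ⧸ W') _ _ hq1 hq2
      (pencilSS_mapQ f₀ f₁ V' W' h₀ h₁ hss hVne_bot hdim)
    exact (hfin1.union hfin2).subset (badSet_subset f₀ f₁ V' W' h₀ h₁ hVW)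
  · -- no proper sub-pencil of equal dimensions
    rcases Nat.lt_or_ge k 2 with hk | hk
    · -- `k ≤ 1`: the bad set is a subsingleton
      apply Set.Subsingleton.finite
      intro t ht t' ht'
      by_contra hne
      obtain ⟨v, hv, hvt⟩ := hline t ht
      obtain ⟨v', hv', hvt'⟩ := hline t' ht'
      have hk1 : finrank K V = 1 := by
        have : 0 < finrank K V := Module.finrank_pos_iff_exists_ne_zero.2 ⟨v, hv⟩
        omega
      have hspan := (finrank_eq_one_iff_of_nonzero' v hv).1 hk1
      obtain ⟨c, hc⟩ := hspan v'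
      have hc0 : c ≠ 0 := by
        rintro rfl
        rw [zero_smul] at hc
        exact hv' hc.symm
      have hvt'' : f₀ v + t' • f₁ v = 0 := by
        have : c • (f₀ v + t' • f₁ v) = 0 := by
          rw [← hc, map_smul, map_smul] at hvt'
          rw [smul_add, smul_comm c t', hvt']
        exact (smul_eq_zero.1 this).resolve_left hc0
      have hf1 : f₁ v = 0 := by
        have : (t - t') • f₁ v = 0 := by
          rw [sub_smul]
          have := congrArg₂ (· - ·) hvt hvt''
          simp only [sub_self, add_sub_add_left_eq_sub] at this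
          exact this
        exact (smul_eq_zero.1 this).resolve_left (sub_ne_zero.2 hne)
      have hf0 : f₀ v = 0 := by
        rw [hf1, smul_zero, add_zero] at hvt
        exact hvt
      have hall : ∀ (f : V →ₗ[K] W), f v = 0 → (⊤ : Submodule K V).map f ≤ ⊥ := by
        rintro f hfv _ ⟨w, -, rfl⟩
        obtain ⟨c, rfl⟩ := hspan w
        rw [map_smul, hfv, smul_zero]
        exact Submodule.zero_mem _
      have key := hss ⊤ ⊥ (hall f₀ hf0) (hall f₁ hf1) ?_ ?_
      · rw [finrank_top, finrank_bot, hk1] at key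
        exact Nat.not_succ_le_zero 0 key
      · rintro ⟨htb, -⟩
        have : v ∈ (⊤ : Submodule K V) := trivial
        rw [htb] at this
        exact hv this
      · rintro ⟨-, hbt⟩
        have h1 : finrank K W = 1 := hVW ▸ hk1
        have h2 : finrank K (⊥ : Submodule K W) = finrank K (⊤ : Submodule K W) := by rw [hbt]
        rw [finrank_top, finrank_bot, h1] at h2
        exact Nat.zero_ne_one h2
    · -- `k ≥ 2`: no bad `t` at all
      have : badSet f₀ f₁ = ∅ := by
        rw [Set.eq_empty_iff_forall_notMem]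
        intro t ht
        obtain ⟨v, hv, hvt⟩ := hline t ht
        apply hA
        have hV'1 : finrank K (K ∙ v) = 1 := finrank_span_singleton hv
        have hW'1 : finrank K (K ∙ (f₁ v)) ≤ 1 := by
          by_cases h0 : f₁ v = 0
          · rw [h0, Submodule.span_zero_singleton, finrank_bot]
            exact Nat.zero_le 1
          · exact (finrank_span_singleton h0).le
        have hm₁ : (K ∙ v).map f₁ ≤ K ∙ (f₁ v) := by
          rw [Submodule.map_span, Set.image_singleton]
        have hm₀ : (K ∙ v).map f₀ ≤ K ∙ (f₁ v) := by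
          rw [Submodule.map_span, Set.image_singleton, Submodule.span_le,
            Set.singleton_subset_iff]
          have : f₀ v = (-t) • f₁ v := by
            rw [neg_smul]
            exact eq_neg_of_add_eq_zero_left hvt
          rw [this]
          exact Submodule.smul_mem _ _ (Submodule.mem_span_singleton_self _)
        have key := hss (K ∙ v) (K ∙ (f₁ v)) hm₀ hm₁ ?_ ?_
        · refine ⟨K ∙ v, K ∙ (f₁ v), hm₀, hm₁, ?_, ?_, ?_⟩
          · omega
          · omega
          · omega
        · rintro ⟨hb, -⟩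
          rw [Submodule.span_singleton_eq_bot] at hb
          exact hv hb
        · rintro ⟨ht', -⟩
          rw [ht', finrank_top, hV] at hV'1
          omega
      rw [this]
      exact Set.finite_empty

end Groth.Agent.Lib.Helper98
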