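import Groth.Agent.Lib.Helper98.RLRDimTwo

/-!
# Two-dimensional regular local rings are factorial; additivity of intersection numbers (helper98)
-/

set_option autoImplicit false
universe u

namespace Groth.Agent.Lib.Helper98

open IsLocalRing Groth.Agent.Lib.Helper85

variable {A : Type u} [CommRing A]

/-- A regular local ring of dimension two is a unique factorization domain. -/
theorem ufm_of_dim_two [IsRegularLocalRing A] (hdim : ringKrullDim A = 2) :
    haveI := isDomain_of_isRegularLocalRing A
    UniqueFactorizationMonoid A := by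
  haveI := isDomain_of_isRegularLocalRing A
  refine UniqueFactorizationMonoid.of_forall_isPrincipal_of_height_eq_one (fun p hp hph => ?_)
  rcases prime_cases_of_dim_two hdim p with h | h | ⟨f, hf⟩
  · exfalso
    rw [h, Ideal.height_bot] at hph
    exact zero_ne_one hph
  · exfalso
    have h2 : ((maximalIdeal A).height : WithBot ℕ∞) = 2 := by
      rw [IsLocalRing.maximalIdeal_height_eq_ringKrullDim, hdim]
    rw [h] at hph
    rw [hph] at h2
    exact absurd h2 (by decide)
  · exact ⟨⟨f, hf⟩⟩

/-- Additivity of the colength: if `f ∣ b * g → f ∣ b` for all `b`, then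
`length A/(f h, g) = length A/(f, g) + length A/(h, g)`. -/
theorem length_quotient_span_mul_pair {R : Type u} [CommRing R] [IsDomain R] (f g h : R) (hf : f ≠ 0)
    (hfg : ∀ b, f ∣ b * g → f ∣ b) :
    Module.length R (R ⧸ Ideal.span ({f * h, g} : Set R)) =
      Module.length R (R ⧸ Ideal.span ({f, g} : Set R)) +
        Module.length R (R ⧸ Ideal.span ({h, g} : Set R)) := by
  set I1 : Ideal R := Ideal.span ({f * h, g} : Set R) with hI1
  set I2 : Ideal R := Ideal.span ({f, g} : Set R) with hI2
  set I3 : Ideal R := Ideal.span ({h, g} : Set R) with hI3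
  have h12 : I1 ≤ I2 := by
    rw [hI1, Ideal.span_le]
    rintro x (rfl | rfl)
    · exact Ideal.mul_mem_right _ _ (Ideal.subset_span (Set.mem_insert _ _))
    · exact Ideal.subset_span (Set.mem_insert_of_mem _ rfl)
  -- φ : R/I3 → R/I1, multiplication by f
  have hφ : I3 ≤ LinearMap.ker ((Submodule.mkQ I1).comp (LinearMap.mulLeft R f)) := by
    rw [hI3, Ideal.span_le]
    rintro x (rfl | rfl)
    · simp only [SetLike.mem_coe, LinearMap.mem_ker, LinearMap.comp_apply, LinearMap.mulLeft_apply,
        Submodule.mkQ_apply, Submodule.Quotient.mk_eq_zero]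
      exact Ideal.subset_span (Set.mem_insert _ _)
    · simp only [SetLike.mem_coe, LinearMap.mem_ker, LinearMap.comp_apply, LinearMap.mulLeft_apply,
        Submodule.mkQ_apply, Submodule.Quotient.mk_eq_zero]
      exact Ideal.mul_mem_left _ _ (Ideal.subset_span (Set.mem_insert_of_mem _ rfl))
  let φ : (R ⧸ I3) →ₗ[R] (R ⧸ I1) :=
    Submodule.liftQ I3 ((Submodule.mkQ I1).comp (LinearMap.mulLeft R f)) hφ
  have hψ : I1 ≤ LinearMap.ker (Submodule.mkQ I2) := by rw [Submodule.ker_mkQ]; exact h12
  let ψ : (R ⧸ I1) →ₗ[R] (R ⧸ I2) := Submodule.liftQ I1 (Submodule.mkQ I2) hψ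
  have hφinj : Function.Injective φ := by
    rw [← LinearMap.ker_eq_bot, LinearMap.ker_eq_bot']
    intro x hx
    obtain ⟨x, rfl⟩ := Submodule.Quotient.mk_surjective _ x
    have hx' : f * x ∈ I1 := by
      have : φ (Submodule.Quotient.mk x) = Submodule.Quotient.mk (f * x) := rfl
      rw [this, Submodule.Quotient.mk_eq_zero] at hx
      exact hx
    rw [hI1, Ideal.mem_span_pair] at hx'
    obtain ⟨a, b, hab⟩ := hx'
    -- a * (f*h) + b * g = f * x
    have hdvd : f ∣ b * g := ⟨x - a * h, by rw [mul_sub, ← hab]; ring⟩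
    obtain ⟨b', rfl⟩ := hfg b hdvd
    have hx2 : x = a * h + b' * g := by
      apply mul_left_cancel₀ hf
      rw [← hab]; ring
    rw [Submodule.Quotient.mk_eq_zero, hI3, Ideal.mem_span_pair]
    exact ⟨a, b', hx2.symm⟩
  have hψsurj : Function.Surjective ψ := by
    intro y
    obtain ⟨y, rfl⟩ := Submodule.Quotient.mk_surjective _ y
    exact ⟨Submodule.Quotient.mk y, rfl⟩
  have hexact : Function.Exact φ ψ := by
    intro y
    constructor
    · intro hy
      obtain ⟨y, rfl⟩ := Submodule.Quotient.mk_surjective _ y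
      have hy' : y ∈ I2 := by
        have : ψ (Submodule.Quotient.mk y) = Submodule.Quotient.mk y := rfl
        rw [this, Submodule.Quotient.mk_eq_zero] at hy
        exact hy
      rw [hI2, Ideal.mem_span_pair] at hy'
      obtain ⟨a, b, hab⟩ := hy'
      refine ⟨Submodule.Quotient.mk a, ?_⟩
      have : φ (Submodule.Quotient.mk a) = Submodule.Quotient.mk (f * a) := rfl
      rw [this, Submodule.Quotient.eq, ← hab]
      have : f * a - (a * f + b * g) = -b * g := by ring
      rw [this]
      exact Ideal.mul_mem_left _ _ (Ideal.subset_span (Set.mem_insert_of_mem _ rfl))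
    · rintro ⟨x, rfl⟩
      obtain ⟨x, rfl⟩ := Submodule.Quotient.mk_surjective _ x
      have : ψ (φ (Submodule.Quotient.mk x)) = Submodule.Quotient.mk (f * x) := rfl
      rw [this, Submodule.Quotient.mk_eq_zero]
      exact Ideal.mul_mem_right _ _ (Ideal.subset_span (Set.mem_insert _ _))
  rw [Module.length_eq_add_of_exact φ ψ hφinj hψsurj hexact, add_comm]

end Groth.Agent.Lib.Helper98
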