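import Groth.Agent.Lib.Helper98.CokerLength
import Groth.Agent.Lib.Helper98.RLRDimTwoUFD

/-!
# The map `R/(f₁⋯fₙ) → ∏ R/(fᵢ)` for pairwise non-associated primes (helper98)

Injectivity and the length of the cokernel `= ∑_{i<j} ℓ(R/(fᵢ,fⱼ))`.
-/

set_option autoImplicit false
universe u

namespace Groth.Agent.Lib.Helper98

section

variable {R : Type u} [CommRing R] [IsDomain R]

theorem length_quotient_span_prod_pair {ι : Type*} (s : Finset ι) (g : ι → R) (b : R)
    (hg : ∀ j ∈ s, Prime (g j)) (hgb : ∀ j ∈ s, ¬ g j ∣ b) :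
    Module.length R (R ⧸ Ideal.span ({∏ j ∈ s, g j, b} : Set R)) =
      ∑ j ∈ s, Module.length R (R ⧸ Ideal.span ({g j, b} : Set R)) := by
  classical
  induction s using Finset.induction_on with
  | empty =>
    have h1 : Ideal.span ({∏ j ∈ (∅ : Finset ι), g j, b} : Set R) = ⊤ := by
      rw [Finset.prod_empty]
      exact Ideal.eq_top_of_isUnit_mem _ (Ideal.subset_span (by simp)) isUnit_one
    have : Subsingleton (R ⧸ Ideal.span ({∏ j ∈ (∅ : Finset ι), g j, b} : Set R)) :=
      Submodule.Quotient.subsingleton_iff.mpr h1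
    rw [Finset.sum_empty]
    exact Module.length_eq_zero
  | insert a s ha ih =>
    rw [Finset.prod_insert ha, Finset.sum_insert ha,
      length_quotient_span_mul_pair (g a) b (∏ j ∈ s, g j)
        (hg a (Finset.mem_insert_self _ _)).ne_zero ?_,
      ih (fun j hj => hg j (Finset.mem_insert_of_mem hj))
        (fun j hj => hgb j (Finset.mem_insert_of_mem hj))]
    intro c hc
    exact ((hg a (Finset.mem_insert_self _ _)).dvd_or_dvd hc).resolve_right
      (hgb a (Finset.mem_insert_self _ _))

/-- The canonical map `R/(F) → ∏ R/(fᵢ)` when every `fᵢ` divides `F`. -/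
noncomputable def piMap {n : ℕ} (f : Fin n → R) (F : R) (hF : ∀ i, f i ∣ F) :
    (R ⧸ Ideal.span ({F} : Set R)) →ₗ[R] ((i : Fin n) → R ⧸ Ideal.span ({f i} : Set R)) :=
  LinearMap.pi (fun i => Submodule.mapQ (Ideal.span {F}) (Ideal.span {f i}) LinearMap.id
    (Ideal.span_singleton_le_span_singleton.mpr (hF i)))

theorem sum_pairs_succ {M : Type*} [AddCommMonoid M] (n : ℕ) (F : Fin (n + 1) → Fin (n + 1) → M) :
    ∑ p ∈ (Finset.univ : Finset (Fin (n + 1) × Fin (n + 1))) with p.1 < p.2, F p.1 p.2 =
      ∑ j : Fin n, F 0 j.succ +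
        ∑ p ∈ (Finset.univ : Finset (Fin n × Fin n)) with p.1 < p.2, F p.1.succ p.2.succ := by
  rw [Finset.sum_filter, Finset.sum_filter, Fintype.sum_prod_type, Fintype.sum_prod_type,
    Fin.sum_univ_succ]
  congr 1
  · rw [Fin.sum_univ_succ]
    simp [Fin.succ_pos]
  · refine Finset.sum_congr rfl (fun i _ => ?_)
    rw [Fin.sum_univ_succ]
    simp [Fin.succ_lt_succ_iff]

theorem piMap_injective_and_length : ∀ (n : ℕ) (f : Fin n → R) (F : R) (_hFeq : F = ∏ i, f i)
    (hF : ∀ i, f i ∣ F) (_hp : ∀ i, Prime (f i)) (_hnd : ∀ i j, i ≠ j → ¬ f i ∣ f j),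
    Function.Injective (piMap f F hF) ∧
      Module.length R (((i : Fin n) → R ⧸ Ideal.span ({f i} : Set R)) ⧸
          LinearMap.range (piMap f F hF)) =
        ∑ p ∈ (Finset.univ : Finset (Fin n × Fin n)) with p.1 < p.2,
          Module.length R (R ⧸ Ideal.span ({f p.1, f p.2} : Set R)) := by
  intro n
  induction n with
  | zero =>
    intro f F hFeq hF hp hnd
    have hF1 : F = 1 := by rw [hFeq]; simp
    subst hF1
    have : Subsingleton (R ⧸ Ideal.span ({1} : Set R)) := by
      rw [Submodule.Quotient.subsingleton_iff]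
      exact Ideal.eq_top_of_isUnit_mem _ (Ideal.subset_span (by simp)) isUnit_one
    refine ⟨Function.injective_of_subsingleton _, ?_⟩
    rw [Module.length_eq_zero]
    simp
  | succ n ih =>
    intro f F hFeq hF hp hnd
    set g : Fin n → R := fun i => f i.succ with hg
    set G : R := ∏ i, g i with hG
    have hFG : F = f 0 * G := by rw [hFeq, Fin.prod_univ_succ]
    subst hFG
    have hGd : ∀ i, g i ∣ G := fun i => Finset.dvd_prod_of_mem g (Finset.mem_univ i)
    obtain ⟨ihinj, ihlen⟩ := ih g G rfl hGd (fun i => hp i.succ)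
      (fun i j hij => hnd i.succ j.succ (fun h => hij (Fin.succ_injective _ h)))
    have h0G : ¬ f 0 ∣ G := by
      intro h
      obtain ⟨j, -, hj⟩ := (hp 0).exists_mem_finset_dvd h
      exact hnd 0 j.succ (Fin.succ_ne_zero j).symm hj
    have hcrt : ∀ c, f 0 ∣ c * G → f 0 ∣ c := fun c hc =>
      ((hp 0).dvd_or_dvd hc).resolve_right h0G
    -- decomposition
    have hdecomp : piMap f (f 0 * G) hF =
        (Fin.consLinearEquiv R (fun i : Fin (n + 1) => R ⧸ Ideal.span ({f i} : Set R))).toLinearMap ∘ₗ
          ((LinearMap.prodMap (LinearMap.id : (R ⧸ Ideal.span ({f 0} : Set R)) →ₗ[R] _)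
            (piMap g G hGd)) ∘ₗ crtPair (f 0) G) := by
      apply LinearMap.ext
      intro x
      obtain ⟨x, rfl⟩ := Submodule.Quotient.mk_surjective _ x
      funext i
      refine Fin.cases ?_ (fun i => ?_) i
      · rfl
      · rfl
    have hψinj : Function.Injective (LinearMap.prodMap
        (LinearMap.id : (R ⧸ Ideal.span ({f 0} : Set R)) →ₗ[R] _) (piMap g G hGd)) := by
      rw [LinearMap.coe_prodMap]
      exact Function.Injective.prodMap Function.injective_id ihinj
    constructor
    · rw [hdecomp]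
      simp only [LinearMap.coe_comp, LinearEquiv.coe_coe]
      exact (LinearEquiv.injective _).comp (hψinj.comp (crtPair_injective _ _ (hp 0).ne_zero hcrt))
    · rw [hdecomp, length_coker_equiv_comp, length_coker_comp _ _ hψinj, length_coker_prodMap_id,
        ihlen, length_coker_crtPair, sum_pairs_succ n
          (fun i j => Module.length R (R ⧸ Ideal.span ({f i, f j} : Set R))), add_comm]
      congr 1
      rw [Set.pair_comm, hG, length_quotient_span_prod_pair Finset.univ g (f 0)
        (fun j _ => hp j.succ) (fun j _ => hnd j.succ 0 (Fin.succ_ne_zero j))]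
      refine Finset.sum_congr rfl (fun j _ => ?_)
      rw [Set.pair_comm]

end

end Groth.Agent.Lib.Helper98
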