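import Mathlib

/-!
# Products of valuation rings (helper98)

* `flat_span_singleton_of_ker_eq`: if `ker (c * ·) = ker (e * ·)` for an idempotent `e`, then the
  principal ideal `(c)` is flat.
* `pi_flat_of_fg`: every finitely generated ideal of a product of valuation domains is flat.
* `pi_nonZeroDivisors`: non-zero-divisors of a product of domains, componentwise.
-/

set_option autoImplicit false
universe u

namespace Groth.Agent.Lib.Helper98

section general

variable {R : Type*} [CommRing R]

theorem flat_range_mulLeft_of_isIdempotentElem (e : R) (he : IsIdempotentElem e) :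
    Module.Flat R (LinearMap.range (LinearMap.mulLeft R e)) := by
  refine Module.Flat.of_retract (M := R) (LinearMap.range (LinearMap.mulLeft R e)).subtype
    ((LinearMap.mulLeft R e).rangeRestrict) ?_
  ext ⟨x, hx⟩
  obtain ⟨y, rfl⟩ := hx
  simp only [LinearMap.mulLeft_apply, LinearMap.coe_comp, Submodule.coe_subtype,
    Function.comp_apply, LinearMap.codRestrict_apply, LinearMap.id_coe, id_eq]
  rw [← mul_assoc, he.eq]

theorem flat_span_singleton_of_ker_eq (c e : R) (he : IsIdempotentElem e)
    (hker : LinearMap.ker (LinearMap.mulLeft R c) = LinearMap.ker (LinearMap.mulLeft R e)) :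
    Module.Flat R (Ideal.span ({c} : Set R)) := by
  have hspan : Ideal.span ({c} : Set R) = LinearMap.range (LinearMap.mulLeft R c) := by
    ext x
    rw [Ideal.mem_span_singleton', LinearMap.mem_range]
    constructor
    · rintro ⟨a, rfl⟩; exact ⟨a, by simp [mul_comm]⟩
    · rintro ⟨a, rfl⟩; exact ⟨a, by simp [mul_comm]⟩
  rw [hspan]
  haveI := flat_range_mulLeft_of_isIdempotentElem e he
  let φ : LinearMap.range (LinearMap.mulLeft R e) ≃ₗ[R] LinearMap.range (LinearMap.mulLeft R c) :=
    ((LinearMap.mulLeft R e).quotKerEquivRange.symm.trans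
      (Submodule.quotEquivOfEq _ _ hker.symm)).trans (LinearMap.mulLeft R c).quotKerEquivRange
  exact Module.Flat.of_linearEquiv φ.symm

end general

section pi

variable {J : Type u} (A : J → Type u) [∀ j, CommRing (A j)] [∀ j, IsDomain (A j)]

open Classical in
theorem pi_flat_span_singleton (c : ∀ j, A j) :
    Module.Flat (∀ j, A j) (Ideal.span ({c} : Set (∀ j, A j))) := by
  let e : ∀ j, A j := fun j => if c j = 0 then 0 else 1
  have he : IsIdempotentElem e := by
    funext j
    by_cases h : c j = 0 <;> simp [e, h]
  apply flat_span_singleton_of_ker_eq c e he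
  ext x
  simp only [LinearMap.mem_ker, LinearMap.mulLeft_apply]
  constructor
  · intro h
    funext j
    have hj := congrFun h j
    simp only [Pi.mul_apply, Pi.zero_apply, mul_eq_zero] at hj
    by_cases hc : c j = 0
    · simp [e, hc]
    · simp [e, hc, hj.resolve_left hc]
  · intro h
    funext j
    have hj := congrFun h j
    simp only [Pi.mul_apply, Pi.zero_apply] at hj ⊢
    by_cases hc : c j = 0
    · simp [hc]
    · simp only [e, hc, if_false, one_mul] at hj
      simp [hj]

variable [∀ j, ValuationRing (A j)]

open Classical in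
theorem pi_span_pair_isPrincipal (x y : ∀ j, A j) :
    (Ideal.span ({x, y} : Set (∀ j, A j))).IsPrincipal := by
  -- componentwise generator
  let P : J → Prop := fun j => x j ∣ y j
  have hQ : ∀ j, ¬ P j → y j ∣ x j := fun j hj =>
    (ValuationRing.dvd_total (x j) (y j)).resolve_left hj
  let c : ∀ j, A j := fun j => if P j then x j else y j
  let e : ∀ j, A j := fun j => if P j then 1 else 0
  -- quotients
  have hx : ∀ j, ∃ r, x j = r * c j := by
    intro j
    by_cases hj : P j
    · exact ⟨1, by simp [c, hj]⟩
    · obtain ⟨r, hr⟩ := hQ j hj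
      exact ⟨r, by simp [c, hj, hr, mul_comm]⟩
  have hy : ∀ j, ∃ r, y j = r * c j := by
    intro j
    by_cases hj : P j
    · have hj' : x j ∣ y j := hj
      obtain ⟨r, hr⟩ := hj'
      exact ⟨r, by simp only [c, hj, if_true]; rw [hr, mul_comm]⟩
    · exact ⟨1, by simp [c, hj]⟩
  choose rx hrx using hx
  choose ry hry using hy
  refine ⟨⟨c, ?_⟩⟩
  apply le_antisymm
  · rw [Ideal.submodule_span_eq, Ideal.span_le]
    rintro z (rfl | rfl)
    · exact Ideal.mem_span_singleton'.mpr ⟨rx, (funext hrx).symm⟩
    · exact Ideal.mem_span_singleton'.mpr ⟨ry, (funext hry).symm⟩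
  · rw [Ideal.submodule_span_eq, Ideal.span_le, Set.singleton_subset_iff]
    have hc : c = e * x + (1 - e) * y := by
      funext j
      by_cases hj : P j <;> simp [c, e, hj]
    rw [hc]
    exact Ideal.add_mem _ (Ideal.mul_mem_left _ _ (Ideal.subset_span (Set.mem_insert _ _)))
      (Ideal.mul_mem_left _ _ (Ideal.subset_span (Set.mem_insert_of_mem _ rfl)))

theorem pi_flat_of_fg (I : Ideal (∀ j, A j)) (hI : I.FG) : Module.Flat (∀ j, A j) I := by
  haveI : IsBezout (∀ j, A j) := IsBezout.iff_span_pair_isPrincipal.mpr (pi_span_pair_isPrincipal A)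
  obtain ⟨c, rfl⟩ := (IsBezout.isPrincipal_of_FG I hI).principal
  exact pi_flat_span_singleton A c

end pi

section nzd

variable {J : Type u} (A : J → Type u) [∀ j, CommRing (A j)]

open Classical in
theorem pi_nonZeroDivisors :
    nonZeroDivisors (∀ j, A j) = Submonoid.pi Set.univ (fun j => nonZeroDivisors (A j)) := by
  ext s
  simp only [Submonoid.mem_pi, Set.mem_univ, forall_true_left]
  constructor
  · intro hs j
    rw [mem_nonZeroDivisors_iff_right]
    intro x hx
    have h1 : (Pi.single j x : ∀ j, A j) * s = 0 := by
      funext k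
      by_cases hk : k = j
      · subst hk; simp [hx]
      · simp [Pi.single_eq_of_ne hk]
    have h2 := (mem_nonZeroDivisors_iff_right.mp hs) _ h1
    have := congrFun h2 j
    simpa using this
  · intro hs
    rw [mem_nonZeroDivisors_iff_right]
    intro x hx
    funext j
    exact (mem_nonZeroDivisors_iff_right.mp (hs j)) _ (congrFun hx j)

end nzd

end Groth.Agent.Lib.Helper98
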