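import Mathlib

/-!
# Subspaces of `k⟦X⟧` containing a power of `X` (helper98)

For a `k`-subspace `W` of `k⟦X⟧` containing all series of order `≥ c`, with value set `Δ`
(the set of orders of elements of `W`): `dim k⟦X⟧/W = #(ℕ ∖ Δ)`, and `W` contains all series of
order `≥ N` as soon as `Δ ⊇ [N, ∞)`.  (The first statement generalizes
`Groth.Agent.Lib.Helper87.gaps_main`, whose proof it follows.)
-/

set_option autoImplicit false

namespace Groth.Agent.Lib.Helper98

open PowerSeries

section gaps

universe u

variable {k : Type u} [Field k] (W : Submodule k (PowerSeries k))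

theorem gaps_submodule (c : ℕ) (hc : ∀ g : PowerSeries k, (c : ℕ∞) ≤ g.order → g ∈ W)
    (Γ : Set ℕ) (hΓ : ∀ n : ℕ, n ∈ Γ ↔ ∃ f ∈ W, PowerSeries.order f = n) :
    Γᶜ.Finite ∧ Module.finrank k (PowerSeries k ⧸ W) = Γᶜ.ncard := by
  classical
  have hGsub : Γᶜ ⊆ {n | n < c} := by
    intro n hn
    by_contra hnc
    have hnc' : c ≤ n := not_lt.mp hnc
    apply hn
    rw [hΓ]
    refine ⟨X ^ n, hc _ ?_, order_X_pow n⟩
    rw [order_X_pow]
    exact_mod_cast hnc'
  have hGfin : Γᶜ.Finite := (Set.finite_lt_nat c).subset hGsub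
  refine ⟨hGfin, ?_⟩
  haveI : Fintype ↥(Γᶜ) := hGfin.fintype
  let π : PowerSeries k →ₗ[k] (PowerSeries k ⧸ W) := W.mkQ
  have hπ0 : ∀ f, f ∈ W → π f = 0 := by
    intro f hf
    exact (Submodule.Quotient.mk_eq_zero _).mpr hf
  let v : ↥(Γᶜ) → (PowerSeries k ⧸ W) := fun n => π (X ^ (n : ℕ))
  -- spanning
  have hspan_aux : ∀ (m : ℕ) (f : PowerSeries k), ((c - m : ℕ) : ℕ∞) ≤ f.order →
      π f ∈ Submodule.span k (Set.range v) := by
    intro m
    induction m with
    | zero =>
      intro f hf
      rw [hπ0 f (hc f (by simpa using hf))]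
      exact Submodule.zero_mem _
    | succ m ih =>
      intro f hf
      by_cases hmc : c ≤ m
      · apply ih f
        have h1 : c - m = 0 := Nat.sub_eq_zero_of_le hmc
        rw [h1]; simp
      · have hmc' : m < c := not_le.mp hmc
        set n := c - (m + 1) with hn
        have hn1 : c - m = n + 1 := by omega
        have hlow : ∀ i < n, coeff i f = 0 := by
          intro i hi
          apply coeff_of_lt_order
          exact lt_of_lt_of_le (by exact_mod_cast hi) hf
        by_cases hnΓ : n ∈ Γ
        · obtain ⟨g, hgA, hgo⟩ := (hΓ n).mp hnΓ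
          obtain ⟨hβ, hglow⟩ := order_eq_nat.mp hgo
          set α := coeff n f with hα
          set β := coeff n g with hβdef
          have hf' : ((c - m : ℕ) : ℕ∞) ≤ (f - (α / β) • g).order := by
            rw [hn1]
            apply nat_le_order
            intro i hi
            rw [map_sub, map_smul, smul_eq_mul]
            rcases Nat.lt_succ_iff_lt_or_eq.mp hi with hi' | rfl
            · rw [hlow i hi', hglow i hi', mul_zero, sub_zero]
            · rw [← hα, ← hβdef, div_mul_cancel₀ _ hβ, sub_self]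
          have h2 := ih _ hf'
          have h3 : π f = π (f - (α / β) • g) := by
            rw [map_sub, map_smul, hπ0 g hgA, smul_zero, sub_zero]
          rw [h3]
          exact h2
        · set α := coeff n f with hα
          have hf' : ((c - m : ℕ) : ℕ∞) ≤ (f - α • (X : PowerSeries k) ^ n).order := by
            rw [hn1]
            apply nat_le_order
            intro i hi
            rw [map_sub, map_smul, smul_eq_mul, coeff_X_pow]
            rcases Nat.lt_succ_iff_lt_or_eq.mp hi with hi' | rfl
            · rw [hlow i hi', if_neg (Nat.ne_of_lt hi'), mul_zero, sub_zero]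
            · rw [if_pos rfl, mul_one, ← hα, sub_self]
          have h2 := ih _ hf'
          have h3 : π f = π (f - α • (X : PowerSeries k) ^ n) + α • v ⟨n, hnΓ⟩ := by
            show π f = π (f - α • (X : PowerSeries k) ^ n) + α • π (X ^ n)
            rw [← map_smul, ← map_add, sub_add_cancel]
          rw [h3]
          exact Submodule.add_mem _ h2
            (Submodule.smul_mem _ _ (Submodule.subset_span ⟨_, rfl⟩))
  have hspan : ⊤ ≤ Submodule.span k (Set.range v) := by
    intro q _
    obtain ⟨f, rfl⟩ := Submodule.Quotient.mk_surjective _ q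
    exact hspan_aux c f (by simp)
  -- independence
  have hli : LinearIndependent k v := by
    rw [Fintype.linearIndependent_iff]
    intro g hg
    by_contra hne
    push Not at hne
    have hsum : (∑ i : ↥(Γᶜ), g i • (X : PowerSeries k) ^ (i : ℕ)) ∈ W := by
      have h1 : π (∑ i : ↥(Γᶜ), g i • (X : PowerSeries k) ^ (i : ℕ)) = 0 := by
        rw [map_sum]
        simp only [map_smul]
        exact hg
      exact (Submodule.Quotient.mk_eq_zero _).mp h1
    have hcoeff : ∀ j : ↥(Γᶜ), coeff (j : ℕ)
        (∑ i : ↥(Γᶜ), g i • (X : PowerSeries k) ^ (i : ℕ)) = g j := by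
      intro j
      rw [map_sum]
      simp only [map_smul, smul_eq_mul, coeff_X_pow]
      rw [Finset.sum_eq_single j]
      · rw [if_pos rfl, mul_one]
      · intro b _ hb
        rw [if_neg, mul_zero]
        intro h
        exact hb (Subtype.ext h.symm)
      · intro h
        exact absurd (Finset.mem_univ j) h
    have hcoeff' : ∀ m : ℕ, m ∈ Γ → coeff m
        (∑ i : ↥(Γᶜ), g i • (X : PowerSeries k) ^ (i : ℕ)) = 0 := by
      intro m hm
      rw [map_sum]
      apply Finset.sum_eq_zero
      intro i _
      rw [map_smul, smul_eq_mul, coeff_X_pow, if_neg, mul_zero]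
      intro h
      exact i.2 (h ▸ hm)
    -- minimal index with nonzero coefficient
    have hex : ∃ n : ℕ, ∃ h : n ∈ Γᶜ, g ⟨n, h⟩ ≠ 0 := by
      obtain ⟨i, hi⟩ := hne
      exact ⟨i, i.2, hi⟩
    let n₀ := Nat.find hex
    obtain ⟨hn₀G, hn₀⟩ := Nat.find_spec hex
    have hord : (∑ i : ↥(Γᶜ), g i • (X : PowerSeries k) ^ (i : ℕ)).order = (n₀ : ℕ) := by
      rw [order_eq_nat]
      refine ⟨?_, ?_⟩
      · rw [hcoeff ⟨n₀, hn₀G⟩]
        exact hn₀
      · intro i hi
        by_cases hiΓ : i ∈ Γ
        · exact hcoeff' i hiΓ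
        · rw [hcoeff ⟨i, hiΓ⟩]
          by_contra h
          exact Nat.find_min hex hi ⟨hiΓ, h⟩
    exact hn₀G ((hΓ n₀).mpr ⟨_, hsum, hord⟩)
  have b : Module.Basis ↥(Γᶜ) k (PowerSeries k ⧸ W) :=
    Module.Basis.mk hli hspan
  rw [Module.finrank_eq_nat_card_basis b, Nat.card_coe_set_eq]

/-- If the value set contains `[N, ∞)` then `W` contains all series of order `≥ N`. -/
theorem mem_of_le_order (c : ℕ) (hc : ∀ g : PowerSeries k, (c : ℕ∞) ≤ g.order → g ∈ W)
    (Γ : Set ℕ) (hΓ : ∀ n : ℕ, n ∈ Γ ↔ ∃ f ∈ W, PowerSeries.order f = n)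
    (N : ℕ) (hN : ∀ n, N ≤ n → n ∈ Γ) :
    ∀ f : PowerSeries k, (N : ℕ∞) ≤ f.order → f ∈ W := by
  have haux : ∀ (m : ℕ) (f : PowerSeries k), ((c - m : ℕ) : ℕ∞) ≤ f.order →
      (N : ℕ∞) ≤ f.order → f ∈ W := by
    intro m
    induction m with
    | zero =>
      intro f hf _
      exact hc f (by simpa using hf)
    | succ m ih =>
      intro f hf hfN
      by_cases hmc : c ≤ m
      · apply ih f _ hfN
        have h1 : c - m = 0 := Nat.sub_eq_zero_of_le hmc
        rw [h1]; simp
      · have hmc' : m < c := not_le.mp hmc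
        set n := c - (m + 1) with hn
        have hn1 : c - m = n + 1 := by omega
        by_cases hnN : n < N
        · apply ih f _ hfN
          rw [hn1]
          refine le_trans ?_ hfN
          exact_mod_cast hnN
        · have hnΓ : n ∈ Γ := hN n (not_lt.mp hnN)
          have hlow : ∀ i < n, coeff i f = 0 := by
            intro i hi
            apply coeff_of_lt_order
            exact lt_of_lt_of_le (by exact_mod_cast hi) hf
          obtain ⟨g, hgA, hgo⟩ := (hΓ n).mp hnΓ
          obtain ⟨hβ, hglow⟩ := order_eq_nat.mp hgo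
          set α := coeff n f with hα
          set β := coeff n g with hβdef
          have hf' : ((c - m : ℕ) : ℕ∞) ≤ (f - (α / β) • g).order := by
            rw [hn1]
            apply nat_le_order
            intro i hi
            rw [map_sub, map_smul, smul_eq_mul]
            rcases Nat.lt_succ_iff_lt_or_eq.mp hi with hi' | rfl
            · rw [hlow i hi', hglow i hi', mul_zero, sub_zero]
            · rw [← hα, ← hβdef, div_mul_cancel₀ _ hβ, sub_self]
          have hfN' : (N : ℕ∞) ≤ (f - (α / β) • g).order := by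
            refine le_trans ?_ hf'
            rw [hn1]
            have : N ≤ n + 1 := by omega
            exact_mod_cast this
          have h2 := ih _ hf' hfN'
          have h3 : f = (f - (α / β) • g) + (α / β) • g := by rw [sub_add_cancel]
          rw [h3]
          exact W.add_mem h2 (W.smul_mem _ hgA)
  intro f hf
  exact haux c f (by simp) hf

end gaps

section combinatorics

/-- If `Γ + Δ ⊆ Δ` then `Δ` contains every `n ≥ #(ℕ ∖ Γ) + #(ℕ ∖ Δ)`. -/
theorem mem_of_ncard_compl_add_le (Γ Δ : Set ℕ) (hΓfin : Γᶜ.Finite) (hΔfin : Δᶜ.Finite)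
    (hadd : ∀ s ∈ Γ, ∀ n ∈ Δ, s + n ∈ Δ) (n : ℕ) (hn : Γᶜ.ncard + Δᶜ.ncard ≤ n) : n ∈ Δ := by
  classical
  by_contra hnΔ
  have h1 := Finset.card_filter_add_card_filter_not (s := Finset.range (n + 1)) (· ∈ Γ)
  rw [Finset.card_range] at h1
  have h2 : ((Finset.range (n + 1)).filter (fun x => ¬ x ∈ Γ)).card ≤ Γᶜ.ncard := by
    rw [Set.ncard_eq_toFinset_card Γᶜ hΓfin]
    apply Finset.card_le_card
    intro x hx
    rw [Finset.mem_filter] at hx
    rw [Set.Finite.mem_toFinset]
    exact hx.2
  have h3 : ((Finset.range (n + 1)).filter (· ∈ Γ)).card ≤ Δᶜ.ncard := by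
    rw [Set.ncard_eq_toFinset_card Δᶜ hΔfin]
    apply Finset.card_le_card_of_injOn (fun s => n - s)
    · intro s hs
      have hs' := Finset.mem_filter.mp hs
      have hsn : s ≤ n := Nat.lt_succ_iff.mp (Finset.mem_range.mp hs'.1)
      simp only [Set.Finite.coe_toFinset, Set.mem_compl_iff]
      intro hmem
      apply hnΔ
      have := hadd s hs'.2 (n - s) hmem
      rwa [Nat.add_sub_cancel' hsn] at this
    · intro s hs s' hs' h
      have hs1 := Finset.mem_filter.mp hs
      have hs1' := Finset.mem_filter.mp hs'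
      have hsn : s ≤ n := Nat.lt_succ_iff.mp (Finset.mem_range.mp hs1.1)
      have hsn' : s' ≤ n := Nat.lt_succ_iff.mp (Finset.mem_range.mp hs1'.1)
      simp only at h
      omega
  omega

/-- The complement of `e + Δ`. -/
theorem ncard_compl_shift (Δ : Set ℕ) (hΔfin : Δᶜ.Finite) (e : ℕ) :
    ({n | e ≤ n ∧ n - e ∈ Δ}ᶜ).ncard = e + Δᶜ.ncard := by
  have hset : {n | e ≤ n ∧ n - e ∈ Δ}ᶜ = (↑(Finset.range e) : Set ℕ) ∪ (· + e) '' Δᶜ := by
    ext n
    simp only [Set.mem_compl_iff, Set.mem_setOf_eq, not_and, Set.mem_union, Finset.coe_range,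
      Set.mem_Iio, Set.mem_image]
    constructor
    · intro h
      by_cases hne : n < e
      · exact Or.inl hne
      · right
        refine ⟨n - e, h (not_lt.mp hne), ?_⟩
        omega
    · rintro (h | ⟨m, hm, rfl⟩)
      · intro h'; omega
      · intro _
        rwa [Nat.add_sub_cancel]
  have hdisj : Disjoint (↑(Finset.range e) : Set ℕ) ((· + e) '' Δᶜ) := by
    rw [Set.disjoint_left]
    rintro n hn ⟨m, _, rfl⟩
    simp only [Finset.coe_range, Set.mem_Iio] at hn
    omega
  rw [hset, Set.ncard_union_eq hdisj (Finset.finite_toSet _) (hΔfin.image _),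
    Set.ncard_coe_finset, Finset.card_range,
    Set.ncard_image_of_injective _ (add_left_injective e)]

end combinatorics

end Groth.Agent.Lib.Helper98
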