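import Mathlib

set_option autoImplicit false
set_option linter.style.haveILetI false
universe u

namespace Groth.Agent.Lib.Helper98.PowerSeriesLatticeProj

open TensorProduct PowerSeries

section Resolution

variable {R : Type u} [CommRing R] {Q : Type u} [AddCommGroup Q] [Module R Q] [Module R⟦X⟧ Q]
  [IsScalarTower R R⟦X⟧ Q]

/-- Multiplication by `X` on `Q`, as an `R`-linear map. -/
noncomputable def phi (R : Type u) [CommRing R] (Q : Type u) [AddCommGroup Q] [Module R Q]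
    [Module R⟦X⟧ Q] [IsScalarTower R R⟦X⟧ Q] : Q →ₗ[R] Q :=
  (LinearMap.lsmul R⟦X⟧ Q (PowerSeries.X : R⟦X⟧)).restrictScalars R

/-- `id ⊗ φ` on `R⟦X⟧ ⊗[R] Q`. -/
noncomputable def psi (R : Type u) [CommRing R] (Q : Type u) [AddCommGroup Q] [Module R Q]
    [Module R⟦X⟧ Q] [IsScalarTower R R⟦X⟧ Q] : R⟦X⟧ ⊗[R] Q →ₗ[R⟦X⟧] R⟦X⟧ ⊗[R] Q :=
  LinearMap.baseChange R⟦X⟧ (phi R Q)

/-- The map `X - id ⊗ φ`. -/
noncomputable def D (R : Type u) [CommRing R] (Q : Type u) [AddCommGroup Q] [Module R Q]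
    [Module R⟦X⟧ Q] [IsScalarTower R R⟦X⟧ Q] : R⟦X⟧ ⊗[R] Q →ₗ[R⟦X⟧] R⟦X⟧ ⊗[R] Q :=
  (PowerSeries.X : R⟦X⟧) • LinearMap.id - psi R Q

/-- The action map `R⟦X⟧ ⊗[R] Q → Q`. -/
noncomputable def mu (R : Type u) [CommRing R] (Q : Type u) [AddCommGroup Q] [Module R Q]
    [Module R⟦X⟧ Q] [IsScalarTower R R⟦X⟧ Q] : R⟦X⟧ ⊗[R] Q →ₗ[R⟦X⟧] Q :=
  LinearMap.liftBaseChange R⟦X⟧ (LinearMap.id : Q →ₗ[R] Q)

@[simp] theorem mu_tmul (p : R⟦X⟧) (q : Q) : mu R Q (p ⊗ₜ[R] q) = p • q := by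
  simp [mu]

@[simp] theorem psi_tmul (p : R⟦X⟧) (q : Q) :
    psi R Q (p ⊗ₜ[R] q) = p ⊗ₜ[R] ((PowerSeries.X : R⟦X⟧) • q) := by
  simp [psi, phi]

theorem D_apply (w : R⟦X⟧ ⊗[R] Q) : D R Q w = (PowerSeries.X : R⟦X⟧) • w - psi R Q w := by
  simp [D]

theorem mu_surjective : Function.Surjective (mu R Q) := fun q => ⟨1 ⊗ₜ q, by simp⟩

theorem mu_comp_D : (mu R Q) ∘ₗ (D R Q) = 0 := by
  apply TensorProduct.AlgebraTensorModule.ext
  intro p q
  simp only [LinearMap.comp_apply, D_apply, map_sub, map_smul, mu_tmul, psi_tmul,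
    LinearMap.zero_apply]
  rw [smul_comm, sub_self]

theorem psi_pow_tmul (k : ℕ) (p : R⟦X⟧) (q : Q) :
    ((psi R Q) ^ k) (p ⊗ₜ[R] q) = p ⊗ₜ[R] ((PowerSeries.X : R⟦X⟧) ^ k • q) := by
  induction k generalizing q with
  | zero => simp
  | succ k ih =>
    rw [pow_succ, Module.End.mul_apply, psi_tmul, ih, pow_succ, mul_smul]

theorem X_pow_smul_sub_psi_pow_mem (k : ℕ) (w : R⟦X⟧ ⊗[R] Q) :
    (PowerSeries.X : R⟦X⟧) ^ k • w - ((psi R Q) ^ k) w ∈ LinearMap.range (D R Q) := by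
  induction k with
  | zero => simp
  | succ k ih =>
    have : (PowerSeries.X : R⟦X⟧) ^ (k + 1) • w - ((psi R Q) ^ (k + 1)) w =
        (PowerSeries.X : R⟦X⟧) • ((PowerSeries.X : R⟦X⟧) ^ k • w - ((psi R Q) ^ k) w) +
          D R Q (((psi R Q) ^ k) w) := by
      rw [D_apply, pow_succ', mul_smul, pow_succ', Module.End.mul_apply, smul_sub]
      abel
    rw [this]
    exact add_mem (Submodule.smul_mem _ _ ih) (LinearMap.mem_range_self _ _)

variable (M : ℕ) (hM : ∀ q : Q, (PowerSeries.X : R⟦X⟧) ^ M • q = 0)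

include hM in
theorem psi_pow_eq_zero : (psi R Q) ^ M = 0 := by
  apply TensorProduct.AlgebraTensorModule.ext
  intro p q
  rw [psi_pow_tmul, hM, tmul_zero, LinearMap.zero_apply]

include hM in
theorem X_pow_smul_mem (w : R⟦X⟧ ⊗[R] Q) :
    (PowerSeries.X : R⟦X⟧) ^ M • w ∈ LinearMap.range (D R Q) := by
  have := X_pow_smul_sub_psi_pow_mem M w
  rwa [psi_pow_eq_zero M hM, LinearMap.zero_apply, sub_zero] at this

include hM in
/-- Exactness in the middle. -/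
theorem ker_mu_le_range_D : LinearMap.ker (mu R Q) ≤ LinearMap.range (D R Q) := by
  -- the set of good power series
  have key : ∀ (p : R⟦X⟧) (q : Q), p ⊗ₜ[R] q - (1 : R⟦X⟧) ⊗ₜ[R] (p • q) ∈ LinearMap.range (D R Q) := by
    -- step: multiplication by `X`
    have hX : ∀ p : R⟦X⟧, (∀ q : Q, p ⊗ₜ[R] q - (1 : R⟦X⟧) ⊗ₜ[R] (p • q) ∈ LinearMap.range (D R Q)) →
        ∀ q : Q, (PowerSeries.X * p) ⊗ₜ[R] q - (1 : R⟦X⟧) ⊗ₜ[R] ((PowerSeries.X * p) • q) ∈
          LinearMap.range (D R Q) := by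
      intro p hp q
      have : (PowerSeries.X * p) ⊗ₜ[R] q - (1 : R⟦X⟧) ⊗ₜ[R] ((PowerSeries.X * p) • q) =
          (PowerSeries.X : R⟦X⟧) • (p ⊗ₜ[R] q - (1 : R⟦X⟧) ⊗ₜ[R] (p • q)) +
            D R Q ((1 : R⟦X⟧) ⊗ₜ[R] (p • q)) := by
        rw [D_apply, psi_tmul, smul_sub, TensorProduct.smul_tmul', TensorProduct.smul_tmul',
          smul_eq_mul, smul_eq_mul, mul_one, mul_smul]
        abel
      rw [this]
      exact add_mem (Submodule.smul_mem _ _ (hp q)) (LinearMap.mem_range_self _ _)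
    -- polynomials are good
    have hpoly : ∀ (f : Polynomial R) (q : Q),
        (f : R⟦X⟧) ⊗ₜ[R] q - (1 : R⟦X⟧) ⊗ₜ[R] ((f : R⟦X⟧) • q) ∈ LinearMap.range (D R Q) := by
      intro f
      induction f using Polynomial.induction_on with
      | C a =>
        intro q
        have : ((Polynomial.C a : Polynomial R) : R⟦X⟧) ⊗ₜ[R] q -
            (1 : R⟦X⟧) ⊗ₜ[R] (((Polynomial.C a : Polynomial R) : R⟦X⟧) • q) = 0 := by
          have hC : (PowerSeries.C a : R⟦X⟧) = a • (1 : R⟦X⟧) := by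
            rw [PowerSeries.smul_eq_C_mul, mul_one]
          rw [Polynomial.coe_C, hC, smul_assoc, one_smul, TensorProduct.smul_tmul, sub_self]
        rw [this]; exact zero_mem _
      | add f g hf hg =>
        intro q
        have : ((f + g : Polynomial R) : R⟦X⟧) ⊗ₜ[R] q -
            (1 : R⟦X⟧) ⊗ₜ[R] (((f + g : Polynomial R) : R⟦X⟧) • q) =
            ((f : R⟦X⟧) ⊗ₜ[R] q - (1 : R⟦X⟧) ⊗ₜ[R] ((f : R⟦X⟧) • q)) +
            ((g : R⟦X⟧) ⊗ₜ[R] q - (1 : R⟦X⟧) ⊗ₜ[R] ((g : R⟦X⟧) • q)) := by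
          rw [Polynomial.coe_add, add_tmul, add_smul, tmul_add]; abel
        rw [this]; exact add_mem (hf q) (hg q)
      | monomial n a h =>
        intro q
        have : ((Polynomial.C a * Polynomial.X ^ (n + 1) : Polynomial R) : R⟦X⟧) =
            PowerSeries.X * ((Polynomial.C a * Polynomial.X ^ n : Polynomial R) : R⟦X⟧) := by
          rw [pow_succ, ← mul_assoc, Polynomial.coe_mul, Polynomial.coe_X, mul_comm]
        rw [this]
        exact hX _ h q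
    intro p q
    have hp := PowerSeries.eq_X_pow_mul_shift_add_trunc M p
    set p' : R⟦X⟧ := PowerSeries.mk fun i => PowerSeries.coeff (i + M) p with hp'
    have h1 : (PowerSeries.X ^ M * p') ⊗ₜ[R] q - (1 : R⟦X⟧) ⊗ₜ[R] ((PowerSeries.X ^ M * p') • q) ∈
        LinearMap.range (D R Q) := by
      have : (PowerSeries.X ^ M * p') ⊗ₜ[R] q - (1 : R⟦X⟧) ⊗ₜ[R] ((PowerSeries.X ^ M * p') • q) =
          (PowerSeries.X : R⟦X⟧) ^ M • (p' ⊗ₜ[R] q) := by
        rw [mul_comm, mul_smul, hM, smul_zero, tmul_zero, sub_zero, TensorProduct.smul_tmul',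
          smul_eq_mul, mul_comm]
      rw [this]; exact X_pow_smul_mem M hM _
    have h2 := hpoly (PowerSeries.trunc M p) q
    have : p ⊗ₜ[R] q - (1 : R⟦X⟧) ⊗ₜ[R] (p • q) =
        ((PowerSeries.X ^ M * p') ⊗ₜ[R] q - (1 : R⟦X⟧) ⊗ₜ[R] ((PowerSeries.X ^ M * p') • q)) +
        (((PowerSeries.trunc M p : Polynomial R) : R⟦X⟧) ⊗ₜ[R] q -
          (1 : R⟦X⟧) ⊗ₜ[R] (((PowerSeries.trunc M p : Polynomial R) : R⟦X⟧) • q)) := by
      conv_lhs => rw [hp]
      rw [add_tmul, add_smul, tmul_add]; abel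
    rw [this]; exact add_mem h1 h2
  intro w hw
  have hall : ∀ w : R⟦X⟧ ⊗[R] Q, w - (1 : R⟦X⟧) ⊗ₜ[R] (mu R Q w) ∈ LinearMap.range (D R Q) := by
    intro w
    induction w with
    | zero => simp
    | tmul p q => rw [mu_tmul]; exact key p q
    | add x y hx hy =>
      have : x + y - (1 : R⟦X⟧) ⊗ₜ[R] (mu R Q (x + y)) =
          (x - (1 : R⟦X⟧) ⊗ₜ[R] (mu R Q x)) + (y - (1 : R⟦X⟧) ⊗ₜ[R] (mu R Q y)) := by
        rw [map_add, tmul_add]; abel
      rw [this]; exact add_mem hx hy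
  have := hall w
  rwa [LinearMap.mem_ker.mp hw, tmul_zero, sub_zero] at this

include hM in
/-- `D` is injective when `Q` is flat over `R`. -/
theorem D_injective [Module.Flat R Q] : Function.Injective (D R Q) := by
  rw [injective_iff_map_eq_zero]
  intro w hw
  let x : Module.End R⟦X⟧ (R⟦X⟧ ⊗[R] Q) := algebraMap R⟦X⟧ _ (PowerSeries.X : R⟦X⟧)
  have hD : D R Q = x - psi R Q := by
    ext p
    simp [D, x, Algebra.algebraMap_eq_smul_one]
  have hcomm : @Commute (Module.End R⟦X⟧ (R⟦X⟧ ⊗[R] Q)) Distrib.toMul x (psi R Q) :=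
    Algebra.commute_algebraMap_left (PowerSeries.X : R⟦X⟧) (psi R Q)
  have hgeom : (∑ i ∈ Finset.range M, x ^ i * psi R Q ^ (M - 1 - i)) * (x - psi R Q) =
      x ^ M - psi R Q ^ M :=
    Commute.geom_sum₂_mul (R := Module.End R⟦X⟧ (R⟦X⟧ ⊗[R] Q)) hcomm M
  have hg2 : x ^ M = (∑ i ∈ Finset.range M, x ^ i * psi R Q ^ (M - 1 - i)) * D R Q := by
    rw [hD, hgeom, psi_pow_eq_zero M hM]
    exact (sub_zero (x ^ M)).symm
  have h1 : (x ^ M) w = 0 := by
    rw [hg2, Module.End.mul_apply, hw, map_zero]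
  have h2 : (x ^ M) w = (PowerSeries.X : R⟦X⟧) ^ M • w := by
    rw [← map_pow]
    simp [Algebra.algebraMap_eq_smul_one]
  rw [h2] at h1
  have hnzd : (PowerSeries.X : R⟦X⟧) ^ M ∈ nonZeroDivisors R⟦X⟧ := by
    rw [mem_nonZeroDivisors_iff_right]
    intro y hy
    have : PowerSeries.X ^ M * y = PowerSeries.X ^ M * 0 := by rw [mul_zero, mul_comm, hy]
    exact PowerSeries.X_pow_mul_cancel this
  have hreg := Module.Flat.isSMulRegular_of_nonZeroDivisors (M := R⟦X⟧ ⊗[R] Q) hnzd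
  exact hreg (by simpa using h1)

end Resolution

section Retract

variable {P : Type*} [CommRing P] {F P₁ Q : Type*} [AddCommGroup F] [Module P F]
  [AddCommGroup P₁] [Module P P₁] [AddCommGroup Q] [Module P Q]

/-- Schanuel-type retraction: for surjections `π : F → Q`, `μ : P₁ → Q` from projective modules,
`ker π` is a retract of `F × ker μ`. -/
theorem exists_retract_ker [Module.Projective P F] [Module.Projective P P₁]
    (π : F →ₗ[P] Q) (μ : P₁ →ₗ[P] Q) (hπ : Function.Surjective π) (hμ : Function.Surjective μ) :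
    ∃ (i : LinearMap.ker π →ₗ[P] F × LinearMap.ker μ) (r : F × LinearMap.ker μ →ₗ[P] LinearMap.ker π),
      r ∘ₗ i = LinearMap.id := by
  obtain ⟨g, hg⟩ := Module.projective_lifting_property π μ hπ
  obtain ⟨h, hh⟩ := Module.projective_lifting_property μ π hμ
  -- `π ∘ g = μ`, `μ ∘ h = π`
  let i : LinearMap.ker π →ₗ[P] F × LinearMap.ker μ :=
    LinearMap.prod (LinearMap.ker π).subtype
      (LinearMap.codRestrict (LinearMap.ker μ) (-(h ∘ₗ (LinearMap.ker π).subtype)) (by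
        intro x
        rw [LinearMap.mem_ker, LinearMap.neg_apply, map_neg, LinearMap.comp_apply,
          ← LinearMap.comp_apply μ h, hh]
        simp))
  let r₀ : F × LinearMap.ker μ →ₗ[P] F :=
    LinearMap.fst P F _ - g ∘ₗ ((LinearMap.ker μ).subtype ∘ₗ LinearMap.snd P F _ + h ∘ₗ LinearMap.fst P F _)
  have hr₀ : ∀ z, r₀ z ∈ LinearMap.ker π := by
    rintro ⟨f, κ⟩
    have h1 : π (g (κ.1 + h f)) = μ (κ.1 + h f) := by rw [← LinearMap.comp_apply, hg]
    have h2 : μ (h f) = π f := by rw [← LinearMap.comp_apply, hh]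
    simp only [r₀, LinearMap.mem_ker, LinearMap.sub_apply, LinearMap.fst_apply, LinearMap.comp_apply,
      LinearMap.add_apply, LinearMap.snd_apply, Submodule.subtype_apply, map_sub]
    rw [h1, map_add, h2, LinearMap.mem_ker.mp κ.2, zero_add, sub_self]
  refine ⟨i, LinearMap.codRestrict _ r₀ hr₀, ?_⟩
  ext x
  simp [i, r₀]

end Retract

end Groth.Agent.Lib.Helper98.PowerSeriesLatticeProj
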