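import Mathlib
import Groth.Agent.Lib.Helper98.PowerSeriesLatticeProjA

set_option autoImplicit false
set_option linter.style.haveILetI false
universe u

namespace Groth.Agent.Lib.Helper98.PowerSeriesLatticeProj

open TensorProduct PowerSeries

section Trunc

variable {R : Type u} [CommRing R] {Q : Type u} [AddCommGroup Q] [Module R Q] [Module R⟦X⟧ Q]
  [IsScalarTower R R⟦X⟧ Q]

/-- On an element killed by `X ^ M`, a power series acts through its truncation. -/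
theorem smul_eq_trunc_smul (M : ℕ) (z : Q) (hz : (PowerSeries.X : R⟦X⟧) ^ M • z = 0) (p : R⟦X⟧) :
    p • z = ((PowerSeries.trunc M p : Polynomial R) : R⟦X⟧) • z := by
  conv_lhs => rw [PowerSeries.eq_shift_mul_X_pow_add_trunc M p]
  rw [add_smul, mul_smul, hz, smul_zero, zero_add]

theorem smul_eq_sum (M : ℕ) (z : Q) (hz : (PowerSeries.X : R⟦X⟧) ^ M • z = 0) (p : R⟦X⟧) :
    p • z = ∑ i ∈ Finset.range M, (PowerSeries.coeff i p) • ((PowerSeries.X : R⟦X⟧) ^ i • z) := by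
  rw [smul_eq_trunc_smul M z hz p, PowerSeries.trunc_apply, ← Polynomial.coeToPowerSeries.ringHom_apply,
    map_sum, Finset.sum_smul, Nat.Ico_zero_eq_range]
  refine Finset.sum_congr rfl fun i _ => ?_
  rw [Polynomial.coeToPowerSeries.ringHom_apply, Polynomial.coe_monomial,
    PowerSeries.monomial_eq_C_mul_X_pow, mul_smul]
  have hC : (PowerSeries.C (PowerSeries.coeff i p) : R⟦X⟧) = (PowerSeries.coeff i p) • (1 : R⟦X⟧) := by
    rw [PowerSeries.smul_eq_C_mul, mul_one]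
  rw [hC, smul_assoc, one_smul]

theorem finite_of_X_pow_smul_eq_zero (M : ℕ) (hM : ∀ q : Q, (PowerSeries.X : R⟦X⟧) ^ M • q = 0)
    [Module.Finite R⟦X⟧ Q] : Module.Finite R Q := by
  obtain ⟨S, hS⟩ := (Module.finite_def.1 ‹_› : (⊤ : Submodule R⟦X⟧ Q).FG)
  refine Module.finite_def.2 (Submodule.fg_def.2
    ⟨(fun p : ℕ × Q => (PowerSeries.X : R⟦X⟧) ^ p.1 • p.2) ''
      ((Finset.range M : Set ℕ) ×ˢ (S : Set Q)), ?_, ?_⟩)
  · exact ((Finset.finite_toSet _).prod (Finset.finite_toSet _)).image _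
  · rw [eq_top_iff]
    intro q _
    have hq : q ∈ Submodule.span R⟦X⟧ (S : Set Q) := hS ▸ Submodule.mem_top
    obtain ⟨f, -, rfl⟩ := Submodule.mem_span_finset.1 hq
    refine Submodule.sum_mem _ fun s hs => ?_
    rw [smul_eq_sum M s (hM s) (f s)]
    exact Submodule.sum_mem _ fun i hi => Submodule.smul_mem _ _
      (Submodule.subset_span ⟨(i, s), ⟨hi, hs⟩, rfl⟩)

end Trunc

section Main

variable {R : Type u} [CommRing R] {F : Type u} [AddCommGroup F] [Module R F] [Module R⟦X⟧ F]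
  [IsScalarTower R R⟦X⟧ F]


theorem finite_projective_of_quotient_projective [Module.Finite R⟦X⟧ F] [Module.Projective R⟦X⟧ F]
    (Λ : Submodule R⟦X⟧ F) (M : ℕ) (hΛ : ∀ v : F, (PowerSeries.X : R⟦X⟧) ^ M • v ∈ Λ)
    (hproj : Module.Projective R (F ⧸ Λ)) :
    Module.Finite R⟦X⟧ Λ ∧ Module.Projective R⟦X⟧ Λ := by
  have hM : ∀ q : F ⧸ Λ, (PowerSeries.X : R⟦X⟧) ^ M • q = 0 := by
    intro q
    obtain ⟨v, rfl⟩ := Submodule.Quotient.mk_surjective Λ q
    rw [← Submodule.Quotient.mk_smul, Submodule.Quotient.mk_eq_zero]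
    exact hΛ v
  have hfin : Module.Finite R (F ⧸ Λ) := finite_of_X_pow_smul_eq_zero M hM
  have hflat : Module.Flat R (F ⧸ Λ) := inferInstance
  -- the resolution
  have hDinj := D_injective (R := R) (Q := F ⧸ Λ) M hM
  have hker : LinearMap.ker (mu R (F ⧸ Λ)) = LinearMap.range (D R (F ⧸ Λ)) := by
    refine le_antisymm (ker_mu_le_range_D M hM) ?_
    rintro _ ⟨w, rfl⟩
    rw [LinearMap.mem_ker, ← LinearMap.comp_apply, mu_comp_D, LinearMap.zero_apply]
  let e : (R⟦X⟧ ⊗[R] (F ⧸ Λ)) ≃ₗ[R⟦X⟧] LinearMap.ker (mu R (F ⧸ Λ)) :=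
    (LinearEquiv.ofInjective (D R (F ⧸ Λ)) hDinj).trans (LinearEquiv.ofEq _ _ hker.symm)
  have hP₁proj : Module.Projective R⟦X⟧ (R⟦X⟧ ⊗[R] (F ⧸ Λ)) := inferInstance
  have hP₁fin : Module.Finite R⟦X⟧ (R⟦X⟧ ⊗[R] (F ⧸ Λ)) := inferInstance
  obtain ⟨i, r, hri⟩ := exists_retract_ker (Λ.mkQ) (mu R (F ⧸ Λ)) (Submodule.mkQ_surjective Λ)
    mu_surjective
  -- transport to `Λ`
  let eΛ : LinearMap.ker Λ.mkQ ≃ₗ[R⟦X⟧] Λ := LinearEquiv.ofEq _ _ (Submodule.ker_mkQ Λ)
  have hKfin : Module.Finite R⟦X⟧ (LinearMap.ker (mu R (F ⧸ Λ))) := Module.Finite.equiv e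
  have hKproj : Module.Projective R⟦X⟧ (LinearMap.ker (mu R (F ⧸ Λ))) :=
    Module.Projective.of_equiv e
  have hrsurj : Function.Surjective r := fun x => ⟨i x, by rw [← LinearMap.comp_apply, hri]; rfl⟩
  have h1 : Module.Finite R⟦X⟧ (LinearMap.ker Λ.mkQ) := Module.Finite.of_surjective r hrsurj
  have h2 : Module.Projective R⟦X⟧ (LinearMap.ker Λ.mkQ) := Module.Projective.of_split i r hri
  exact ⟨Module.Finite.equiv eΛ, Module.Projective.of_equiv eΛ⟩

end Main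

end Groth.Agent.Lib.Helper98.PowerSeriesLatticeProj
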