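import Mathlib

set_option autoImplicit false
set_option linter.style.haveILetI false
universe u

namespace Groth.Agent.Lib.Helper98.PowerSeriesLatticeProj

open PowerSeries

section Coeff

variable {R : Type u} [CommRing R]

/-- The ideal of power series all of whose coefficients lie in `I`. -/
noncomputable def coeffIdeal (I : Ideal R) : Ideal R⟦X⟧ :=
  RingHom.ker (PowerSeries.map (Ideal.Quotient.mk I))

theorem mem_coeffIdeal {I : Ideal R} {p : R⟦X⟧} :
    p ∈ coeffIdeal I ↔ ∀ i, PowerSeries.coeff i p ∈ I := by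
  rw [coeffIdeal, RingHom.mem_ker, PowerSeries.ext_iff]
  simp [Ideal.Quotient.eq_zero_iff_mem]

theorem smul_one_mem_coeffIdeal {I : Ideal R} {a : R} (ha : a ∈ I) :
    a • (1 : R⟦X⟧) ∈ coeffIdeal I := by
  rw [mem_coeffIdeal]
  intro i
  rw [PowerSeries.coeff_smul]
  exact I.mul_mem_right _ ha

theorem X_mul_mem_coeffIdeal {I : Ideal R} {p : R⟦X⟧}
    (h : (PowerSeries.X : R⟦X⟧) * p ∈ coeffIdeal I) : p ∈ coeffIdeal I := by
  rw [mem_coeffIdeal] at h ⊢
  intro i
  have := h (i + 1)
  rwa [PowerSeries.coeff_succ_X_mul] at this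

theorem X_pow_mul_mem_coeffIdeal {I : Ideal R} (M : ℕ) {p : R⟦X⟧}
    (h : (PowerSeries.X : R⟦X⟧) ^ M * p ∈ coeffIdeal I) : p ∈ coeffIdeal I := by
  induction M with
  | zero => simpa using h
  | succ M ih =>
    apply ih
    apply X_mul_mem_coeffIdeal
    rwa [← mul_assoc, ← pow_succ']

end Coeff

section Proj

/-- Regularity modulo `J` passes to projective modules. -/
theorem mem_smul_top_of_smul_mem {A : Type*} [CommRing A] {N : Type*} [AddCommGroup N] [Module A N]
    [Module.Projective A N] (J : Ideal A) (x : A) (hx : ∀ a, x * a ∈ J → a ∈ J) (n : N)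
    (hn : x • n ∈ J • (⊤ : Submodule A N)) : n ∈ J • (⊤ : Submodule A N) := by
  obtain ⟨s, hs⟩ := Module.projective_def'.1 ‹Module.Projective A N›
  have hcoord : ∀ y : N, (s n) y ∈ J := by
    intro y
    apply hx
    have hle : ∀ z ∈ J • (⊤ : Submodule A N), (Finsupp.lapply y ∘ₗ s) z ∈ J := by
      intro z hz
      refine Submodule.smul_induction_on hz (fun r hr m _ => ?_) (fun a b ha hb => ?_)
      · rw [map_smul, smul_eq_mul]
        exact J.mul_mem_right _ hr
      · rw [map_add]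
        exact J.add_mem ha hb
    have h1 : (Finsupp.lapply y ∘ₗ s) (x • n) ∈ J := hle _ hn
    simpa using h1
  have : n = Finsupp.linearCombination A id (s n) := (LinearMap.congr_fun hs n).symm
  rw [this, Finsupp.linearCombination_apply]
  exact Submodule.sum_mem _ fun y _ => Submodule.smul_mem_smul (hcoord y) trivial

end Proj

section Trunc0

variable {R : Type u} [CommRing R] {Q : Type*} [AddCommGroup Q] [Module R Q] [Module R⟦X⟧ Q]
  [IsScalarTower R R⟦X⟧ Q]

theorem coe_trunc_smul (M : ℕ) (z : Q) (p : R⟦X⟧) :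
    ((PowerSeries.trunc M p : Polynomial R) : R⟦X⟧) • z =
      ∑ i ∈ Finset.range M, (PowerSeries.coeff i p) • ((PowerSeries.X : R⟦X⟧) ^ i • z) := by
  rw [PowerSeries.trunc_apply, ← Polynomial.coeToPowerSeries.ringHom_apply,
    map_sum, Finset.sum_smul, Nat.Ico_zero_eq_range]
  refine Finset.sum_congr rfl fun i _ => ?_
  rw [Polynomial.coeToPowerSeries.ringHom_apply, Polynomial.coe_monomial,
    PowerSeries.monomial_eq_C_mul_X_pow, mul_smul]
  have hC : (PowerSeries.C (PowerSeries.coeff i p) : R⟦X⟧) = (PowerSeries.coeff i p) • (1 : R⟦X⟧) := by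
    rw [PowerSeries.smul_eq_C_mul, mul_one]
  rw [hC, smul_assoc, one_smul]

theorem smul_eq_sum_add (M : ℕ) (z : Q) (p : R⟦X⟧) :
    p • z = ∑ i ∈ Finset.range M, (PowerSeries.coeff i p) • ((PowerSeries.X : R⟦X⟧) ^ i • z) +
      (PowerSeries.X : R⟦X⟧) ^ M • ((PowerSeries.mk fun i => PowerSeries.coeff (i + M) p) • z) := by
  conv_lhs => rw [PowerSeries.eq_X_pow_mul_shift_add_trunc M p]
  rw [add_smul, mul_smul, coe_trunc_smul, add_comm]

end Trunc0

section Tau

variable (R : Type u) [CommRing R] (ι : Type*) (M : ℕ)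

/-- Truncation of coordinates. -/
noncomputable def tau : (ι → R⟦X⟧) →ₗ[R] (ι → Fin M → R) where
  toFun v j m := PowerSeries.coeff (m : ℕ) (v j)
  map_add' := by intros; ext; simp
  map_smul' := by intros; ext; simp

/-- A section of `tau`. -/
noncomputable def sec : (ι → Fin M → R) →ₗ[R] (ι → R⟦X⟧) where
  toFun c j := PowerSeries.mk fun m => if hm : m < M then c j ⟨m, hm⟩ else 0
  map_add' := by
    intros; ext j m
    simp only [Pi.add_apply, map_add, PowerSeries.coeff_mk]
    split_ifs <;> simp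
  map_smul' := by
    intros; ext j m
    simp only [Pi.smul_apply, PowerSeries.coeff_smul, PowerSeries.coeff_mk, RingHom.id_apply,
      smul_eq_mul]
    split_ifs <;> simp

variable {R ι M}

theorem tau_sec (c : ι → Fin M → R) : tau R ι M (sec R ι M c) = c := by
  ext j m
  simp [tau, sec]

theorem tau_X_pow_smul (w : ι → R⟦X⟧) : tau R ι M ((PowerSeries.X : R⟦X⟧) ^ M • w) = 0 := by
  ext j m
  simp only [tau, LinearMap.coe_mk, AddHom.coe_mk, Pi.smul_apply, smul_eq_mul, Pi.zero_apply]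
  rw [PowerSeries.coeff_X_pow_mul', if_neg (by have := m.2; omega)]

theorem exists_of_tau_eq_zero (v : ι → R⟦X⟧) (hv : tau R ι M v = 0) :
    ∃ w : ι → R⟦X⟧, v = (PowerSeries.X : R⟦X⟧) ^ M • w := by
  have : ∀ j, (PowerSeries.X : R⟦X⟧) ^ M ∣ v j := by
    intro j
    rw [PowerSeries.X_pow_dvd_iff]
    intro m hm
    have := congrFun (congrFun hv j) ⟨m, hm⟩
    simpa [tau] using this
  choose w hw using this
  exact ⟨w, funext fun j => by simp [hw j]⟩

theorem tau_smul (p : R⟦X⟧) (v : ι → R⟦X⟧) :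
    tau R ι M (p • v) = ∑ m ∈ Finset.range M,
      (PowerSeries.coeff m p) • tau R ι M ((PowerSeries.X : R⟦X⟧) ^ m • v) := by
  conv_lhs => rw [smul_eq_sum_add M v p]
  rw [map_add, tau_X_pow_smul, add_zero, map_sum]
  simp_rw [map_smul]

theorem sub_sec_tau (v : ι → R⟦X⟧) :
    ∃ w : ι → R⟦X⟧, v - sec R ι M (tau R ι M v) = (PowerSeries.X : R⟦X⟧) ^ M • w := by
  apply exists_of_tau_eq_zero
  rw [map_sub, tau_sec, sub_self]

end Tau

end Groth.Agent.Lib.Helper98.PowerSeriesLatticeProj
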