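import Mathlib
import Groth.Agent.Lib.Helper98.PowerSeriesLatticeProjC

set_option autoImplicit false
set_option linter.style.haveILetI false
universe u

namespace Groth.Agent.Lib.Helper98.PowerSeriesLatticeProj

open PowerSeries

section Main2

variable {R : Type u} [CommRing R] {ι : Type*} [Fintype ι] {M : ℕ}
  (Λ : Submodule R⟦X⟧ (ι → R⟦X⟧))
  (hΛ : ∀ v : ι → R⟦X⟧, (PowerSeries.X : R⟦X⟧) ^ M • v ∈ Λ)

include hΛ in
theorem mk_sec_tau (v : ι → R⟦X⟧) :
    (Submodule.Quotient.mk (sec R ι M (tau R ι M v)) : (ι → R⟦X⟧) ⧸ Λ) =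
      Submodule.Quotient.mk v := by
  obtain ⟨w, hw⟩ := sub_sec_tau (M := M) v
  rw [eq_comm, Submodule.Quotient.eq, hw]
  exact hΛ w

include hΛ in
/-- Key A: `Λ ∩ J F ⊆ J Λ`. -/
theorem mem_smul_of_mem_smul_top [Module.Projective R⟦X⟧ Λ] (I : Ideal R) (v : ι → R⟦X⟧)
    (hv : v ∈ Λ) (hv' : v ∈ coeffIdeal I • (⊤ : Submodule R⟦X⟧ (ι → R⟦X⟧))) :
    v ∈ coeffIdeal I • Λ := by
  -- multiplication by `X ^ M` as a map `F → Λ`
  let ξ : (ι → R⟦X⟧) →ₗ[R⟦X⟧] Λ :=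
    LinearMap.codRestrict Λ (LinearMap.lsmul R⟦X⟧ (ι → R⟦X⟧) ((PowerSeries.X : R⟦X⟧) ^ M)) hΛ
  have h1 : ξ v ∈ coeffIdeal I • (⊤ : Submodule R⟦X⟧ Λ) := by
    refine Submodule.smul_induction_on hv' (fun r hr m _ => ?_) (fun a b ha hb => ?_)
    · rw [map_smul]
      exact Submodule.smul_mem_smul hr trivial
    · rw [map_add]
      exact add_mem ha hb
  have h2 : ξ v = (PowerSeries.X : R⟦X⟧) ^ M • (⟨v, hv⟩ : Λ) := by
    apply Subtype.ext
    rfl
  rw [h2] at h1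
  have h3 := mem_smul_top_of_smul_mem (coeffIdeal I) ((PowerSeries.X : R⟦X⟧) ^ M)
    (fun a ha => X_pow_mul_mem_coeffIdeal M ha) (⟨v, hv⟩ : Λ) h1
  have h4 : Λ.subtype ⟨v, hv⟩ ∈ Submodule.map Λ.subtype (coeffIdeal I • (⊤ : Submodule R⟦X⟧ Λ)) :=
    ⟨_, h3, rfl⟩
  rwa [Submodule.map_smul'', Submodule.map_subtype_top] at h4

/-- Key B. -/
theorem exists_tau_eq_sum {l : ℕ} (f : Fin l → R) (v : ι → R⟦X⟧)
    (hv : v ∈ coeffIdeal (Ideal.span (Set.range f)) • Λ) :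
    ∃ μ : Fin l → (ι → R⟦X⟧), (∀ i, μ i ∈ Λ) ∧
      tau R ι M v = ∑ i, f i • tau R ι M (μ i) := by
  refine Submodule.smul_induction_on hv (fun p hp m hm => ?_) (fun a b ha hb => ?_)
  · rw [mem_coeffIdeal] at hp
    have hc : ∀ k, ∃ c : Fin l → R, ∑ i, c i * f i = PowerSeries.coeff k p := fun k =>
      Ideal.mem_span_range_iff_exists_fun.1 (hp k)
    choose c hc using hc
    refine ⟨fun i => ∑ k ∈ Finset.range M, (c k i) • ((PowerSeries.X : R⟦X⟧) ^ k • m),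
      fun i => ?_, ?_⟩
    · refine Submodule.sum_mem _ fun k _ => ?_
      rw [← smul_one_smul R⟦X⟧ (c k i)]
      exact Λ.smul_mem _ (Λ.smul_mem _ hm)
    · rw [tau_smul]
      simp_rw [map_sum, map_smul, Finset.smul_sum]
      rw [Finset.sum_comm]
      refine Finset.sum_congr rfl fun k _ => ?_
      rw [← hc k, Finset.sum_smul]
      refine Finset.sum_congr rfl fun i _ => ?_
      rw [smul_smul, mul_comm]
  · obtain ⟨μa, hμa, ha'⟩ := ha
    obtain ⟨μb, hμb, hb'⟩ := hb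
    refine ⟨fun i => μa i + μb i, fun i => Λ.add_mem (hμa i) (hμb i), ?_⟩
    rw [map_add, ha', hb', ← Finset.sum_add_distrib]
    refine Finset.sum_congr rfl fun i _ => ?_
    rw [map_add, smul_add]

include hΛ in
theorem flat_quotient [Module.Projective R⟦X⟧ Λ] : Module.Flat R ((ι → R⟦X⟧) ⧸ Λ) := by
  apply Module.Flat.of_forall_isTrivialRelation
  intro l f x hx
  have hsurj : ∀ i, ∃ v : ι → R⟦X⟧, Submodule.Quotient.mk v = x i := fun i =>
    Submodule.Quotient.mk_surjective Λ (x i)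
  choose v hv using hsurj
  -- the combination lies in `Λ`
  let π : (ι → R⟦X⟧) →ₗ[R] (ι → R⟦X⟧) ⧸ Λ := Λ.mkQ.restrictScalars R
  have hπ : ∀ u, π u = Submodule.Quotient.mk u := fun _ => rfl
  have hmem : ∑ i, f i • v i ∈ Λ := by
    rw [← Submodule.Quotient.mk_eq_zero, ← hπ, map_sum]
    simp_rw [map_smul, hπ, hv]
    exact hx
  have hmem' : ∑ i, f i • v i ∈
      coeffIdeal (Ideal.span (Set.range f)) • (⊤ : Submodule R⟦X⟧ (ι → R⟦X⟧)) := by
    refine Submodule.sum_mem _ fun i _ => ?_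
    rw [← smul_one_smul R⟦X⟧ (f i)]
    exact Submodule.smul_mem_smul
      (smul_one_mem_coeffIdeal (Ideal.subset_span ⟨i, rfl⟩)) trivial
  have h1 := mem_smul_of_mem_smul_top Λ hΛ _ _ hmem hmem'
  obtain ⟨μ, hμ, hμ'⟩ := exists_tau_eq_sum (M := M) Λ f _ h1
  have hrel : ∑ i, f i • (tau R ι M (v i) - tau R ι M (μ i)) = 0 := by
    simp_rw [smul_sub]
    rw [Finset.sum_sub_distrib, ← hμ', map_sum]
    simp_rw [map_smul]
    exact sub_self _
  obtain ⟨k, a, y, hy, ha⟩ := Module.Flat.isTrivialRelation_of_sum_smul_eq_zero hrel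
  replace hy : ∀ i, tau R ι M (v i) - tau R ι M (μ i) = ∑ j, a i j • y j := hy
  refine ⟨k, a, fun j => Submodule.Quotient.mk (sec R ι M (y j)), fun i => ?_, ha⟩
  -- `v i - μ i - Σ a i j • sec (y j)` is killed by `tau`
  have hz : tau R ι M (v i - μ i - ∑ j, a i j • sec R ι M (y j)) = 0 := by
    rw [map_sub, map_sub, hy i, map_sum]
    simp_rw [map_smul, tau_sec]
    exact sub_self _
  obtain ⟨w, hw⟩ := exists_of_tau_eq_zero _ hz
  have hmemΛ : v i - ∑ j, a i j • sec R ι M (y j) ∈ Λ := by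
    have : v i - ∑ j, a i j • sec R ι M (y j) =
        μ i + (PowerSeries.X : R⟦X⟧) ^ M • w := by
      rw [← hw]; abel
    rw [this]
    exact Λ.add_mem (hμ i) (hΛ w)
  rw [← hv i]
  simp_rw [← hπ, ← map_smul]
  rw [← map_sum, hπ, hπ, Submodule.Quotient.eq]
  simpa only [map_smul] using hmemΛ

include hΛ in
theorem finitePresentation_quotient [Module.Finite R⟦X⟧ Λ] :
    Module.FinitePresentation R ((ι → R⟦X⟧) ⧸ Λ) := by
  let π : (ι → R⟦X⟧) →ₗ[R] (ι → R⟦X⟧) ⧸ Λ := Λ.mkQ.restrictScalars R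
  let g : (ι → Fin M → R) →ₗ[R] (ι → R⟦X⟧) ⧸ Λ := π ∘ₗ sec R ι M
  have hgτ : ∀ v, g (tau R ι M v) = Submodule.Quotient.mk v := fun v => mk_sec_tau Λ hΛ v
  have hg : Function.Surjective g := fun q => by
    obtain ⟨v, rfl⟩ := Submodule.Quotient.mk_surjective Λ q
    exact ⟨tau R ι M v, hgτ v⟩
  refine Module.finitePresentation_of_surjective g hg ?_
  obtain ⟨S, hS⟩ := (Module.Finite.iff_fg.1 ‹Module.Finite R⟦X⟧ Λ› : Λ.FG)
  refine Submodule.fg_def.2
    ⟨(fun p : ℕ × (ι → R⟦X⟧) => tau R ι M ((PowerSeries.X : R⟦X⟧) ^ p.1 • p.2)) ''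
      ((Finset.range M : Set ℕ) ×ˢ (S : Set (ι → R⟦X⟧))), ?_, ?_⟩
  · exact ((Finset.finite_toSet _).prod (Finset.finite_toSet _)).image _
  · apply le_antisymm
    · rw [Submodule.span_le]
      rintro _ ⟨⟨m, s⟩, ⟨-, hs⟩, rfl⟩
      rw [SetLike.mem_coe, LinearMap.mem_ker, hgτ, Submodule.Quotient.mk_eq_zero]
      exact Λ.smul_mem _ (hS ▸ Submodule.subset_span hs)
    · intro c hc
      have hc' : sec R ι M c ∈ Λ := by
        rw [LinearMap.mem_ker] at hc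
        exact (Submodule.Quotient.mk_eq_zero Λ).1 hc
      rw [← hS] at hc'
      obtain ⟨φ, -, hφ⟩ := Submodule.mem_span_finset.1 hc'
      rw [← tau_sec c, ← hφ, map_sum]
      refine Submodule.sum_mem _ fun s hs => ?_
      rw [tau_smul]
      exact Submodule.sum_mem _ fun m hm => Submodule.smul_mem _ _
        (Submodule.subset_span ⟨(m, s), ⟨hm, hs⟩, rfl⟩)

include hΛ in
theorem projective_quotient_of_finite_projective [Module.Finite R⟦X⟧ Λ]
    [Module.Projective R⟦X⟧ Λ] : Module.Projective R ((ι → R⟦X⟧) ⧸ Λ) := by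
  have := flat_quotient Λ hΛ
  have := finitePresentation_quotient Λ hΛ
  exact Module.Flat.projective_of_finitePresentation

end Main2

end Groth.Agent.Lib.Helper98.PowerSeriesLatticeProj
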