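import Mathlib

/-!
# Semilocal Prüfer domains of finite Krull dimension have finite spectrum (helper98)
-/

set_option autoImplicit false
universe u

namespace Groth.Agent.Lib.Helper98

section

variable (R : Type u) [CommRing R] [IsDomain R]

/-- primes below a prime `M` with `R_M` a valuation ring are totally ordered -/
theorem prime_le_total_of_valuationRing_localization (M : Ideal R) [M.IsPrime]
    (hv : ValuationRing (Localization.AtPrime M)) (p q : Ideal R) (hp : p.IsPrime) (hq : q.IsPrime)
    (hpM : p ≤ M) (hqM : q ≤ M) : p ≤ q ∨ q ≤ p := by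
  have ht := (ValuationRing.iff_ideal_total.mp hv).total
    (p.map (algebraMap R (Localization.AtPrime M))) (q.map (algebraMap R (Localization.AtPrime M)))
  have hpd : Disjoint (M.primeCompl : Set R) (p : Set R) := by
    rw [Set.disjoint_left]
    intro y hy hyp
    exact hy (hpM hyp)
  have hqd : Disjoint (M.primeCompl : Set R) (q : Set R) := by
    rw [Set.disjoint_left]
    intro y hy hyq
    exact hy (hqM hyq)
  have hcp := IsLocalization.comap_map_of_isPrime_disjoint M.primeCompl
    (Localization.AtPrime M) hp hpd
  have hcq := IsLocalization.comap_map_of_isPrime_disjoint M.primeCompl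
    (Localization.AtPrime M) hq hqd
  rw [Ideal.under_def] at hcp hcq
  rcases ht with h | h
  · left
    have := Ideal.comap_mono (f := algebraMap R (Localization.AtPrime M)) h
    rwa [hcp, hcq] at this
  · right
    have := Ideal.comap_mono (f := algebraMap R (Localization.AtPrime M)) h
    rwa [hcp, hcq] at this

theorem finite_setOf_isPrime_of_semilocal_prufer
    (hR : ∀ (p : Ideal R) [p.IsPrime], ValuationRing (Localization.AtPrime p))
    (hfin : Finite (MaximalSpectrum R)) (hdim : ringKrullDim R < ⊤) :
    {p : Ideal R | p.IsPrime}.Finite := by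
  classical
  obtain ⟨d, hd⟩ : ∃ d : ℕ, ringKrullDim R ≤ d := by
    have h0 : (0 : WithBot ℕ∞) ≤ ringKrullDim R := ringKrullDim_nonneg_of_nontrivial
    generalize ringKrullDim R = a at hdim h0
    induction a with
    | bot => simp at h0
    | coe a =>
      induction a with
      | top => exact absurd hdim (lt_irrefl _)
      | coe a => exact ⟨a, le_rfl⟩
  have hht : ∀ (p : Ideal R), p.IsPrime → p.height ≤ d := by
    intro p hp
    have := (Ideal.height_le_ringKrullDim_of_ne_top hp.ne_top).trans hd
    exact_mod_cast this
  have hinj : ∀ (M : Ideal R) [M.IsMaximal] (p q : Ideal R), p.IsPrime → q.IsPrime → p ≤ M → q ≤ M →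
      p.height.toNat = q.height.toNat → p = q := by
    intro M hM p q hp hq hpM hqM hpq
    have hpf : p.height ≠ ⊤ := ne_top_of_le_ne_top (ENat.coe_ne_top d) (hht p hp)
    have hqf : q.height ≠ ⊤ := ne_top_of_le_ne_top (ENat.coe_ne_top d) (hht q hq)
    have heq : p.height = q.height := by
      rw [← ENat.coe_toNat hpf, ← ENat.coe_toNat hqf, hpq]
    haveI := hp
    haveI := hq
    haveI : p.FiniteHeight := ⟨Or.inr hpf⟩
    haveI : q.FiniteHeight := ⟨Or.inr hqf⟩
    rcases prime_le_total_of_valuationRing_localization R M (hR M) p q hp hq hpM hqM with h | h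
    · by_contra hne
      have hlt : p < q := lt_of_le_of_ne h hne
      have := Ideal.height_strict_mono_of_isPrime hlt
      rw [heq] at this
      exact lt_irrefl _ this
    · by_contra hne
      have hlt : q < p := lt_of_le_of_ne h (Ne.symm hne)
      have := Ideal.height_strict_mono_of_isPrime hlt
      rw [heq] at this
      exact lt_irrefl _ this
  have hfinM : ∀ (M : Ideal R) [M.IsMaximal], {p : Ideal R | p.IsPrime ∧ p ≤ M}.Finite := by
    intro M hM
    refine Set.Finite.of_injOn (f := fun p : Ideal R => p.height.toNat)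
      (t := ((Finset.range (d + 1) : Finset ℕ) : Set ℕ)) ?_ ?_ (Finset.finite_toSet _)
    · rintro p ⟨hp, -⟩
      simp only [Finset.coe_range, Set.mem_Iio]
      have := hht p hp
      have h2 : p.height.toNat ≤ d := by
        have hpf : p.height ≠ ⊤ := ne_top_of_le_ne_top (ENat.coe_ne_top d) this
        rw [← ENat.coe_toNat hpf] at this
        exact_mod_cast this
      omega
    · rintro p ⟨hp, hpM⟩ q ⟨hq, hqM⟩ hpq
      exact hinj M p q hp hq hpM hqM hpq
  have hsub : {p : Ideal R | p.IsPrime} ⊆
      ⋃ M : MaximalSpectrum R, {p : Ideal R | p.IsPrime ∧ p ≤ M.asIdeal} := by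
    intro p hp
    obtain ⟨M, hM, hpM⟩ := Ideal.exists_le_maximal p (Ideal.IsPrime.ne_top hp)
    exact Set.mem_iUnion.mpr ⟨⟨M, hM⟩, hp, hpM⟩
  haveI := hfin
  refine (Set.finite_iUnion (fun M : MaximalSpectrum R => ?_)).subset hsub
  haveI := M.isMaximal
  exact hfinM M.asIdeal

theorem finite_primeSpectrum_of_semilocal_prufer
    (hR : ∀ (p : Ideal R) [p.IsPrime], ValuationRing (Localization.AtPrime p))
    (hfin : Finite (MaximalSpectrum R)) (hdim : ringKrullDim R < ⊤) :
    Finite (PrimeSpectrum R) := by
  have h := finite_setOf_isPrime_of_semilocal_prufer R hR hfin hdim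
  haveI : Finite {p : Ideal R | p.IsPrime} := h.to_subtype
  exact Finite.of_injective (fun p : PrimeSpectrum R => (⟨p.asIdeal, p.isPrime⟩ : {p : Ideal R | p.IsPrime}))
    (fun p q hpq => PrimeSpectrum.ext (congrArg Subtype.val hpq))

end

section noeth

/-- A finite type algebra over a ring with finite spectrum has Noetherian spectrum. -/
theorem noetherianSpace_of_finiteType_of_finite_primeSpectrum (R : Type u) [CommRing R]
    [Finite (PrimeSpectrum R)] (S : Type u) [CommRing S] [Algebra R S] [Algebra.FiniteType R S] :
    TopologicalSpace.NoetherianSpace (PrimeSpectrum S) := by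
  have key : ∀ p : PrimeSpectrum R, TopologicalSpace.NoetherianSpace
      (PrimeSpectrum.comap (algebraMap R S) ⁻¹' {p}) := by
    intro p
    rw [TopologicalSpace.noetherianSpace_iff_of_homeomorph
      (PrimeSpectrum.preimageHomeomorphFiber R S p)]
    haveI : Algebra.FiniteType p.asIdeal.ResidueField (p.asIdeal.Fiber S) :=
      inferInstanceAs (Algebra.FiniteType p.asIdeal.ResidueField
        (TensorProduct R p.asIdeal.ResidueField S))
    haveI : IsNoetherianRing (p.asIdeal.Fiber S) :=
      Algebra.FiniteType.isNoetherianRing p.asIdeal.ResidueField _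
    infer_instance
  have hU : (⋃ p : PrimeSpectrum R, PrimeSpectrum.comap (algebraMap R S) ⁻¹' {p}) = Set.univ := by
    ext q
    simp
  have := TopologicalSpace.NoetherianSpace.iUnion
    (fun p : PrimeSpectrum R => PrimeSpectrum.comap (algebraMap R S) ⁻¹' {p})
  rw [hU] at this
  exact TopologicalSpace.noetherian_univ_iff.mp this

end noeth

end Groth.Agent.Lib.Helper98
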