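import Mathlib
import Groth.Agent.Lib.Helper48.ParafactorialAlg3
import Groth.Agent.Lib.Helper3.IntegralHensSplit

set_option autoImplicit false
set_option linter.style.haveILetI false
set_option linter.unusedSectionVars false
universe u

namespace Groth.Agent.Lib.Helper98.PunctConn

open IsLocalRing

section Decomp

variable (R C : Type u) [CommRing R] [IsLocalRing R] [IsNoetherianRing R]
  [CommRing C] [IsLocalRing C] [Algebra R C] [IsLocalHom (algebraMap R C)] [Module.Flat R C]
  (hm : (maximalIdeal R).map (algebraMap R C) = maximalIdeal C)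
  (hk : ∀ c : C, ∃ r : R, c - algebraMap R C r ∈ maximalIdeal C)

include hm hk in
/-- `C = R + 𝔪^k C`. -/
theorem top_eq_range_sup_pow_smul (k : ℕ) :
    (⊤ : Submodule R C) = LinearMap.range (Algebra.linearMap R C) ⊔
      (maximalIdeal R ^ k) • (⊤ : Submodule R C) := by
  induction k with
  | zero =>
    rw [pow_zero, Ideal.one_eq_top, Submodule.top_smul, sup_top_eq]
  | succ k ih =>
    have h1 : (⊤ : Submodule R C) = LinearMap.range (Algebra.linearMap R C) ⊔
        (maximalIdeal R) • (⊤ : Submodule R C) := by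
      apply le_antisymm _ le_top
      intro c _
      obtain ⟨r, hr⟩ := hk c
      rw [← hm] at hr
      refine Submodule.mem_sup.mpr ⟨algebraMap R C r, ⟨r, rfl⟩, c - algebraMap R C r, ?_, by ring⟩
      rw [Ideal.smul_top_eq_map]
      exact hr
    apply le_antisymm _ le_top
    calc (⊤ : Submodule R C) = LinearMap.range (Algebra.linearMap R C) ⊔
          (maximalIdeal R ^ k) • (⊤ : Submodule R C) := ih
      _ = LinearMap.range (Algebra.linearMap R C) ⊔ (maximalIdeal R ^ k) •
          (LinearMap.range (Algebra.linearMap R C) ⊔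
            (maximalIdeal R) • (⊤ : Submodule R C)) := by rw [← h1]
      _ ≤ _ := by
        rw [Submodule.smul_sup, ← sup_assoc]
        refine sup_le (sup_le le_sup_left ?_) ?_
        · exact (Submodule.smul_le_right).trans le_sup_left
        · rw [← Submodule.mul_smul, ← pow_succ]
          exact le_sup_right

include hm hk in
theorem exists_sub_mem_map_pow (k : ℕ) (c : C) :
    ∃ r : R, c - algebraMap R C r ∈ (maximalIdeal R ^ k).map (algebraMap R C) := by
  have h : c ∈ (⊤ : Submodule R C) := Submodule.mem_top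
  rw [top_eq_range_sup_pow_smul R C hm hk k] at h
  obtain ⟨_, ⟨r, rfl⟩, z, hz, hc⟩ := Submodule.mem_sup.mp h
  refine ⟨r, ?_⟩
  rw [Ideal.smul_top_eq_map] at hz
  have : c - algebraMap R C r = z := by rw [← hc]; simp
  rw [this]
  exact hz

include hm hk in
/-- Elements of `C` killed by `𝔪_C^k` modulo `X` come from `R` modulo `X`. -/
theorem exists_eq_add_mul (X : R) (k : ℕ) (j : C)
    (hjk : ∀ y ∈ maximalIdeal C ^ k, ∃ c, y * j = algebraMap R C X * c) :
    ∃ (r : R) (μ : C), μ ∈ maximalIdeal C ∧ j = algebraMap R C r + algebraMap R C X * μ := by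
  have hfg : (maximalIdeal R ^ k).FG := (isNoetherianRing_iff_ideal_fg R).mp inferInstance _
  have hcolon := Groth.Agent.Lib.Helper48.Parafactorial.map_colon_eq (S := C) X
    (maximalIdeal R ^ k) hfg
  have hj : j ∈ (Ideal.span {algebraMap R C X}).colon
      (((maximalIdeal R ^ k).map (algebraMap R C) : Ideal C) : Set C) := by
    rw [Submodule.mem_colon]
    intro y hy
    rw [Ideal.map_pow, hm] at hy
    obtain ⟨c, hc⟩ := hjk y hy
    rw [smul_eq_mul, Ideal.mem_span_singleton]
    exact ⟨c, by rw [mul_comm]; exact hc⟩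
  rw [← hcolon] at hj
  set 𝔠 : Ideal R := (Ideal.span {X}).colon ((maximalIdeal R ^ k : Ideal R) : Set R) with h𝔠
  -- `𝔠 C ⊆ R + X C`
  have hmul : 𝔠 * maximalIdeal R ^ k ≤ Ideal.span {X} := by
    rw [Ideal.mul_le]
    intro a ha b hb
    have := (Submodule.mem_colon.mp ha) b hb
    rw [smul_eq_mul] at this
    exact this
  have htop := top_eq_range_sup_pow_smul R C hm hk k
  have hle : 𝔠 • (⊤ : Submodule R C) ≤ LinearMap.range (Algebra.linearMap R C) ⊔
      (Ideal.span {X}) • (⊤ : Submodule R C) := by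
    calc 𝔠 • (⊤ : Submodule R C)
        = 𝔠 • (LinearMap.range (Algebra.linearMap R C) ⊔
          (maximalIdeal R ^ k) • (⊤ : Submodule R C)) := by rw [← htop]
      _ = 𝔠 • LinearMap.range (Algebra.linearMap R C) ⊔
          𝔠 • (maximalIdeal R ^ k) • (⊤ : Submodule R C) := Submodule.smul_sup _ _ _
      _ ≤ _ := by
        refine sup_le_sup Submodule.smul_le_right ?_
        rw [← Submodule.mul_smul]
        exact Submodule.smul_mono_left hmul
  have hj' : j ∈ 𝔠 • (⊤ : Submodule R C) := by
    rw [Ideal.smul_top_eq_map]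
    exact hj
  obtain ⟨_, ⟨r, rfl⟩, z, hz, hc⟩ := Submodule.mem_sup.mp (hle hj')
  rw [Ideal.smul_top_eq_map, Submodule.restrictScalars_mem, Ideal.map_span, Set.image_singleton,
    Ideal.mem_span_singleton] at hz
  obtain ⟨c₀, rfl⟩ := hz
  obtain ⟨s, hs⟩ := hk c₀
  refine ⟨r + X * s, c₀ - algebraMap R C s, hs, ?_⟩
  rw [← hc, map_add, map_mul]
  change algebraMap R C r + algebraMap R C X * c₀ = _
  ring

end Decomp

end Groth.Agent.Lib.Helper98.PunctConn
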