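import Mathlib
import Groth.Agent.Lib.Helper98.PunctConnA

set_option autoImplicit false
set_option linter.style.haveILetI false
set_option linter.unusedSectionVars false
universe u

namespace Groth.Agent.Lib.Helper98.PunctConn

open IsLocalRing Polynomial

theorem exists_of_mem_mul_span_pair {R : Type*} [CommRing R] (I : Ideal R) (u v z : R)
    (hz : z ∈ I * Ideal.span {u, v}) : ∃ a ∈ I, ∃ b ∈ I, z = a * u + b * v := by
  refine Submodule.mul_induction_on hz ?_ ?_
  · intro i hi w hw
    obtain ⟨p, q, rfl⟩ := Ideal.mem_span_pair.mp hw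
    exact ⟨i * p, I.mul_mem_right _ hi, i * q, I.mul_mem_right _ hi, by ring⟩
  · rintro _ _ ⟨a₁, ha₁, b₁, hb₁, rfl⟩ ⟨a₂, ha₂, b₂, hb₂, rfl⟩
    exact ⟨a₁ + a₂, I.add_mem ha₁ ha₂, b₁ + b₂, I.add_mem hb₁ hb₂, by ring⟩

theorem eq_of_idempotent_of_sub_mem_jacobson {B : Type*} [CommRing B] {e₁ e₂ : B}
    (h1 : e₁ * e₁ = e₁) (h2 : e₂ * e₂ = e₂) (h : e₁ - e₂ ∈ Ideal.jacobson (⊥ : Ideal B)) :
    e₁ = e₂ := by
  have hcube : (e₁ - e₂) * (1 - (e₁ - e₂) * (e₁ - e₂)) = 0 := by
    linear_combination (-(e₁ + 1 - 3 * e₂)) * h1 + (-(3 * e₁ - e₂ - 1)) * h2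
  have hu : IsUnit (1 - (e₁ - e₂) * (e₁ - e₂)) := by
    have h3 : (e₁ - e₂) * (e₁ - e₂) ∈ Ideal.jacobson (⊥ : Ideal B) := Ideal.mul_mem_left _ _ h
    have := (Ideal.mem_jacobson_bot.mp h3) (-1)
    convert this using 1
    ring
  have := hu.mul_left_eq_zero.mp hcube
  exact sub_eq_zero.mp this


section Core

variable (R C : Type u) [CommRing R] [HenselianLocalRing R] [IsNoetherianRing R]
  [CommRing C] [IsLocalRing C] [Algebra R C] [IsLocalHom (algebraMap R C)] [Module.Flat R C]
  (hm : (maximalIdeal R).map (algebraMap R C) = maximalIdeal C)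
  (hk : ∀ c : C, ∃ r : R, c - algebraMap R C r ∈ maximalIdeal C)

include hm hk in
/-- **Core lemma.** An element `j` of `C` with `j² = X j` (so that `j / X` is idempotent) which is
`𝔪`-power torsion modulo `X` comes from `R`. -/
theorem mem_range_of_sq_eq (X : R) (hX : X ∈ nonZeroDivisors R)
    (k : ℕ) (j : C) (hj : j * j = algebraMap R C X * j)
    (hjk : ∀ y ∈ maximalIdeal C ^ k, ∃ c, y * j = algebraMap R C X * c) :
    ∃ r : R, algebraMap R C r = j := by
  haveI : Module.FaithfullyFlat R C := Module.FaithfullyFlat.of_flat_of_isLocalHom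
  have hinj : Function.Injective (algebraMap R C) := FaithfulSMul.algebraMap_injective R C
  set X' : C := algebraMap R C X with hX'def
  have hX' : X' ∈ nonZeroDivisors C := by
    have h1 := Module.Flat.isSMulRegular_of_nonZeroDivisors (M := C) hX
    rw [mem_nonZeroDivisors_iff_right]
    intro y hy
    apply h1
    change X • y = X • 0
    rw [smul_zero, Algebra.smul_def, mul_comm]
    exact hy
  have hcancel : ∀ (N : ℕ) (a b : C), X' ^ N * a = X' ^ N * b → a = b := by
    intro N a b hab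
    have h1 : X' ^ N ∈ nonZeroDivisors C := pow_mem hX' N
    have h2 : (a - b) * X' ^ N = 0 := by rw [sub_mul, mul_comm a, mul_comm b, hab, sub_self]
    exact sub_eq_zero.mp ((mem_nonZeroDivisors_iff_right.mp h1) _ h2)
  obtain ⟨r, μ, hμ, hjr⟩ := exists_eq_add_mul R C hm hk X k j hjk
  set r' : C := algebraMap R C r with hr'def
  -- Step C: the relation
  have hrel : ∃ a' ∈ maximalIdeal R, ∃ b' ∈ maximalIdeal R,
      r * r - X * r = a' * (X * r) + b' * (X * X) := by
    apply exists_of_mem_mul_span_pair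
    rw [← Ideal.comap_map_eq_self_of_faithfullyFlat (B := C)
      (maximalIdeal R * Ideal.span {X * r, X * X}), Ideal.mem_comap, Ideal.map_mul, hm]
    have h1 : algebraMap R C (r * r - X * r) =
        μ * (-2 * (X' * r') + X' * X' * (1 - μ)) := by
      rw [map_sub, map_mul, map_mul]
      rw [hjr] at hj
      linear_combination hj
    rw [h1]
    refine Ideal.mul_mem_mul hμ ?_
    rw [Ideal.map_span]
    refine Ideal.add_mem _ (Ideal.mul_mem_left _ _ (Ideal.subset_span ?_))
      (Ideal.mul_mem_right _ _ (Ideal.subset_span ?_))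
    · exact ⟨X * r, Or.inl rfl, by rw [map_mul]⟩
    · exact ⟨X * X, Or.inr rfl, by rw [map_mul]⟩
  obtain ⟨a', ha', b', hb', hrel⟩ := hrel
  -- Step D: localize
  let L := Localization.Away X'
  let ι : C →+* L := algebraMap C L
  have hιinj : Function.Injective ι :=
    IsLocalization.injective L (M := Submonoid.powers X')
      (Submonoid.powers_le.mpr hX')
  set inv : L := IsLocalization.Away.invSelf (S := L) X' with hinvdef
  have hinv : ι X' * inv = 1 := IsLocalization.Away.mul_invSelf X'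
  have hRL : ∀ a : R, algebraMap R L a = ι (algebraMap R C a) := fun a =>
    IsScalarTower.algebraMap_apply R C L a
  set ε₀ : L := ι r' * inv with hε₀def
  set ε : L := ι j * inv with hεdef
  have hεε₀ : ε = ε₀ + ι μ := by
    rw [hεdef, hε₀def, hjr, map_add, map_mul]
    linear_combination (ι μ) * hinv
  have hεid : ε * ε = ε := by
    have h1 : ι j * ι j = ι X' * ι j := by rw [← map_mul, hj, map_mul]
    rw [hεdef]
    linear_combination (inv * inv) * h1 + (ι j * inv) * hinv
  have hε₀rel : ε₀ * ε₀ - ε₀ = algebraMap R L a' * ε₀ + algebraMap R L b' := by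
    have h1 := congrArg (fun z => ι (algebraMap R C z)) hrel
    simp only [map_sub, map_mul, map_add] at h1
    rw [← hX'def, ← hr'def] at h1
    rw [hRL, hRL, hε₀def]
    linear_combination (inv * inv) * h1 +
      (ι r' * inv + ι (algebraMap R C a') * ι r' * inv
        + ι (algebraMap R C b') * (ι X' * inv + 1)) * hinv
  -- integrality of `ε₀`
  have hint : IsIntegral R ε₀ := by
    refine ⟨Polynomial.X ^ 2 - (Polynomial.C (1 + a') * Polynomial.X + Polynomial.C b'), ?_, ?_⟩
    · exact Polynomial.monic_X_pow_sub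
        (lt_of_le_of_lt Polynomial.degree_linear_le (by norm_num))
    · rw [Polynomial.eval₂_sub, Polynomial.eval₂_add, Polynomial.eval₂_mul, Polynomial.eval₂_pow,
        Polynomial.eval₂_X, Polynomial.eval₂_C, Polynomial.eval₂_C, map_add, map_one]
      linear_combination hε₀rel
  let T : Subalgebra R L := Algebra.adjoin R {ε₀}
  haveI : Algebra.IsIntegral R T := Algebra.IsIntegral.adjoin (by
    intro z hz
    rw [Set.mem_singleton_iff] at hz
    rw [hz]
    exact hint)
  let b : T := ⟨ε₀, Algebra.subset_adjoin rfl⟩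
  have hb : b * b - b ∈ Ideal.jacobson (⊥ : Ideal T) := by
    rw [← Groth.Agent.Lib.Helper3.IntegralHensSplit.radical_map_maximalIdeal (R := R)]
    apply Ideal.le_radical
    have h1 : b * b - b = algebraMap R T a' * b + algebraMap R T b' := Subtype.ext hε₀rel
    rw [h1]
    exact Ideal.add_mem _ (Ideal.mul_mem_right _ _ (Ideal.mem_map_of_mem _ ha'))
      (Ideal.mem_map_of_mem _ hb')
  obtain ⟨e, he, heb⟩ :=
    Groth.Agent.Lib.Helper3.IntegralHensSplit.exists_idempotent_sub_mem_jacobson R b hb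
  -- Step 5: compare with `ε` inside `B' = C[ε₀]`
  let B' : Subalgebra C L := Algebra.adjoin C {ε₀}
  have hintC : IsIntegral C ε₀ := hint.tower_top
  haveI : Algebra.IsIntegral C B' := Algebra.IsIntegral.adjoin (by
    intro z hz
    rw [Set.mem_singleton_iff] at hz
    rw [hz]
    exact hintC)
  have hε₀B : ε₀ ∈ B' := Algebra.subset_adjoin rfl
  have hTB : ∀ t ∈ T, t ∈ B' := by
    have h1 : T ≤ B'.restrictScalars R := Algebra.adjoin_le (by
      intro z hz
      rw [Set.mem_singleton_iff] at hz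
      rw [hz]
      exact hε₀B)
    exact fun t ht => h1 ht
  let φ : T →+* B' := RingHom.codRestrict (T.val : T →+* L) B' (fun t => hTB t.1 t.2)
  have hφ : ∀ t : T, (φ t : L) = (t : L) := fun t => rfl
  have hφalg : ∀ a : R, φ (algebraMap R T a) = algebraMap C B' (algebraMap R C a) := by
    intro a
    apply Subtype.ext
    rw [hφ]
    exact hRL a
  have hjacB : (maximalIdeal C).map (algebraMap C B') ≤ Ideal.jacobson (⊥ : Ideal B') := by
    rw [← Groth.Agent.Lib.Helper3.IntegralHensSplit.radical_map_maximalIdeal (R := C)]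
    exact Ideal.le_radical
  have hεB : ε ∈ B' := by
    rw [hεε₀]
    exact B'.add_mem hε₀B (B'.algebraMap_mem μ)
  let ε' : B' := ⟨ε, hεB⟩
  have hdiff : ε' - φ e ∈ Ideal.jacobson (⊥ : Ideal B') := by
    have h1 : ε' - φ e = φ (b - e) + algebraMap C B' μ := by
      apply Subtype.ext
      change ε - (e : L) = (ε₀ - (e : L)) + ι μ
      rw [hεε₀]
      ring
    rw [h1]
    refine Ideal.add_mem _ ?_ (hjacB (Ideal.mem_map_of_mem _ hμ))
    -- `b - e` is in the radical of `𝔪 T`
    have h2 : b - e ∈ ((maximalIdeal R).map (algebraMap R T)).radical := by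
      rw [Groth.Agent.Lib.Helper3.IntegralHensSplit.radical_map_maximalIdeal (R := R)]
      have := Ideal.neg_mem_iff (Ideal.jacobson (⊥ : Ideal T)) |>.mpr heb
      rwa [neg_sub] at this
    obtain ⟨l, hl⟩ := h2
    rw [← Groth.Agent.Lib.Helper3.IntegralHensSplit.radical_map_maximalIdeal (R := C)]
    refine ⟨l, ?_⟩
    rw [← map_pow]
    have h3 : ((maximalIdeal R).map (algebraMap R T)).map φ ≤
        (maximalIdeal C).map (algebraMap C B') := by
      rw [Ideal.map_map, Ideal.map_le_iff_le_comap]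
      intro a ha
      rw [Ideal.mem_comap, RingHom.comp_apply, hφalg]
      apply Ideal.mem_map_of_mem
      rw [← hm]
      exact Ideal.mem_map_of_mem _ ha
    exact h3 (Ideal.mem_map_of_mem φ hl)
  have hε'id : ε' * ε' = ε' := Subtype.ext hεid
  have hφeid : φ e * φ e = φ e := by rw [← map_mul, he.eq]
  have hεe : ε = (e : L) := by
    have := eq_of_idempotent_of_sub_mem_jacobson hε'id hφeid hdiff
    exact congrArg Subtype.val this
  -- Step E: bounded denominators
  have hden : ∀ z ∈ T, ∃ (N : ℕ) (t : R), ι X' ^ N * z = algebraMap R L t := by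
    intro z hz
    induction hz using Algebra.adjoin_induction with
    | mem z hz =>
      rw [Set.mem_singleton_iff] at hz
      refine ⟨1, r, ?_⟩
      rw [hz, hε₀def, hRL, pow_one, ← hr'def]
      linear_combination (ι r') * hinv
    | algebraMap a => exact ⟨0, a, by rw [pow_zero, one_mul]⟩
    | add z₁ z₂ _ _ h₁ h₂ =>
      obtain ⟨N₁, t₁, h₁⟩ := h₁
      obtain ⟨N₂, t₂, h₂⟩ := h₂
      refine ⟨N₁ + N₂, X ^ N₂ * t₁ + X ^ N₁ * t₂, ?_⟩
      rw [map_add, map_mul, map_mul, ← h₁, ← h₂, map_pow, map_pow, hRL, ← hX'def]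
      ring
    | mul z₁ z₂ _ _ h₁ h₂ =>
      obtain ⟨N₁, t₁, h₁⟩ := h₁
      obtain ⟨N₂, t₂, h₂⟩ := h₂
      refine ⟨N₁ + N₂, t₁ * t₂, ?_⟩
      rw [map_mul, ← h₁, ← h₂]
      ring
  obtain ⟨N, t, hNt⟩ := hden (e : L) e.2
  rw [← hεe, hεdef] at hNt
  -- `X'^N * j = X' * t'`
  have h1 : X' ^ N * j = X' * algebraMap R C t := by
    apply hιinj
    rw [map_mul, map_mul, map_pow, ← hRL t, ← hNt]
    linear_combination (-(ι X' ^ N * ι j)) * hinv
  -- `X' t' ∈ X'^N C`, so `X t ∈ X^N R`
  have h6 : X * t ∈ Ideal.span {X ^ N} := by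
    rw [← Ideal.comap_map_eq_self_of_faithfullyFlat (B := C) (Ideal.span {X ^ N}), Ideal.mem_comap,
      Ideal.map_span, Set.image_singleton, Ideal.mem_span_singleton, map_mul, map_pow, ← hX'def]
    exact ⟨j, h1.symm⟩
  obtain ⟨r₀, hr₀⟩ := Ideal.mem_span_singleton.mp h6
  refine ⟨r₀, ?_⟩
  apply hcancel N
  have h7 : algebraMap R C (X * t) = algebraMap R C (X ^ N * r₀) := by rw [hr₀]
  rw [map_mul, map_mul, map_pow, ← hX'def] at h7
  rw [h1, h7]

end Core

end Groth.Agent.Lib.Helper98.PunctConn
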