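import Mathlib
import Groth.Agent.Lib.Helper98.PunctConnB

set_option autoImplicit false
set_option linter.style.haveILetI false
set_option linter.unusedSectionVars false
universe u

namespace Groth.Agent.Lib.Helper98.PunctConn

open IsLocalRing PrimeSpectrum

section Topo

variable (C : Type u) [CommRing C] [IsLocalRing C]

theorem ne_closedPoint_iff (p : PrimeSpectrum C) :
    p ≠ closedPoint C ↔ ¬ maximalIdeal C ≤ p.asIdeal := by
  rw [not_iff_not]
  constructor
  · rintro rfl
    exact le_rfl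
  · intro h
    apply PrimeSpectrum.ext
    exact le_antisymm (le_maximalIdeal p.2.ne_top) h

/-- From a disconnection of the punctured spectrum, ideals. -/
theorem exists_ideals_of_not_isPreconnected [IsNoetherianRing C]
    (h : ¬ IsPreconnected ({closedPoint C}ᶜ : Set (PrimeSpectrum C))) :
    ∃ J J' : Ideal C, J * J' = ⊥ ∧ (∃ n, maximalIdeal C ^ n ≤ J ⊔ J') ∧
      (∃ p : PrimeSpectrum C, J ≤ p.asIdeal ∧ p ≠ closedPoint C) ∧
      (∃ p : PrimeSpectrum C, J' ≤ p.asIdeal ∧ p ≠ closedPoint C) := by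
  rw [isPreconnected_closed_iff] at h
  push Not at h
  obtain ⟨t, t', ht, ht', hsub, ⟨p, hpU, hpt⟩, ⟨p', hp'U, hp't'⟩, hempty⟩ := h
  obtain ⟨J₀, rfl⟩ := (isClosed_iff_zeroLocus_ideal t).mp ht
  obtain ⟨J₀', rfl⟩ := (isClosed_iff_zeroLocus_ideal t').mp ht'
  rw [mem_zeroLocus, SetLike.coe_subset_coe] at hpt hp't'
  have hJ₀m : J₀ ≤ maximalIdeal C := hpt.trans (le_maximalIdeal p.2.ne_top)
  have hnil : J₀ * J₀' ≤ nilradical C := by
    rw [nilradical_eq_sInf]
    apply le_sInf
    intro q hq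
    by_cases hqm : maximalIdeal C ≤ q
    · exact Ideal.mul_le_left.trans (hJ₀m.trans hqm)
    · have hqU : (⟨q, hq⟩ : PrimeSpectrum C) ∈ ({closedPoint C}ᶜ : Set (PrimeSpectrum C)) := by
        rw [Set.mem_compl_iff, Set.mem_singleton_iff]
        exact (ne_closedPoint_iff C ⟨q, hq⟩).mpr hqm
      rcases hsub hqU with h1 | h1
      · rw [mem_zeroLocus, SetLike.coe_subset_coe] at h1
        exact Ideal.mul_le_left.trans h1
      · rw [mem_zeroLocus, SetLike.coe_subset_coe] at h1
        exact Ideal.mul_le_right.trans h1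
  obtain ⟨N, hN⟩ := IsNoetherianRing.isNilpotent_nilradical C
  refine ⟨J₀ ^ (N + 1), J₀' ^ (N + 1), ?_, ?_, ⟨p, (Ideal.pow_le_self (Nat.succ_ne_zero N)).trans hpt,
    hpU⟩, ⟨p', (Ideal.pow_le_self (Nat.succ_ne_zero N)).trans hp't', hp'U⟩⟩
  · rw [← mul_pow, ← le_bot_iff]
    calc (J₀ * J₀') ^ (N + 1) ≤ nilradical C ^ (N + 1) := Ideal.pow_right_mono hnil _
      _ = ⊥ := by rw [pow_succ, hN, Ideal.zero_eq_bot, Ideal.bot_mul]
  · have hrad : maximalIdeal C ≤ (J₀ ^ (N + 1) ⊔ J₀' ^ (N + 1)).radical := by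
      rw [Ideal.radical_eq_sInf]
      apply le_sInf
      rintro q ⟨hq, hqp⟩
      by_contra hqm
      have hmem : (⟨q, hqp⟩ : PrimeSpectrum C) ∈ ({closedPoint C}ᶜ : Set (PrimeSpectrum C)) ∩
          (zeroLocus (J₀ : Set C) ∩ zeroLocus (J₀' : Set C)) := by
        refine ⟨?_, ?_, ?_⟩
        · rw [Set.mem_compl_iff, Set.mem_singleton_iff]
          exact (ne_closedPoint_iff C ⟨q, hqp⟩).mpr hqm
        · rw [mem_zeroLocus, SetLike.coe_subset_coe]
          exact (Ideal.IsPrime.pow_le_iff (Nat.succ_ne_zero N)).mp (le_sup_left.trans hq)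
        · rw [mem_zeroLocus, SetLike.coe_subset_coe]
          exact (Ideal.IsPrime.pow_le_iff (Nat.succ_ne_zero N)).mp (le_sup_right.trans hq)
      rw [hempty] at hmem
      exact hmem
    exact Ideal.exists_pow_le_of_le_radical_of_fg hrad
      ((isNoetherianRing_iff_ideal_fg C).mp inferInstance _)


/-- Conversely, such ideals disconnect the punctured spectrum. -/
theorem not_isPreconnected_of_ideals (a a' : Ideal C) (haa' : a * a' = ⊥) (n : ℕ)
    (hn : maximalIdeal C ^ n ≤ a ⊔ a')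
    (hp : ∃ p : PrimeSpectrum C, a ≤ p.asIdeal ∧ p ≠ closedPoint C)
    (hp' : ∃ p : PrimeSpectrum C, a' ≤ p.asIdeal ∧ p ≠ closedPoint C) :
    ¬ IsPreconnected ({closedPoint C}ᶜ : Set (PrimeSpectrum C)) := by
  intro h
  rw [isPreconnected_closed_iff] at h
  obtain ⟨p, hpa, hpne⟩ := hp
  obtain ⟨p', hpa', hp'ne⟩ := hp'
  have hsub : ({closedPoint C}ᶜ : Set (PrimeSpectrum C)) ⊆
      zeroLocus (a : Set C) ∪ zeroLocus (a' : Set C) := by
    intro q _
    have h1 : a * a' ≤ q.asIdeal := by rw [haa']; exact bot_le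
    rcases (Ideal.IsPrime.mul_le q.2).mp h1 with h2 | h2
    · exact Or.inl (by rw [mem_zeroLocus, SetLike.coe_subset_coe]; exact h2)
    · exact Or.inr (by rw [mem_zeroLocus, SetLike.coe_subset_coe]; exact h2)
  obtain ⟨q, hqU, hqa, hqa'⟩ := h _ _ (isClosed_zeroLocus _) (isClosed_zeroLocus _) hsub
    ⟨p, hpne, by rw [mem_zeroLocus, SetLike.coe_subset_coe]; exact hpa⟩
    ⟨p', hp'ne, by rw [mem_zeroLocus, SetLike.coe_subset_coe]; exact hpa'⟩
  rw [mem_zeroLocus, SetLike.coe_subset_coe] at hqa hqa'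
  have h1 : maximalIdeal C ^ n ≤ q.asIdeal := hn.trans (sup_le hqa hqa')
  have h2 : maximalIdeal C ≤ q.asIdeal := Ideal.IsPrime.le_of_pow_le h1
  exact ((ne_closedPoint_iff C q).mp hqU) h2

end Topo


section Main

variable (R C : Type u) [CommRing R] [HenselianLocalRing R] [IsNoetherianRing R]
  [CommRing C] [IsLocalRing C] [IsNoetherianRing C] [Algebra R C] [IsLocalHom (algebraMap R C)]
  [Module.Flat R C]
  (hm : (maximalIdeal R).map (algebraMap R C) = maximalIdeal C)
  (hk : ∀ c : C, ∃ r : R, c - algebraMap R C r ∈ maximalIdeal C)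

include hm hk in
/-- Hard direction when `𝔪_R` contains a nonzerodivisor. -/
theorem not_isPreconnected_of_nonZeroDivisor (x : R) (hxm : x ∈ maximalIdeal R)
    (hx : x ∈ nonZeroDivisors R)
    (h : ¬ IsPreconnected ({closedPoint C}ᶜ : Set (PrimeSpectrum C))) :
    ¬ IsPreconnected ({closedPoint R}ᶜ : Set (PrimeSpectrum R)) := by
  haveI : Module.FaithfullyFlat R C := Module.FaithfullyFlat.of_flat_of_isLocalHom
  have hinj : Function.Injective (algebraMap R C) := FaithfulSMul.algebraMap_injective R C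
  obtain ⟨J, J', hJJ', ⟨n, hn⟩, ⟨p, hp, hpne⟩, ⟨p', hp', hp'ne⟩⟩ :=
    exists_ideals_of_not_isPreconnected C h
  set X : R := x ^ n with hXdef
  have hX : X ∈ nonZeroDivisors R := pow_mem hx n
  set X' : C := algebraMap R C X with hX'def
  have hX' : X' ∈ nonZeroDivisors C := by
    have h1 := Module.Flat.isSMulRegular_of_nonZeroDivisors (M := C) hX
    rw [mem_nonZeroDivisors_iff_right]
    intro y hy
    apply h1
    change X • y = X • 0
    rw [smul_zero, Algebra.smul_def, mul_comm]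
    exact hy
  have hX'mem : X' ∈ maximalIdeal C ^ n := by
    rw [hX'def, hXdef, map_pow]
    apply Ideal.pow_mem_pow
    rw [← hm]
    exact Ideal.mem_map_of_mem _ hxm
  obtain ⟨i, hi, j, hj, hij⟩ := Submodule.mem_sup.mp (hn hX'mem)
  have hmul : ∀ a ∈ J, ∀ b ∈ J', a * b = 0 := by
    intro a ha b hb
    have := Ideal.mul_mem_mul ha hb
    rw [hJJ'] at this
    exact this
  have hj2 : j * j = X' * j := by rw [← hij, add_mul, hmul i hi j hj, zero_add]
  have hi2 : i * i = X' * i := by rw [← hij, add_mul, mul_comm j i, hmul i hi j hj, add_zero]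
  have hjk : ∀ y ∈ maximalIdeal C ^ n, ∃ c, y * j = X' * c := by
    intro y hy
    obtain ⟨a, ha, b, hb, rfl⟩ := Submodule.mem_sup.mp (hn hy)
    refine ⟨b, ?_⟩
    rw [add_mul, hmul a ha j hj, zero_add, ← hij, add_mul, hmul i hi b hb, zero_add, mul_comm]
  have hik : ∀ y ∈ maximalIdeal C ^ n, ∃ c, y * i = X' * c := by
    intro y hy
    obtain ⟨a, ha, b, hb, rfl⟩ := Submodule.mem_sup.mp (hn hy)
    refine ⟨a, ?_⟩
    rw [add_mul, mul_comm b i, hmul i hi b hb, add_zero, ← hij, add_mul, mul_comm j a,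
      hmul a ha j hj, add_zero, mul_comm]
  obtain ⟨r₀, hr₀⟩ := mem_range_of_sq_eq R C hm hk X hX n j hj2 hjk
  obtain ⟨s₀, hs₀⟩ := mem_range_of_sq_eq R C hm hk X hX n i hi2 hik
  have hrs : s₀ + r₀ = X := by
    apply hinj
    rw [map_add, hr₀, hs₀, hij]
  have hrs0 : s₀ * r₀ = 0 := by
    apply hinj
    rw [map_mul, hr₀, hs₀, hmul i hi j hj, map_zero]
  -- the two ideals
  let a : Ideal R := (Ideal.span {r₀}).annihilator
  let a' : Ideal R := (Ideal.span {s₀}).annihilator
  have hmema : ∀ z, z ∈ a ↔ z * r₀ = 0 := fun z => by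
    change z ∈ (Ideal.span {r₀}).annihilator ↔ _
    rw [Submodule.mem_annihilator_span_singleton, smul_eq_mul]
  have hmema' : ∀ z, z ∈ a' ↔ z * s₀ = 0 := fun z => by
    change z ∈ (Ideal.span {s₀}).annihilator ↔ _
    rw [Submodule.mem_annihilator_span_singleton, smul_eq_mul]
  have hXcancel : ∀ z : R, z * X = 0 → z = 0 := fun z hz =>
    (mem_nonZeroDivisors_iff_right.mp hX) z hz
  have haa' : a * a' = ⊥ := by
    rw [← le_bot_iff, Ideal.mul_le]
    intro z hz z' hz'
    rw [Ideal.mem_bot]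
    apply hXcancel
    rw [← hrs, mul_add]
    have h1 := (hmema z).mp hz
    have h2 := (hmema' z').mp hz'
    linear_combination z * h2 + z' * h1
  have hcontract : ∀ (f t : R) (c : C), algebraMap R C f * algebraMap R C t = X' * c →
      ∃ u, f * t = X * u := by
    intro f t c hc
    have : f * t ∈ Ideal.span {X} := by
      rw [← Ideal.comap_map_eq_self_of_faithfullyFlat (B := C) (Ideal.span {X}), Ideal.mem_comap,
        Ideal.map_span, Set.image_singleton, Ideal.mem_span_singleton, map_mul]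
      exact ⟨c, hc⟩
    exact Ideal.mem_span_singleton'.mp this |>.imp fun u hu => by rw [← hu, mul_comm]
  have hpow : maximalIdeal R ^ n ≤ a ⊔ a' := by
    intro f hf
    have hf' : algebraMap R C f ∈ maximalIdeal C ^ n := by
      rw [← hm, ← Ideal.map_pow]
      exact Ideal.mem_map_of_mem _ hf
    obtain ⟨c, hc⟩ := hjk _ hf'
    obtain ⟨c', hc'⟩ := hik _ hf'
    rw [← hr₀] at hc
    rw [← hs₀] at hc'
    obtain ⟨u, hu⟩ := hcontract f r₀ c hc
    obtain ⟨v, hv⟩ := hcontract f s₀ c' hc'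
    have hua' : u ∈ a' := by
      rw [hmema']
      apply hXcancel
      linear_combination (-s₀) * hu + f * hrs0
    have hva : v ∈ a := by
      rw [hmema]
      apply hXcancel
      linear_combination (-r₀) * hv + f * hrs0
    have hfuv : f = v + u := by
      have h1 : (f - (v + u)) * X = 0 := by
        linear_combination hu + hv - f * hrs
      exact sub_eq_zero.mp (hXcancel _ h1)
    rw [hfuv]
    exact Submodule.add_mem_sup hva hua'
  -- nonemptiness
  have hexists : ∀ (b : Ideal R) (t : R), (∀ z, z ∈ b ↔ z * t = 0) → t ≠ 0 →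
      ∃ q : PrimeSpectrum R, b ≤ q.asIdeal ∧ q ≠ closedPoint R := by
    intro b t hb ht
    by_contra hcon
    push Not at hcon
    have hrad : maximalIdeal R ≤ b.radical := by
      rw [Ideal.radical_eq_sInf]
      apply le_sInf
      rintro q ⟨hq, hqp⟩
      have := hcon ⟨q, hqp⟩ hq
      rw [PrimeSpectrum.ext_iff] at this
      change q = maximalIdeal R at this
      rw [this]
    obtain ⟨l, hl⟩ := Ideal.exists_pow_le_of_le_radical_of_fg hrad
      ((isNoetherianRing_iff_ideal_fg R).mp inferInstance _)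
    have h1 : x ^ l ∈ b := hl (Ideal.pow_mem_pow hxm l)
    rw [hb] at h1
    have h2 : x ^ l ∈ nonZeroDivisors R := pow_mem hx l
    apply ht
    have h3 : t * x ^ l = 0 := by rw [mul_comm]; exact h1
    exact (mem_nonZeroDivisors_iff_right.mp h2) t h3
  have hX'cancel : ∀ z : C, X' * z = 0 → z = 0 := fun z hz =>
    (mem_nonZeroDivisors_iff_right.mp hX') z (by rw [mul_comm]; exact hz)
  have hr₀ne : r₀ ≠ 0 := by
    intro h0
    have hj0 : j = 0 := by rw [← hr₀, h0, map_zero]
    -- then `J' = ⊥`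
    have hJ'bot : J' ≤ p.asIdeal := by
      intro b hb
      have : b = 0 := by
        apply hX'cancel
        rw [← hij, add_mul, hmul i hi b hb, hj0, zero_mul, add_zero]
      rw [this]
      exact Ideal.zero_mem _
    have h1 : maximalIdeal C ^ n ≤ p.asIdeal := hn.trans (sup_le hp hJ'bot)
    exact ((ne_closedPoint_iff C p).mp hpne) (Ideal.IsPrime.le_of_pow_le h1)
  have hs₀ne : s₀ ≠ 0 := by
    intro h0
    have hi0 : i = 0 := by rw [← hs₀, h0, map_zero]
    have hJbot : J ≤ p'.asIdeal := by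
      intro b hb
      have : b = 0 := by
        apply hX'cancel
        rw [← hij, add_mul, mul_comm j b, hmul b hb j hj, hi0, zero_mul, add_zero]
      rw [this]
      exact Ideal.zero_mem _
    have h1 : maximalIdeal C ^ n ≤ p'.asIdeal := hn.trans (sup_le hJbot hp')
    exact ((ne_closedPoint_iff C p').mp hp'ne) (Ideal.IsPrime.le_of_pow_le h1)
  exact not_isPreconnected_of_ideals R a a' haa' n hpow
    (hexists a r₀ hmema hr₀ne) (hexists a' s₀ hmema' hs₀ne)

end Main

end Groth.Agent.Lib.Helper98.PunctConn
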