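import Mathlib
import Groth.Agent.Lib.Helper98.PunctConnC
import Groth.Agent.Lib.Helper98.NoethSubB

set_option autoImplicit false
set_option linter.style.haveILetI false
set_option linter.unusedSectionVars false
universe u

namespace Groth.Agent.Lib.Helper98.PunctConn

open IsLocalRing PrimeSpectrum

section Easy

variable (R C : Type u) [CommRing R] [IsLocalRing R] [CommRing C] [IsLocalRing C] [Algebra R C]
  [IsLocalHom (algebraMap R C)] [Module.Flat R C]
  (hm : (maximalIdeal R).map (algebraMap R C) = maximalIdeal C)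

include hm in
theorem isPreconnected_of_flat
    (h : IsPreconnected ({closedPoint C}ᶜ : Set (PrimeSpectrum C))) :
    IsPreconnected ({closedPoint R}ᶜ : Set (PrimeSpectrum R)) := by
  haveI : Module.FaithfullyFlat R C := Module.FaithfullyFlat.of_flat_of_isLocalHom
  have himg : (PrimeSpectrum.comap (algebraMap R C)) '' {closedPoint C}ᶜ = {closedPoint R}ᶜ := by
    ext q
    constructor
    · rintro ⟨p, hp, rfl⟩
      rw [Set.mem_compl_iff, Set.mem_singleton_iff, ← ne_eq, ne_closedPoint_iff] at hp ⊢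
      intro hle
      apply hp
      rw [← hm, Ideal.map_le_iff_le_comap]
      exact hle
    · intro hq
      obtain ⟨p, rfl⟩ := PrimeSpectrum.comap_surjective_of_faithfullyFlat (A := R) (B := C) q
      refine ⟨p, ?_, rfl⟩
      rw [Set.mem_compl_iff, Set.mem_singleton_iff] at hq ⊢
      rintro rfl
      exact hq (IsLocalRing.comap_closedPoint _)
  rw [← himg]
  exact h.image _ (PrimeSpectrum.continuous_comap _).continuousOn

end Easy

theorem isPreconnected_iff_of_isHomeomorph {R S : Type*} [CommRing R] [CommRing S] [IsLocalRing R]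
    [IsLocalRing S] (f : R →+* S) [IsLocalHom f] (hf : IsHomeomorph (PrimeSpectrum.comap f)) :
    IsPreconnected ({closedPoint S}ᶜ : Set (PrimeSpectrum S)) ↔
      IsPreconnected ({closedPoint R}ᶜ : Set (PrimeSpectrum R)) := by
  let e := hf.homeomorph
  have himg : e '' {closedPoint S}ᶜ = {closedPoint R}ᶜ := by
    rw [Set.image_compl_eq e.bijective, Set.image_singleton]
    congr 2
    exact IsLocalRing.comap_closedPoint f
  rw [← himg]
  exact (e.isPreconnected_image).symm


open Polynomial in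
/-- A local quotient of a henselian local ring is henselian (copied from helper29 `CompDim`). -/
theorem henselianLocalRing_quotient {S : Type*} [CommRing S] [HenselianLocalRing S] (J : Ideal S)
    [IsLocalRing (S ⧸ J)] : HenselianLocalRing (S ⧸ J) := by
  refine { toIsLocalRing := ‹IsLocalRing (S ⧸ J)›, is_henselian := ?_ }
  intro fb hfb b₀ h₁ h₂
  obtain ⟨f, hfmap, -, hf⟩ := lifts_and_natDegree_eq_and_monic
    ((mem_lifts _).mpr (map_surjective _ Ideal.Quotient.mk_surjective fb)) hfb
  obtain ⟨a₀, rfl⟩ := Ideal.Quotient.mk_surjective b₀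
  subst hfmap
  have hloc : IsLocalHom (Ideal.Quotient.mk J) :=
    IsLocalHom.of_surjective _ Ideal.Quotient.mk_surjective
  have e1 : ∀ a, (f.map (Ideal.Quotient.mk J)).eval (Ideal.Quotient.mk J a) =
      Ideal.Quotient.mk J (f.eval a) := fun a => by
    rw [eval_map, eval₂_at_apply]
  have e2 : (f.map (Ideal.Quotient.mk J)).derivative.eval (Ideal.Quotient.mk J a₀) =
      Ideal.Quotient.mk J (f.derivative.eval a₀) := by
    rw [derivative_map, eval_map, eval₂_at_apply]
  rw [e1] at h₁
  rw [e2] at h₂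
  have h₁' : f.eval a₀ ∈ IsLocalRing.maximalIdeal S := by
    rw [← IsLocalRing.maximalIdeal_comap (Ideal.Quotient.mk J)]
    exact h₁
  have h₂' : IsUnit (f.derivative.eval a₀) := (isUnit_map_iff (Ideal.Quotient.mk J) _).mp h₂
  obtain ⟨a, ha, haa⟩ := HenselianLocalRing.is_henselian f hf a₀ h₁' h₂'
  refine ⟨Ideal.Quotient.mk J a, ?_, ?_⟩
  · rw [IsRoot, e1, ha, map_zero]
  · rw [← map_sub]
    rw [← IsLocalRing.maximalIdeal_comap (Ideal.Quotient.mk J)] at haa
    exact haa


section Main2

variable (R C : Type u) [CommRing R] [HenselianLocalRing R] [IsNoetherianRing R]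
  [CommRing C] [IsLocalRing C] [IsNoetherianRing C] [Algebra R C] [IsLocalHom (algebraMap R C)]
  [Module.Flat R C]
  (hm : (maximalIdeal R).map (algebraMap R C) = maximalIdeal C)
  (hk : ∀ c : C, ∃ r : R, c - algebraMap R C r ∈ maximalIdeal C)

include hm hk in
/-- Hard direction in general, by reduction to the reduced case. -/
theorem not_isPreconnected_of_not_isPreconnected
    (h : ¬ IsPreconnected ({closedPoint C}ᶜ : Set (PrimeSpectrum C))) :
    ¬ IsPreconnected ({closedPoint R}ᶜ : Set (PrimeSpectrum R)) := by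
  set I : Ideal R := nilradical R with hIdef
  have hIm : I ≤ maximalIdeal R := by
    rw [hIdef, nilradical_eq_sInf]
    exact sInf_le (inferInstance : (maximalIdeal R).IsPrime)
  have hI : I ≠ ⊤ := fun h' => (maximalIdeal.isMaximal R).ne_top (top_le_iff.mp (h' ▸ hIm))
  set I' : Ideal C := I.map (algebraMap R C) with hI'def
  have hI'm : I' ≤ maximalIdeal C := by
    rw [hI'def, ← hm]
    exact Ideal.map_mono hIm
  have hI' : I' ≠ ⊤ := fun h' => (maximalIdeal.isMaximal C).ne_top (top_le_iff.mp (h' ▸ hI'm))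
  have hI'nil : I' ≤ nilradical C := by
    rw [hI'def, Ideal.map_le_iff_le_comap]
    intro z hz
    rw [Ideal.mem_comap, mem_nilradical]
    exact (mem_nilradical.mp hz).map _
  haveI : Nontrivial (R ⧸ I) := Ideal.Quotient.nontrivial_iff.mpr hI
  haveI : Nontrivial (C ⧸ I') := Ideal.Quotient.nontrivial_iff.mpr hI'
  haveI hLR : IsLocalRing (R ⧸ I) :=
    IsLocalRing.of_surjective' (Ideal.Quotient.mk I) Ideal.Quotient.mk_surjective
  haveI hLC : IsLocalRing (C ⧸ I') :=
    IsLocalRing.of_surjective' (Ideal.Quotient.mk I') Ideal.Quotient.mk_surjective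
  haveI hHR : HenselianLocalRing (R ⧸ I) := henselianLocalRing_quotient I
  haveI : Module.Flat (R ⧸ I) (C ⧸ I') :=
    Module.Flat.of_linearEquiv (Algebra.TensorProduct.quotIdealMapEquivQuotTensor C I).toLinearEquiv
  haveI : IsLocalHom (Ideal.Quotient.mk I) :=
    IsLocalHom.of_surjective _ Ideal.Quotient.mk_surjective
  haveI : IsLocalHom (Ideal.Quotient.mk I') :=
    IsLocalHom.of_surjective _ Ideal.Quotient.mk_surjective
  have hmR : (maximalIdeal R).map (Ideal.Quotient.mk I) = maximalIdeal (R ⧸ I) :=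
    IsLocalRing.map_maximalIdeal_of_surjective _ Ideal.Quotient.mk_surjective
  have hmC : (maximalIdeal C).map (Ideal.Quotient.mk I') = maximalIdeal (C ⧸ I') :=
    IsLocalRing.map_maximalIdeal_of_surjective _ Ideal.Quotient.mk_surjective
  have hcomp : (algebraMap (R ⧸ I) (C ⧸ I')).comp (Ideal.Quotient.mk I) =
      (Ideal.Quotient.mk I').comp (algebraMap R C) := rfl
  have hm₁ : (maximalIdeal (R ⧸ I)).map (algebraMap (R ⧸ I) (C ⧸ I')) = maximalIdeal (C ⧸ I') := by
    rw [← hmR, Ideal.map_map, hcomp, ← Ideal.map_map, hm, hmC]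
  haveI : IsLocalHom (algebraMap (R ⧸ I) (C ⧸ I')) := by
    apply ((IsLocalRing.local_hom_TFAE (algebraMap (R ⧸ I) (C ⧸ I'))).out 0 2).mpr
    exact hm₁.le
  have hk₁ : ∀ c : C ⧸ I', ∃ r : R ⧸ I, c - algebraMap (R ⧸ I) (C ⧸ I') r ∈
      maximalIdeal (C ⧸ I') := by
    intro c
    obtain ⟨c₀, rfl⟩ := Ideal.Quotient.mk_surjective c
    obtain ⟨r₀, hr₀⟩ := hk c₀
    refine ⟨Ideal.Quotient.mk I r₀, ?_⟩
    rw [← hmC]
    have := Ideal.mem_map_of_mem (Ideal.Quotient.mk I') hr₀
    rw [map_sub] at this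
    exact this
  have hR : IsPreconnected ({closedPoint (R ⧸ I)}ᶜ : Set (PrimeSpectrum (R ⧸ I))) ↔
      IsPreconnected ({closedPoint R}ᶜ : Set (PrimeSpectrum R)) :=
    isPreconnected_iff_of_isHomeomorph (Ideal.Quotient.mk I)
      (PrimeSpectrum.isHomeomorph_comap _
        (fun x => ⟨1, one_pos, by rw [pow_one]; exact Ideal.Quotient.mk_surjective x⟩)
        (by rw [Ideal.mk_ker]))
  have hC : IsPreconnected ({closedPoint (C ⧸ I')}ᶜ : Set (PrimeSpectrum (C ⧸ I'))) ↔
      IsPreconnected ({closedPoint C}ᶜ : Set (PrimeSpectrum C)) :=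
    isPreconnected_iff_of_isHomeomorph (Ideal.Quotient.mk I')
      (PrimeSpectrum.isHomeomorph_comap _
        (fun x => ⟨1, one_pos, by rw [pow_one]; exact Ideal.Quotient.mk_surjective x⟩)
        (by rw [Ideal.mk_ker]; exact hI'nil))
  rw [← hR]
  rw [← hC] at h
  haveI : IsReduced (R ⧸ I) :=
    (Ideal.isRadical_iff_quotient_reduced I).mp (Ideal.radical_isRadical ⊥)
  by_cases hmin : maximalIdeal (R ⧸ I) ∈ minimalPrimes (R ⧸ I)
  · -- dimension zero: `𝔪 = 0`
    exfalso
    apply h
    have hbot : maximalIdeal (R ⧸ I) = ⊥ := by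
      rw [← le_bot_iff]
      intro z hz
      rw [Ideal.mem_bot]
      apply NoethSub.eq_zero_of_forall_mem_minimalPrimes
      intro q hq
      have hqp : q.IsPrime := hq.1.1
      have hle : q ≤ maximalIdeal (R ⧸ I) := le_maximalIdeal hqp.ne_top
      exact hmin.2 ⟨hqp, bot_le⟩ hle hz
    have hbot' : maximalIdeal (C ⧸ I') = ⊥ := by
      rw [← hm₁, hbot, Ideal.map_bot]
    have hempty : ({closedPoint (C ⧸ I')}ᶜ : Set (PrimeSpectrum (C ⧸ I'))) = ∅ := by
      rw [Set.eq_empty_iff_forall_notMem]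
      intro p hp
      rw [Set.mem_compl_iff, Set.mem_singleton_iff, ← ne_eq, ne_closedPoint_iff, hbot'] at hp
      exact hp bot_le
    rw [hempty]
    exact isPreconnected_empty
  · -- prime avoidance
    have hfin : (minimalPrimes (R ⧸ I)).Finite := minimalPrimes.finite_of_isNoetherianRing _
    have hex : ∃ x ∈ maximalIdeal (R ⧸ I), ∀ q ∈ minimalPrimes (R ⧸ I), x ∉ q := by
      by_contra hcon
      push Not at hcon
      have hsub : ((maximalIdeal (R ⧸ I) : Ideal (R ⧸ I)) : Set (R ⧸ I)) ⊆
          ⋃ q ∈ (hfin.toFinset : Set (Ideal (R ⧸ I))), (q : Set (R ⧸ I)) := by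
        intro x hx
        obtain ⟨q, hq, hxq⟩ := hcon x hx
        simp only [Set.mem_iUnion]
        exact ⟨q, by simpa using hq, hxq⟩
      rw [Ideal.subset_union_prime (f := fun q : Ideal (R ⧸ I) => q) ⊥ ⊥
        (fun q hq _ _ => (hfin.mem_toFinset.mp hq).1.1)] at hsub
      obtain ⟨q, hq, hle⟩ := hsub
      have hq' := hfin.mem_toFinset.mp hq
      have hqp : q.IsPrime := hq'.1.1
      have : q = maximalIdeal (R ⧸ I) := le_antisymm (le_maximalIdeal hqp.ne_top) hle
      exact hmin (this ▸ hq')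
    obtain ⟨x, hxm, hx⟩ := hex
    exact not_isPreconnected_of_nonZeroDivisor (R ⧸ I) (C ⧸ I') hm₁ hk₁ x hxm
      (NoethSub.mem_nonZeroDivisors_of_forall_notMem hx) h

include hm hk in
theorem isPreconnected_iff :
    IsPreconnected ({closedPoint C}ᶜ : Set (PrimeSpectrum C)) ↔
      IsPreconnected ({closedPoint R}ᶜ : Set (PrimeSpectrum R)) := by
  constructor
  · exact isPreconnected_of_flat R C hm
  · intro h
    by_contra hcon
    exact not_isPreconnected_of_not_isPreconnected R C hm hk hcon h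

end Main2

end Groth.Agent.Lib.Helper98.PunctConn
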