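import Mathlib
import Groth.Agent.Lib.Helper85.RegularLocal

/-!
# Regular local rings of dimension two: prime ideals (helper98)

* `prime_cases_of_dim_two`: every prime of a 2-dimensional regular local ring is `⊥`, the
  maximal ideal, or principal.
* `radical_cases_of_dim_two`: a radical ideal inside the maximal ideal is `⊥`, the maximal ideal
  or principal (generated by a nonzero element of the maximal ideal).
-/

set_option autoImplicit false
universe u

namespace Groth.Agent.Lib.Helper98

open IsLocalRing Groth.Agent.Lib.Helper85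

variable {A : Type u} [CommRing A]

theorem isPrincipalIdealRing_of_spanFinrank_eq_one [IsRegularLocalRing A]
    (h : (maximalIdeal A).spanFinrank = 1) : IsPrincipalIdealRing A := by
  haveI := isDomain_of_isRegularLocalRing A
  have hfg : (maximalIdeal A).FG := IsNoetherian.noetherian _
  have hprin : (maximalIdeal A).IsPrincipal := by
    have hc := Submodule.FG.generators_ncard hfg
    rw [h, Set.ncard_eq_one] at hc
    obtain ⟨x, hx⟩ := hc
    refine ⟨⟨x, ?_⟩⟩
    rw [← hx, Submodule.span_generators]
  exact ((tfae_of_isNoetherianRing_of_isLocalRing_of_isDomain (R := A)).out 4 0).1 hprin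

theorem spanFinrank_eq_two [IsRegularLocalRing A] (hdim : ringKrullDim A = 2) :
    (maximalIdeal A).spanFinrank = 2 := by
  have h := IsRegularLocalRing.spanFinrank_maximalIdeal (R := A)
  rw [hdim] at h
  exact_mod_cast h

theorem prime_cases_of_dim_two [IsRegularLocalRing A] (hdim : ringKrullDim A = 2)
    (p : Ideal A) [hp : p.IsPrime] :
    p = ⊥ ∨ p = maximalIdeal A ∨ ∃ f, p = Ideal.span {f} := by
  have h2 := spanFinrank_eq_two hdim
  obtain ⟨x, hxm, hx2, -⟩ := exists_mem_notMem_sq_notMem_minimalPrimes (R := A) (by omega)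
  obtain ⟨hreg, hfr⟩ := isRegularLocalRing_quotient_span_singleton x hxm hx2
  have h1 : (maximalIdeal (A ⧸ Ideal.span ({x} : Set A))).spanFinrank = 1 := by omega
  haveI := isPrincipalIdealRing_of_spanFinrank_eq_one h1
  haveI := isDomain_of_isRegularLocalRing (A ⧸ Ideal.span ({x} : Set A))
  have hsurj : Function.Surjective (Ideal.Quotient.mk (Ideal.span ({x} : Set A))) :=
    Ideal.Quotient.mk_surjective
  by_cases hxp : x ∈ p
  · -- `p` contains `x`
    have hker : RingHom.ker (Ideal.Quotient.mk (Ideal.span ({x} : Set A))) ≤ p := by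
      rw [Ideal.mk_ker, Ideal.span_singleton_le_iff_mem]; exact hxp
    have hpc : (p.map (Ideal.Quotient.mk (Ideal.span ({x} : Set A)))).comap
        (Ideal.Quotient.mk (Ideal.span ({x} : Set A))) = p := by
      rw [Ideal.comap_map_of_surjective _ hsurj, sup_eq_left, ← RingHom.ker_eq_comap_bot]
      exact hker
    haveI hprime : (p.map (Ideal.Quotient.mk (Ideal.span ({x} : Set A)))).IsPrime :=
      Ideal.map_isPrime_of_surjective hsurj hker
    by_cases hbot : p.map (Ideal.Quotient.mk (Ideal.span ({x} : Set A))) = ⊥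
    · right; right
      refine ⟨x, ?_⟩
      rw [← hpc, hbot, ← RingHom.ker_eq_comap_bot, Ideal.mk_ker]
    · right; left
      have hmax : (p.map (Ideal.Quotient.mk (Ideal.span ({x} : Set A)))).IsMaximal :=
        hprime.isMaximal hbot
      have : p.IsMaximal := by
        rw [← hpc]
        exact Ideal.comap_isMaximal_of_surjective _ hsurj
      exact eq_maximalIdeal this
  · -- `p` does not contain `x`
    right; right
    obtain ⟨a, ha⟩ := (IsPrincipalIdealRing.principal
      (p.map (Ideal.Quotient.mk (Ideal.span ({x} : Set A))))).principal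
    have ha' : p.map (Ideal.Quotient.mk (Ideal.span ({x} : Set A))) = Ideal.span {a} := ha
    have hamem : a ∈ p.map (Ideal.Quotient.mk (Ideal.span ({x} : Set A))) := by
      rw [ha']; exact Ideal.mem_span_singleton_self a
    obtain ⟨f, hfp, rfl⟩ := (Ideal.mem_map_iff_of_surjective _ hsurj).1 hamem
    refine ⟨f, le_antisymm ?_ ((Ideal.span_singleton_le_iff_mem _).2 hfp)⟩
    apply Submodule.le_of_le_smul_of_le_jacobson_bot (I := maximalIdeal A)
      (IsNoetherian.noetherian p)
    · rw [IsLocalRing.jacobson_eq_maximalIdeal _ bot_ne_top]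
    · intro g hg
      have hgm : Ideal.Quotient.mk (Ideal.span ({x} : Set A)) g ∈
          p.map (Ideal.Quotient.mk (Ideal.span ({x} : Set A))) := Ideal.mem_map_of_mem _ hg
      rw [ha', Ideal.mem_span_singleton'] at hgm
      obtain ⟨c', hc'⟩ := hgm
      obtain ⟨c, rfl⟩ := hsurj c'
      rw [← map_mul, Ideal.Quotient.eq, Ideal.mem_span_singleton'] at hc'
      obtain ⟨d, hd⟩ := hc'
      have hdx : d * x ∈ p := by
        rw [hd]; exact p.sub_mem (p.mul_mem_left _ hfp) hg
      have hdp : d ∈ p := (hp.mem_or_mem hdx).resolve_right hxp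
      have hgeq : g = c * f + x • (-d) := by
        rw [smul_eq_mul, mul_neg, mul_comm x d, hd]; ring
      rw [hgeq]
      exact Submodule.add_mem_sup (Ideal.mem_span_singleton'.2 ⟨c, rfl⟩)
        (Submodule.smul_mem_smul hxm (p.neg_mem hdp))

/-- In a domain, the intersection of finitely many pairwise distinct principal prime ideals
with prime generators is generated by the product of the generators. -/
theorem finset_inf_span_singleton_of_prime {R : Type*} [CommRing R] [IsDomain R]
    (S : Finset (Ideal R)) (f : Ideal R → R)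
    (hf : ∀ q ∈ S, q = Ideal.span {f q}) (hprime : ∀ q ∈ S, Prime (f q)) :
    S.inf id = Ideal.span {∏ q ∈ S, f q} := by
  classical
  induction S using Finset.induction_on with
  | empty => simp
  | insert q₀ S' hq₀ ih =>
    have ih' := ih (fun q hq => hf q (Finset.mem_insert_of_mem hq))
      (fun q hq => hprime q (Finset.mem_insert_of_mem hq))
    have hq₀' := hf q₀ (Finset.mem_insert_self _ _)
    have hmem : ∀ g, g ∈ q₀ ↔ f q₀ ∣ g := fun g => by
      conv_lhs => rw [hq₀']
      exact Ideal.mem_span_singleton
    have hp₀ := hprime q₀ (Finset.mem_insert_self _ _)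
    rw [Finset.inf_insert, ih', Finset.prod_insert hq₀, id]
    apply le_antisymm
    · intro g hg
      rw [Ideal.mem_inf] at hg
      obtain ⟨hg1, hg2⟩ := hg
      rw [hmem] at hg1
      rw [Ideal.mem_span_singleton] at hg2
      obtain ⟨b, rfl⟩ := hg2
      rw [Ideal.mem_span_singleton]
      rcases hp₀.dvd_or_dvd hg1 with h | h
      · exfalso
        obtain ⟨q, hqS, hdvd⟩ := (Prime.dvd_finset_prod_iff hp₀ _).1 h
        have hpq := hprime q (Finset.mem_insert_of_mem hqS)
        obtain ⟨u, hu⟩ := hdvd
        have hunit : IsUnit u := by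
          rcases hpq.irreducible.isUnit_or_isUnit hu with h' | h'
          · exact absurd h' hp₀.not_unit
          · exact h'
        have : q = q₀ := by
          apply Ideal.ext
          intro g
          rw [hmem]
          conv_lhs => rw [hf q (Finset.mem_insert_of_mem hqS)]
          rw [Ideal.mem_span_singleton, hu]
          exact hunit.mul_right_dvd
        exact hq₀ (this ▸ hqS)
      · obtain ⟨b', rfl⟩ := h
        exact ⟨b', by ring⟩
    · rw [Ideal.span_singleton_le_iff_mem, Ideal.mem_inf, hmem, Ideal.mem_span_singleton]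
      exact ⟨dvd_mul_right _ _, dvd_mul_left _ _⟩

theorem radical_cases_of_dim_two [IsRegularLocalRing A] (hdim : ringKrullDim A = 2)
    (I : Ideal A) (hI : I ≤ maximalIdeal A) (hrad : I.IsRadical) :
    I = ⊥ ∨ I = maximalIdeal A ∨
      ∃ f ∈ maximalIdeal A, f ≠ 0 ∧ I = Ideal.span {f} := by
  classical
  have := isDomain_of_isRegularLocalRing A
  have hfin : I.minimalPrimes.Finite := Ideal.finite_minimalPrimes_of_isNoetherianRing A I
  have hInf : sInf I.minimalPrimes = I := by rw [Ideal.sInf_minimalPrimes, hrad.radical]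
  by_cases hb : (⊥ : Ideal A) ∈ I.minimalPrimes
  · left
    exact le_bot_iff.1 hb.1.2
  by_cases hm : maximalIdeal A ∈ I.minimalPrimes
  · right; left
    refine le_antisymm hI ?_
    rw [← hInf]
    refine le_sInf fun q hq => ?_
    exact hm.2 hq.1 (le_maximalIdeal hq.1.1.ne_top)
  right; right
  have hex : ∀ q, q ∈ I.minimalPrimes → ∃ f, q = Ideal.span {f} := by
    intro q hq
    haveI := hq.1.1
    rcases prime_cases_of_dim_two hdim q with h | h | h
    · exact absurd (h ▸ hq) hb
    · exact absurd (h ▸ hq) hm
    · exact h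
  choose! f hf using hex
  have hne : ∀ q ∈ I.minimalPrimes, f q ≠ 0 := by
    intro q hq h0
    apply hb
    have := hf q hq
    rw [h0, Ideal.span_singleton_zero] at this
    exact this ▸ hq
  have hprime : ∀ q ∈ I.minimalPrimes, Prime (f q) := by
    intro q hq
    rw [← Ideal.span_singleton_prime (hne q hq), ← hf q hq]
    exact hq.1.1
  have key := finset_inf_span_singleton_of_prime hfin.toFinset f
    (fun q hq => hf q (hfin.mem_toFinset.1 hq)) (fun q hq => hprime q (hfin.mem_toFinset.1 hq))
  rw [Finset.inf_id_eq_sInf, Set.Finite.coe_toFinset, hInf] at key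
  have hF0 : ∏ q ∈ hfin.toFinset, f q ≠ 0 := by
    rw [Finset.prod_ne_zero_iff]
    exact fun q hq => hne q (hfin.mem_toFinset.1 hq)
  obtain ⟨F, hF⟩ : ∃ F, F = ∏ q ∈ hfin.toFinset, f q := ⟨_, rfl⟩
  rw [← hF] at key hF0
  refine ⟨F, ?_, hF0, key⟩
  apply hI
  rw [key]
  exact Ideal.mem_span_singleton_self _

end Groth.Agent.Lib.Helper98
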