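import Mathlib
import Groth.Agent.Lib.Helper85.RegularGens
import Groth.Agent.Lib.Helper85.RegularSeq

/-!
# Transversal intersections in a regular local ring (helper98)
-/

set_option autoImplicit false
universe u

namespace Groth.Agent.Lib.Helper98

open IsLocalRing Groth.Agent.Lib.Helper85

variable {R : Type u} [CommRing R]

/-- If `R` and `R ⧸ I` are regular local of dimensions `n` and `a`, then `I` is generated by a
subset of the maximal ideal with at most `n - a` elements. -/
theorem exists_generators_card_le [IsRegularLocalRing R] (n a : ℕ) (hn : ringKrullDim R = n)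
    (I : Ideal R) [hreg : IsRegularLocalRing (R ⧸ I)] (ha : ringKrullDim (R ⧸ I) = a) :
    ∃ s : Set R, s ⊆ maximalIdeal R ∧ Ideal.span s = I ∧ s.encard + a ≤ n := by
  classical
  obtain ⟨x, c, hc, hm, hI⟩ := exists_generators_of_quotient_regular n hn I hreg
  have hxm : ∀ i, x i ∈ maximalIdeal R := fun i => by
    rw [← hm]; exact Ideal.subset_span ⟨i, rfl⟩
  refine ⟨Set.range (fun i : Fin c => x (Fin.castLE hc i)), ?_, hI.symm, ?_⟩
  · rintro _ ⟨i, rfl⟩
    exact hxm _
  -- the maximal ideal of the quotient is generated by the remaining `n - c` elements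
  have hsurj : Function.Surjective (Ideal.Quotient.mk I) := Ideal.Quotient.mk_surjective
  have hmq : maximalIdeal (R ⧸ I) = Ideal.span (Set.range
      (fun j : Fin (n - c) => Ideal.Quotient.mk I (x ⟨c + j, by omega⟩))) := by
    rw [← maximalIdeal_map_of_surjective (Ideal.Quotient.mk I) hsurj, ← hm, Ideal.map_span]
    apply le_antisymm
    · rw [Ideal.span_le]
      rintro _ ⟨_, ⟨i, rfl⟩, rfl⟩
      by_cases hic : (i : ℕ) < c
      · have : Ideal.Quotient.mk I (x i) = 0 := by
          rw [Ideal.Quotient.eq_zero_iff_mem]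
          have hmem : x i ∈ Ideal.span (Set.range fun i => x (Fin.castLE hc i)) :=
            Ideal.subset_span ⟨⟨i, hic⟩, rfl⟩
          exact hI ▸ hmem
        rw [this]
        exact Ideal.zero_mem _
      · apply Ideal.subset_span
        refine ⟨⟨i - c, by omega⟩, ?_⟩
        simp only
        congr 2
        apply Fin.ext
        simp only
        omega
    · apply Ideal.span_mono
      rintro _ ⟨j, rfl⟩
      exact ⟨_, ⟨_, rfl⟩, rfl⟩
  have h1 : (maximalIdeal (R ⧸ I)).spanFinrank ≤ n - c := by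
    rw [hmq]; exact spanFinrank_span_range_le _
  have h2 := ringKrullDim_le_spanFinrank_maximalIdeal (R ⧸ I)
  rw [ha] at h2
  have h3 : a ≤ n - c := by
    have : a ≤ (maximalIdeal (R ⧸ I)).spanFinrank := by exact_mod_cast h2
    omega
  have h4 : (Set.range (fun i : Fin c => x (Fin.castLE hc i))).encard ≤ c := by
    rw [← Set.image_univ]
    refine (Set.encard_image_le _ _).trans ?_
    rw [Set.encard_univ]
    simp
  calc (Set.range (fun i : Fin c => x (Fin.castLE hc i))).encard + a ≤ (c : ℕ∞) + a := by gcongr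
    _ = ((c + a : ℕ) : ℕ∞) := by push_cast; rfl
    _ ≤ n := by exact_mod_cast (by omega : c + a ≤ n)

theorem isRegularLocalRing_quotient_sup_of_transversal [IsRegularLocalRing R]
    (I J : Ideal R) [IsRegularLocalRing (R ⧸ I)] [IsRegularLocalRing (R ⧸ J)]
    [IsLocalRing (R ⧸ (I ⊔ J))]
    (n a b : ℕ) (hn : ringKrullDim R = n) (ha : ringKrullDim (R ⧸ I) = a)
    (hb : ringKrullDim (R ⧸ J) = b)
    (ht : Module.finrank (IsLocalRing.ResidueField (R ⧸ (I ⊔ J)))
      (IsLocalRing.CotangentSpace (R ⧸ (I ⊔ J))) + n = a + b) :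
    IsRegularLocalRing (R ⧸ (I ⊔ J)) ∧
      ringKrullDim (R ⧸ (I ⊔ J)) = ((a + b - n : ℕ) : WithBot ℕ∞) := by
  obtain ⟨sI, hsI, hI, hcI⟩ := exists_generators_card_le n a hn I ha
  obtain ⟨sJ, hsJ, hJ, hcJ⟩ := exists_generators_card_le n b hn J hb
  have hspan : Ideal.span (sI ∪ sJ) = I ⊔ J := by rw [Ideal.span_union, hI, hJ]
  have hK := ringKrullDim_le_ringKrullDim_quotient_add_encard (sI ∪ sJ) (by
    rw [IsLocalRing.ringJacobson_eq_maximalIdeal]
    exact Set.union_subset hsI hsJ)
  rw [ringKrullDim_eq_of_ringEquiv (Ideal.quotEquivOfEq hspan), hn] at hK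
  set t := Module.finrank (IsLocalRing.ResidueField (R ⧸ (I ⊔ J)))
      (IsLocalRing.CotangentSpace (R ⧸ (I ⊔ J))) with ht'
  have hle : ringKrullDim (R ⧸ (I ⊔ J)) ≤ t := by
    rw [ht', ← IsLocalRing.spanFinrank_maximalIdeal_eq_finrank_cotangentSpace]
    exact ringKrullDim_le_spanFinrank_maximalIdeal _
  obtain ⟨k, hk⟩ := exists_nat_eq_of_le ringKrullDim_nonneg_of_nontrivial hle
  rw [hk] at hK hle
  have hkt : k ≤ t := by exact_mod_cast hle
  have hcI' : sI.encard ≠ ⊤ := fun h => by simp [h] at hcI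
  have hcJ' : sJ.encard ≠ ⊤ := fun h => by simp [h] at hcJ
  obtain ⟨cI, hcIe⟩ := ENat.ne_top_iff_exists.1 hcI'
  obtain ⟨cJ, hcJe⟩ := ENat.ne_top_iff_exists.1 hcJ'
  rw [← hcIe] at hcI
  rw [← hcJe] at hcJ
  have hcI2 : cI + a ≤ n := by exact_mod_cast hcI
  have hcJ2 : cJ + b ≤ n := by exact_mod_cast hcJ
  have hU : (sI ∪ sJ).encard ≤ ((cI + cJ : ℕ) : ℕ∞) := by
    refine (Set.encard_union_le _ _).trans ?_
    rw [← hcIe, ← hcJe]; push_cast; rfl
  have hK2 : (n : WithBot ℕ∞) ≤ ((k + (cI + cJ) : ℕ) : WithBot ℕ∞) := by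
    refine hK.trans ?_
    push_cast
    gcongr
    exact_mod_cast hU
  have hK3 : n ≤ k + (cI + cJ) := by exact_mod_cast hK2
  have hkeq : k = t := by omega
  refine ⟨(IsRegularLocalRing.iff_finrank_cotangentSpace (R ⧸ (I ⊔ J))).2 ?_, ?_⟩
  · rw [hk, hkeq]
  · rw [hk]
    have : k = a + b - n := by omega
    rw [this]

end Groth.Agent.Lib.Helper98
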