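import Mathlib
import Groth.Agent.Lib.Helper29.FlatRegular

/-!
# Regularity at a rational point under extension of the base field (helper98)
-/

set_option autoImplicit false
universe u

namespace Groth.Agent.Lib.Helper98

open IsLocalRing TensorProduct

/-- Regularity passes up and down along `A → T_{m'}` when `A → T` is flat and `m' = m_A T`. -/
theorem isRegularLocalRing_iff_localization_of_flat {A T : Type u} [CommRing A] [CommRing T]
    [IsLocalRing A] [IsNoetherianRing A] (ι : A →+* T) (hι : ι.Flat) (m' : Ideal T) [m'.IsPrime]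
    (hm' : m' = (maximalIdeal A).map ι) [IsNoetherianRing (Localization.AtPrime m')] :
    IsRegularLocalRing A ↔ IsRegularLocalRing (Localization.AtPrime m') := by
  letI : Algebra A T := ι.toAlgebra
  haveI : Module.Flat A T := hι
  haveI : Module.Flat T (Localization.AtPrime m') := IsLocalization.flat _ m'.primeCompl
  haveI : Module.Flat A (Localization.AtPrime m') := Module.Flat.trans A T _
  have hmax : maximalIdeal (Localization.AtPrime m') =
      (maximalIdeal A).map (algebraMap A (Localization.AtPrime m')) := by
    have h1 : (maximalIdeal A).map (algebraMap A (Localization.AtPrime m')) =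
        ((maximalIdeal A).map ι).map (algebraMap T (Localization.AtPrime m')) := by
      rw [Ideal.map_map, IsScalarTower.algebraMap_eq A T (Localization.AtPrime m')]; rfl
    rw [h1, ← hm', Localization.AtPrime.map_eq_maximalIdeal]
  haveI : IsLocalHom (algebraMap A (Localization.AtPrime m')) := by
    apply ((IsLocalRing.local_hom_TFAE (algebraMap A (Localization.AtPrime m'))).out 0 2).mpr
    rw [hmax]
  exact Groth.Agent.Lib.Helper29.isRegularLocalRing_iff_of_flat_of_map_maximalIdeal_eq A
    (Localization.AtPrime m') hmax

theorem flat_includeRight (k K A : Type u) [Field k] [Field K] [Algebra k K] [CommRing A]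
    [Algebra k A] :
    (Algebra.TensorProduct.includeRight : A →ₐ[k] K ⊗[k] A).toRingHom.Flat := by
  have h1 : (algebraMap A (A ⊗[k] K)).Flat := RingHom.flat_algebraMap_iff.mpr inferInstance
  have h2 : ((Algebra.TensorProduct.comm k A K).toAlgHom.toRingHom.comp
      (algebraMap A (A ⊗[k] K))).Flat :=
    RingHom.Flat.comp h1 (.of_bijective (Algebra.TensorProduct.comm k A K).bijective)
  convert h2 using 1
  ext a
  simp

theorem ker_rid_comp_map_eq (k K A : Type u) [Field k] [Field K] [Algebra k K] [CommRing A]
    [Algebra k A] [IsLocalRing A] (π : A →ₐ[k] k) (hπ : RingHom.ker π = maximalIdeal A) :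
    RingHom.ker ((Algebra.TensorProduct.rid k K K).toAlgHom.comp
        (Algebra.TensorProduct.map (AlgHom.id K K) π)) =
      (maximalIdeal A).map
        (Algebra.TensorProduct.includeRight : A →ₐ[k] K ⊗[k] A).toRingHom := by
  set ψ := (Algebra.TensorProduct.rid k K K).toAlgHom.comp
    (Algebra.TensorProduct.map (AlgHom.id K K) π) with hψ
  set ι := (Algebra.TensorProduct.includeRight : A →ₐ[k] K ⊗[k] A).toRingHom with hι
  have hψtmul : ∀ (c : K) (a : A), ψ (c ⊗ₜ[k] a) = π a • c := by
    intro c a
    simp [hψ]
  apply le_antisymm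
  · have key : ∀ x : K ⊗[k] A, x - (ψ x) ⊗ₜ[k] (1 : A) ∈ (maximalIdeal A).map ι := by
      intro x
      induction x using TensorProduct.induction_on with
      | zero => simp
      | tmul c a =>
        have h1 : c ⊗ₜ[k] a - (ψ (c ⊗ₜ[k] a)) ⊗ₜ[k] (1 : A) =
            (c ⊗ₜ[k] (1 : A)) * ι (a - algebraMap k A (π a)) := by
          rw [hψtmul, TensorProduct.smul_tmul, hι]
          simp only [AlgHom.toRingHom_eq_coe, RingHom.coe_coe,
            Algebra.TensorProduct.includeRight_apply, Algebra.algebraMap_eq_smul_one]
          rw [← TensorProduct.tmul_sub, Algebra.TensorProduct.tmul_mul_tmul, mul_one, one_mul]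
        rw [h1]
        apply Ideal.mul_mem_left
        apply Ideal.mem_map_of_mem
        rw [← hπ, RingHom.mem_ker, map_sub, AlgHom.commutes]
        simp
      | add x y hx hy =>
        have : x + y - (ψ (x + y)) ⊗ₜ[k] (1 : A) =
            (x - (ψ x) ⊗ₜ[k] (1 : A)) + (y - (ψ y) ⊗ₜ[k] (1 : A)) := by
          rw [map_add, TensorProduct.add_tmul]; ring
        rw [this]
        exact Ideal.add_mem _ hx hy
    intro x hx
    have := key x
    rw [RingHom.mem_ker] at hx
    rw [hx, TensorProduct.zero_tmul, sub_zero] at this
    exact this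
  · rw [Ideal.map_le_iff_le_comap]
    intro a ha
    rw [Ideal.mem_comap, RingHom.mem_ker]
    have hπa : π a = 0 := by
      rw [← hπ] at ha; exact ha
    have : ι a = (1 : K) ⊗ₜ[k] a := rfl
    rw [this, hψtmul, hπa, zero_smul]

end Groth.Agent.Lib.Helper98
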