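import Groth.Agent.Lib.Helper98.DetLength

/-!
# Cokernel of a direct sum of semilinear maps of free modules over a DVR (helper98)

`length_quotient_span_pi_semilinear`: length of `(⊕ N_i) / span (im ⊕ χ_i)` is
`addVal (∏ det A_i)`.
-/

namespace Groth.Agent.Lib.Helper98

universe u v

section pi

variable {B : Type u} [CommRing B] {ι : Type*} [Fintype ι] [DecidableEq ι]
  {M N : ι → Type v} [∀ i, AddCommGroup (M i)] [∀ i, Module B (M i)]
  [∀ i, AddCommGroup (N i)] [∀ i, Module B (N i)]

theorem span_range_pi_map (χ : ∀ i, M i →+ N i) :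
    Submodule.span B (Set.range (fun (x : ∀ i, M i) (i : ι) => χ i (x i))) =
      Submodule.pi Set.univ (fun i => Submodule.span B (Set.range (χ i))) := by
  apply le_antisymm
  · rw [Submodule.span_le]
    rintro _ ⟨x, rfl⟩
    intro i _
    exact Submodule.subset_span ⟨x i, rfl⟩
  · intro y hy
    have hy' : ∀ i, y i ∈ Submodule.span B (Set.range (χ i)) := fun i => hy i (Set.mem_univ i)
    have : y = ∑ i, Pi.single i (y i) := (Finset.univ_sum_single y).symm
    rw [this]
    refine Submodule.sum_mem _ fun i _ => ?_
    have hle : Submodule.span B (Set.range (χ i)) ≤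
        (Submodule.span B (Set.range (fun (x : ∀ i, M i) (i : ι) => χ i (x i)))).comap
          (LinearMap.single B N i) := by
      rw [Submodule.span_le]
      rintro _ ⟨m, rfl⟩
      apply Submodule.subset_span
      refine ⟨Pi.single i m, ?_⟩
      ext j
      by_cases h : j = i
      · subst h; simp
      · simp [h]
    exact hle (hy' i)

theorem length_quotient_pi (S : ∀ i, Submodule B (N i)) :
    Module.length B ((∀ i, N i) ⧸ Submodule.pi Set.univ S) =
      ∑ i, Module.length B (N i ⧸ S i) := by
  rw [(Submodule.quotientPi S).length_eq, Module.length_pi_of_fintype]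

end pi

section single

variable {B : Type u} [CommRing B] (ω : B → B) {r : ℕ} {M N : Type v}
  [AddCommGroup M] [Module B M] [AddCommGroup N] [Module B N]
  (bM : Module.Basis (Fin r) B M) (bN : Module.Basis (Fin r) B N) (χ : M →+ N)
  (hχ : ∀ (b : B) (x : M), χ (b • x) = ω b • χ x)

include hχ in
theorem span_range_semilinear :
    Submodule.span B (Set.range χ) = Submodule.span B (Set.range fun c => χ (bM c)) := by
  apply le_antisymm
  · rw [Submodule.span_le]
    rintro _ ⟨x, rfl⟩
    have hx : x = ∑ c, bM.repr x c • bM c := (bM.sum_repr x).symm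
    rw [hx, map_sum]
    refine Submodule.sum_mem _ fun c _ => ?_
    rw [hχ]
    exact Submodule.smul_mem _ _ (Submodule.subset_span ⟨c, rfl⟩)
  · apply Submodule.span_mono
    rintro _ ⟨c, rfl⟩
    exact ⟨bM c, rfl⟩

include hχ in
theorem map_equivFun_span_semilinear :
    (Submodule.span B (Set.range χ)).map (bN.equivFun : N →ₗ[B] (Fin r → B)) =
      LinearMap.range (Matrix.toLin'
        (Matrix.of fun (a c : Fin r) => bN.repr (χ (bM c)) a)) := by
  rw [span_range_semilinear ω bM χ hχ, Submodule.map_span, Matrix.range_toLin', ← Set.range_comp]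
  congr 2

include hχ in
theorem length_quotient_span_semilinear [IsDomain B] [IsDiscreteValuationRing B] :
    Module.length B (N ⧸ Submodule.span B (Set.range χ)) =
      IsDiscreteValuationRing.addVal B
        (Matrix.det (Matrix.of fun (a c : Fin r) => bN.repr (χ (bM c)) a)) := by
  rw [← dvr_length_quotient_range_toLin']
  exact (Submodule.Quotient.equiv _ _ bN.equivFun
    (map_equivFun_span_semilinear ω bM bN χ hχ)).length_eq

end single

section main

variable {B : Type u} [CommRing B] [IsDomain B] [IsDiscreteValuationRing B]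

theorem addVal_prod {ι : Type*} (s : Finset ι) (f : ι → B) :
    IsDiscreteValuationRing.addVal B (∏ i ∈ s, f i) =
      ∑ i ∈ s, IsDiscreteValuationRing.addVal B (f i) := by
  classical
  induction s using Finset.induction_on with
  | empty => simp [AddValuation.map_one]
  | insert a s ha ih =>
    rw [Finset.prod_insert ha, Finset.sum_insert ha, AddValuation.map_mul, ih]

theorem length_quotient_span_pi_semilinear (ω : B → B) {n : ℕ} (r : Fin n → ℕ)
    (M N : Fin n → Type v) [∀ i, AddCommGroup (M i)] [∀ i, Module B (M i)]
    [∀ i, AddCommGroup (N i)] [∀ i, Module B (N i)]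
    (bM : ∀ i, Module.Basis (Fin (r i)) B (M i)) (bN : ∀ i, Module.Basis (Fin (r i)) B (N i))
    (χ : ∀ i, M i →+ N i) (hχ : ∀ i (b : B) (x : M i), χ i (b • x) = ω b • χ i x) :
    Module.length B ((∀ i, N i) ⧸
        Submodule.span B (Set.range (fun (x : ∀ i, M i) (i : Fin n) => χ i (x i)))) =
      IsDiscreteValuationRing.addVal B (∏ i, Matrix.det
        (Matrix.of fun (a c : Fin (r i)) => (bN i).repr (χ i (bM i c)) a)) := by
  classical
  rw [span_range_pi_map χ, length_quotient_pi, addVal_prod]
  refine Finset.sum_congr rfl fun i _ => ?_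
  exact length_quotient_span_semilinear ω (bM i) (bN i) (χ i) (hχ i)

end main

end Groth.Agent.Lib.Helper98
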