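import Mathlib

set_option autoImplicit false
set_option linter.style.haveILetI false
set_option linter.unusedSectionVars false
universe u

namespace Groth.Agent.Lib.Helper98.SepBC

open Polynomial TensorProduct

/-- Over a separably closed field, a root of a monic separable polynomial is a linear combination
of idempotents (Lagrange interpolation). -/
theorem mem_span_idempotents_of_separable {F T : Type*} [Field F] [IsSepClosed F] [CommRing T]
    [Algebra F T] (z : T) (Q : F[X]) (hQm : Q.Monic) (hQs : Q.Separable) (hz : aeval z Q = 0) :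
    z ∈ Submodule.span F {e : T | IsIdempotentElem e} := by
  classical
  have hsplit : Q.Splits := IsSepClosed.splits_of_separable Q hQs
  have hnd : Q.roots.Nodup := nodup_roots hQs
  set s : Finset F := Q.roots.toFinset with hs
  have hnodal : Lagrange.nodal s (fun x => x) = Q := by
    conv_rhs => rw [hsplit.eq_prod_roots_of_monic hQm]
    rw [Lagrange.nodal_eq, Finset.prod_eq_multiset_prod, hs, Multiset.toFinset_val,
      Multiset.dedup_eq_self.mpr hnd]
  have hinj : Set.InjOn (fun x : F => x) s := Function.injective_id.injOn
  set e : F → T := fun i => aeval z (Lagrange.basis s (fun x => x) i) with he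
  have hmul : ∀ i ∈ s, z * e i = i • e i := by
    intro i hi
    have h1 : (X - C i) * Lagrange.basis s (fun x => x) i =
        C (Lagrange.nodalWeight s (fun x => x) i) * Q := by
      rw [Lagrange.basis_eq_prod_sub_inv_mul_nodal_div hi, ← Lagrange.nodal_erase_eq_nodal_div hi,
        ← hnodal, Lagrange.nodal_eq_mul_nodal_erase hi]
      ring
    have h2 := congrArg (aeval z) h1
    rw [map_mul, map_mul, hz, mul_zero, map_sub, aeval_X, aeval_C, sub_mul, sub_eq_zero] at h2
    rw [he]
    simp only
    rw [h2, Algebra.smul_def]
  have hpoly : ∀ i ∈ s, ∀ P : F[X], aeval z P * e i = (P.eval i) • e i := by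
    intro i hi P
    obtain ⟨q, hq⟩ := X_sub_C_dvd_sub_C_eval (a := i) (p := P)
    have h1 : P = (X - C i) * q + C (P.eval i) := by rw [← hq]; ring
    have h3 : aeval z (X - C i) * e i = 0 := by
      rw [map_sub, aeval_X, aeval_C, sub_mul, hmul i hi, Algebra.smul_def, sub_self]
    conv_lhs => rw [h1]
    rw [map_add, map_mul, add_mul, mul_comm (aeval z (X - C i)), mul_assoc, h3, mul_zero, zero_add,
      aeval_C, Algebra.smul_def]
  have hidem : ∀ i ∈ s, IsIdempotentElem (e i) := by
    intro i hi
    unfold IsIdempotentElem
    have h1 := hpoly i hi (Lagrange.basis s (fun x => x) i)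
    rw [Lagrange.eval_basis_self hinj hi, one_smul] at h1
    exact h1
  by_cases hne : s.Nonempty
  · have hsum : ∑ i ∈ s, e i = 1 := by
      rw [he]
      simp only
      rw [← map_sum, Lagrange.sum_basis hinj hne, map_one]
    have hz' : z = ∑ i ∈ s, i • e i := by
      calc z = z * ∑ i ∈ s, e i := by rw [hsum, mul_one]
        _ = ∑ i ∈ s, z * e i := Finset.mul_sum _ _ _
        _ = ∑ i ∈ s, i • e i := Finset.sum_congr rfl hmul
    rw [hz']
    exact Submodule.sum_mem _ fun i hi =>
      Submodule.smul_mem _ _ (Submodule.subset_span (hidem i hi))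
  · rw [Finset.not_nonempty_iff_eq_empty] at hne
    rw [hne, Lagrange.nodal_empty] at hnodal
    rw [← hnodal, map_one] at hz
    have : z = 0 := by rw [← mul_one z, hz, mul_zero]
    rw [this]
    exact Submodule.zero_mem _

end Groth.Agent.Lib.Helper98.SepBC
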