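import Mathlib
import Groth.Agent.Lib.Helper50.GeomConn

set_option autoImplicit false
set_option linter.style.haveILetI false
set_option linter.unusedSectionVars false
universe u

namespace Groth.Agent.Lib.Helper98.SepBC

open Polynomial TensorProduct

/-- Descent of membership in a base-changed subspace along a field extension. -/
theorem mem_range_lTensor_of_rTensor_mem {K L F V : Type*} [Field K] [Field L] [Field F]
    [Algebra K L] [Algebra K F] (i : L →ₐ[K] F) [AddCommGroup V] [Module K V] (W : Submodule K V)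
    (z : L ⊗[K] V)
    (h : (i.toLinearMap.rTensor V) z ∈ LinearMap.range (W.subtype.lTensor F)) :
    z ∈ LinearMap.range (W.subtype.lTensor L) := by
  obtain ⟨p, hp⟩ := LinearMap.exists_leftInverse_of_injective W.subtype
    (LinearMap.ker_eq_bot.mpr W.injective_subtype)
  set q : V →ₗ[K] V := W.subtype ∘ₗ p with hq
  obtain ⟨y, hy⟩ := h
  have h1 : (q.lTensor F) ((i.toLinearMap.rTensor V) z) = (i.toLinearMap.rTensor V) z := by
    rw [← hy, ← LinearMap.comp_apply, ← LinearMap.lTensor_comp, hq, LinearMap.comp_assoc, hp,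
      LinearMap.comp_id]
  have h2 : (q.lTensor F) ((i.toLinearMap.rTensor V) z) =
      (i.toLinearMap.rTensor V) ((q.lTensor L) z) := by
    rw [← LinearMap.comp_apply, ← LinearMap.comp_apply, LinearMap.lTensor_comp_rTensor,
      LinearMap.rTensor_comp_lTensor]
  have hinj : Function.Injective (i.toLinearMap.rTensor V) :=
    Module.Flat.rTensor_preserves_injective_linearMap _ i.toRingHom.injective
  have h3 : (q.lTensor L) z = z := hinj (by rw [← h2, h1])
  refine ⟨(p.lTensor L) z, ?_⟩
  rw [← LinearMap.comp_apply, ← LinearMap.lTensor_comp, ← hq, h3]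

/-- For an open surjective map with preconnected fibres, clopen sets are saturated with clopen
image. -/
theorem isClopen_image_of_preconnected_fibres {X Y : Type*} [TopologicalSpace X]
    [TopologicalSpace Y] (f : X → Y) (hf : IsOpenMap f) (hsurj : Function.Surjective f)
    (hfib : ∀ y, IsPreconnected (f ⁻¹' {y})) (U : Set X) (hU : IsClopen U) :
    IsClopen (f '' U) ∧ f ⁻¹' (f '' U) = U := by
  have hsat : ∀ (V : Set X), IsClopen V → f ⁻¹' (f '' V) = V := by
    intro V hV
    apply Set.Subset.antisymm _ (Set.subset_preimage_image f V)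
    rintro x ⟨u, hu, hux⟩
    have h1 : f ⁻¹' {f x} ⊆ V :=
      (hfib (f x)).subset_isClopen hV ⟨u, hux, hu⟩
    exact h1 rfl
  refine ⟨⟨?_, hf U hU.isOpen⟩, hsat U hU⟩
  have h2 : (f '' U)ᶜ = f '' Uᶜ := by
    ext y
    constructor
    · intro hy
      obtain ⟨x, rfl⟩ := hsurj y
      refine ⟨x, fun hx => hy ⟨x, hx, rfl⟩, rfl⟩
    · rintro ⟨x, hx, rfl⟩ hfx
      have : x ∈ f ⁻¹' (f '' U) := hfx
      rw [hsat U hU] at this
      exact hx this
  rw [← isOpen_compl_iff, h2]
  exact hf _ hU.compl.isOpen

/-- Over a separably closed field, idempotents of `B ⊗[k] F` (`F` a field) come from `B`. -/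
theorem exists_idempotent_of_tensor_isSepClosed {k B F : Type u} [Field k] [IsSepClosed k]
    [CommRing B] [Algebra k B] [Field F] [Algebra k F] (e : B ⊗[k] F) (he : IsIdempotentElem e) :
    ∃ e₀ : B, IsIdempotentElem e₀ ∧ algebraMap B (B ⊗[k] F) e₀ = e := by
  classical
  have hopen : IsOpenMap (PrimeSpectrum.comap (algebraMap B (B ⊗[k] F))) :=
    PrimeSpectrum.isOpenMap_comap_algebraMap_tensorProduct_of_field
  have hfibconn : ∀ p : PrimeSpectrum B,
      IsConnected (PrimeSpectrum.comap (algebraMap B (B ⊗[k] F)) ⁻¹' {p}) := by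
    intro p
    haveI : ConnectedSpace (PrimeSpectrum F) := by
      haveI : Nonempty (PrimeSpectrum F) := inferInstance
      haveI : Subsingleton (PrimeSpectrum F) := inferInstance
      exact { toPreconnectedSpace := inferInstance, toNonempty := inferInstance }
    haveI : ConnectedSpace (PrimeSpectrum (p.asIdeal.ResidueField ⊗[k] F)) :=
      Groth.Agent.Lib.Helper50.connectedSpace_tensor_field_of_isSepClosed
    let e' : p.asIdeal.ResidueField ⊗[B] (B ⊗[k] F) ≃ₐ[B] p.asIdeal.ResidueField ⊗[k] F :=
      Algebra.TensorProduct.cancelBaseChange k B B p.asIdeal.ResidueField F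
    haveI : ConnectedSpace (PrimeSpectrum (p.asIdeal.Fiber (B ⊗[k] F))) :=
      Groth.Agent.Lib.Helper50.connectedSpace_primeSpectrum_of_injective
        (R := p.asIdeal.ResidueField ⊗[B] (B ⊗[k] F)) (S := p.asIdeal.ResidueField ⊗[k] F)
        e'.toRingEquiv.toRingHom e'.toRingEquiv.injective
    let h := PrimeSpectrum.preimageHomeomorphFiber B (B ⊗[k] F) p
    haveI : ConnectedSpace (PrimeSpectrum.comap (algebraMap B (B ⊗[k] F)) ⁻¹' {p}) :=
      h.symm.surjective.connectedSpace h.symm.continuous
    exact isConnected_iff_connectedSpace.mpr inferInstance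
  have hsurj : Function.Surjective (PrimeSpectrum.comap (algebraMap B (B ⊗[k] F))) := by
    intro p
    obtain ⟨P, hP⟩ := (hfibconn p).nonempty
    exact ⟨P, hP⟩
  obtain ⟨hcl, hpre⟩ := isClopen_image_of_preconnected_fibres _ hopen hsurj
    (fun p => (hfibconn p).isPreconnected) (PrimeSpectrum.basicOpen e : Set _)
    (PrimeSpectrum.isClopen_iff.mpr ⟨e, he, rfl⟩)
  obtain ⟨e₀, he₀, hV⟩ := PrimeSpectrum.isClopen_iff.mp hcl
  refine ⟨e₀, he₀, ?_⟩
  rw [hV] at hpre
  have h3 : (PrimeSpectrum.basicOpen (algebraMap B (B ⊗[k] F) e₀)) = PrimeSpectrum.basicOpen e := by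
    apply SetLike.coe_injective
    rw [← hpre]
    rfl
  exact PrimeSpectrum.basicOpen_injOn_isIdempotentElem (he₀.map _) he h3

end Groth.Agent.Lib.Helper98.SepBC
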