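import Mathlib
import Groth.Agent.Lib.Helper36.WeaklyEtaleMaxProps

set_option autoImplicit false
set_option linter.style.haveILetI false
set_option linter.unusedSectionVars false
universe u

namespace Groth.Agent.Lib.Helper98.SepBC

open Polynomial TensorProduct

/-- If `1 ⊗ a` is a root of a monic separable polynomial over `K'`, then `a` is a root of a monic
separable polynomial over `K`. -/
theorem exists_separable_of_one_tmul {K K' A : Type*} [Field K] [Field K'] [Algebra K K']
    [CommRing A] [Algebra K A] (a : A) (Q : K'[X]) (hQm : Q.Monic) (hQs : Q.Separable)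
    (h : aeval ((1 : K') ⊗ₜ[K] a) Q = 0) :
    ∃ P : K[X], P.Monic ∧ P.Separable ∧ aeval a P = 0 := by
  classical
  have hpow : ∀ i : ℕ, ((1 : K') ⊗ₜ[K] a) ^ i = (1 : K') ⊗ₜ[K] (a ^ i) := by
    intro i
    rw [Algebra.TensorProduct.tmul_pow, one_pow]
  by_cases hint : IsIntegral K a
  · set μ := minpoly K a with hμ
    have hμm : μ.Monic := minpoly.monic hint
    set d := μ.natDegree with hd
    have hli : LinearIndependent K' fun i : Fin d => (1 : K') ⊗ₜ[K] (a ^ (i : ℕ)) :=
      Module.Flat.linearIndependent_one_tmul (linearIndependent_pow a)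
    -- any polynomial of degree `< d` killing `1 ⊗ a` vanishes
    have hkey : ∀ P : K'[X], P.natDegree < d → aeval ((1 : K') ⊗ₜ[K] a) P = 0 → P = 0 := by
      intro P hP h0
      rw [aeval_eq_sum_range' hP, Finset.sum_range] at h0
      simp only [hpow] at h0
      have h1 := Fintype.linearIndependent_iff.mp hli (fun i => P.coeff i) h0
      ext i
      rw [coeff_zero]
      by_cases hi : i < d
      · exact h1 ⟨i, hi⟩
      · exact coeff_eq_zero_of_natDegree_lt (lt_of_lt_of_le hP (not_lt.mp hi))
    set M : K'[X] := μ.map (algebraMap K K') with hM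
    have hMm : M.Monic := hμm.map _
    have hMd : M.natDegree = d := hμm.natDegree_map _
    have hM0 : aeval ((1 : K') ⊗ₜ[K] a) M = 0 := by
      rw [hM, aeval_map_algebraMap]
      have := aeval_algHom_apply (Algebra.TensorProduct.includeRight : A →ₐ[K] K' ⊗[K] A) a μ
      rw [Algebra.TensorProduct.includeRight_apply] at this
      rw [this, hμ, minpoly.aeval, map_zero]
    set g := EuclideanDomain.gcd M Q with hg
    have hg0 : aeval ((1 : K') ⊗ₜ[K] a) g = 0 := by
      rw [hg, EuclideanDomain.gcd_eq_gcd_ab, map_add, map_mul, map_mul, hM0, h, zero_mul, zero_mul,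
        add_zero]
    obtain ⟨c, hc⟩ := EuclideanDomain.gcd_dvd_left M Q
    have hgne : g ≠ 0 := fun h0 => hMm.ne_zero (by rw [hc, ← hg, h0, zero_mul])
    have hcne : c ≠ 0 := fun h0 => hMm.ne_zero (by rw [hc, h0, mul_zero])
    have hgd : d ≤ g.natDegree := by
      by_contra hlt
      exact hgne (hkey g (not_le.mp hlt) hg0)
    have hdeg : M.natDegree = g.natDegree + c.natDegree := by
      conv_lhs => rw [hc]
      exact natDegree_mul hgne hcne
    have hc0 : c.natDegree = 0 := by omega
    obtain ⟨c₀, hc₀⟩ := natDegree_eq_zero.mp hc0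
    have hc₀ne : c₀ ≠ 0 := fun h0 => hcne (by rw [← hc₀, h0, C_0])
    have hgM : g = M * C c₀⁻¹ := by
      rw [hc, ← hg, ← hc₀, mul_assoc, ← C_mul, mul_inv_cancel₀ hc₀ne, C_1, mul_one]
    have hMQ : M ∣ Q := by
      obtain ⟨r, hr⟩ := EuclideanDomain.gcd_dvd_right M Q
      exact ⟨C c₀⁻¹ * r, by rw [← mul_assoc, ← hgM]; exact hr⟩
    have hMs : M.Separable := hQs.of_dvd hMQ
    exact ⟨μ, hμm, (separable_map (algebraMap K K')).mp hMs, minpoly.aeval K a⟩
  · exfalso
    have htr : Transcendental K a := fun halg => hint halg.isIntegral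
    rw [transcendental_iff_injective] at htr
    have hli0 : LinearIndependent K (fun i : ℕ => a ^ i) := by
      have h1 := (Polynomial.basisMonomials K).linearIndependent.map'
        (aeval a : K[X] →ₐ[K] A).toLinearMap (LinearMap.ker_eq_bot.mpr htr)
      have h2 : (fun i : ℕ => a ^ i) =
          (⇑(aeval a : K[X] →ₐ[K] A).toLinearMap ∘ ⇑(Polynomial.basisMonomials K)) := by
        ext i
        simp [Polynomial.coe_basisMonomials]
      rw [h2]
      exact h1
    have hli : LinearIndependent K' fun i : ℕ => (1 : K') ⊗ₜ[K] (a ^ i) :=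
      Module.Flat.linearIndependent_one_tmul hli0
    have h0 := h
    rw [aeval_eq_sum_range] at h0
    simp only [hpow] at h0
    have h1 := linearIndependent_iff'.mp hli (Finset.range (Q.natDegree + 1)) (fun i => Q.coeff i) h0
      Q.natDegree (Finset.mem_range.mpr (Nat.lt_succ_self _))
    rw [coeff_natDegree, hQm.leadingCoeff] at h1
    exact one_ne_zero h1


open Groth.Agent.Lib.Helper36 in
/-- Idempotents lie in the maximal weakly étale subalgebra. -/
theorem idempotent_mem_maxWeaklyEtale (K A : Type u) [Field K] [CommRing A] [Algebra K A] (e : A)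
    (he : IsIdempotentElem e) : e ∈ EtAlgD.maxWeaklyEtale K A := by
  rw [WE.mem_maxWeaklyEtale_iff]
  refine ⟨X ^ 2 - X, ?_, ?_, ?_⟩
  · apply monic_X_pow_sub
    rw [degree_X]
    norm_num
  · refine ⟨C (-4), C 2 * X - 1, ?_⟩
    rw [derivative_sub, derivative_X_pow, derivative_X]
    simp only [Nat.cast_ofNat, Nat.add_one_sub_one, pow_one, map_neg]
    have h4 : (C (4 : K) : K[X]) = 4 := by rw [← map_ofNat (C : K →+* K[X]) 4]
    have h2 : (C (2 : K) : K[X]) = 2 := by rw [← map_ofNat (C : K →+* K[X]) 2]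
    rw [h4, h2]
    ring
  · rw [map_sub, map_pow, aeval_X, pow_two, he.eq, sub_self]

section Galois

variable {K N A : Type u} [Field K] [Field N] [Algebra K N] [FiniteDimensional K N] [IsGalois K N]
  [CommRing A] [Algebra K A]

open Groth.Agent.Lib.Helper36 in
/-- Finite Galois descent: an idempotent of `N ⊗[K] A` lies in `N ⊗[K] A_s`. -/
theorem idempotent_mem_range_of_isGalois (e : N ⊗[K] A) (he : IsIdempotentElem e) :
    e ∈ LinearMap.range
      ((Subalgebra.toSubmodule (EtAlgD.maxWeaklyEtale K A)).subtype.lTensor N) := by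
  classical
  let b := Module.finBasis K N
  let B := Algebra.traceForm K N
  have hB : B.Nondegenerate := traceForm_nondegenerate K N
  let b' := B.dualBasis hB b
  let τ : Fin (Module.finrank K N) → (N ⊗[K] A →ₗ[K] A) := fun i =>
    (TensorProduct.lid K A).toLinearMap ∘ₗ
      LinearMap.rTensor A ((Algebra.trace K N) ∘ₗ (LinearMap.mulRight K (b i)))
  have hτ : ∀ i x a, τ i (x ⊗ₜ a) = Algebra.trace K N (x * b i) • a := by
    intro i x a
    simp [τ]
  have hexp : ∀ t : N ⊗[K] A, t = ∑ i, b' i ⊗ₜ[K] τ i t := by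
    intro t
    induction t using TensorProduct.induction_on with
    | zero => simp
    | tmul x a =>
      simp only [hτ]
      have hx : x = ∑ i, Algebra.trace K N (x * b i) • b' i := by
        conv_lhs => rw [← b'.sum_repr x]
        refine Finset.sum_congr rfl fun i _ => ?_
        rw [LinearMap.BilinForm.dualBasis_repr_apply]
        rfl
      conv_lhs => rw [hx, TensorProduct.sum_tmul]
      refine Finset.sum_congr rfl fun i _ => ?_
      rw [TensorProduct.smul_tmul]
    | add t₁ t₂ h₁ h₂ =>
      simp only [map_add, TensorProduct.tmul_add, Finset.sum_add_distrib]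
      rw [← h₁, ← h₂]
  let σT : (N ≃ₐ[K] N) → (N ⊗[K] A →ₐ[K] N ⊗[K] A) := fun σ =>
    Algebra.TensorProduct.map σ.toAlgHom (AlgHom.id K A)
  have hgal : ∀ (i) (t : N ⊗[K] A),
      (1 : N) ⊗ₜ[K] τ i t = ∑ σ : N ≃ₐ[K] N, (σ (b i) ⊗ₜ[K] (1 : A)) * σT σ t := by
    intro i t
    induction t using TensorProduct.induction_on with
    | zero => simp
    | tmul x a =>
      simp only [hτ, σT, Algebra.TensorProduct.map_tmul, Algebra.TensorProduct.tmul_mul_tmul,
        one_mul]
      rw [← TensorProduct.smul_tmul, ← TensorProduct.sum_tmul]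
      congr 1
      rw [Algebra.smul_def, mul_one, _root_.trace_eq_sum_automorphisms]
      refine Finset.sum_congr rfl fun σ _ => ?_
      simp [mul_comm]
    | add t₁ t₂ h₁ h₂ =>
      simp only [map_add, TensorProduct.tmul_add, mul_add, Finset.sum_add_distrib, h₁, h₂]
  have hmem : ∀ i, τ i e ∈ EtAlgD.maxWeaklyEtale K A := by
    intro i
    have h1 : (1 : N) ⊗ₜ[K] τ i e ∈ EtAlgD.maxWeaklyEtale N (N ⊗[K] A) := by
      rw [hgal]
      refine Subalgebra.sum_mem _ fun σ _ => Subalgebra.mul_mem _ ?_ ?_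
      · have : σ (b i) ⊗ₜ[K] (1 : A) = algebraMap N (N ⊗[K] A) (σ (b i)) := rfl
        rw [this]
        exact Subalgebra.algebraMap_mem _ _
      · exact idempotent_mem_maxWeaklyEtale N _ _ (he.map (σT σ))
    rw [WE.mem_maxWeaklyEtale_iff] at h1 ⊢
    obtain ⟨Q, hQm, hQs, hQ0⟩ := h1
    exact exists_separable_of_one_tmul (τ i e) Q hQm hQs hQ0
  rw [hexp e]
  refine Submodule.sum_mem _ fun i _ => ⟨b' i ⊗ₜ ⟨τ i e, hmem i⟩, ?_⟩
  simp

end Galois

end Groth.Agent.Lib.Helper98.SepBC
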