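import Mathlib
import Groth.Agent.Lib.Helper98.SepBCA
import Groth.Agent.Lib.Helper98.SepBCB
import Groth.Agent.Lib.Helper98.SepBCC

set_option autoImplicit false
set_option linter.style.haveILetI false
set_option linter.unusedSectionVars false
universe u

namespace Groth.Agent.Lib.Helper98.SepBC

open Polynomial TensorProduct

section Inf

variable {K k A : Type u} [Field K] [Field k] [Algebra K k] [CommRing A] [Algebra K A]

/-- Functoriality: the image of `N ⊗ W` in `k ⊗ V`. -/
theorem map_mem_range_lTensor {N : Type*} [Field N] [Algebra K N] (f : N →ₐ[K] k)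
    (W : Submodule K A) (y : N ⊗[K] A) (hy : y ∈ LinearMap.range (W.subtype.lTensor N)) :
    Algebra.TensorProduct.map f (AlgHom.id K A) y ∈ LinearMap.range (W.subtype.lTensor k) := by
  obtain ⟨y', rfl⟩ := hy
  refine ⟨(f.toLinearMap.rTensor W) y', ?_⟩
  have h1 : ∀ t : N ⊗[K] A, Algebra.TensorProduct.map f (AlgHom.id K A) t =
      (f.toLinearMap.rTensor A) t := by
    intro t
    induction t using TensorProduct.induction_on with
    | zero => simp
    | tmul x a => simp
    | add t₁ t₂ h₁ h₂ => rw [map_add, map_add, h₁, h₂]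
  rw [h1, ← LinearMap.comp_apply, ← LinearMap.comp_apply, LinearMap.lTensor_comp_rTensor,
    LinearMap.rTensor_comp_lTensor]

theorem tensorMap_injective {N : Type*} [Field N] [Algebra K N] (f : N →ₐ[K] k) :
    Function.Injective (Algebra.TensorProduct.map f (AlgHom.id K A)) := by
  have := Module.Flat.rTensor_preserves_injective_linearMap (M := A) f.toLinearMap
    f.toRingHom.injective
  intro a b hab
  exact this hab

variable [IsGalois K k]

theorem exists_finiteGalois_mem_range (t : k ⊗[K] A) :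
    ∃ N : FiniteGaloisIntermediateField K k,
      t ∈ Set.range (Algebra.TensorProduct.map N.toIntermediateField.val (AlgHom.id K A)) := by
  have hmono : ∀ (N N' : FiniteGaloisIntermediateField K k), N ≤ N' →
      Set.range (Algebra.TensorProduct.map N.toIntermediateField.val (AlgHom.id K A)) ⊆
      Set.range (Algebra.TensorProduct.map N'.toIntermediateField.val (AlgHom.id K A)) := by
    rintro N N' hle _ ⟨y, rfl⟩
    refine ⟨Algebra.TensorProduct.map (IntermediateField.inclusion hle) (AlgHom.id K A) y, ?_⟩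
    rw [← AlgHom.comp_apply, ← Algebra.TensorProduct.map_comp]
    rfl
  induction t using TensorProduct.induction_on with
  | zero => exact ⟨⊥, 0, map_zero _⟩
  | tmul x a =>
    refine ⟨FiniteGaloisIntermediateField.adjoin K {x},
      (⟨x, FiniteGaloisIntermediateField.subset_adjoin K {x} rfl⟩ : _) ⊗ₜ a, ?_⟩
    rw [Algebra.TensorProduct.map_tmul]
    rfl
  | add t₁ t₂ h₁ h₂ =>
    obtain ⟨N₁, hN₁⟩ := h₁
    obtain ⟨N₂, hN₂⟩ := h₂
    obtain ⟨y₁, hy₁⟩ := hmono N₁ (N₁ ⊔ N₂) le_sup_left hN₁
    obtain ⟨y₂, hy₂⟩ := hmono N₂ (N₁ ⊔ N₂) le_sup_right hN₂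
    exact ⟨N₁ ⊔ N₂, y₁ + y₂, by rw [map_add, hy₁, hy₂]⟩

/-- Galois descent (possibly infinite): an idempotent of `k ⊗[K] A` lies in `k ⊗[K] A_s`. -/
theorem idempotent_mem_range_of_isGalois' (e : k ⊗[K] A) (he : IsIdempotentElem e) :
    e ∈ LinearMap.range
      ((Subalgebra.toSubmodule (EtAlgD.maxWeaklyEtale K A)).subtype.lTensor k) := by
  obtain ⟨N, e', rfl⟩ := exists_finiteGalois_mem_range e
  have he' : IsIdempotentElem e' := by
    apply tensorMap_injective (A := A) N.toIntermediateField.val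
    rw [map_mul]
    exact he
  exact map_mem_range_lTensor _ _ _ (idempotent_mem_range_of_isGalois e' he')

end Inf


section SepClosed

variable {K F A : Type u} [Field K] [Field F] [Algebra K F] [IsSepClosed F] [CommRing A]
  [Algebra K A]

/-- Over a separably closed extension `F` of `K`, idempotents of `F ⊗[K] A` lie in
`F ⊗[K] A_s`. -/
theorem idempotent_mem_range_of_isSepClosed (e : F ⊗[K] A) (he : IsIdempotentElem e) :
    e ∈ LinearMap.range
      ((Subalgebra.toSubmodule (EtAlgD.maxWeaklyEtale K A)).subtype.lTensor F) := by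
  let k : IntermediateField K F := separableClosure K F
  haveI : IsSepClosure K k := separableClosure.isSepClosure K F
  haveI : IsSepClosed k := IsSepClosure.sep_closed K
  haveI : IsGalois K k := IsSepClosure.isGalois
  let Ψ : (k ⊗[K] A) ⊗[k] F ≃+* F ⊗[K] A :=
    (Algebra.TensorProduct.comm k (k ⊗[K] A) F).toRingEquiv.trans
      (Algebra.TensorProduct.cancelBaseChange K k k F A).toRingEquiv
  have hΨ : ∀ b : k ⊗[K] A, Ψ (b ⊗ₜ[k] (1 : F)) =
      Algebra.TensorProduct.map k.val (AlgHom.id K A) b := by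
    intro b
    induction b using TensorProduct.induction_on with
    | zero => simp
    | tmul x a =>
      simp only [Ψ, RingEquiv.trans_apply, AlgEquiv.coe_ringEquiv,
        Algebra.TensorProduct.comm_tmul, Algebra.TensorProduct.cancelBaseChange_tmul,
        Algebra.TensorProduct.map_tmul, AlgHom.id_apply]
      congr 1
      rw [Algebra.smul_def, mul_one]
      rfl
    | add t₁ t₂ h₁ h₂ => rw [TensorProduct.add_tmul, RingEquiv.map_add, h₁, h₂, ← map_add]
  obtain ⟨e₀, he₀, he₀e⟩ := exists_idempotent_of_tensor_isSepClosed (k := k) (B := k ⊗[K] A)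
    (F := F) (Ψ.symm e) (he.map Ψ.symm)
  have h1 : e = Algebra.TensorProduct.map k.val (AlgHom.id K A) e₀ := by
    rw [← hΨ]
    have : e₀ ⊗ₜ[k] (1 : F) = Ψ.symm e := he₀e
    rw [this, RingEquiv.apply_symm_apply]
  rw [h1]
  exact map_mem_range_lTensor _ _ _ (idempotent_mem_range_of_isGalois' e₀ he₀)

end SepClosed


section Main

open Groth.Agent.Lib.Helper36

variable (K L : Type u) [Field K] [Field L] [Algebra K L] (A : Type u) [CommRing A] [Algebra K A]

theorem adjoin_le_maxWeaklyEtale :
    Algebra.adjoin L ((Algebra.TensorProduct.includeRight : A →ₐ[K] L ⊗[K] A) ''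
      (EtAlgD.maxWeaklyEtale K A : Set A)) ≤ EtAlgD.maxWeaklyEtale L (L ⊗[K] A) := by
  apply Algebra.adjoin_le
  rintro _ ⟨a, ha, rfl⟩
  rw [SetLike.mem_coe, WE.mem_maxWeaklyEtale_iff] at ha ⊢
  obtain ⟨P, hPm, hPs, hP0⟩ := ha
  refine ⟨P.map (algebraMap K L), hPm.map _, hPs.map, ?_⟩
  rw [aeval_map_algebraMap, aeval_algHom_apply, hP0, map_zero]

theorem range_lTensor_le_adjoin (y : L ⊗[K] (Subalgebra.toSubmodule (EtAlgD.maxWeaklyEtale K A))) :
    ((Subalgebra.toSubmodule (EtAlgD.maxWeaklyEtale K A)).subtype.lTensor L) y ∈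
      Algebra.adjoin L ((Algebra.TensorProduct.includeRight : A →ₐ[K] L ⊗[K] A) ''
        (EtAlgD.maxWeaklyEtale K A : Set A)) := by
  induction y using TensorProduct.induction_on with
  | zero => rw [map_zero]; exact Subalgebra.zero_mem _
  | tmul l w =>
    rw [LinearMap.lTensor_tmul]
    have h1 : l ⊗ₜ[K] ((Subalgebra.toSubmodule (EtAlgD.maxWeaklyEtale K A)).subtype w) =
        l • ((Algebra.TensorProduct.includeRight : A →ₐ[K] L ⊗[K] A) (w : A)) := by
      rw [Algebra.TensorProduct.includeRight_apply, TensorProduct.smul_tmul', smul_eq_mul, mul_one]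
      rfl
    rw [h1]
    exact Subalgebra.smul_mem _ (Algebra.subset_adjoin (Set.mem_image_of_mem _ w.2)) l
  | add t₁ t₂ h₁ h₂ => rw [map_add]; exact Subalgebra.add_mem _ h₁ h₂

/-- The maximal weakly étale subalgebra commutes with extension of the base field. -/
theorem maxWeaklyEtale_baseChange :
    EtAlgD.maxWeaklyEtale L (L ⊗[K] A) =
      Algebra.adjoin L ((Algebra.TensorProduct.includeRight : A →ₐ[K] L ⊗[K] A) ''
        (EtAlgD.maxWeaklyEtale K A : Set A)) := by
  apply le_antisymm _ (adjoin_le_maxWeaklyEtale K L A)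
  intro z hz
  rw [WE.mem_maxWeaklyEtale_iff] at hz
  obtain ⟨Q, hQm, hQs, hQ0⟩ := hz
  let F := SeparableClosure L
  let i : L →ₐ[K] F := IsScalarTower.toAlgHom K L F
  let Φ : L ⊗[K] A →ₐ[K] F ⊗[K] A := Algebra.TensorProduct.map i (AlgHom.id K A)
  -- the image of `z` is separable over `F`
  have hcomp : (Φ : L ⊗[K] A →+* F ⊗[K] A).comp (algebraMap L (L ⊗[K] A)) =
      (algebraMap F (F ⊗[K] A)).comp (algebraMap L F) := by
    ext l
    simp [Φ, i, Algebra.TensorProduct.algebraMap_apply]
  have hz' : aeval (Φ z) (Q.map (algebraMap L F)) = 0 := by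
    have h1 := congrArg (Φ : L ⊗[K] A →+* F ⊗[K] A) hQ0
    rw [map_zero, aeval_def, hom_eval₂, hcomp] at h1
    rw [aeval_def, eval₂_map]
    exact h1
  have h2 := mem_span_idempotents_of_separable (Φ z) (Q.map (algebraMap L F)) (hQm.map _) hQs.map hz'
  -- idempotents lie in `F ⊗ A_s`
  let W := Subalgebra.toSubmodule (EtAlgD.maxWeaklyEtale K A)
  let RF : Submodule F (F ⊗[K] A) :=
    LinearMap.range (TensorProduct.AlgebraTensorModule.lTensor F F W.subtype)
  have hRF : ∀ t : F ⊗[K] A, t ∈ RF ↔ t ∈ LinearMap.range (W.subtype.lTensor F) := by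
    intro t
    constructor
    · rintro ⟨y, rfl⟩
      exact ⟨y, rfl⟩
    · rintro ⟨y, rfl⟩
      exact ⟨y, rfl⟩
  have h3 : Φ z ∈ RF := by
    refine Submodule.span_le.mpr ?_ h2
    intro e he
    exact (hRF e).mpr (idempotent_mem_range_of_isSepClosed e he)
  have h5 : ∀ t : L ⊗[K] A, (i.toLinearMap.rTensor A) t = Φ t := by
    intro t
    induction t using TensorProduct.induction_on with
    | zero => simp
    | tmul x a => simp [Φ]
    | add t₁ t₂ h₁ h₂ => rw [map_add, map_add, h₁, h₂]
  have h4 : (i.toLinearMap.rTensor A) z ∈ LinearMap.range (W.subtype.lTensor F) := by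
    rw [h5]
    exact (hRF _).mp h3
  obtain ⟨y, rfl⟩ := mem_range_lTensor_of_rTensor_mem i W z h4
  exact range_lTensor_le_adjoin K L A y

end Main

end Groth.Agent.Lib.Helper98.SepBC
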