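import Mathlib
import Groth.Agent.Lib.Helper98.GaussValuation
import Groth.Agent.S1963

/-!
# Smooth algebras over valuation rings at generic points of the special fibre (helper98)

* `step1`: a smooth algebra is, near a prime, étale over a polynomial ring (wrapper around Mathlib).
* `core`: for `B` étale over `V[x₁..xₙ]` (`V` a valuation ring) and a prime `Q` of `B` over `m V[x]`,
  the local ring `B_Q` is a valuation ring in which every nonzero element is a unit times an element
  of `V` (Gauss extension + the étale case S1963).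
-/

set_option autoImplicit false
set_option linter.style.haveILetI false
universe u

namespace Groth.Agent.Lib.Helper98.SmoothValuation

open MvPolynomial Groth.Agent.Lib.Helper98.GaussValuation

theorem step1 (V : Type u) [CommRing V] [IsDomain V] [ValuationRing V]
    (A : Type u) [CommRing A] [IsDomain A] [Algebra V A] [Algebra.Smooth V A]
    (p : Ideal A) [p.IsPrime] :
    ∃ f ∉ p, ∃ (n : ℕ) (_ : Algebra (MvPolynomial (Fin n) V) (Localization.Away f)),
      IsScalarTower V (MvPolynomial (Fin n) V) (Localization.Away f) ∧
      Algebra.Etale (MvPolynomial (Fin n) V) (Localization.Away f) := by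
  have : Algebra.IsSmoothAt V p := by
    have h := Algebra.smoothLocus_eq_univ (R := V) (A := A)
    have : (⟨p, inferInstance⟩ : PrimeSpectrum A) ∈ Algebra.smoothLocus V A := by
      rw [h]; trivial
    exact this
  obtain ⟨f, hfp, n, inst, htower, hstd⟩ :=
    Algebra.IsSmoothAt.exists_isStandardEtale_mvPolynomial (R := V) (p := p)
  exact ⟨f, hfp, n, inst, htower, inferInstance⟩


theorem core (V : Type u) [CommRing V] [IsDomain V] [ValuationRing V] (n : ℕ)
    (B : Type u) [CommRing B] [Algebra (MvPolynomial (Fin n) V) B] [Algebra V B]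
    [IsScalarTower V (MvPolynomial (Fin n) V) B] [Algebra.Etale (MvPolynomial (Fin n) V) B]
    (Q : Ideal B) [Q.IsPrime]
    (hQ : Q.comap (algebraMap (MvPolynomial (Fin n) V) B) =
      (IsLocalRing.maximalIdeal V).map (C : V →+* MvPolynomial (Fin n) V)) :
    ∃ (L' : Type u) (_ : CommRing L') (_ : Algebra B L') (_ : IsDomain L'),
      IsLocalization.AtPrime L' Q ∧ ValuationRing L' ∧
      ∀ x : L', x ≠ 0 → ∃ (v : V) (u : L'ˣ), x = algebraMap B L' (algebraMap V B v) * u := by
  classical
  let P := MvPolynomial (Fin n) V
  let mP : Ideal P := (IsLocalRing.maximalIdeal V).map (C : V →+* MvPolynomial (Fin n) V)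
  have hprime : mP.IsPrime := isPrime_map_C (IsLocalRing.maximalIdeal V) (Fin n)
  let W₀ := Localization.AtPrime mP
  haveI : IsDomain W₀ := isDomain_gauss W₀ hprime
  haveI : ValuationRing W₀ := valuationRing_gauss W₀ hprime
  let T : Submonoid B := Algebra.algebraMapSubmonoid B mP.primeCompl
  let B' := Localization T
  have hpush : Algebra.IsPushout P W₀ B B' :=
    (Algebra.isPushout_of_isLocalization mP.primeCompl W₀ B B').symm
  have hEt : Algebra.Etale W₀ B' := by
    let e : TensorProduct P W₀ B ≃ₐ[W₀] B' := Algebra.IsPushout.equiv P W₀ B B'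
    exact Algebra.Etale.of_equiv (R := W₀) (A := TensorProduct P W₀ B) (B := B') e
  -- the prime `Q'`
  have hdisj : Disjoint (T : Set B) (Q : Set B) := by
    rw [Set.disjoint_left]
    rintro _ ⟨s, hs, rfl⟩ hmem
    have : s ∈ Q.comap (algebraMap P B) := hmem
    rw [hQ] at this
    exact hs this
  let Q' : Ideal B' := Q.map (algebraMap B B')
  have hQ'prime : Q'.IsPrime := IsLocalization.isPrime_of_isPrime_disjoint T B' Q inferInstance hdisj
  have hQ'comap : Q'.comap (algebraMap B B') = Q :=
    IsLocalization.under_map_of_isPrime_disjoint T B' inferInstance hdisj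
  have hQ'W : Q'.comap (algebraMap W₀ B') = IsLocalRing.maximalIdeal W₀ := by
    rw [← IsLocalization.map_under mP.primeCompl W₀ (Q'.comap (algebraMap W₀ B')),
      ← Localization.AtPrime.map_eq_maximalIdeal]
    congr 1
    show Ideal.comap (algebraMap P W₀) (Ideal.comap (algebraMap W₀ B') Q') = mP
    rw [Ideal.comap_comap, ← IsScalarTower.algebraMap_eq, IsScalarTower.algebraMap_eq P B B',
      ← Ideal.comap_comap, hQ'comap, hQ]
  obtain ⟨hdom, hval, hinj, hloc, hunr⟩ := Groth.Agent.S1963.result W₀ B' Q' hQ'W
  let L' := Localization.AtPrime Q'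
  haveI : IsDomain L' := hdom
  haveI : ValuationRing L' := hval hdom
  have hloc' : IsLocalization.AtPrime L' Q := by
    have h : IsLocalization.AtPrime L' (Q'.comap (algebraMap B B')) :=
      IsLocalization.isLocalization_isLocalization_atPrime_isLocalization T L' Q'
    have heq : (Q'.comap (algebraMap B B')).primeCompl = Q.primeCompl := by
      ext x
      simp only [Ideal.mem_primeCompl_iff, hQ'comap]
    unfold IsLocalization.AtPrime at h ⊢
    rw [heq] at h
    exact h
  refine ⟨L', inferInstance, inferInstance, hdom, hloc', hval hdom, ?_⟩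
  intro x hx
  obtain ⟨w, u, hu⟩ := hunr x hx
  have hw : w ≠ 0 := by
    rintro rfl
    rw [map_zero, mul_zero] at hu
    exact hx hu
  obtain ⟨v, u₀, hw'⟩ := exists_eq_algebraMap_mul_unit W₀ hprime w hw
  refine ⟨v, u * Units.map (algebraMap W₀ L' : W₀ →* L') u₀, ?_⟩
  have h1 : algebraMap B L' (algebraMap V B v) = algebraMap W₀ L' (algebraMap V W₀ v) := by
    have e1 : algebraMap V B v = algebraMap P B (algebraMap V P v) :=
      IsScalarTower.algebraMap_apply V P B v
    have e2 : algebraMap V W₀ v = algebraMap P W₀ (algebraMap V P v) :=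
      IsScalarTower.algebraMap_apply V P W₀ v
    rw [e1, e2, ← IsScalarTower.algebraMap_apply P B L', ← IsScalarTower.algebraMap_apply P W₀ L']
  rw [hu, hw', map_mul, h1, Units.val_mul, Units.coe_map]
  simp only [MonoidHom.coe_coe]
  ring


end Groth.Agent.Lib.Helper98.SmoothValuation
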