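import Mathlib

/-!
# Superficial elements in dimension one (helper98)

* `exists_notMem_of_forall_ne_top`: over a local ring with infinite residue field, a finitely
  generated module is not a finite union of proper submodules.
* `exists_span_singleton_eq_map_maximalIdeal`: for a one-dimensional local domain `O` with
  infinite residue field and an integral extension `B` which is a Dedekind domain, there is
  `x ∈ m` with `x B = m B`.
-/

set_option autoImplicit false
universe u v

namespace Groth.Agent.Lib.Helper98

open IsLocalRing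

section avoid

variable {R : Type u} [CommRing R] [IsLocalRing R]

/-- A nontrivial finitely generated module over a local ring with infinite residue field is
infinite. -/
theorem infinite_of_nontrivial_of_finite [Infinite (ResidueField R)]
    (Q : Type v) [AddCommGroup Q] [Module R Q] [Module.Finite R Q] [Nontrivial Q] :
    Infinite Q := by
  have hne : (maximalIdeal R • (⊤ : Submodule R Q)) ≠ ⊤ := by
    intro h
    have h2 : (⊤ : Submodule R Q) = ⊥ :=
      Submodule.eq_bot_of_le_smul_of_le_jacobson_bot (maximalIdeal R) ⊤ Module.Finite.fg_top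
        h.ge (IsLocalRing.maximalIdeal_le_jacobson _)
    exact top_ne_bot h2
  haveI : Nontrivial (Q ⧸ maximalIdeal R • (⊤ : Submodule R Q)) :=
    Submodule.Quotient.nontrivial_iff.mpr hne
  letI : Field (R ⧸ maximalIdeal R) := Ideal.Quotient.field (maximalIdeal R)
  haveI : Infinite (R ⧸ maximalIdeal R) := ‹Infinite (ResidueField R)›
  haveI : Infinite (Q ⧸ maximalIdeal R • (⊤ : Submodule R Q)) :=
    Module.Free.infinite (R ⧸ maximalIdeal R) _
  exact Infinite.of_surjective _ (Submodule.mkQ_surjective (maximalIdeal R • (⊤ : Submodule R Q)))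

/-- Over a local ring with infinite residue field, a finitely generated module is not a finite
union of proper submodules. -/
theorem exists_notMem_of_forall_ne_top [Infinite (ResidueField R)]
    {N : Type v} [AddCommGroup N] [Module R N] [Module.Finite R N] {ι : Type*} (s : Finset ι)
    (W : ι → Submodule R N) (hW : ∀ i ∈ s, W i ≠ ⊤) : ∃ v : N, ∀ i ∈ s, v ∉ W i := by
  by_contra hcon
  push_neg at hcon
  have hcov : ⋃ i ∈ s, (W i : Set N) = Set.univ := by
    ext v
    simp only [Set.mem_iUnion, SetLike.mem_coe, exists_prop, Set.mem_univ, iff_true]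
    exact hcon v
  obtain ⟨k, hk, hfi⟩ := Submodule.exists_finiteIndex_of_cover hcov
  haveI : Finite (N ⧸ W k) := AddSubgroup.finite_quotient_of_finiteIndex
  haveI : Nontrivial (N ⧸ W k) := Submodule.Quotient.nontrivial_iff.mpr (hW k hk)
  haveI := infinite_of_nontrivial_of_finite (R := R) (N ⧸ W k)
  exact not_finite (N ⧸ W k)

end avoid

section superficial

variable (O : Type u) [CommRing O] [IsDomain O] [IsNoetherianRing O] [IsLocalRing O]
  (B : Type v) [CommRing B] [IsDedekindDomain B] [Algebra O B] [Algebra.IsIntegral O B]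

/-- **Superficial element**: for a local Noetherian domain `O`, not a field, with infinite
residue field and an integral extension `B` which is a Dedekind domain, there is `x ∈ m` with
`x B = m B`. -/
theorem exists_span_singleton_eq_map_maximalIdeal [Infinite (ResidueField O)]
    (hm : maximalIdeal O ≠ ⊥) (hinj : Function.Injective (algebraMap O B)) :
    ∃ x ∈ maximalIdeal O, x ≠ 0 ∧
      Ideal.span {algebraMap O B x} = (maximalIdeal O).map (algebraMap O B) := by
  classical
  set I : Ideal B := (maximalIdeal O).map (algebraMap O B) with hI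
  have hI0 : I ≠ ⊥ := by
    obtain ⟨y, hy, hy0⟩ := Submodule.exists_mem_ne_zero_of_ne_bot hm
    intro h
    have : algebraMap O B y ∈ I := Ideal.mem_map_of_mem _ hy
    rw [h, Ideal.mem_bot] at this
    exact hy0 (hinj (by rw [this, map_zero]))
  have hfin := Ideal.finite_factors hI0
  set s : Finset (IsDedekindDomain.HeightOneSpectrum B) := hfin.toFinset with hs
  -- every maximal ideal of `B` contains `I`
  have hmax : ∀ P : Ideal B, P.IsMaximal → I ≤ P := by
    intro P hP
    have h1 : (P.comap (algebraMap O B)).IsMaximal :=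
      Ideal.isMaximal_comap_of_isIntegral_of_isMaximal P
    have h2 : P.comap (algebraMap O B) = maximalIdeal O := IsLocalRing.eq_maximalIdeal h1
    rw [hI, Ideal.map_le_iff_le_comap, h2]
  let W : IsDedekindDomain.HeightOneSpectrum B → Submodule O (maximalIdeal O) := fun v =>
    Submodule.comap (maximalIdeal O).subtype
      ((v.asIdeal * I).comap (algebraMap O B) : Ideal O)
  have hWmem : ∀ v (y : maximalIdeal O), y ∈ W v ↔ algebraMap O B y ∈ v.asIdeal * I :=
    fun v y => Iff.rfl
  have hW : ∀ v ∈ s, W v ≠ ⊤ := by
    intro v _ h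
    have hle : I ≤ v.asIdeal * I := by
      rw [hI, Ideal.map_le_iff_le_comap]
      intro y hy
      have : (⟨y, hy⟩ : maximalIdeal O) ∈ W v := by rw [h]; trivial
      exact (hWmem v _).1 this
    have heq : v.asIdeal * I = I := le_antisymm Ideal.mul_le_right hle
    have h1 : v.asIdeal = 1 := by
      rcases mul_left_eq_self₀.1 heq with h | h
      · exact h
      · exact absurd h hI0
    exact v.isPrime.ne_top (by rwa [Ideal.one_eq_top] at h1)
  haveI : Module.Finite O (maximalIdeal O) :=
    Module.Finite.iff_fg.mpr (maximalIdeal O).fg_of_isNoetherianRing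
  obtain ⟨y, hy⟩ := exists_notMem_of_forall_ne_top (R := O) s W hW
  suffices hmain : Ideal.span {algebraMap O B y.1} = I by
    refine ⟨y.1, y.2, ?_, hmain⟩
    intro h0
    rw [h0, map_zero, Ideal.span_singleton_eq_bot.mpr rfl] at hmain
    exact hI0 hmain.symm
  have hyI : algebraMap O B y.1 ∈ I := Ideal.mem_map_of_mem _ y.2
  have hle : Ideal.span {algebraMap O B y.1} ≤ I := by
    rwa [Ideal.span_singleton_le_iff_mem]
  obtain ⟨J, hJ⟩ := Ideal.dvd_iff_le.mpr hle
  by_cases hJtop : J = ⊤
  · rw [hJ, hJtop, Ideal.mul_top]
  exfalso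
  obtain ⟨P, hP, hJP⟩ := Ideal.exists_le_maximal J hJtop
  have hIP : I ≤ P := hmax P hP
  have hP0 : P ≠ ⊥ := fun h => hI0 (by rw [h] at hIP; exact le_bot_iff.1 hIP)
  let v : IsDedekindDomain.HeightOneSpectrum B := ⟨P, hP.isPrime, hP0⟩
  have hvs : v ∈ s := by
    rw [hs, Set.Finite.mem_toFinset]
    exact Ideal.dvd_iff_le.mpr hIP
  apply hy v hvs
  rw [hWmem]
  have : algebraMap O B y.1 ∈ Ideal.span {algebraMap O B y.1} := Ideal.mem_span_singleton_self _
  rw [hJ] at this
  have hle2 : I * J ≤ v.asIdeal * I := by
    rw [mul_comm]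
    exact Ideal.mul_mono_left hJP
  exact hle2 this

end superficial

end Groth.Agent.Lib.Helper98
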