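import Groth.Agent.Lib.Helper98.DerivedOneIso
import Groth.Agent.Lib.Helper98.LatticeDimOne
import Groth.Agent.Lib.Helper98.NormalizationPID

/-!
# `Tor₁(Õ, -)` for torsion-free modules over one-dimensional local domains (helper98)
-/

set_option autoImplicit false
universe u

namespace Groth.Agent.Lib.Helper98

open TensorProduct CategoryTheory MonoidalCategory Limits

section quasiInverse

variable {O : Type u} [CommRing O] {N M : Type u} [AddCommGroup N] [Module O N]
  [AddCommGroup M] [Module O M]

/-- If `x M ⊆ f(N)` for an injective `f`, then `x = f ∘ g = g ∘ f` for some `g`. -/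
theorem exists_quasi_inverse (f : N →ₗ[O] M) (hf : Function.Injective f) (x : O)
    (hx : ∀ m, x • m ∈ LinearMap.range f) :
    ∃ g : M →ₗ[O] N, (∀ m, f (g m) = x • m) ∧ (∀ v, g (f v) = x • v) := by
  let e := LinearEquiv.ofInjective f hf
  let g : M →ₗ[O] N :=
    e.symm.toLinearMap.comp (LinearMap.codRestrict (LinearMap.range f) (x • LinearMap.id) hx)
  have hfg : ∀ m, f (g m) = x • m := by
    intro m
    have h1 : f (g m) = (e (g m) : M) := (LinearEquiv.ofInjective_apply f (g m)).symm
    rw [h1]
    show ((e (e.symm _) : LinearMap.range f) : M) = x • m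
    rw [LinearEquiv.apply_symm_apply]
    rfl
  refine ⟨g, hfg, fun v => hf ?_⟩
  rw [hfg, map_smul]

theorem lTensor_comp_eq_smul (Q : Type u) [AddCommGroup Q] [Module O Q] (f : N →ₗ[O] M)
    (g : M →ₗ[O] N) (x : O) (hgf : ∀ v, g (f v) = x • v) (y : Q ⊗[O] N) :
    LinearMap.lTensor Q g (LinearMap.lTensor Q f y) = x • y := by
  have h : g.comp f = x • LinearMap.id := LinearMap.ext hgf
  rw [← LinearMap.comp_apply, ← LinearMap.lTensor_comp, h, LinearMap.lTensor_smul,
    LinearMap.lTensor_id]
  rfl

end quasiInverse

section dimOne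

variable (O : Type u) [CommRing O] [IsDomain O] [IsNoetherianRing O]

/-- A common denominator for a cokernel of finite length. -/
theorem exists_ne_zero_smul_mem_range (hdim : ringKrullDim O = 1) {N M : Type u}
    [AddCommGroup N] [Module O N] [AddCommGroup M] [Module O M] [Module.Finite O M]
    (f : N →ₗ[O] M) (hT : IsFiniteLength O (M ⧸ LinearMap.range f)) :
    ∃ x : O, x ≠ 0 ∧ ∀ m, x • m ∈ LinearMap.range f := by
  have hnart := not_isArtinianRing_of_dim_one O hdim
  have hlen : Module.length O (M ⧸ LinearMap.range f) ≠ ⊤ :=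
    Module.length_ne_top_iff.mpr hT
  obtain ⟨x, hx0, hx⟩ := exists_ne_zero_smul_le_of_fg (⊤ : Submodule O M) (LinearMap.range f)
    Module.Finite.fg_top (fun m _ => by
      obtain ⟨a, ha, haq⟩ := exists_ne_zero_smul_eq_zero_of_length_ne_top hnart hlen
        ((LinearMap.range f).mkQ m)
      refine ⟨a, ha, ?_⟩
      rw [← map_smul, Submodule.mkQ_apply, Submodule.Quotient.mk_eq_zero] at haq
      exact haq)
  exact ⟨x, hx0, fun m => hx m trivial⟩

end dimOne

section tor

variable (O : Type u) [CommRing O] [IsDomain O] [IsNoetherianRing O]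
  (K : Type u) [Field K] [Algebra O K] [IsFractionRing O K]

/-- `Õ ⊗ O^n` has no `O`-torsion. -/
theorem eq_zero_of_smul_eq_zero_tensor_pi (n : ℕ) (x : O) (hx : x ≠ 0)
    (y : ↥(integralClosure O K) ⊗[O] (Fin n → O)) (h : x • y = 0) : y = 0 := by
  classical
  let e : ↥(integralClosure O K) ⊗[O] (Fin n → O) ≃ₗ[O] (Fin n → ↥(integralClosure O K)) :=
    TensorProduct.piScalarRight O O ↥(integralClosure O K) (Fin n)
  apply e.injective
  rw [map_zero]
  have h1 : x • e y = 0 := by rw [← map_smul, h, map_zero]
  funext i
  have h2 : x • (e y i) = 0 := congrFun h1 i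
  rw [Algebra.smul_def] at h2
  have hinj : Function.Injective (algebraMap O (integralClosure O K)) := by
    have h := IsFractionRing.injective O K
    rw [IsScalarTower.algebraMap_eq O (integralClosure O K) K, RingHom.coe_comp] at h
    exact Function.Injective.of_comp h
  rcases mul_eq_zero.mp h2 with h3 | h3
  · exact absurd (hinj (by rw [h3, map_zero])) hx
  · exact h3

theorem lTensor_injective_of_finiteLength_coker (hdim : ringKrullDim O = 1)
    (M : Type u) [AddCommGroup M] [Module O M] [Module.Finite O M]
    (n : ℕ) (f : (Fin n → O) →ₗ[O] M) (hf : Function.Injective f)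
    (hT : IsFiniteLength O (M ⧸ LinearMap.range f)) :
    Function.Injective (LinearMap.lTensor ↥(integralClosure O K) f) := by
  obtain ⟨x, hx0, hx⟩ := exists_ne_zero_smul_mem_range O hdim f hT
  obtain ⟨g, -, hgf⟩ := exists_quasi_inverse f hf x hx
  rw [injective_iff_map_eq_zero]
  intro y hy
  have h1 := lTensor_comp_eq_smul ↥(integralClosure O K) f g x hgf y
  rw [hy, map_zero] at h1
  exact eq_zero_of_smul_eq_zero_tensor_pi O K n x hx0 y h1.symm

/-- The short exact sequence attached to an injective linear map. -/
noncomputable def sesOfInjective {N M : Type u} [AddCommGroup N] [Module O N] [AddCommGroup M]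
    [Module O M] (f : N →ₗ[O] M) : ShortComplex (ModuleCat.{u} O) :=
  ShortComplex.mk (ModuleCat.ofHom f) (ModuleCat.ofHom (LinearMap.range f).mkQ) (by
    ext x
    change (LinearMap.range f).mkQ (f x) = 0
    rw [Submodule.mkQ_apply, Submodule.Quotient.mk_eq_zero]
    exact ⟨x, rfl⟩)

omit [IsDomain O] [IsNoetherianRing O] in
theorem sesOfInjective_shortExact {N M : Type u} [AddCommGroup N] [Module O N] [AddCommGroup M]
    [Module O M] (f : N →ₗ[O] M) (hf : Function.Injective f) :
    (sesOfInjective O f).ShortExact := by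
  have hmono : Mono (sesOfInjective O f).f := by
    rw [ModuleCat.mono_iff_injective]
    exact hf
  have hepi : Epi (sesOfInjective O f).g := by
    rw [ModuleCat.epi_iff_surjective]
    exact Submodule.mkQ_surjective _
  refine ShortComplex.ShortExact.mk ?_
  rw [ShortComplex.moduleCat_exact_iff]
  intro a ha
  change (LinearMap.range f).mkQ a = 0 at ha
  rw [Submodule.mkQ_apply, Submodule.Quotient.mk_eq_zero] at ha
  exact ha

theorem tor_one_iso_of_finiteLength_coker (hdim : ringKrullDim O = 1)
    (M : Type u) [AddCommGroup M] [Module O M] [Module.Finite O M]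
    (n : ℕ) (f : (Fin n → O) →ₗ[O] M) (hf : Function.Injective f)
    (hT : IsFiniteLength O (M ⧸ LinearMap.range f)) :
    Nonempty (((Tor (ModuleCat.{u} O) 1).obj (ModuleCat.of O ↥(integralClosure O K))).obj
        (ModuleCat.of O M) ≅
      ((Tor (ModuleCat.{u} O) 1).obj (ModuleCat.of O ↥(integralClosure O K))).obj
        (ModuleCat.of O (M ⧸ LinearMap.range f))) := by
  let F := (tensoringLeft (ModuleCat.{u} O)).obj (ModuleCat.of O ↥(integralClosure O K))
  have hS := sesOfInjective_shortExact O f hf
  haveI : PreservesFiniteColimits F := by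
    change PreservesFiniteColimits (tensorLeft (ModuleCat.of O ↥(integralClosure O K)))
    infer_instance
  haveI : Projective (sesOfInjective O f).X₁ := by
    change Projective (ModuleCat.of O (Fin n → O))
    exact ModuleCat.projective_of_free (Module.Free.chooseBasis O (Fin n → O))
  haveI : Mono (F.map (sesOfInjective O f).f) := by
    rw [ModuleCat.mono_iff_injective]
    exact lTensor_injective_of_finiteLength_coker O K hdim M n f hf hT
  have hiso := isIso_leftDerived_one_map_g F hS
  exact ⟨@asIso _ _ _ _ ((F.leftDerived 1).map (sesOfInjective O f).g) hiso⟩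

theorem ker_lTensor_eq_torsion (hdim : ringKrullDim O = 1)
    (M : Type u) [AddCommGroup M] [Module O M]
    (n : ℕ) (g : M →ₗ[O] (Fin n → O)) (hg : Function.Injective g)
    (hT : IsFiniteLength O ((Fin n → O) ⧸ LinearMap.range g)) :
    LinearMap.ker (LinearMap.lTensor ↥(integralClosure O K) g) =
      Submodule.torsion O (↥(integralClosure O K) ⊗[O] M) := by
  obtain ⟨x, hx0, hx⟩ := exists_ne_zero_smul_mem_range O hdim g hT
  obtain ⟨g', -, hgf⟩ := exists_quasi_inverse g hg x hx
  ext y
  rw [LinearMap.mem_ker, Submodule.mem_torsion_iff]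
  constructor
  · intro hy
    refine ⟨⟨x, mem_nonZeroDivisors_of_ne_zero hx0⟩, ?_⟩
    have h1 := lTensor_comp_eq_smul ↥(integralClosure O K) g g' x hgf y
    rw [hy, map_zero] at h1
    exact h1.symm
  · rintro ⟨a, ha⟩
    have h1 : (a : O) • LinearMap.lTensor ↥(integralClosure O K) g y = 0 := by
      rw [← map_smul]
      have : (a : O) • y = 0 := ha
      rw [this, map_zero]
    exact eq_zero_of_smul_eq_zero_tensor_pi O K n a (nonZeroDivisors.coe_ne_zero a) _ h1

theorem torsion_tensor_equiv_tor_one (hdim : ringKrullDim O = 1)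
    (M : Type u) [AddCommGroup M] [Module O M]
    (n : ℕ) (g : M →ₗ[O] (Fin n → O)) (hg : Function.Injective g)
    (hT : IsFiniteLength O ((Fin n → O) ⧸ LinearMap.range g)) :
    Nonempty (↥(Submodule.torsion O (↥(integralClosure O K) ⊗[O] M)) ≃ₗ[O]
      ↑(((Tor (ModuleCat.{u} O) 1).obj (ModuleCat.of O ↥(integralClosure O K))).obj
        (ModuleCat.of O ((Fin n → O) ⧸ LinearMap.range g)))) := by
  let F := (tensoringLeft (ModuleCat.{u} O)).obj (ModuleCat.of O ↥(integralClosure O K))
  have hS := sesOfInjective_shortExact O g hg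
  haveI : PreservesFiniteColimits F := by
    change PreservesFiniteColimits (tensorLeft (ModuleCat.of O ↥(integralClosure O K)))
    infer_instance
  haveI : Projective (sesOfInjective O g).X₂ := by
    change Projective (ModuleCat.of O (Fin n → O))
    exact ModuleCat.projective_of_free (Module.Free.chooseBasis O (Fin n → O))
  obtain ⟨δ, w, hmono, hex⟩ := exists_mono_leftDerived_one_to_obj F hS
  let δL : ↑((F.leftDerived 1).obj (sesOfInjective O g).X₃) →ₗ[O]
      (↥(integralClosure O K) ⊗[O] M) := δ.hom
  have hinj : Function.Injective δL := (ModuleCat.mono_iff_injective δ).mp hmono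
  have hrange : LinearMap.range δL =
      LinearMap.ker (LinearMap.lTensor ↥(integralClosure O K) g) := by
    ext y
    constructor
    · rintro ⟨t, rfl⟩
      have := congrArg (fun φ => φ.hom t) w
      exact this
    · intro hy
      rw [ShortComplex.moduleCat_exact_iff] at hex
      obtain ⟨t, ht⟩ := hex y hy
      exact ⟨t, ht⟩
  rw [← ker_lTensor_eq_torsion O K hdim M n g hg hT, ← hrange]
  exact ⟨(LinearEquiv.ofInjective δL hinj).symm⟩

end tor

end Groth.Agent.Lib.Helper98
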