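import Groth.Agent.Lib.Helper98.Superficial
import Groth.Agent.Lib.Helper98.KrullAkizukiKey

/-!
# Number of generators of torsion-free modules over one-dimensional local domains (helper98)

For a one-dimensional Noetherian local domain `O` with infinite residue field and finite
normalization `Õ`, a finitely generated torsion-free module of rank `n` is generated by at most
`n · length(Õ / m Õ)` elements.
-/

set_option autoImplicit false
universe u

namespace Groth.Agent.Lib.Helper98

open IsLocalRing TensorProduct Groth.Agent.Lib.Helper74

section

variable (O : Type u) [CommRing O] [IsDomain O] [IsNoetherianRing O]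
  (K : Type u) [Field K] [Algebra O K] [IsFractionRing O K]

theorem isDedekindDomain_integralClosure [Ring.KrullDimLE 1 O]
    [Module.Finite O (integralClosure O K)] : IsDedekindDomain (integralClosure O K) := by
  haveI : Ring.DimensionLEOne O :=
    ⟨fun {p} hp hp' => Ring.krullDimLE_one_iff_of_noZeroDivisors.mp ‹_› p hp hp'⟩
  haveI h1 : IsNoetherianRing (integralClosure O K) := IsNoetherianRing.of_finite O _
  haveI h2 : IsIntegrallyClosed (integralClosure O K) :=
    integralClosure.isIntegrallyClosedOfFiniteExtension K (L := K)
  haveI h3 : Ring.DimensionLEOne (integralClosure O K) := inferInstance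
  exact { (inferInstance : IsDomain (integralClosure O K)), h1, h3, h2 with }

end

section main

variable (O : Type u) [CommRing O] [IsDomain O] [IsNoetherianRing O]
  (K : Type u) [Field K] [Algebra O K] [IsFractionRing O K]

/-- `length_O (Õ / x Õ) = length_O (O / x O)`. -/
theorem length_integralClosure_quotient_eq_ord [Ring.KrullDimLE 1 O]
    [Module.Finite O (integralClosure O K)] (x : O) (hx : x ≠ 0) :
    Module.length O (↥(integralClosure O K) ⧸
      Ideal.span {x} • (⊤ : Submodule O (integralClosure O K))) = Ring.ord O x := by
  have hL : IsLat K (Subalgebra.toSubmodule (integralClosure O K)) := by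
    refine ⟨?_, ?_⟩
    · exact Module.Finite.iff_fg.mp ‹Module.Finite O (integralClosure O K)›
    · rw [eq_top_iff]
      intro v _
      have : v = v • (1 : K) := by simp
      rw [this]
      exact Submodule.smul_mem _ _ (Submodule.subset_span (one_mem (integralClosure O K)))
  have h := length_quotient_smul_top_of_isLat K hL x hx
  rw [Module.finrank_self, one_smul] at h
  exact h

variable [IsLocalRing O]

theorem spanFinrank_eq_length_quotient {V : Type u} [AddCommGroup V] [Module O V]
    (N : Submodule O V) (hN : N.FG) :
    (N.spanFinrank : ℕ∞) = Module.length O (N ⧸ maximalIdeal O • (⊤ : Submodule O N)) := by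
  letI : Field (O ⧸ maximalIdeal O) := Ideal.Quotient.field (maximalIdeal O)
  haveI : Module.Finite O N := Module.Finite.iff_fg.mpr hN
  rw [IsLocalRing.spanFinrank_eq_finrank_quotient N hN,
    Module.length_eq_of_surjective (S := O) (R := O ⧸ maximalIdeal O)
      Ideal.Quotient.mk_surjective, Module.length_eq_finrank]

/-- A torsion-free module embeds into its localization at the generic point. -/
theorem mk_one_injective_of_noZeroSMulDivisors (M : Type u) [AddCommGroup M] [Module O M]
    [NoZeroSMulDivisors O M] : Function.Injective (TensorProduct.mk O K M 1) := by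
  haveI : IsLocalizedModule (nonZeroDivisors O) (TensorProduct.mk O K M 1) :=
    (isLocalizedModule_iff_isBaseChange (nonZeroDivisors O) K _).mpr
      (TensorProduct.isBaseChange O M K)
  rw [← LinearMap.ker_eq_bot, LinearMap.ker_eq_bot']
  intro v hv
  obtain ⟨c, hc⟩ := (IsLocalizedModule.eq_zero_iff (nonZeroDivisors O) _).mp hv
  rcases smul_eq_zero.mp hc with h | h
  · exact absurd h (nonZeroDivisors.coe_ne_zero c)
  · exact h

/-- **Generators of lattices in dimension one.** -/
theorem spanFinrank_le_finrank_mul_length_of_submodule [Infinite (ResidueField O)]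
    (hdim : ringKrullDim O = 1) [Module.Finite O (integralClosure O K)]
    {V : Type u} [AddCommGroup V] [Module O V] [Module K V] [IsScalarTower O K V]
    [FiniteDimensional K V] (M' : Submodule O V) (hfg : M'.FG) :
    (M'.spanFinrank : ℕ∞) ≤ (Module.finrank K V : ℕ∞) *
      Module.length O (↥(integralClosure O K) ⧸
        maximalIdeal O • (⊤ : Submodule O ↥(integralClosure O K))) := by
  haveI : Ring.KrullDimLE 1 O := by rw [Ring.krullDimLE_iff, hdim]; rfl
  haveI := isDedekindDomain_integralClosure O K
  have hm : maximalIdeal O ≠ ⊥ := by
    intro h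
    have hf : IsField O := IsLocalRing.isField_iff_maximalIdeal_eq.mpr h
    have := ringKrullDim_eq_zero_of_isField hf
    rw [hdim] at this
    exact absurd this (by norm_num)
  have hinj : Function.Injective (algebraMap O (integralClosure O K)) := by
    have h := IsFractionRing.injective O K
    rw [IsScalarTower.algebraMap_eq O (integralClosure O K) K, RingHom.coe_comp] at h
    exact Function.Injective.of_comp h
  obtain ⟨x, hxm, hx0, hx⟩ :=
    exists_span_singleton_eq_map_maximalIdeal O (integralClosure O K) hm hinj
  rw [spanFinrank_eq_length_quotient O M' hfg]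
  have hle : Ideal.span {x} • (⊤ : Submodule O M') ≤ maximalIdeal O • (⊤ : Submodule O M') :=
    Submodule.smul_mono_left ((Ideal.span_singleton_le_iff_mem _).mpr hxm)
  have s2 : Module.length O (M' ⧸ maximalIdeal O • (⊤ : Submodule O M')) ≤
      Module.length O (M' ⧸ Ideal.span {x} • (⊤ : Submodule O M')) :=
    Module.length_le_of_surjective (Submodule.factor hle) (Submodule.factor_surjective hle)
  have s3 := length_quotient_smul_top_le K M' x hx0
  have s4 := length_integralClosure_quotient_eq_ord O K x hx0
  have s5 : Ideal.span {x} • (⊤ : Submodule O ↥(integralClosure O K)) =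
      maximalIdeal O • (⊤ : Submodule O ↥(integralClosure O K)) := by
    rw [Ideal.smul_top_eq_map, Ideal.smul_top_eq_map, Ideal.map_span, Set.image_singleton, hx]
  rw [s5] at s4
  rw [s4]
  refine s2.trans (s3.trans ?_)
  rw [nsmul_eq_mul]

/-- **Generators of torsion-free modules in dimension one.** -/
theorem spanFinrank_top_le_finrank_mul_length [Infinite (ResidueField O)]
    (hdim : ringKrullDim O = 1) [Module.Finite O (integralClosure O K)]
    (M : Type u) [AddCommGroup M] [Module O M] [Module.Finite O M] [NoZeroSMulDivisors O M] :
    ((⊤ : Submodule O M).spanFinrank : ℕ∞) ≤ (Module.finrank K (K ⊗[O] M) : ℕ∞) *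
      Module.length O (↥(integralClosure O K) ⧸
        maximalIdeal O • (⊤ : Submodule O ↥(integralClosure O K))) := by
  have hφ : Function.Injective (TensorProduct.mk O K M 1) :=
    mk_one_injective_of_noZeroSMulDivisors O K M
  have h1 : (⊤ : Submodule O M).spanFinrank =
      ((⊤ : Submodule O M).map (TensorProduct.mk O K M 1)).spanFinrank :=
    (Submodule.spanFinrank_map_eq_of_injective _ hφ).symm
  rw [h1]
  exact spanFinrank_le_finrank_mul_length_of_submodule O K hdim _
    ((Module.Finite.fg_top).map _)

end main

end Groth.Agent.Lib.Helper98
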