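import Mathlib

/-!
# The punctured spectrum of a Zariski pair is Jacobson (helper98)

* `isMaximal_of_forall_mem`: in a Noetherian domain in which a nonzero element lies in every nonzero
  prime, every nonzero prime is maximal.
* `exists_prime_ge_forall_isMaximal`: in a Noetherian ring, for a prime `p` and `x ∉ p` there is a
  prime `q ⊇ p` with `x ∉ q` such that every prime strictly containing `q` is maximal.
* `jacobsonSpace_compl_zeroLocus`: for `I` inside the Jacobson radical of a Noetherian ring,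
  `Spec R \ V(I)` is a Jacobson space.
* `isJacobsonRing_away`: `R_f` is a Jacobson ring for `f ∈ I`.
-/

set_option autoImplicit false
universe u

namespace Groth.Agent.Lib.Helper98

section domain

variable {B : Type*} [CommRing B] [IsDomain B] [IsNoetherianRing B]

theorem mem_minimalPrimes_span_of_forall_mem (x : B) (hx0 : x ≠ 0)
    (hx : ∀ P : Ideal B, P.IsPrime → P ≠ ⊥ → x ∈ P) (y : B) (hy0 : y ≠ 0) (P : Ideal B)
    (hP : P ∈ (Ideal.span {y}).minimalPrimes) : P ∈ (Ideal.span {x}).minimalPrimes := by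
  have hPp : P.IsPrime := hP.1.1
  have hyP : y ∈ P := hP.1.2 (Ideal.mem_span_singleton_self y)
  have hPne : P ≠ ⊥ := fun h => hy0 (by rw [h] at hyP; exact hyP)
  have hxP : x ∈ P := hx P hPp hPne
  have hht : P.height ≤ 1 := Ideal.height_le_one_of_isPrincipal_of_mem_minimalPrimes _ P hP
  refine ⟨⟨hPp, (Ideal.span_singleton_le_iff_mem _).mpr hxP⟩, ?_⟩
  rintro P'' ⟨hP''p, hxP''⟩ hle
  by_contra hnot
  have hlt : P'' < P := lt_of_le_of_ne hle (fun h => hnot (h ▸ le_rfl))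
  have hP''ne : P'' ≠ ⊥ := fun h => hx0 (by
    have := hxP'' (Ideal.mem_span_singleton_self x); rw [h] at this; exact this)
  have hbot : (⊥ : Ideal B) < P'' := bot_lt_iff_ne_bot.mpr hP''ne
  haveI : (⊥ : Ideal B).IsPrime := Ideal.isPrime_bot
  have h1 := Ideal.height_add_one_le_of_lt_of_isPrime hbot
  have h2 := Ideal.height_add_one_le_of_lt_of_isPrime hlt
  have h3 : (1 : ℕ∞) ≤ P''.height := le_trans le_add_self h1
  have h4 : (1 : ℕ∞) + 1 ≤ 1 := le_trans (add_le_add h3 le_rfl) (h2.trans hht)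
  exact absurd h4 (by decide)

theorem mem_minimalPrimes_span_of_ne_bot (x : B) (hx0 : x ≠ 0)
    (hx : ∀ P : Ideal B, P.IsPrime → P ≠ ⊥ → x ∈ P) (Q : Ideal B) [hQ : Q.IsPrime] (hQ0 : Q ≠ ⊥) :
    Q ∈ (Ideal.span {x}).minimalPrimes := by
  have hT : (Ideal.span {x}).minimalPrimes.Finite :=
    Ideal.finite_minimalPrimes_of_isNoetherianRing B _
  have hxQ : x ∈ Q := hx Q hQ hQ0
  have hstep : ∀ y ∈ Q, y ≠ 0 → ∃ P ∈ (Ideal.span {x}).minimalPrimes, y ∈ P := by
    intro y hyQ hy0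
    obtain ⟨P, hP, -⟩ := Ideal.exists_minimalPrimes_le
      (show Ideal.span {y} ≤ Q from (Ideal.span_singleton_le_iff_mem _).mpr hyQ)
    exact ⟨P, mem_minimalPrimes_span_of_forall_mem x hx0 hx y hy0 P hP,
      hP.1.2 (Ideal.mem_span_singleton_self y)⟩
  have hcover : (Q : Set B) ⊆ ⋃ P ∈ (↑hT.toFinset : Set (Ideal B)), ((fun P => P) P : Set B) := by
    intro y hy
    by_cases hy0 : y = 0
    · obtain ⟨P, hP, -⟩ := hstep x hxQ hx0
      simp only [Set.mem_iUnion]
      exact ⟨P, by simpa using hP, by rw [hy0]; exact P.zero_mem⟩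
    · obtain ⟨P, hP, hyP⟩ := hstep y hy hy0
      simp only [Set.mem_iUnion]
      exact ⟨P, by simpa using hP, hyP⟩
  obtain ⟨P, hP, hQP⟩ := (Ideal.subset_union_prime (R := B) (s := hT.toFinset) (f := fun P => P)
    ⊥ ⊥ (fun P hP _ _ => by
      have : P ∈ (Ideal.span {x}).minimalPrimes := by simpa using hP
      exact this.1.1)).mp hcover
  have hP' : P ∈ (Ideal.span {x}).minimalPrimes := by simpa using hP
  have hPQ : P ≤ Q := hP'.2 ⟨hQ, (Ideal.span_singleton_le_iff_mem _).mpr hxQ⟩ hQP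
  rw [le_antisymm hQP hPQ]
  exact hP'

theorem isMaximal_of_forall_mem (x : B) (hx0 : x ≠ 0)
    (hx : ∀ P : Ideal B, P.IsPrime → P ≠ ⊥ → x ∈ P) (Q : Ideal B) [hQ : Q.IsPrime] (hQ0 : Q ≠ ⊥) :
    Q.IsMaximal := by
  obtain ⟨m, hm, hQm⟩ := Ideal.exists_le_maximal Q hQ.ne_top
  have hm0 : m ≠ ⊥ := fun h => hQ0 (le_bot_iff.mp (h ▸ hQm))
  haveI := hm.isPrime
  have hmT := mem_minimalPrimes_span_of_ne_bot x hx0 hx m hm0
  have hQT := mem_minimalPrimes_span_of_ne_bot x hx0 hx Q hQ0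
  have : m ≤ Q := hmT.2 hQT.1 hQm
  rw [le_antisymm hQm this]
  exact hm

end domain

section ring

variable {R : Type*} [CommRing R] [IsNoetherianRing R]

theorem exists_prime_ge_forall_isMaximal (p : Ideal R) [hp : p.IsPrime] (x : R) (hx : x ∉ p) :
    ∃ q : Ideal R, q.IsPrime ∧ p ≤ q ∧ x ∉ q ∧
      ∀ q' : Ideal R, q'.IsPrime → q < q' → q'.IsMaximal := by
  obtain ⟨q, ⟨hqp, hpq, hxq⟩, hqmax⟩ :=
    set_has_maximal_iff_noetherian.mpr (inferInstance : IsNoetherian R R)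
      {q : Ideal R | q.IsPrime ∧ p ≤ q ∧ x ∉ q} ⟨p, hp, le_rfl, hx⟩
  refine ⟨q, hqp, hpq, hxq, ?_⟩
  haveI := hqp
  haveI : IsDomain (R ⧸ q) := Ideal.Quotient.isDomain q
  have hsurj : Function.Surjective (Ideal.Quotient.mk q) := Ideal.Quotient.mk_surjective
  have hx0 : Ideal.Quotient.mk q x ≠ 0 := by
    rw [ne_eq, Ideal.Quotient.eq_zero_iff_mem]; exact hxq
  have hall : ∀ P : Ideal (R ⧸ q), P.IsPrime → P ≠ ⊥ → Ideal.Quotient.mk q x ∈ P := by
    intro P hP hP0
    by_contra hnot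
    have hcp : (P.comap (Ideal.Quotient.mk q)).IsPrime := Ideal.comap_isPrime _ P
    have hle : q ≤ P.comap (Ideal.Quotient.mk q) := by
      intro z hz
      rw [Ideal.mem_comap, Ideal.Quotient.eq_zero_iff_mem.mpr hz]
      exact P.zero_mem
    have hne : q ≠ P.comap (Ideal.Quotient.mk q) := by
      intro h
      apply hP0
      rw [← Ideal.map_comap_of_surjective _ hsurj P, ← h, Ideal.map_quotient_self]
    exact hqmax (P.comap (Ideal.Quotient.mk q)) ⟨hcp, hpq.trans hle, hnot⟩ (lt_of_le_of_ne hle hne)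
  intro q' hq' hlt
  have hker : RingHom.ker (Ideal.Quotient.mk q) ≤ q' := by rw [Ideal.mk_ker]; exact hlt.le
  haveI hP : (q'.map (Ideal.Quotient.mk q)).IsPrime := Ideal.map_isPrime_of_surjective hsurj hker
  have hcm : (q'.map (Ideal.Quotient.mk q)).comap (Ideal.Quotient.mk q) = q' := by
    rw [Ideal.comap_map_of_surjective _ hsurj, sup_eq_left, ← RingHom.ker_eq_comap_bot]
    exact hker
  have hP0 : q'.map (Ideal.Quotient.mk q) ≠ ⊥ := by
    intro h
    rw [h, ← RingHom.ker_eq_comap_bot, Ideal.mk_ker] at hcm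
    exact hlt.ne hcm
  have hmax := isMaximal_of_forall_mem (Ideal.Quotient.mk q x) hx0 hall
    (q'.map (Ideal.Quotient.mk q)) hP0
  rw [← hcm]
  exact Ideal.comap_isMaximal_of_surjective _ hsurj

end ring

section top

variable (R : Type u) [CommRing R] [IsNoetherianRing R]

theorem jacobsonSpace_compl_zeroLocus (I : Ideal R) (hI : I ≤ (⊥ : Ideal R).jacobson) :
    JacobsonSpace ↥((PrimeSpectrum.zeroLocus (I : Set R))ᶜ) := by
  rw [jacobsonSpace_iff_locallyClosed]
  rintro Z ⟨z, hz⟩ ⟨O, C, hO, hC, rfl⟩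
  obtain ⟨O', hO', rfl⟩ := isOpen_induced_iff.mp hO
  obtain ⟨C', hC', rfl⟩ := isClosed_induced_iff.mp hC
  obtain ⟨J, rfl⟩ := (PrimeSpectrum.isClosed_iff_zeroLocus_ideal _).mp hC'
  obtain ⟨⟨p, hpU⟩, hpO, hpC⟩ := z, hz.1, hz.2
  -- pick f ∈ I \ p
  have hpU' : ¬ (I : Set R) ⊆ p.asIdeal := fun h => hpU (by
    rw [PrimeSpectrum.mem_zeroLocus]; exact h)
  obtain ⟨f, hfI, hfp⟩ := Set.not_subset.mp hpU'
  -- pick a basic open D(g) ∋ p inside O'
  obtain ⟨_, ⟨g, rfl⟩, hpg, hgO⟩ :=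
    (PrimeSpectrum.isTopologicalBasis_basic_opens).exists_subset_of_mem_open
      (show p ∈ O' from hpO) hO'
  have hgp : g ∉ p.asIdeal := hpg
  have hfg : f * g ∉ p.asIdeal := fun h => (p.2.mem_or_mem h).elim hfp hgp
  obtain ⟨q, hq, hpq, hxq, hqmax⟩ := exists_prime_ge_forall_isMaximal p.asIdeal (f * g) hfg
  have hfq : f ∉ q := fun h => hxq (q.mul_mem_right _ h)
  have hgq : g ∉ q := fun h => hxq (q.mul_mem_left _ h)
  have hqU : (⟨q, hq⟩ : PrimeSpectrum R) ∈ (PrimeSpectrum.zeroLocus (I : Set R))ᶜ := by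
    intro h
    rw [PrimeSpectrum.mem_zeroLocus] at h
    exact hfq (h hfI)
  refine ⟨⟨⟨q, hq⟩, hqU⟩, ⟨?_, ?_⟩, ?_⟩
  · exact hgO (show g ∉ q from hgq)
  · show (⟨q, hq⟩ : PrimeSpectrum R) ∈ PrimeSpectrum.zeroLocus (J : Set R)
    rw [PrimeSpectrum.mem_zeroLocus]
    have : (J : Set R) ⊆ p.asIdeal := by
      have := hpC
      rwa [Set.mem_preimage, PrimeSpectrum.mem_zeroLocus] at this
    exact this.trans hpq
  · show IsClosed {(⟨⟨q, hq⟩, hqU⟩ : ↥((PrimeSpectrum.zeroLocus (I : Set R))ᶜ))}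
    rw [isClosed_induced_iff]
    refine ⟨PrimeSpectrum.zeroLocus (q : Set R), PrimeSpectrum.isClosed_zeroLocus _, ?_⟩
    ext ⟨u, huU⟩
    simp only [Set.mem_preimage, PrimeSpectrum.mem_zeroLocus, Set.mem_singleton_iff,
      Subtype.mk.injEq]
    constructor
    · intro hqu
      have hqu' : q ≤ u.asIdeal := hqu
      by_contra hne
      have hlt : q < u.asIdeal := lt_of_le_of_ne hqu' (fun h => hne (by
        ext1; exact h.symm))
      have hmax := hqmax u.asIdeal u.2 hlt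
      apply huU
      rw [PrimeSpectrum.mem_zeroLocus]
      intro a ha
      have h : a ∈ (⊥ : Ideal R).jacobson := hI ha
      exact (Ideal.mem_sInf.mp h) ⟨bot_le, hmax⟩
    · rintro rfl
      exact le_rfl

theorem isJacobsonRing_away (I : Ideal R) (hI : I ≤ (⊥ : Ideal R).jacobson) (f : R) (hf : f ∈ I)
    (S : Type*) [CommRing S] [Algebra R S] [IsLocalization.Away f S] : IsJacobsonRing S := by
  rw [PrimeSpectrum.isJacobsonRing_iff_jacobsonSpace]
  haveI := jacobsonSpace_compl_zeroLocus R I hI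
  have hmem : ∀ P : PrimeSpectrum S, PrimeSpectrum.comap (algebraMap R S) P ∈
      (PrimeSpectrum.zeroLocus (I : Set R))ᶜ := by
    intro P h
    rw [PrimeSpectrum.mem_zeroLocus] at h
    have hfP : algebraMap R S f ∈ P.asIdeal := h hf
    exact P.2.ne_top (Ideal.eq_top_of_isUnit_mem _ hfP
      (IsLocalization.map_units S (⟨f, Submonoid.mem_powers f⟩ : Submonoid.powers f)))
  let φ : PrimeSpectrum S → ↥((PrimeSpectrum.zeroLocus (I : Set R))ᶜ) := fun P =>
    ⟨PrimeSpectrum.comap (algebraMap R S) P, hmem P⟩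
  have hU : Topology.IsOpenEmbedding
      (Subtype.val : ↥((PrimeSpectrum.zeroLocus (I : Set R))ᶜ) → PrimeSpectrum R) :=
    (PrimeSpectrum.isClosed_zeroLocus _).isOpen_compl.isOpenEmbedding_subtypeVal
  have hφ : Topology.IsOpenEmbedding φ := by
    rw [← Topology.IsOpenEmbedding.of_comp_iff φ hU]
    exact PrimeSpectrum.localization_away_isOpenEmbedding S f
  exact JacobsonSpace.of_isOpenEmbedding hφ

end top

end Groth.Agent.Lib.Helper98
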